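import Mathlib

/-!
# Extensions of separably closed fields are geometrically irreducible
-/

set_option autoImplicit false

universe u

open CategoryTheory Limits AlgebraicGeometry TensorProduct

namespace Groth.Agent.VarietyLib

theorem repr_lid_map {k A B ι : Type*} [DecidableEq ι] [Field k] [CommRing A] [Algebra k A] [CommRing B] [Algebra k B]
    (b : Module.Basis ι k B) (φ : A →ₐ[k] k) (x : A ⊗[k] B) (i : ι) :
    b.repr (Algebra.TensorProduct.lid k B (Algebra.TensorProduct.map φ (AlgHom.id k B) x)) i =
      φ (TensorProduct.equivFinsuppOfBasisRight b x i) := by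
  induction x using TensorProduct.induction_on with
  | zero => simp
  | add x y hx hy => simp [hx, hy]
  | tmul a n => simp [mul_comm]

/-- Over an algebraically closed field, the tensor product of a finitely generated domain and a
domain has no zero divisors. -/
theorem noZeroDivisors_tensor_of_finiteType (k : Type u) [Field k] [IsAlgClosed k] (A : Type u) [CommRing A]
    [IsDomain A] [Algebra k A] [Algebra.FiniteType k A] (B : Type u) [CommRing B] [IsDomain B] [Algebra k B] :
    NoZeroDivisors (A ⊗[k] B) := by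
  classical
  refine ⟨fun {x y} hxy => ?_⟩
  by_contra hne
  push Not at hne
  obtain ⟨hx, hy⟩ := hne
  let b := Module.Free.chooseBasis k B
  let c := TensorProduct.equivFinsuppOfBasisRight (M := A) b
  obtain ⟨i, hi⟩ := Finsupp.ne_iff.1 (show c x ≠ 0 from c.map_ne_zero_iff.2 hx)
  obtain ⟨j, hj⟩ := Finsupp.ne_iff.1 (show c y ≠ 0 from c.map_ne_zero_iff.2 hy)
  have : IsJacobsonRing A := isJacobsonRing_of_finiteType (A := k)
  obtain ⟨m, hm, hij⟩ : ∃ m : Ideal A, m.IsMaximal ∧ c x i * c y j ∉ m := by
    by_contra h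
    push Not at h
    have hmem : c x i * c y j ∈ Ideal.jacobson (⊥ : Ideal A) :=
      Ideal.mem_sInf.2 fun {m} hm => h m hm.2
    rw [IsJacobsonRing.out ‹IsJacobsonRing A› (show (⊥ : Ideal A).IsRadical from (Ideal.isPrime_bot).isRadical), Ideal.mem_bot] at hmem
    exact mul_ne_zero (by simpa using hi) (by simpa using hj) hmem
  let : Field (A ⧸ m) := Ideal.Quotient.field m
  have : Module.Finite k (A ⧸ m) := finite_of_finite_type_of_isJacobsonRing k _
  have hbij : Function.Bijective (algebraMap k (A ⧸ m)) :=
    IsAlgClosed.algebraMap_bijective_of_isIntegral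
  let e : k ≃ₐ[k] A ⧸ m := AlgEquiv.ofBijective (Algebra.ofId k (A ⧸ m)) hbij
  let φ : A →ₐ[k] k := e.symm.toAlgHom.comp (Ideal.Quotient.mkₐ k m)
  have hφ : ∀ a, a ∉ m → φ a ≠ 0 := fun a ha h0 => ha (Ideal.Quotient.eq_zero_iff_mem.1 (by
    simpa [φ] using h0))
  let ev : A ⊗[k] B →ₐ[k] B :=
    (Algebra.TensorProduct.lid k B).toAlgHom.comp (Algebra.TensorProduct.map φ (AlgHom.id k B))
  have hx' : ev x ≠ 0 := fun h => hφ _ (fun h' => hij (m.mul_mem_right _ h')) (by
    rw [← repr_lid_map b φ x i]
    exact (congrArg (fun z => b.repr z i) h).trans (by simp))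
  have hy' : ev y ≠ 0 := fun h => hφ _ (fun h' => hij (m.mul_mem_left _ h')) (by
    rw [← repr_lid_map b φ y j]
    exact (congrArg (fun z => b.repr z j) h).trans (by simp))
  exact mul_ne_zero hx' hy' (by rw [← map_mul, hxy, map_zero])

/-- Over an algebraically closed field, a tensor product of domains is a domain. -/
theorem isDomain_tensor_of_isAlgClosed (k : Type u) [Field k] [IsAlgClosed k] (A B : Type u) [CommRing A]
    [IsDomain A] [Algebra k A] [CommRing B] [IsDomain B] [Algebra k B] :
    IsDomain (A ⊗[k] B) := by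
  have : NoZeroDivisors (A ⊗[k] B) := by
    refine ⟨fun {x y} hxy => ?_⟩
    obtain ⟨A₁, hA₁, hx⟩ := TensorProduct.Algebra.exists_of_fg x
    obtain ⟨A₂, hA₂, hy⟩ := TensorProduct.Algebra.exists_of_fg y
    let A₀ := A₁ ⊔ A₂
    have hA₀ : A₀.FG := Subalgebra.FG.sup hA₁ hA₂
    have : Algebra.FiniteType k A₀ := A₀.fg_iff_finiteType.1 hA₀
    let ι : A₀ ⊗[k] B →ₐ[k] A ⊗[k] B := Algebra.TensorProduct.map A₀.val (AlgHom.id k B)
    have hinj : Function.Injective ι :=
      Module.Flat.rTensor_preserves_injective_linearMap (M := B) A₀.val.toLinearMap Subtype.val_injective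
    have lift : ∀ (A' : Subalgebra k A) (_ : A' ≤ A₀) (z : A ⊗[k] B),
        z ∈ (Algebra.TensorProduct.map A'.val (AlgHom.id k B)).range → ∃ w, ι w = z := by
      rintro A' h' _ ⟨w, rfl⟩
      refine ⟨Algebra.TensorProduct.map (Subalgebra.inclusion h') (AlgHom.id k B) w, ?_⟩
      induction w using TensorProduct.induction_on with
      | zero => simp
      | add x y hx hy => simp [hx, hy]
      | tmul a b => simp [ι]
    obtain ⟨x', rfl⟩ := lift A₁ le_sup_left x hx
    obtain ⟨y', rfl⟩ := lift A₂ le_sup_right y hy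
    have := noZeroDivisors_tensor_of_finiteType k A₀ B
    rcases mul_eq_zero.1 (hinj ((map_mul ι x' y').trans (hxy.trans (map_zero ι).symm))) with h | h
    · exact .inl (by rw [h, map_zero])
    · exact .inr (by rw [h, map_zero])
  have : Nontrivial (A ⊗[k] B) :=
    Algebra.TensorProduct.nontrivial_of_algebraMap_injective_of_flat_left k A B
      (algebraMap k B).injective
  exact NoZeroDivisors.to_isDomain _

/-- The purely inseparable case: every prime of `A ⊗[k] B` comes from `A ⊗[κ] B`. -/
theorem comap_surjective_of_isPurelyInseparable (k κ : Type u) [Field k] [Field κ] [Algebra k κ]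
    [IsPurelyInseparable k κ] (A B : Type u) [CommRing A] [Algebra k A] [Algebra κ A]
    [IsScalarTower k κ A] [CommRing B] [Algebra k B] [Algebra κ B] [IsScalarTower k κ B] :
    Function.Surjective (PrimeSpectrum.comap
      (Algebra.TensorProduct.lift ((Algebra.TensorProduct.includeLeft : A →ₐ[κ] A ⊗[κ] B).restrictScalars k)
        ((Algebra.TensorProduct.includeRight : B →ₐ[κ] A ⊗[κ] B).restrictScalars k)
        fun _ _ => Commute.all _ _).toRingHom) := by
  intro P
  let D := (A ⊗[k] B) ⧸ P.asIdeal
  let π : A ⊗[k] B →ₐ[k] D := Ideal.Quotient.mkₐ k P.asIdeal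
  let l : A →ₐ[k] D := π.comp Algebra.TensorProduct.includeLeft
  let r : B →ₐ[k] D := π.comp Algebra.TensorProduct.includeRight
  have hagree : ∀ c : κ, l (algebraMap κ A c) = r (algebraMap κ B c) := by
    intro c
    obtain ⟨q, hq⟩ := ExpChar.exists k
    obtain ⟨n, a, ha⟩ := IsPurelyInseparable.pow_mem k q c
    have : Nontrivial (A ⊗[k] B) := ⟨⟨0, 1, fun h => P.2.ne_top ((Ideal.eq_top_iff_one _).2 (h ▸ zero_mem _))⟩⟩
    have : Nontrivial D := Ideal.Quotient.nontrivial_iff.2 P.2.ne_top
    have : ExpChar D q := expChar_of_injective_ringHom (algebraMap k D).injective q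
    refine iterateFrobenius_inj D q n ?_
    rw [iterateFrobenius_def, iterateFrobenius_def, ← map_pow, ← map_pow, ← map_pow, ← map_pow, ← ha,
      ← IsScalarTower.algebraMap_apply, ← IsScalarTower.algebraMap_apply, AlgHom.commutes, AlgHom.commutes]
  let l' : A →ₐ[κ] D := { l with commutes' := fun c => rfl }
  let r' : B →ₐ[κ] D := { r with commutes' := fun c => (hagree c).symm }
  let g : A ⊗[κ] B →ₐ[κ] D := Algebra.TensorProduct.lift l' r' fun _ _ => Commute.all _ _
  refine ⟨⟨RingHom.ker g.toRingHom, RingHom.ker_isPrime _⟩, PrimeSpectrum.ext ?_⟩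
  have key : ∀ z, g (Algebra.TensorProduct.lift ((Algebra.TensorProduct.includeLeft : A →ₐ[κ] A ⊗[κ] B).restrictScalars k)
      ((Algebra.TensorProduct.includeRight : B →ₐ[κ] A ⊗[κ] B).restrictScalars k)
      (fun _ _ => Commute.all _ _) z) = π z := by
    intro z
    induction z using TensorProduct.induction_on with
    | zero => simp
    | add x y hx hy => simp [hx, hy]
    | tmul a b =>
      simp only [Algebra.TensorProduct.lift_tmul, AlgHom.coe_restrictScalars',
        Algebra.TensorProduct.includeLeft_apply, Algebra.TensorProduct.includeRight_apply,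
        Algebra.TensorProduct.tmul_mul_tmul, mul_one, one_mul, g]
      change π (a ⊗ₜ 1) * π (1 ⊗ₜ b) = _
      rw [← map_mul, Algebra.TensorProduct.tmul_mul_tmul, mul_one, one_mul]
  ext z
  simp only [PrimeSpectrum.comap_asIdeal, Ideal.mem_comap, RingHom.mem_ker]
  exact (Eq.congr_left (key z)).trans Ideal.Quotient.eq_zero_iff_mem

/-- A field extension of a separably closed field is geometrically irreducible. -/
theorem geometricallyIrreducible_algSpec (k : Type u) [Field k] [IsSepClosed k] (K : Type u) [Field K]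
    [Algebra k K] :
    GeometricallyIrreducible (Spec.map (CommRingCat.ofHom (algebraMap k K))) := by
  refine ⟨geometrically_iff_of_commRing_of_isClosedUnderIsomorphisms.2 fun L _ _ => ?_⟩
  let κ := AlgebraicClosure k
  let K' := AlgebraicClosure K
  let L' := AlgebraicClosure L
  let i : κ →ₐ[k] K' := IsAlgClosed.lift
  let j : κ →ₐ[k] L' := IsAlgClosed.lift
  let : Algebra κ K' := i.toRingHom.toAlgebra
  let : Algebra κ L' := j.toRingHom.toAlgebra
  have : IsScalarTower k κ K' := .of_algebraMap_eq fun c => (i.commutes c).symm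
  have : IsScalarTower k κ L' := .of_algebraMap_eq fun c => (j.commutes c).symm
  have := isDomain_tensor_of_isAlgClosed κ K' L'
  have hirr : IrreducibleSpace (PrimeSpectrum (K' ⊗[k] L')) :=
    (comap_surjective_of_isPurelyInseparable k κ K' L').irreducibleSpace (PrimeSpectrum.continuous_comap _)
  have h1 : IrreducibleSpace ↥(Spec (CommRingCat.of (K' ⊗[k] L'))) := hirr
  have h2 : IrreducibleSpace ↥(pullback (Spec.map (CommRingCat.ofHom (algebraMap k K')))
      (Spec.map (CommRingCat.ofHom (algebraMap k L')))) :=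
    (pullbackSpecIso k K' L').inv.homeomorph.surjective.irreducibleSpace (pullbackSpecIso k K' L').inv.continuous
  let m : pullback (Spec.map (CommRingCat.ofHom (algebraMap k K'))) (Spec.map (CommRingCat.ofHom (algebraMap k L'))) ⟶
      pullback (Spec.map (CommRingCat.ofHom (algebraMap k K))) (Spec.map (CommRingCat.ofHom (algebraMap k L))) :=
    pullback.map _ _ _ _ (Spec.map (CommRingCat.ofHom (algebraMap K K')))
      (Spec.map (CommRingCat.ofHom (algebraMap L L'))) (𝟙 _)
      (by rw [Category.comp_id, ← Spec.map_comp, ← CommRingCat.ofHom_comp, ← IsScalarTower.algebraMap_eq])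
      (by rw [Category.comp_id, ← Spec.map_comp, ← CommRingCat.ofHom_comp, ← IsScalarTower.algebraMap_eq])
  have hs1 : Surjective (Spec.map (CommRingCat.ofHom (algebraMap K K'))) :=
    ⟨fun z => ⟨Classical.arbitrary _, Subsingleton.elim _ _⟩⟩
  have hs2 : Surjective (Spec.map (CommRingCat.ofHom (algebraMap L L'))) :=
    ⟨fun z => ⟨Classical.arbitrary _, Subsingleton.elim _ _⟩⟩
  have hm : Function.Surjective m := by
    rw [← Set.range_eq_univ, Scheme.Pullback.range_map, Set.range_eq_univ.2 hs1.1, Set.range_eq_univ.2 hs2.1]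
    simp
  exact hm.irreducibleSpace m.continuous

end Groth.Agent.VarietyLib
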