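import Mathlib

/-!
# Affine neighbourhoods of finitely many points

Points at which a morphism from an affine scheme induces isomorphisms on local rings have a common
affine neighbourhood, provided the morphism separates generic points.
-/

set_option autoImplicit false
set_option backward.isDefEq.respectTransparency.types false

universe u

open CategoryTheory Limits AlgebraicGeometry TopologicalSpace Set Topology

namespace Groth.Agent.VarietyLib

variable {X T : Scheme.{u}}

theorem flat_fromSpecStalk' (x : X) : Flat (X.fromSpecStalk x) := by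
  obtain ⟨_, ⟨(U : X.Opens), hU, rfl⟩, hxU, -⟩ :=
    X.isBasis_affineOpens.exists_subset_of_mem_open (Set.mem_univ x) isOpen_univ
  rw [← hU.fromSpecStalk_eq_fromSpecStalk hxU, IsAffineOpen.fromSpecStalk]
  have : Flat (Spec.map (X.presheaf.germ U x hxU)) := by
    rw [Flat.SpecMap_iff]
    let := X.presheaf.algebra_section_stalk ⟨x, hxU⟩
    have := hU.isLocalization_stalk ⟨x, hxU⟩
    exact IsLocalization.flat (X.presheaf.stalk x) (hU.primeIdealOf ⟨x, hxU⟩).asIdeal.primeCompl
  infer_instance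

theorem isIso_stalkMap_of_flat_of_isPreimmersion (j : T ⟶ X) [Flat j] [IsPreimmersion j] (x : T) :
    IsIso (j.stalkMap x) := by
  rw [ConcreteCategory.isIso_iff_bijective]
  refine ⟨?_, j.stalkMap_surjective x⟩
  let := (j.stalkMap x).hom.toAlgebra
  have : IsLocalHom (algebraMap (X.presheaf.stalk (j x)) (T.presheaf.stalk x)) :=
    inferInstanceAs (IsLocalHom (j.stalkMap x).hom)
  have : Module.Flat (X.presheaf.stalk (j x)) (T.presheaf.stalk x) := Flat.stalkMap j x
  have := Module.FaithfullyFlat.of_flat_of_isLocalHom (A := X.presheaf.stalk (j x)) (B := T.presheaf.stalk x)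
  exact FaithfulSMul.algebraMap_injective (X.presheaf.stalk (j x)) (T.presheaf.stalk x)

/-- Isomorphism on local rings passes to generalizations. -/
theorem isIso_stalkMap_of_specializes (f : T ⟶ X) {s t : T} (h : s ⤳ t) (ht : IsIso (f.stalkMap t)) :
    IsIso (f.stalkMap s) := by
  obtain ⟨q, hq⟩ := (Scheme.range_fromSpecStalk (x := t)).ge (show s ∈ {y : T | y ⤳ t} from h)
  subst hq
  have := flat_fromSpecStalk' t
  have := flat_fromSpecStalk' (f t)
  have h1 : IsIso ((T.fromSpecStalk t).stalkMap q) := isIso_stalkMap_of_flat_of_isPreimmersion _ q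
  have h2 : IsIso ((Spec.map (f.stalkMap t) ≫ X.fromSpecStalk (f t)).stalkMap q) :=
    isIso_stalkMap_of_flat_of_isPreimmersion _ q
  rw [Scheme.SpecMap_stalkMap_fromSpecStalk, Scheme.Hom.stalkMap_comp] at h2
  exact @IsIso.of_isIso_comp_right _ _ _ _ _ (f.stalkMap _) ((T.fromSpecStalk t).stalkMap q) h1 h2

/-- Generalizations lift through a local isomorphism. -/
theorem exists_specializes_of_isIso_stalkMap (f : T ⟶ X) {t : T} (ht : IsIso (f.stalkMap t)) {y : X}
    (hy : y ⤳ f t) : ∃ s, s ⤳ t ∧ f s = y := by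
  obtain ⟨q, rfl⟩ := (Scheme.range_fromSpecStalk (x := f t)).ge (show y ∈ {y : X | y ⤳ f t} from hy)
  obtain ⟨q', rfl⟩ := (Spec.map (f.stalkMap t)).homeomorph.surjective q
  exact ⟨T.fromSpecStalk t q', (Scheme.range_fromSpecStalk (x := t)).le ⟨q', rfl⟩,
    (congr($(Scheme.SpecMap_stalkMap_fromSpecStalk f (x := t)) q')).symm⟩

/-- A separated morphism separating generic points is injective on the points where it is a local
isomorphism. -/
theorem eq_of_isIso_stalkMap (f : T ⟶ X) [IsSeparated f]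
    (hinj : ∀ η η' : T, closure ({η} : Set T) ∈ irreducibleComponents T →
      closure ({η'} : Set T) ∈ irreducibleComponents T → f η = f η' → η = η')
    {s s' : T} (hs : IsIso (f.stalkMap s)) (hs' : IsIso (f.stalkMap s')) (h : f s = f s') : s = s' := by
  let c : T.presheaf.stalk s' ⟶ T.presheaf.stalk s :=
    inv (f.stalkMap s') ≫ (X.presheaf.stalkCongr (.of_eq h)).inv ≫ f.stalkMap s
  have hc : IsIso c := inferInstance
  let a : Spec (T.presheaf.stalk s) ⟶ T := T.fromSpecStalk s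
  let b : Spec (T.presheaf.stalk s) ⟶ T := Spec.map c ≫ T.fromSpecStalk s'
  have hab : a ≫ f = b ≫ f := by
    simp only [a, b, Category.assoc, ← Scheme.SpecMap_stalkMap_fromSpecStalk, c, Spec.map_comp,
      Spec.map_inv, IsIso.inv_hom_id_assoc]
    congr 1
    rw [TopCat.Presheaf.stalkCongr_inv, Scheme.SpecMap_stalkSpecializes_fromSpecStalk]
  let e := pullback.snd (pullback.diagonal f) (pullback.lift a b hab)
  have hrange : ∀ z, z ∈ Set.range e → a z = b z := by
    rintro _ ⟨w, rfl⟩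
    have h1 : e ≫ a = e ≫ b := by
      have h2 := pullback.condition (f := pullback.diagonal f) (g := pullback.lift a b hab)
      have hl := congrArg (· ≫ pullback.fst f f) h2
      have hr := congrArg (· ≫ pullback.snd f f) h2
      simp only [Category.assoc, pullback.lift_fst, pullback.lift_snd, pullback.diagonal_fst,
        pullback.diagonal_snd, Category.comp_id] at hl hr
      exact hl.symm.trans hr
    rw [← Scheme.Hom.comp_apply, h1, Scheme.Hom.comp_apply]
  -- the generic points of `Spec` of the local ring lie in the equalizer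
  have hmax : ∀ m : ↥(Spec (T.presheaf.stalk s)), (∀ q, q ⤳ m → q = m) → m ∈ Set.range e := by
    intro m hm
    have hgen : ∀ (t : T) (j : Spec (T.presheaf.stalk s) ⟶ Spec (T.presheaf.stalk t)) [IsIso j],
        closure ({(j ≫ T.fromSpecStalk t) m} : Set T) ∈ irreducibleComponents T := by
      intro t j hj
      let η := (j ≫ T.fromSpecStalk t) m
      have hη : ∀ w, w ⤳ η → w = η := by
        intro w hw
        have hwt : w ⤳ t := hw.trans ((Scheme.range_fromSpecStalk (x := t)).le ⟨j m, rfl⟩)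
        obtain ⟨q, rfl⟩ := (Scheme.range_fromSpecStalk (x := t)).ge (show w ∈ {y : T | y ⤳ t} from hwt)
        obtain ⟨q, rfl⟩ := j.homeomorph.surjective q
        have hq : T.fromSpecStalk t (j q) ⤳ T.fromSpecStalk t (j m) := hw
        rw [(T.fromSpecStalk t).isEmbedding.isInducing.specializes_iff] at hq
        have hq' : j.homeomorph q ⤳ j.homeomorph m := hq
        rw [j.homeomorph.isInducing.specializes_iff] at hq'
        exact congrArg (j ≫ T.fromSpecStalk t) (hm q hq')
      refine ⟨isGenericPoint_closure.isIrreducible, fun S hS hle => ?_⟩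
      have hg := hS.isGenericPoint_genericPoint_closure
      have : hS.genericPoint = η := hη _ (hg.specializes (subset_closure (hle (subset_closure rfl))))
      rw [this] at hg
      exact subset_closure.trans hg.ge
    have hm' : a m = b m := by
      refine hinj _ _ ?_ ?_ (by rw [← Scheme.Hom.comp_apply, hab, Scheme.Hom.comp_apply])
      · have := hgen s (𝟙 _)
        rwa [Category.id_comp] at this
      · exact hgen s' (Spec.map c)
    have hη : IsIso (f.stalkMap (a m)) :=
      isIso_stalkMap_of_specializes f ((Scheme.range_fromSpecStalk (x := s)).le ⟨m, rfl⟩) hs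
    let r := (Spec (T.presheaf.stalk s)).fromSpecResidueField m
    let K := (Spec (T.presheaf.stalk s)).residueField m
    have hres : IsIso (f.residueFieldMap (a m)) := by
      rw [ConcreteCategory.isIso_iff_bijective]
      refine ⟨(f.residueFieldMap (a m)).hom.injective, fun z => ?_⟩
      obtain ⟨z, rfl⟩ := T.residue_surjective (a m) z
      obtain ⟨w, rfl⟩ := (ConcreteCategory.bijective_of_isIso (f.stalkMap (a m))).2 z
      exact ⟨X.residue _ w, congr($(Scheme.residue_residueFieldMap f (a m)).hom w)⟩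
    have key : ∀ (g : Spec K ⟶ T), g (IsLocalRing.closedPoint K) = a m →
        ∃ u, g = Spec.map u ≫ T.fromSpecResidueField (a m) := by
      intro g hg
      obtain ⟨⟨p, u⟩, hu⟩ := (Scheme.SpecToEquivOfField K T).symm.surjective g
      simp only [Scheme.SpecToEquivOfField, Equiv.coe_fn_symm_mk] at hu
      have hp : p = a m := by
        let o : ↥(Spec K) := IsLocalRing.closedPoint K
        have h1 : (Spec.map u ≫ T.fromSpecResidueField p) o = p := by
          rw [Scheme.Hom.comp_apply, Scheme.fromSpecResidueField_apply]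
        rw [hu] at h1
        exact h1.symm.trans hg
      subst hp
      exact ⟨u, hu.symm⟩
    let o : ↥(Spec K) := IsLocalRing.closedPoint K
    have hro : r o = m := Scheme.fromSpecResidueField_apply _ _
    obtain ⟨u₁, hu₁⟩ := key (r ≫ a) (show (r ≫ a) o = a m by rw [Scheme.Hom.comp_apply, hro])
    obtain ⟨u₂, hu₂⟩ := key (r ≫ b) (show (r ≫ b) o = a m by rw [Scheme.Hom.comp_apply, hro, hm'])
    have hu : u₁ = u₂ := by
      rw [← cancel_epi (f.residueFieldMap (a m))]
      apply Spec.map_injective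
      rw [← cancel_mono (X.fromSpecResidueField _), Spec.map_comp, Spec.map_comp, Category.assoc, Category.assoc,
        Scheme.Hom.SpecMap_residueFieldMap_fromSpecResidueField, ← Category.assoc, ← Category.assoc, ← hu₁, ← hu₂,
        Category.assoc, Category.assoc, hab]
    have hrab : r ≫ a = r ≫ b := by rw [hu₁, hu₂, hu]
    let l : Spec K ⟶ pullback (pullback.diagonal f) (pullback.lift a b hab) :=
      pullback.lift (r ≫ a) r (by
        apply pullback.hom_ext
        · simp only [Category.assoc, pullback.diagonal_fst, Category.comp_id, pullback.lift_fst]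
        · simp only [Category.assoc, pullback.diagonal_snd, Category.comp_id, pullback.lift_snd, hrab])
    exact ⟨l o, by rw [← Scheme.Hom.comp_apply, pullback.lift_snd, hro]⟩
  have hcl : IsClosed (Set.range e) := e.isClosedEmbedding.isClosed_range
  have hc' : IsLocalRing.closedPoint (T.presheaf.stalk s) ∈ Set.range e := by
    let z : ↥(Spec (T.presheaf.stalk s)) := IsLocalRing.closedPoint (T.presheaf.stalk s)
    let Z : irreducibleComponents ↥(Spec (T.presheaf.stalk s)) :=
      ⟨_, irreducibleComponent_mem_irreducibleComponents z⟩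
    let m := genericPoints.ofComponent Z
    refine closure_minimal (Set.singleton_subset_iff.2 (hmax m.1 fun q hq => ?_)) hcl
      (specializes_iff_mem_closure.1 ((genericPoints.isGenericPoint_ofComponent Z).specializes mem_irreducibleComponent))
    have h1 : closure {m.1} ⊆ closure {q} := specializes_iff_closure_subset.1 hq
    exact IsGenericPoint.eq isGenericPoint_closure
      (show IsGenericPoint m.1 (closure {q}) from h1.antisymm (m.2.2 isGenericPoint_closure.isIrreducible h1))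
  have := hrange _ hc'
  rw [Scheme.Hom.comp_apply, Spec_closedPoint, Scheme.fromSpecStalk_closedPoint,
    Scheme.fromSpecStalk_closedPoint] at this
  exact this

/-- The closure of the image of a quasi-compact scheme consists of specializations. -/
theorem exists_specializes_of_mem_closure_range {P : Scheme.{u}} (g : P ⟶ X) [CompactSpace P]
    [QuasiSeparatedSpace X] {x : X} (hx : x ∈ closure (Set.range g)) : ∃ p, g p ⤳ x := by
  obtain ⟨_, ⟨U, hU, rfl⟩, hxU, -⟩ := X.isBasis_affineOpens.exists_subset_of_mem_open (Set.mem_univ x) isOpen_univ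
  have hcpt : IsCompact ((g ⁻¹ᵁ U : P.Opens) : Set P) := Scheme.Hom.isCompact_preimage g hU.isCompact
  obtain ⟨𝒟, hsub, hfin, h𝒟⟩ := (P.isBasis_affineOpens.exists_finite_of_isCompact hcpt)
  have hx' : x ∈ closure (⋃ D ∈ 𝒟, g '' ((D : P.Opens) : Set P)) := by
    have h1 : x ∈ closure (Set.range g ∩ U) := by
      rw [mem_closure_iff] at hx ⊢
      intro O hO hxO
      obtain ⟨z, ⟨hzO, hzU⟩, hz⟩ := hx (O ∩ U) (hO.inter U.2) ⟨hxO, hxU⟩
      exact ⟨z, hzO, hz, hzU⟩
    refine closure_mono ?_ h1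
    rintro _ ⟨⟨p, rfl⟩, hp⟩
    have hp' : p ∈ g ⁻¹ᵁ U := hp
    rw [h𝒟] at hp'
    obtain ⟨D, hD, hpD⟩ := Opens.mem_sSup.1 hp'
    exact Set.mem_biUnion hD ⟨p, hpD, rfl⟩
  rw [hfin.closure_biUnion, Set.mem_iUnion₂] at hx'
  obtain ⟨D, hD, hxD⟩ := hx'
  have hDa : IsAffineOpen D := hsub hD
  have hDU : D ≤ g ⁻¹ᵁ U := h𝒟.ge.trans' (le_sSup hD)
  let ψ := g.appLE U D hDU
  have hψ : Spec.map ψ ≫ hU.fromSpec = hDa.fromSpec ≫ g := IsAffineOpen.SpecMap_appLE_fromSpec g hU hDa hDU
  obtain ⟨px, rfl⟩ : x ∈ Set.range hU.fromSpec := by rw [hU.range_fromSpec]; exact hxU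
  have hpx : (show PrimeSpectrum Γ(X, U) from px) ∈ closure (Set.range (PrimeSpectrum.comap ψ.hom)) := by
    show px ∈ closure (Set.range (Spec.map ψ))
    rw [hU.fromSpec.isOpenEmbedding.isInducing.closure_eq_preimage_closure_image]
    refine closure_mono ?_ hxD
    rintro _ ⟨p, hp, rfl⟩
    obtain ⟨p', rfl⟩ : p ∈ Set.range hDa.fromSpec := by rw [hDa.range_fromSpec]; exact hp
    exact ⟨Spec.map ψ p', ⟨p', rfl⟩, congr($hψ p')⟩
  rw [PrimeSpectrum.closure_range_comap] at hpx
  obtain ⟨q, hq, hqle⟩ := Ideal.exists_minimalPrimes_le (J := (show PrimeSpectrum Γ(X, U) from px).asIdeal)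
    ((PrimeSpectrum.mem_zeroLocus _ _).1 hpx)
  obtain ⟨Q, hQp, hQ⟩ := Ideal.exists_comap_eq_of_mem_minimalPrimes (f := ψ.hom) (I := (⊥ : Ideal _))
    q (by rwa [← RingHom.ker_eq_comap_bot])
  let Q' : ↥(Spec Γ(P, D)) := ⟨Q, hQp⟩
  refine ⟨hDa.fromSpec Q', ?_⟩
  rw [← Scheme.Hom.comp_apply, ← hψ, Scheme.Hom.comp_apply]
  refine (?_ : Spec.map ψ Q' ⤳ px).map hU.fromSpec.continuous
  exact (PrimeSpectrum.le_iff_specializes _ _).1 (show Ideal.comap ψ.hom Q ≤ _ from hQ.2.le.trans hqle)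

/-- A closed subset of a quasi-compact open not containing generalizations of `x` stays away from `x`. -/
theorem notMem_closure_inter [QuasiSeparatedSpace X] {W : X.Opens} (hW : IsCompact (W : Set X))
    {C : Set X} (hC : IsClosed C) {x : X} (h : ∀ y ∈ W, y ∈ C → ¬ y ⤳ x) : x ∉ closure (C ∩ W) := by
  intro hx
  have : CompactSpace W := isCompact_iff_compactSpace.1 hW
  let J := Scheme.IdealSheafData.vanishingIdeal
    (⟨W.ι ⁻¹' C, hC.preimage W.ι.continuous⟩ : TopologicalSpace.Closeds W)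
  have hr : Set.range (J.subschemeι ≫ W.ι) = C ∩ W := by
    rw [Scheme.Hom.comp_base, TopCat.coe_comp, Set.range_comp, Scheme.IdealSheafData.range_subschemeι]
    change W.ι '' (W.ι ⁻¹' C) = _
    rw [Set.image_preimage_eq_inter_range, Scheme.Opens.range_ι]
  have : CompactSpace ↥J.subscheme := J.subschemeι.isClosedEmbedding.compactSpace
  obtain ⟨p, hp⟩ := exists_specializes_of_mem_closure_range (J.subschemeι ≫ W.ι) (hr ▸ hx)
  have hpm : (J.subschemeι ≫ W.ι) p ∈ C ∩ (W : Set X) := hr ▸ ⟨p, rfl⟩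
  exact h _ hpm.2 hpm.1 hp

/-- Separation of two points along their common generalizations. -/
theorem exists_nhds_inter_disjoint [QuasiSeparatedSpace X] {W : X.Opens} (hW : IsCompact (W : Set X))
    {C : Set X} (hC : IsClosed C) {x x' : X} (h : ∀ y ∈ W, y ∈ C → y ⤳ x → ¬ y ⤳ x') :
    ∃ V V' : X.Opens, x ∈ V ∧ x' ∈ V' ∧ ∀ y ∈ W, y ∈ C → y ∈ V → y ∉ V' := by
  have : CompactSpace W := isCompact_iff_compactSpace.1 hW
  let J := Scheme.IdealSheafData.vanishingIdeal
    (⟨W.ι ⁻¹' C, hC.preimage W.ι.continuous⟩ : TopologicalSpace.Closeds W)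
  have hr : Set.range (J.subschemeι ≫ W.ι) = C ∩ W := by
    rw [Scheme.Hom.comp_base, TopCat.coe_comp, Set.range_comp, Scheme.IdealSheafData.range_subschemeι]
    change W.ι '' (W.ι ⁻¹' C) = _
    rw [Set.image_preimage_eq_inter_range, Scheme.Opens.range_ι]
  have : CompactSpace ↥J.subscheme := J.subschemeι.isClosedEmbedding.compactSpace
  let g := J.subschemeι ≫ W.ι
  have : CompactSpace ↥(pullback g (X.fromSpecStalk x)) :=
    QuasiCompact.compactSpace_of_compactSpace (pullback.fst g (X.fromSpecStalk x))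
  let g₁ := pullback.fst g (X.fromSpecStalk x) ≫ g
  have hr₁ : Set.range g₁ = C ∩ W ∩ {y | y ⤳ x} := by
    rw [Scheme.Hom.comp_base, TopCat.coe_comp, Set.range_comp, Scheme.Pullback.range_fst,
      Set.image_preimage_eq_inter_range, hr, Scheme.range_fromSpecStalk, Set.inter_comm]
  have hx' : x' ∉ closure (Set.range g₁) := fun hcl => by
    obtain ⟨p, hp⟩ := exists_specializes_of_mem_closure_range g₁ hcl
    obtain ⟨⟨h1, h2⟩, h3⟩ := hr₁.le ⟨p, rfl⟩
    exact h _ h2 h1 h3 hp
  obtain ⟨_, ⟨V', hV', rfl⟩, hxV', hV'sub⟩ := X.isBasis_affineOpens.exists_subset_of_mem_open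
    (show x' ∈ (closure (Set.range g₁))ᶜ from hx') isClosed_closure.isOpen_compl
  have hW' : IsCompact ((W ⊓ V' : X.Opens) : Set X) :=
    QuasiSeparatedSpace.inter_isCompact _ _ W.2 hW V'.2 hV'.isCompact
  have hxn := notMem_closure_inter (x := x) hW' hC fun y hy hyC hyx =>
    hV'sub hy.2 (subset_closure (hr₁.ge ⟨⟨hyC, hy.1⟩, hyx⟩))
  refine ⟨⟨(closure (C ∩ ((W ⊓ V' : X.Opens) : Set X)))ᶜ, isClosed_closure.isOpen_compl⟩, V', hxn, hxV', ?_⟩
  intro y hyW hyC hyV hyV'
  exact hyV (subset_closure ⟨hyC, hyW, hyV'⟩)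

/-- Sections nonvanishing at finitely many points whose nonvanishing loci sit in affine opens produce
an affine open containing those points. -/
theorem exists_affineOpen_of_sections [QuasiSeparatedSpace X] {ι : Type*} {W : X.Opens}
    (hW : IsCompact (W : Set X)) (β : ι → Γ(X, W)) (Ω : ι → X.Opens) (hΩ : ∀ i, IsAffineOpen (Ω i))
    (hβ : ∀ i, X.basicOpen (β i) ≤ Ω i) (F : Finset X) (hF : ∀ x ∈ F, ∃ i, x ∈ X.basicOpen (β i)) :
    ∃ U : X.Opens, IsAffineOpen U ∧ ∀ x ∈ F, x ∈ U := by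
  classical
  have hWs : IsQuasiSeparated (W : Set X) := isQuasiSeparated_univ.of_subset (subset_univ _)
  let H : Set Γ(X, W) := {h | IsAffineOpen (X.basicOpen h)}
  have hex : ∀ x ∈ F, ∃ h ∈ H, x ∈ X.basicOpen h := by
    intro x hx
    obtain ⟨i, hi⟩ := hF x hx
    obtain ⟨c, hc, hxc⟩ := (hΩ i).exists_basicOpen_le ⟨x, hi⟩ (hβ i hi)
    have := isLocalization_basicOpen_of_qcqs hW hWs (β i)
    obtain ⟨n, e, he⟩ := IsLocalization.Away.surj (β i) (X.presheaf.map (homOfLE (hβ i)).op c)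
    refine ⟨e * β i, ?_, ?_⟩
    all_goals
      have hD : X.basicOpen (e * β i) = X.basicOpen c := by
        rw [Scheme.basicOpen_mul]
        apply le_antisymm
        · intro y ⟨hye, hyβ⟩
          have h1 : y ∈ X.basicOpen (X.presheaf.map (homOfLE (X.basicOpen_le (β i))).op e) := by
            rw [Scheme.basicOpen_res]; exact ⟨hyβ, hye⟩
          have he' : X.presheaf.map (homOfLE (X.basicOpen_le (β i))).op e =
              X.presheaf.map (homOfLE (hβ i)).op c *
                (X.presheaf.map (homOfLE (X.basicOpen_le (β i))).op (β i)) ^ n := by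
            exact he.symm
          rw [he', Scheme.basicOpen_mul, Scheme.basicOpen_res] at h1
          exact h1.1.2
        · intro y hyc
          have hyβ : y ∈ X.basicOpen (β i) := hc hyc
          refine ⟨?_, hyβ⟩
          have he' : X.presheaf.map (homOfLE (X.basicOpen_le (β i))).op e =
              X.presheaf.map (homOfLE (hβ i)).op c *
                (X.presheaf.map (homOfLE (X.basicOpen_le (β i))).op (β i)) ^ n := by
            exact he.symm
          have h1 : y ∈ X.basicOpen (X.presheaf.map (homOfLE (X.basicOpen_le (β i))).op e) := by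
            rw [he', Scheme.basicOpen_mul]
            refine ⟨by rw [Scheme.basicOpen_res]; exact ⟨hyβ, hyc⟩, ?_⟩
            refine (X.mem_basicOpen _ y hyβ).2 ?_
            rw [map_pow]
            exact ((X.mem_basicOpen _ y hyβ).1 (by rw [Scheme.basicOpen_res]; exact ⟨hyβ, hyβ⟩)).pow n
          rw [Scheme.basicOpen_res] at h1
          exact h1.2
    · show IsAffineOpen (X.basicOpen (e * β i))
      rw [hD]; exact (hΩ i).basicOpen c
    · rw [hD]; exact hxc
  rcases F.eq_empty_or_nonempty with rfl | ⟨x₀, hx₀⟩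
  · exact ⟨⊥, isAffineOpen_bot X, by simp⟩
  have hFW : ∀ x ∈ F, x ∈ W := fun x hx => by
    obtain ⟨i, hi⟩ := hF x hx
    exact X.basicOpen_le _ hi
  -- prime avoidance
  let 𝔭 : {x // x ∈ F} → Ideal Γ(X, W) := fun x =>
    (IsLocalRing.maximalIdeal (X.presheaf.stalk x.1)).comap (X.presheaf.germ W x.1 (hFW _ x.2)).hom
  have hmem : ∀ (x : {x // x ∈ F}) (g : Γ(X, W)), x.1 ∈ X.basicOpen g ↔ g ∉ 𝔭 x := fun x g => by
    rw [X.mem_basicOpen g x.1 (hFW _ x.2)]
    simp [𝔭]
  obtain ⟨g, hgH, hg⟩ : ∃ g ∈ Ideal.span H, ∀ x, g ∉ 𝔭 x := by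
    by_contra hcon
    push Not at hcon
    have hsub : (Ideal.span H : Set Γ(X, W)) ⊆ ⋃ x ∈ (↑(Finset.univ : Finset {x // x ∈ F}) : Set _), (𝔭 x : Set Γ(X, W)) := by
      intro g hg
      obtain ⟨x, hx⟩ := hcon g hg
      exact mem_iUnion₂.2 ⟨x, Finset.mem_univ _, hx⟩
    obtain ⟨x, -, hx⟩ := (Ideal.subset_union_prime ⟨x₀, hx₀⟩ ⟨x₀, hx₀⟩
      (fun x _ _ _ => Ideal.IsPrime.comap _)).1 hsub
    obtain ⟨h, hh, hxh⟩ := hex x.1 x.2
    exact (hmem x h).1 hxh (hx (Ideal.subset_span hh))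
  refine ⟨X.basicOpen g, ?_, fun x hx => (hmem ⟨x, hx⟩ g).2 (hg ⟨x, hx⟩)⟩
  let ρ := X.presheaf.map (homOfLE (X.basicOpen_le g)).op
  refine isAffineOpen_of_isAffineOpen_basicOpen _ (ρ.hom '' H) ?_ ?_
  · rw [← Ideal.map_span]
    exact Ideal.eq_top_of_isUnit_mem _ (Ideal.mem_map_of_mem ρ.hom hgH) (RingedSpace.isUnit_res_basicOpen _ g)
  · rintro _ ⟨h, hh, rfl⟩
    have e1 : X.basicOpen (ρ h) = X.basicOpen g ⊓ X.basicOpen h := Scheme.basicOpen_res ..
    have e2 : X.basicOpen (X.presheaf.map (homOfLE (X.basicOpen_le h)).op g) = X.basicOpen h ⊓ X.basicOpen g :=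
      Scheme.basicOpen_res ..
    have hh' : IsAffineOpen (X.basicOpen h) := hh
    rw [e1, inf_comm, ← e2]
    exact hh'.basicOpen _

/-- A global function on the source spreads to a neighbourhood of the images of finitely many points
at which the morphism is a local isomorphism. -/
theorem exists_section_germ [QuasiSeparatedSpace X] (f : T ⟶ X) [IsSeparated f]
    (hinj : ∀ η η' : T, closure ({η} : Set T) ∈ irreducibleComponents T →
      closure ({η'} : Set T) ∈ irreducibleComponents T → f η = f η' → η = η')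
    (s : Finset T) (hs : ∀ t ∈ s, IsIso (f.stalkMap t)) (a : Γ(T, ⊤)) :
    ∃ (W : X.Opens) (α : Γ(X, W)), (∀ t ∈ s, f t ∈ W) ∧
      ∀ t ∈ s, ∀ u, u ⤳ t → ∀ h : f u ∈ W, f.stalkMap u (X.presheaf.germ W (f u) h α) =
        T.presheaf.germ ⊤ u trivial a := by
  classical
  have hloc : ∀ t : {t // t ∈ s}, ∃ (U : X.Opens) (α : Γ(X, U)), IsAffineOpen U ∧ f t.1 ∈ U ∧
      ∀ u, u ⤳ t.1 → ∀ h : f u ∈ U, f.stalkMap u (X.presheaf.germ U (f u) h α) = T.presheaf.germ ⊤ u trivial a := by
    intro t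
    have := hs _ t.2
    obtain ⟨z, hz⟩ := (ConcreteCategory.bijective_of_isIso (f.stalkMap t.1)).2 (T.presheaf.germ ⊤ t.1 trivial a)
    obtain ⟨V, hV, α, rfl⟩ := X.presheaf.exists_germ_eq z
    obtain ⟨_, ⟨U, hU, rfl⟩, htU, hUV⟩ := X.isBasis_affineOpens.exists_subset_of_mem_open hV V.2
    refine ⟨U, X.presheaf.map (homOfLE (show U ≤ V from hUV)).op α, hU, htU, fun u hu h => ?_⟩
    rw [Scheme.Hom.germ_stalkMap_apply] at hz
    obtain ⟨N, hN, i₁, i₂, e⟩ := T.presheaf.germ_eq t.1 (show t.1 ∈ f ⁻¹ᵁ V from hV) (show t.1 ∈ (⊤ : T.Opens) from trivial) _ _ hz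
    rw [TopCat.Presheaf.germ_res_apply, Scheme.Hom.germ_stalkMap_apply]
    have hu' : u ∈ N := hu.mem_open N.2 hN
    rw [← T.presheaf.germ_res_apply i₁ u hu', ← T.presheaf.germ_res_apply i₂ u hu', e]
  choose U α hUa htU hgerm using hloc
  have hsep : ∀ p q : {t // t ∈ s}, ∃ V V' : X.Opens, f p.1 ∈ V ∧ f q.1 ∈ V' ∧
      ∀ y, (h₁ : y ∈ U p) → (h₂ : y ∈ U q) → y ∈ V → y ∈ V' →
        X.presheaf.germ (U p) y h₁ (α p) = X.presheaf.germ (U q) y h₂ (α q) := by
    intro p q
    let E : X.Opens := ⟨{y | ∃ (h₁ : y ∈ U p) (h₂ : y ∈ U q),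
      X.presheaf.germ (U p) y h₁ (α p) = X.presheaf.germ (U q) y h₂ (α q)}, by
        rw [isOpen_iff_forall_mem_open]
        rintro y ⟨h₁, h₂, he⟩
        obtain ⟨N, hN, i₁, i₂, e⟩ := X.presheaf.germ_eq y h₁ h₂ _ _ he
        refine ⟨N, fun w hw => ⟨i₁.le hw, i₂.le hw, ?_⟩, N.2, hN⟩
        rw [← X.presheaf.germ_res_apply i₁ w hw, ← X.presheaf.germ_res_apply i₂ w hw, e]⟩
    obtain ⟨V, V', hV, hV', hd⟩ := exists_nhds_inter_disjoint (W := U p ⊓ U q)
      (QuasiSeparatedSpace.inter_isCompact _ _ (U p).2 (hUa p).isCompact (U q).2 (hUa q).isCompact)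
      E.2.isClosed_compl (x := f p.1) (x' := f q.1) (fun y hy hyE hyp hyq => hyE (by
        obtain ⟨u, hu, rfl⟩ := exists_specializes_of_isIso_stalkMap f (hs _ p.2) hyp
        obtain ⟨u', hu', he⟩ := exists_specializes_of_isIso_stalkMap f (hs _ q.2) hyq
        have hiso := isIso_stalkMap_of_specializes f hu (hs _ p.2)
        obtain rfl := eq_of_isIso_stalkMap f hinj (isIso_stalkMap_of_specializes f hu' (hs _ q.2)) hiso he
        refine ⟨hy.1, hy.2, (ConcreteCategory.bijective_of_isIso (f.stalkMap u')).1 ?_⟩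
        rw [hgerm p u' hu hy.1, hgerm q u' hu' hy.2]))
    refine ⟨V, V', hV, hV', fun y h₁ h₂ hy hy' => ?_⟩
    by_contra hne
    exact hd y ⟨h₁, h₂⟩ (fun ⟨_, _, he⟩ => hne he) hy hy'
  choose A B hA hB hAB using hsep
  let N : {t // t ∈ s} → X.Opens := fun p => U p ⊓ (Finset.univ.inf fun q => A p q ⊓ B q p)
  have hN : ∀ p, f p.1 ∈ N p := fun p => ⟨htU p, by
    have : ∀ q ∈ (Finset.univ : Finset {t // t ∈ s}), f p.1 ∈ A p q ⊓ B q p := fun q _ => ⟨hA p q, hB q p⟩
    rw [Opens.coe_finset_inf]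
    simpa using this⟩
  have hNle : ∀ p q, N p ≤ A p q ⊓ B q p := fun p q => inf_le_right.trans (Finset.inf_le (Finset.mem_univ q))
  let W : X.Opens := ⨆ p, N p
  have hcompat : TopCat.Presheaf.IsCompatible X.sheaf.1 N
      (fun p => X.presheaf.map (homOfLE (inf_le_left : N p ≤ U p)).op (α p)) := by
    intro p q
    apply TopCat.Presheaf.section_ext X.sheaf
    intro y hy
    erw [TopCat.Presheaf.germ_res_apply, TopCat.Presheaf.germ_res_apply, TopCat.Presheaf.germ_res_apply,
      TopCat.Presheaf.germ_res_apply]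
    exact hAB p q y hy.1.1 hy.2.1 (hNle p q hy.1).1 (hNle q p hy.2).2
  obtain ⟨γ, hγ, -⟩ := X.sheaf.existsUnique_gluing' N W (fun p => homOfLE (le_iSup N p)) le_rfl _ hcompat
  refine ⟨W, γ, fun t ht => Opens.mem_iSup.2 ⟨⟨t, ht⟩, hN ⟨t, ht⟩⟩, fun t ht u hu h => ?_⟩
  have hu' : f u ∈ N ⟨t, ht⟩ := (hu.map f.continuous).mem_open (N _).2 (hN ⟨t, ht⟩)
  rw [← hgerm ⟨t, ht⟩ u hu hu'.1]
  congr 1
  have := congrArg (X.presheaf.germ (N ⟨t, ht⟩) (f u) hu') (hγ ⟨t, ht⟩)
  erw [TopCat.Presheaf.germ_res_apply, TopCat.Presheaf.germ_res_apply] at this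
  exact this

/-- Common affine neighbourhood of the images of finitely many points where a morphism from an
affine scheme is a local isomorphism. -/
theorem exists_affineOpen_of_isIso_stalkMap [IsAffine T] [QuasiSeparatedSpace X] (f : T ⟶ X)
    (hinj : ∀ η η' : T, closure ({η} : Set T) ∈ irreducibleComponents T →
      closure ({η'} : Set T) ∈ irreducibleComponents T → f η = f η' → η = η')
    (s : Finset T) (hs : ∀ t ∈ s, IsIso (f.stalkMap t)) :
    ∃ U : X.Opens, IsAffineOpen U ∧ ∀ t ∈ s, f t ∈ U := by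
  classical
  have : IsSeparated f := by
    have : IsSeparated (f ≫ terminal.from X) := inferInstance
    exact IsSeparated.of_comp f (terminal.from X)
  have hpt : ∀ t : {t // t ∈ s}, ∃ (Ω : X.Opens) (r : Γ(T, ⊤)), IsAffineOpen Ω ∧ f t.1 ∈ Ω ∧
      T.basicOpen r ≤ f ⁻¹ᵁ Ω ∧ t.1 ∈ T.basicOpen r := by
    intro t
    obtain ⟨_, ⟨Ω, hΩ, rfl⟩, htΩ, -⟩ := X.isBasis_affineOpens.exists_subset_of_mem_open (mem_univ (f t.1)) isOpen_univ
    obtain ⟨r, hr, htr⟩ := (isAffineOpen_top T).exists_basicOpen_le (V := f ⁻¹ᵁ Ω) ⟨t.1, htΩ⟩ trivial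
    exact ⟨Ω, r, hΩ, htΩ, hr, htr⟩
  choose Ω r hΩ htΩ hr htr using hpt
  choose W α hW hα using fun i => exists_section_germ f hinj s hs (r i)
  -- neighbourhoods avoiding the bad loci
  have hN : ∀ p : {t // t ∈ s}, ∃ N : X.Opens, IsAffineOpen N ∧ f p.1 ∈ N ∧ f p.1 ∈ X.basicOpen (α p) ∧
      ∀ i, N ≤ W i ∧ N ⊓ X.basicOpen (α i) ≤ Ω i := by
    intro p
    have hp : f p.1 ∈ Finset.univ.inf W := by
      rw [← SetLike.mem_coe, Opens.coe_finset_inf]
      simpa using fun i j => hW ⟨i, j⟩ p.1 p.2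
    obtain ⟨_, ⟨M, hM, rfl⟩, hpM, hMle⟩ := X.isBasis_affineOpens.exists_subset_of_mem_open hp (Finset.univ.inf W).2
    have hMW : ∀ i, M ≤ W i := fun i => (show M ≤ Finset.univ.inf W from hMle).trans (Finset.inf_le (Finset.mem_univ i))
    have hbad : ∀ i, f p.1 ∉ closure ((Ω i : Set X)ᶜ ∩ ((M ⊓ X.basicOpen (α i) : X.Opens) : Set X)) := by
      intro i
      refine notMem_closure_inter ?_ (Ω i).2.isClosed_compl fun y hy hyΩ hyp => ?_
      · have h1 := (hM.basicOpen (X.presheaf.map (homOfLE (hMW i)).op (α i))).isCompact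
        rwa [Scheme.basicOpen_res] at h1
      · obtain ⟨u, hu, rfl⟩ := exists_specializes_of_isIso_stalkMap f (hs _ p.2) hyp
        refine hyΩ (hr i ?_)
        rw [T.mem_basicOpen_top, ← hα i p.1 p.2 u hu (hMW i hy.1)]
        exact ((X.mem_basicOpen _ _ (hMW i hy.1)).1 hy.2).map (f.stalkMap u).hom
    let O : X.Opens := M ⊓ Finset.univ.inf (fun i : {t // t ∈ s} => (⟨(closure ((Ω i : Set X)ᶜ ∩
      ((M ⊓ X.basicOpen (α i) : X.Opens) : Set X)))ᶜ, isClosed_closure.isOpen_compl⟩ : X.Opens))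
    have hpO : f p.1 ∈ O := ⟨hpM, by
      rw [Opens.coe_finset_inf]
      simpa using fun i j => hbad ⟨i, j⟩⟩
    obtain ⟨_, ⟨N, hN, rfl⟩, hpN, hNle⟩ := X.isBasis_affineOpens.exists_subset_of_mem_open hpO O.2
    refine ⟨N, hN, hpN, ?_, fun i => ⟨fun y hy => hMW i (hNle hy).1, fun y hy => ?_⟩⟩
    · rw [X.mem_basicOpen _ _ (hW p p.1 p.2)]
      have := hs _ p.2
      refine (isUnit_map_iff (f.stalkMap p.1).hom _).1 ?_
      rw [show (f.stalkMap p.1).hom _ = _ from hα p p.1 p.2 p.1 le_rfl (hW p p.1 p.2), ← T.mem_basicOpen_top]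
      exact htr p
    · by_contra hyΩ
      have h2 := Finset.inf_le (f := fun i : {t // t ∈ s} => (⟨(closure ((Ω i : Set X)ᶜ ∩
        ((M ⊓ X.basicOpen (α i) : X.Opens) : Set X)))ᶜ, isClosed_closure.isOpen_compl⟩ : X.Opens))
        (Finset.mem_univ i) (hNle hy.1).2
      exact h2 (subset_closure ⟨hyΩ, (hNle hy.1).1, hy.2⟩)
  choose N hNa hpN hpα hNi using hN
  let W' : X.Opens := ⨆ p, N p
  have hW' : IsCompact (W' : Set X) := by
    rw [Opens.coe_iSup]
    exact isCompact_iUnion fun p => (hNa p).isCompact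
  have hle : ∀ i, W' ≤ W i := fun i => iSup_le fun p => (hNi p i).1
  obtain ⟨V, hV, hVs⟩ := exists_affineOpen_of_sections hW'
    (fun i => X.presheaf.map (homOfLE (hle i)).op (α i)) Ω hΩ (fun i => by
      rw [Scheme.basicOpen_res]
      rintro y ⟨hy, hy'⟩
      obtain ⟨p, hp⟩ := Opens.mem_iSup.1 hy
      exact (hNi p i).2 ⟨hp, hy'⟩)
    (s.image f) (by
      intro x hx
      obtain ⟨t, ht, rfl⟩ := Finset.mem_image.1 hx
      exact ⟨⟨t, ht⟩, by rw [Scheme.basicOpen_res]; exact ⟨Opens.mem_iSup.2 ⟨⟨t, ht⟩, hpN ⟨t, ht⟩⟩, hpα ⟨t, ht⟩⟩⟩)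
  exact ⟨V, hV, fun t ht => hVs _ (Finset.mem_image_of_mem _ ht)⟩

end Groth.Agent.VarietyLib
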