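import Groth.Prelude.Def_CurvBase
import Groth.Agent.VarietyLib.AffineNhd
import Mathlib

/-!
# Points of a base change of a scheme over a field over the generalisations of a point
-/

set_option autoImplicit false
set_option backward.isDefEq.respectTransparency.types false

universe u

open CategoryTheory CategoryTheory.Limits AlgebraicGeometry TensorProduct

attribute [local instance] Curv2.stalkAlgebra

namespace Groth.Agent.VarietyLib

variable (k : Type u) [Field k] (X : Scheme.{u}) [X.Over (Spec (CommRingCat.of k))]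

theorem specMap_stalkAlgebra (x : X) :
    Spec.map (CommRingCat.ofHom (algebraMap k (X.presheaf.stalk x))) =
      X.fromSpecStalk x ≫ (X ↘ Spec (CommRingCat.of k)) := by
  rw [show CommRingCat.ofHom (algebraMap k (X.presheaf.stalk x)) =
      (Scheme.ΓSpecIso (CommRingCat.of k)).inv ≫ (X ↘ Spec (CommRingCat.of k)).appTop ≫
        X.presheaf.germ ⊤ x trivial from rfl,
    Spec.map_comp, Spec.map_comp, Category.assoc, ← Scheme.fromSpecStalk_toSpecΓ, Category.assoc,
    ← Scheme.toSpecΓ_naturality_assoc, toSpecΓ_SpecMap_ΓSpecIso_inv, Category.comp_id]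

variable (K : Type u) [Field K] [Algebra k K] (x : X)

/-- `Spec (O_{X,x} ⊗ K) → X_K`. -/
noncomputable def bcLoc : Spec (CommRingCat.of (X.presheaf.stalk x ⊗[k] K)) ⟶ Curv2.bc k X K :=
  (pullbackSpecIso k (X.presheaf.stalk x) K).inv ≫
    (pullback.congrHom (specMap_stalkAlgebra k X x) rfl).hom ≫
    (pullbackRightPullbackFstIso (X ↘ Spec (CommRingCat.of k)) (Spec.map (CommRingCat.ofHom (algebraMap k K)))
      (X.fromSpecStalk x)).inv ≫
    pullback.snd (X.fromSpecStalk x) (Curv2.bcFst k X K)

theorem bcLoc_fst :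
    bcLoc k X K x ≫ Curv2.bcFst k X K =
      Spec.map (CommRingCat.ofHom (algebraMap (X.presheaf.stalk x) (X.presheaf.stalk x ⊗[k] K))) ≫
        X.fromSpecStalk x := by
  simp only [bcLoc, Category.assoc, ← pullback.condition]
  erw [pullbackRightPullbackFstIso_inv_fst_assoc]
  rw [pullback.congrHom_hom, pullback.lift_fst_assoc, Category.comp_id, pullbackSpecIso_inv_fst_assoc]

theorem bcFst_bcLoc (P : PrimeSpectrum (X.presheaf.stalk x ⊗[k] K)) :
    Curv2.bcFst k X K (bcLoc k X K x P) =
      X.fromSpecStalk x (PrimeSpectrum.comap (algebraMap (X.presheaf.stalk x) (X.presheaf.stalk x ⊗[k] K)) P) := by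
  rw [← Scheme.Hom.comp_apply, bcLoc_fst, Scheme.Hom.comp_apply]
  rfl

theorem exists_bcLoc_eq (z : Curv2.bc k X K) (hz : Curv2.bcFst k X K z ⤳ x) :
    ∃ P, bcLoc k X K x P = z := by
  have h1 : Curv2.bcFst k X K z ∈ Set.range (X.fromSpecStalk x) := by
    rw [Scheme.range_fromSpecStalk]; exact hz
  have h2 : z ∈ Set.range (pullback.snd (X.fromSpecStalk x) (Curv2.bcFst k X K)) := by
    rw [Scheme.Pullback.range_snd]; exact h1
  obtain ⟨w, rfl⟩ := h2
  let a := (pullbackSpecIso k (X.presheaf.stalk x) K).inv ≫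
    (pullback.congrHom (specMap_stalkAlgebra k X x) rfl).hom ≫
    (pullbackRightPullbackFstIso (X ↘ Spec (CommRingCat.of k)) (Spec.map (CommRingCat.ofHom (algebraMap k K)))
      (X.fromSpecStalk x)).inv
  haveI : IsIso a := inferInstance
  obtain ⟨P, hP⟩ := a.surjective w
  refine ⟨P, ?_⟩
  rw [← hP, ← Scheme.Hom.comp_apply]
  simp only [a, bcLoc, Category.assoc]

theorem nonempty_stalk_bcLoc_equiv (P : PrimeSpectrum (X.presheaf.stalk x ⊗[k] K)) :
    Nonempty ((Curv2.bc k X K).presheaf.stalk (bcLoc k X K x P) ≃+* Localization.AtPrime P.asIdeal) := by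
  haveI : Flat (X.fromSpecStalk x) := flat_fromSpecStalk' x
  haveI : Flat (pullback.snd (X.fromSpecStalk x) (Curv2.bcFst k X K)) := inferInstance
  haveI : IsPreimmersion (pullback.snd (X.fromSpecStalk x) (Curv2.bcFst k X K)) :=
    MorphismProperty.pullback_snd _ _ inferInstance
  haveI : Flat (bcLoc k X K x) := by unfold bcLoc; infer_instance
  haveI : IsPreimmersion (bcLoc k X K x) := by unfold bcLoc; infer_instance
  have h := isIso_stalkMap_of_flat_of_isPreimmersion (bcLoc k X K x) P
  letI : Algebra (X.presheaf.stalk x ⊗[k] K)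
      ((Spec (CommRingCat.of (X.presheaf.stalk x ⊗[k] K))).presheaf.stalk P) :=
    (StructureSheaf.toStalk (CommRingCat.of (X.presheaf.stalk x ⊗[k] K)) P).hom.toAlgebra
  haveI : IsLocalization.AtPrime ((Spec (CommRingCat.of (X.presheaf.stalk x ⊗[k] K))).presheaf.stalk P) P.asIdeal :=
    StructureSheaf.IsLocalization.to_stalk _ P
  exact ⟨(@asIso _ _ _ _ _ h).commRingCatIsoToRingEquiv.trans
    (IsLocalization.algEquiv P.asIdeal.primeCompl _ (Localization.AtPrime P.asIdeal)).toRingEquiv⟩

/-- The stalks of a base change over a point with reduced `O_x ⊗ K` are reduced. -/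
theorem isReduced_stalk_bc [_root_.IsReduced (X.presheaf.stalk x ⊗[k] K)] (z : Curv2.bc k X K)
    (hz : Curv2.bcFst k X K z ⤳ x) : _root_.IsReduced ((Curv2.bc k X K).presheaf.stalk z) := by
  obtain ⟨P, rfl⟩ := exists_bcLoc_eq k X K x z hz
  obtain ⟨e⟩ := nonempty_stalk_bcLoc_equiv k X K x P
  haveI : _root_.IsReduced (Localization.AtPrime P.asIdeal) :=
    isReduced_localizationPreserves P.asIdeal.primeCompl (Localization.AtPrime P.asIdeal) inferInstance
  exact isReduced_of_injective e.toRingHom e.injective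

/-- A prime of `O_x ⊗ K` over the closed point gives a point over `x`. -/
theorem bcFst_bcLoc_eq (P : PrimeSpectrum (X.presheaf.stalk x ⊗[k] K))
    (hP : P.asIdeal.comap (algebraMap (X.presheaf.stalk x) (X.presheaf.stalk x ⊗[k] K)) =
      IsLocalRing.maximalIdeal (X.presheaf.stalk x)) :
    Curv2.bcFst k X K (bcLoc k X K x P) = x := by
  rw [bcFst_bcLoc, show PrimeSpectrum.comap (algebraMap (X.presheaf.stalk x) (X.presheaf.stalk x ⊗[k] K)) P =
    IsLocalRing.closedPoint (X.presheaf.stalk x) from PrimeSpectrum.ext hP]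
  exact Scheme.fromSpecStalk_closedPoint

/-- For algebraic `K`, reducedness of `O_x ⊗ K` is seen on the points over `x`. -/
theorem isReduced_tensor_of_points [Algebra.IsIntegral k K]
    (h : ∀ z : Curv2.bc k X K, Curv2.bcFst k X K z = x → _root_.IsReduced ((Curv2.bc k X K).presheaf.stalk z)) :
    _root_.IsReduced (X.presheaf.stalk x ⊗[k] K) := by
  refine isReduced_ofLocalizationMaximal _ fun P hP => ?_
  let P' : PrimeSpectrum (X.presheaf.stalk x ⊗[k] K) := ⟨P, hP.isPrime⟩
  haveI : Algebra.IsIntegral (X.presheaf.stalk x) (X.presheaf.stalk x ⊗[k] K) := inferInstance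
  haveI : (P.comap (algebraMap (X.presheaf.stalk x) (X.presheaf.stalk x ⊗[k] K))).IsMaximal :=
    Ideal.isMaximal_comap_of_isIntegral_of_isMaximal P
  have hc := IsLocalRing.eq_maximalIdeal (show (P'.asIdeal.comap
    (algebraMap (X.presheaf.stalk x) (X.presheaf.stalk x ⊗[k] K))).IsMaximal from this)
  haveI := h _ (bcFst_bcLoc_eq k X K x P' hc)
  obtain ⟨e⟩ := nonempty_stalk_bcLoc_equiv k X K x P'
  exact isReduced_of_injective e.symm.toRingHom e.symm.injective

end Groth.Agent.VarietyLib
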