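import Groth.Prelude.Def_CurvBase
import Groth.Agent.VarietyLib.GeomReducedPt
import Mathlib

/-!
# Finite separable points of smooth schemes over a field
-/

set_option autoImplicit false
set_option backward.isDefEq.respectTransparency.types false

universe u

open CategoryTheory CategoryTheory.Limits AlgebraicGeometry

namespace Groth.Agent.VarietyLib

/-- Over an infinite field an étale algebra over a polynomial ring has a finite separable point. -/
theorem exists_separable_point_etale (k : Type u) [Field k] [Infinite k] (n : ℕ) (B : Type u) [CommRing B]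
    [Nontrivial B] [Algebra k B] (g : MvPolynomial (Fin n) k →ₐ[k] B) (hg : g.Etale) :
    ∃ (Ω : Type u) (_ : Field Ω) (_ : Algebra k Ω), FiniteDimensional k Ω ∧ Algebra.IsSeparable k Ω ∧
      Nonempty (B →ₐ[k] Ω) := by
  algebraize [g.toRingHom]
  haveI : IsScalarTower k (MvPolynomial (Fin n) k) B := IsScalarTower.of_algebraMap_eq fun c => (g.commutes c).symm
  haveI : Algebra.Etale (MvPolynomial (Fin n) k) B := RingHom.etale_algebraMap.1 hg
  have hopen : IsOpen (Set.range (PrimeSpectrum.comap (algebraMap (MvPolynomial (Fin n) k) B))) :=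
    (PrimeSpectrum.isOpenMap_comap_of_hasGoingDown_of_finitePresentation
      (R := MvPolynomial (Fin n) k) (S := B)).isOpen_range
  obtain ⟨q₀⟩ := (inferInstance : Nonempty (PrimeSpectrum B))
  obtain ⟨_, ⟨h, rfl⟩, hq₀, hsub⟩ :=
    PrimeSpectrum.isTopologicalBasis_basic_opens.exists_subset_of_mem_open
      (Set.mem_range_self (f := PrimeSpectrum.comap (algebraMap (MvPolynomial (Fin n) k) B)) q₀) hopen
  obtain ⟨a, ha⟩ : ∃ a : Fin n → k, MvPolynomial.eval a h ≠ 0 := by
    by_contra hc
    push Not at hc
    exact hq₀ (by rw [MvPolynomial.funext (p := h) (q := 0) fun a => by rw [hc a, map_zero]]; exact zero_mem _)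
  let pa : PrimeSpectrum (MvPolynomial (Fin n) k) :=
    ⟨RingHom.ker (MvPolynomial.eval a), RingHom.ker_isPrime _⟩
  obtain ⟨q, hq⟩ := hsub (show pa ∈ (PrimeSpectrum.basicOpen h : Set _) from fun hmem => ha (RingHom.mem_ker.1 hmem))
  obtain ⟨m, hm, hqm⟩ := Ideal.exists_le_maximal q.asIdeal q.isPrime.ne_top
  letI : Field (B ⧸ m) := Ideal.Quotient.field m
  haveI : Algebra.FiniteType k (B ⧸ m) := by
    haveI : Algebra.FiniteType k B := Algebra.FiniteType.trans (S := MvPolynomial (Fin n) k) inferInstance inferInstance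
    exact Algebra.FiniteType.of_surjective (Ideal.Quotient.mkₐ k m) Ideal.Quotient.mk_surjective
  haveI : FiniteDimensional k (B ⧸ m) := finite_of_finite_type_of_isJacobsonRing _ _
  haveI : Algebra.FormallyUnramified (MvPolynomial (Fin n) k) (B ⧸ m) :=
    Algebra.FormallyUnramified.of_surjective (IsScalarTower.toAlgHom (MvPolynomial (Fin n) k) B (B ⧸ m))
      Ideal.Quotient.mk_surjective
  letI : Algebra (MvPolynomial (Fin n) k) k := (MvPolynomial.eval a).toAlgebra
  haveI : IsScalarTower (MvPolynomial (Fin n) k) k (B ⧸ m) := IsScalarTower.of_algebraMap_eq fun x => by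
    rw [RingHom.algebraMap_toAlgebra (MvPolynomial.eval a)]
    have hx : x - MvPolynomial.C (MvPolynomial.eval a x) ∈ pa.asIdeal := by
      show _ ∈ RingHom.ker (MvPolynomial.eval a)
      simp [RingHom.mem_ker]
    rw [← hq] at hx
    have h0 : Ideal.Quotient.mk m (algebraMap (MvPolynomial (Fin n) k) B (x - MvPolynomial.C (MvPolynomial.eval a x))) = 0 :=
      Ideal.Quotient.eq_zero_iff_mem.2 (hqm hx)
    rw [map_sub, map_sub, sub_eq_zero] at h0
    refine h0.trans ?_
    rw [← MvPolynomial.algebraMap_eq, ← IsScalarTower.algebraMap_apply k (MvPolynomial (Fin n) k) B]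
    rfl
  haveI : Algebra.FormallyUnramified k (B ⧸ m) :=
    Algebra.FormallyUnramified.of_restrictScalars (MvPolynomial (Fin n) k) k (B ⧸ m)
  exact ⟨B ⧸ m, inferInstance, inferInstance, inferInstance, Algebra.FormallyUnramified.isSeparable k _,
    ⟨Ideal.Quotient.mkₐ k m⟩⟩

/-- A nonzero smooth algebra over a field has a finite separable point. -/
theorem exists_separable_point (k : Type u) [Field k] (A : Type u) [CommRing A] [Algebra k A]
    [Algebra.Smooth k A] [Nontrivial A] :
    ∃ (Ω : Type u) (_ : Field Ω) (_ : Algebra k Ω), FiniteDimensional k Ω ∧ Algebra.IsSeparable k Ω ∧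
      Nonempty (A →ₐ[k] Ω) := by
  cases finite_or_infinite k with
  | inl hk =>
    obtain ⟨m, hm⟩ := Ideal.exists_maximal A
    letI : Field (A ⧸ m) := Ideal.Quotient.field m
    haveI : Algebra.FiniteType k (A ⧸ m) :=
      Algebra.FiniteType.of_surjective (Ideal.Quotient.mkₐ k m) Ideal.Quotient.mk_surjective
    haveI : FiniteDimensional k (A ⧸ m) := finite_of_finite_type_of_isJacobsonRing _ _
    exact ⟨A ⧸ m, inferInstance, inferInstance, inferInstance, inferInstance, ⟨Ideal.Quotient.mkₐ k m⟩⟩
  | inr hk =>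
    obtain ⟨s, hs, hstd⟩ := Algebra.Smooth.exists_span_eq_top_isStandardSmooth k A
    obtain ⟨f, hf, hnil⟩ : ∃ f ∈ s, ¬ IsNilpotent f := by
      by_contra hc
      push Not at hc
      have hle : Ideal.span s ≤ nilradical A := Ideal.span_le.2 hc
      exact not_isNilpotent_one (hle (hs.ge (Submodule.mem_top : (1 : A) ∈ _)))
    haveI : Nontrivial (Localization.Away f) := by
      refine not_subsingleton_iff_nontrivial.1 fun hsub => hnil ?_
      obtain ⟨⟨_, n, rfl⟩, hn⟩ := (IsLocalization.map_eq_zero_iff (Submonoid.powers f) (Localization.Away f) (1 : A)).1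
        (Subsingleton.elim _ _)
      exact ⟨n, by simpa using hn⟩
    haveI := hstd f hf
    obtain ⟨n, g, hgC, hg⟩ := RingHom.IsStandardSmooth.exists_etale_mvPolynomial
      (f := algebraMap k (Localization.Away f)) (RingHom.isStandardSmooth_algebraMap.2 inferInstance)
    let g' : MvPolynomial (Fin n) k →ₐ[k] Localization.Away f :=
      { g with commutes' := fun c => RingHom.congr_fun hgC c }
    obtain ⟨Ω, i1, i2, h1, h2, ⟨φ⟩⟩ := exists_separable_point_etale k n (Localization.Away f) g' hg
    exact ⟨Ω, i1, i2, h1, h2, ⟨φ.comp (IsScalarTower.toAlgHom k A _)⟩⟩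

end Groth.Agent.VarietyLib
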