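import Mathlib

/-!
# Connected components over a quotient by a transitive group of homeomorphisms

If `π : Y → C` is continuous and closed with compact fibres, and a family of homeomorphisms over `C`
is transitive on the fibres, then the image of a connected component of `Y` is a connected component
of `C`.
-/

set_option autoImplicit false

open Set Topology

namespace Groth.Agent.VarietyLib

variable {Y C : Type*} [TopologicalSpace Y] [TopologicalSpace C] {π : Y → C}

/-- A block for a family of homeomorphisms. -/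
def IsBlock' {G : Type*} (act : G → Y ≃ₜ Y) (P : Set Y) : Prop :=
  ∀ g, (act g '' P ∩ P).Nonempty → act g '' P = P

omit [TopologicalSpace C] in
theorem image_sInter_of_directed (hfib : ∀ c, IsCompact (π ⁻¹' {c})) {T : Set C} (𝒮 : Set (Set Y))
    (hne : 𝒮.Nonempty) (hdir : DirectedOn (· ⊇ ·) 𝒮) (hcl : ∀ S ∈ 𝒮, IsClosed S)
    (hsurj : ∀ S ∈ 𝒮, π '' S = T) : π '' ⋂₀ 𝒮 = T := by
  refine subset_antisymm ?_ fun c hc => ?_
  · obtain ⟨S, hS⟩ := hne
    exact (image_mono (sInter_subset_of_mem hS)).trans (hsurj S hS).le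
  · by_contra hcon
    have : Nonempty 𝒮 := hne.to_subtype
    obtain ⟨⟨S, hS⟩, hS'⟩ := (hfib c).elim_directed_family_closed (fun S : 𝒮 => (S : Set Y))
      (fun S => hcl S S.2) (by
        rw [Set.eq_empty_iff_forall_notMem]
        rintro z ⟨hz, hz'⟩
        refine hcon ⟨z, fun S hS => mem_iInter.1 hz' ⟨S, hS⟩, hz⟩)
      (fun S₁ S₂ => by
        obtain ⟨S, hS, h1, h2⟩ := hdir S₁ S₁.2 S₂ S₂.2
        exact ⟨⟨S, hS⟩, h1, h2⟩)
    obtain ⟨z, hz, rfl⟩ := (hsurj S hS).symm ▸ hc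
    exact Set.eq_empty_iff_forall_notMem.1 hS' z ⟨rfl, hz⟩

variable {G : Type*} (act : G → Y ≃ₜ Y)

/-- On a closed block `P` surjecting onto `T`, a piece `U` cut out by an open set has image
disjoint from a closed set covering the rest of `T`. -/
theorem exists_closed_compl_image (hcl : IsClosedMap π) (hπ : ∀ g y, π (act g y) = π y)
    (htr : ∀ y y', π y = π y' → ∃ g, act g y = y') {P : Set Y} (hP : IsClosed P)
    (hb : IsBlock' act P) {O : Set Y} (hO : IsOpen O) :
    ∃ B : Set C, IsClosed B ∧ π '' P ⊆ π '' (P ∩ O) ∪ B ∧ B ⊆ π '' P ∧ π '' (P ∩ O) ∩ B = ∅ := by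
  let S : Set Y := ⋃ g : {g : G // act g '' P = P}, act g.1 '' O
  have hS : IsOpen S := isOpen_iUnion fun g => (act g.1).isOpenMap _ hO
  refine ⟨π '' (P ∩ Sᶜ), hcl _ (hP.inter hS.isClosed_compl), ?_, image_mono inter_subset_left, ?_⟩
  · rintro _ ⟨z, hz, rfl⟩
    by_cases hzS : z ∈ S
    · obtain ⟨⟨g, hg⟩, w, hw, rfl⟩ := mem_iUnion.1 hzS
      refine .inl ⟨w, ⟨?_, hw⟩, (hπ g w).symm⟩
      have hz' : act g w ∈ act g '' P := by rw [hg]; exact hz
      obtain ⟨w', hw', e⟩ := hz'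
      exact (act g).injective e ▸ hw'
    · exact .inr ⟨z, ⟨hz, hzS⟩, rfl⟩
  · rw [Set.eq_empty_iff_forall_notMem]
    rintro _ ⟨⟨w, ⟨hwP, hwO⟩, rfl⟩, z, ⟨hzP, hzS⟩, e⟩
    obtain ⟨g, rfl⟩ := htr w z e.symm
    exact hzS (mem_iUnion.2 ⟨⟨g, hb g ⟨_, ⟨w, hwP, rfl⟩, hzP⟩⟩, w, hwO, rfl⟩)

/-- The image of a connected component is a connected component. -/
theorem image_connectedComponent_eq (hc : Continuous π) (hsur : Function.Surjective π)
    (hcl : IsClosedMap π) (hfib : ∀ c, IsCompact (π ⁻¹' {c})) (hπ : ∀ g y, π (act g y) = π y)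
    (htr : ∀ y y', π y = π y' → ∃ g, act g y = y') (y : Y) :
    π '' connectedComponent y = connectedComponent (π y) := by
  refine subset_antisymm (hc.image_connectedComponent_subset y) ?_
  let T := connectedComponent (π y)
  have hT : IsClosed T := isClosed_connectedComponent
  have hTc : IsPreconnected T := isPreconnected_connectedComponent
  let 𝒮 : Set (Set Y) := {P | IsClosed P ∧ y ∈ P ∧ π '' P = T ∧ IsBlock' act P}
  have htop : π ⁻¹' T ∈ 𝒮 := ⟨hT.preimage hc, mem_connectedComponent,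
    image_preimage_eq _ hsur, fun g _ => by
      ext z
      constructor
      · rintro ⟨w, hw, rfl⟩
        rw [mem_preimage, hπ]; exact hw
      · intro hz
        refine ⟨(act g).symm z, ?_, (act g).apply_symm_apply z⟩
        rw [mem_preimage] at hz ⊢
        rwa [← hπ g, (act g).apply_symm_apply]⟩
  obtain ⟨P, hP⟩ : ∃ m, Minimal (· ∈ 𝒮) m := by
    refine zorn_superset 𝒮 fun c hcS hchain => ?_
    rcases c.eq_empty_or_nonempty with rfl | hne
    · exact ⟨_, htop, by simp⟩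
    refine ⟨⋂₀ c, ⟨isClosed_sInter fun S hS => (hcS hS).1, fun S hS => (hcS hS).2.1,
      image_sInter_of_directed hfib c hne (fun a ha b hb => (hchain.total ha hb).elim (fun h => ⟨a, ha, subset_rfl, h⟩) (fun h => ⟨b, hb, h, subset_rfl⟩)) (fun S hS => (hcS hS).1)
        (fun S hS => (hcS hS).2.2.1), ?_⟩, fun S hS => sInter_subset_of_mem hS⟩
    rintro g ⟨_, ⟨w, hw, rfl⟩, hz⟩
    have h : ∀ S ∈ c, act g '' S = S := fun S hS =>
      (hcS hS).2.2.2 g ⟨_, ⟨w, hw S hS, rfl⟩, hz S hS⟩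
    ext z
    constructor
    · rintro ⟨v, hv, rfl⟩ S hS
      exact h S hS ▸ ⟨v, hv S hS, rfl⟩
    · intro hz'
      refine ⟨(act g).symm z, fun S hS => ?_, (act g).apply_symm_apply z⟩
      obtain ⟨v, hv, rfl⟩ := (h S hS).symm ▸ hz' S hS
      simpa using hv
  obtain ⟨⟨hPc, hyP, hPT, hPb⟩, hmin⟩ := hP
  -- the quasi-component of `y` in `P`
  let 𝒰 : Set (Set Y) := {U | IsClosed U ∧ U ⊆ P ∧ IsClosed (P \ U) ∧ y ∈ U}
  have hPU : P ∈ 𝒰 := ⟨hPc, subset_rfl, by simp, hyP⟩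
  let Q := ⋂₀ 𝒰
  have hQP : Q ⊆ P := sInter_subset_of_mem hPU
  have hUT : ∀ U ∈ 𝒰, π '' U = T := by
    rintro U ⟨hU, hUP, hU', hyU⟩
    have e : P ∩ (P \ U)ᶜ = U := by
      ext z; simp only [mem_inter_iff, mem_compl_iff, mem_sdiff]
      exact ⟨fun h => not_not.1 fun h' => h.2 ⟨h.1, h'⟩, fun h => ⟨hUP h, fun h' => h'.2 h⟩⟩
    obtain ⟨B, hB, hcov, hBP, hdisj⟩ := exists_closed_compl_image act hcl hπ htr hPc hPb hU'.isOpen_compl
    rw [e] at hcov hdisj
    refine subset_antisymm ((image_mono hUP).trans hPT.le) fun t ht => ?_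
    rcases hcov (hPT.ge ht) with h | h
    · exact h
    · exfalso
      obtain ⟨t', -, ht'⟩ := isPreconnected_closed_iff.1 hTc _ B (hcl U hU) hB
        (hPT.ge.trans hcov) ⟨π y, mem_connectedComponent, y, hyU, rfl⟩ ⟨t, ht, h⟩
      exact Set.eq_empty_iff_forall_notMem.1 hdisj t' ht'
  have hQT : π '' Q = T := by
    refine image_sInter_of_directed hfib 𝒰 ⟨P, hPU⟩ ?_ (fun U hU => hU.1) hUT
    rintro U ⟨hU, hUP, hU', hyU⟩ V ⟨hV, hVP, hV', hyV⟩
    refine ⟨U ∩ V, ⟨hU.inter hV, inter_subset_left.trans hUP, ?_, hyU, hyV⟩, inter_subset_left,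
      inter_subset_right⟩
    rw [sdiff_inter]
    exact hU'.union hV'
  have hQb : IsBlock' act Q := by
    rintro g ⟨_, ⟨z, hz, rfl⟩, hgz⟩
    have hg : act g '' P = P := hPb g ⟨_, ⟨z, hQP hz, rfl⟩, hQP hgz⟩
    have hgP : ∀ x, act g x ∈ P ↔ x ∈ P := fun x =>
      ⟨fun h => by
        rw [← hg] at h
        obtain ⟨x', hx', e⟩ := h
        exact (act g).injective e ▸ hx', fun h => hg ▸ ⟨x, h, rfl⟩⟩
    -- membership in `Q` via all relatively clopen subsets of `P`
    have key : ∀ x ∈ Q, ∀ U, IsClosed U → U ⊆ P → IsClosed (P \ U) → (x ∈ U ↔ y ∈ U) := by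
      intro x hx U hU hUP hU'
      constructor
      · intro hxU
        by_contra hyU
        exact (hx (P \ U) ⟨hU', sdiff_subset,
          by rwa [sdiff_sdiff_cancel_left hUP], hyP, hyU⟩).2 hxU
      · exact fun hyU => hx U ⟨hU, hUP, hU', hyU⟩
    have pre : ∀ U, IsClosed U → U ⊆ P → IsClosed (P \ U) → IsClosed (act g ⁻¹' U) ∧
        act g ⁻¹' U ⊆ P ∧ IsClosed (P \ act g ⁻¹' U) := fun U hU hUP hU' => by
      refine ⟨hU.preimage (act g).continuous, fun x hx => (hgP x).1 (hUP hx), ?_⟩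
      have : P \ act g ⁻¹' U = act g ⁻¹' (P \ U) := by
        ext x; simp [hgP]
      rw [this]
      exact hU'.preimage (act g).continuous
    have hy : ∀ U, IsClosed U → U ⊆ P → IsClosed (P \ U) → (act g y ∈ U ↔ y ∈ U) := by
      intro U hU hUP hU'
      obtain ⟨h1, h2, h3⟩ := pre U hU hUP hU'
      exact ((key z hz _ h1 h2 h3).symm.trans (key _ hgz U hU hUP hU') : _)
    ext x
    constructor
    · rintro ⟨x, hx, rfl⟩ U ⟨hU, hUP, hU', hyU⟩
      obtain ⟨h1, h2, h3⟩ := pre U hU hUP hU'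
      exact (key x hx _ h1 h2 h3).2 ((hy U hU hUP hU').2 hyU)
    · intro hx
      refine ⟨(act g).symm x, fun U => ?_, (act g).apply_symm_apply x⟩
      rintro ⟨hU, hUP, hU', hyU⟩
      have h1 : IsClosed (act g '' U) := (act g).isClosedMap _ hU
      have h2 : act g '' U ⊆ P := hg ▸ image_mono hUP
      have h3 : IsClosed (P \ act g '' U) := by
        rw [← hg, ← image_sdiff (act g).injective]
        exact (act g).isClosedMap _ hU'
      obtain ⟨v, hv, e⟩ := (key x hx _ h1 h2 h3).2 ((hy _ h1 h2 h3).1 ⟨y, hyU, rfl⟩)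
      simpa [← e] using hv
  have hQ : P ⊆ Q := hmin ⟨isClosed_sInter fun U hU => hU.1, fun U hU => hU.2.2.2, hQT, hQb⟩ hQP
  have hPre : IsPreconnected P := by
    rw [isPreconnected_closed_iff]
    intro t t' ht ht' hcov ⟨a, haP, hat⟩ ⟨b, hbP, hbt⟩
    by_contra hne
    rw [not_nonempty_iff_eq_empty, Set.eq_empty_iff_forall_notMem] at hne
    wlog hy : y ∈ t generalizing t t' a b
    · exact this t' t ht' ht (union_comm t t' ▸ hcov) b hbP hbt a haP hat
        (fun x h => hne x ⟨h.1, h.2.2, h.2.1⟩) ((hcov hyP).resolve_left hy)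
    have hd : P \ (P ∩ t) = P ∩ t' := by
      ext x
      simp only [mem_sdiff, mem_inter_iff]
      exact ⟨fun h => ⟨h.1, (hcov h.1).resolve_left fun h' => h.2 ⟨h.1, h'⟩⟩,
        fun h => ⟨h.1, fun h' => hne x ⟨h.1, h'.2, h.2⟩⟩⟩
    have := hQ hbP (P ∩ t) ⟨hPc.inter ht, inter_subset_left, hd ▸ hPc.inter ht', hyP, hy⟩
    exact hne b ⟨hbP, this.2, hbt⟩
  exact hPT.ge.trans (image_mono (hPre.subset_connectedComponent hyP))

end Groth.Agent.VarietyLib
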