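import Mathlib
import Groth.Agent.VarietyLib.BlockComponent
import Groth.Agent.VarietyLib.GeomField

/-!
# Base change to a normal extension and to large fields
-/

set_option autoImplicit false
set_option backward.isDefEq.respectTransparency.types false

universe u

open CategoryTheory Limits AlgebraicGeometry Set

namespace Groth.Agent.VarietyLib

/-- The structure map of an algebra. -/
noncomputable abbrev sK (k : Type u) [CommRing k] (A : Type u) [CommRing A] [Algebra k A] :
    Spec (CommRingCat.of A) ⟶ Spec (CommRingCat.of k) :=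
  Spec.map (CommRingCat.ofHom (algebraMap k A))

section Field

variable (k : Type u) [Field k] {X : Scheme.{u}} (f : X ⟶ Spec (CommRingCat.of k))

/-- The automorphism of the base change induced by a field automorphism. -/
noncomputable def gal {L : Type u} [Field L] [Algebra k L] (σ : L ≃ₐ[k] L) :
    pullback f (sK k L) ⟶ pullback f (sK k L) :=
  pullback.map _ _ _ _ (𝟙 X) (Spec.map (CommRingCat.ofHom (σ : L →ₐ[k] L).toRingHom)) (𝟙 _)
    (by simp) (by rw [Category.comp_id, ← Spec.map_comp, ← CommRingCat.ofHom_comp,
      AlgHom.toRingHom_eq_coe, AlgHom.comp_algebraMap])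

variable {L : Type u} [Field L] [Algebra k L]

@[simp] lemma gal_fst (σ : L ≃ₐ[k] L) : gal k f σ ≫ pullback.fst _ _ = pullback.fst _ _ :=
  (pullback.lift_fst _ _ _).trans (Category.comp_id _)

@[simp] lemma gal_snd (σ : L ≃ₐ[k] L) : gal k f σ ≫ pullback.snd _ _ =
    pullback.snd _ _ ≫ Spec.map (CommRingCat.ofHom (σ : L →ₐ[k] L).toRingHom) :=
  pullback.lift_snd _ _ _

lemma gal_comp_symm (σ : L ≃ₐ[k] L) : gal k f σ ≫ gal k f σ.symm = 𝟙 _ := by
  apply pullback.hom_ext
  · rw [Category.assoc, gal_fst, gal_fst, Category.id_comp]
  · rw [Category.assoc, gal_snd, ← Category.assoc, gal_snd, Category.assoc, Category.id_comp,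
      ← Spec.map_comp, ← CommRingCat.ofHom_comp]
    have : ((σ : L →ₐ[k] L).toRingHom).comp (σ.symm : L →ₐ[k] L).toRingHom = RingHom.id L := by
      ext x; simp
    rw [this]
    simp

/-- `gal` as an isomorphism. -/
noncomputable def galIso (σ : L ≃ₐ[k] L) : pullback f (sK k L) ≅ pullback f (sK k L) where
  hom := gal k f σ
  inv := gal k f σ.symm
  hom_inv_id := gal_comp_symm k f σ
  inv_hom_id := by simpa using gal_comp_symm k f σ.symm

/-- `gal` as a homeomorphism. -/
noncomputable def galHomeo (σ : L ≃ₐ[k] L) : ↥(pullback f (sK k L)) ≃ₜ ↥(pullback f (sK k L)) :=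
  (galIso k f σ).hom.homeomorph

lemma galHomeo_apply (σ : L ≃ₐ[k] L) (z : ↥(pullback f (sK k L))) : galHomeo k f σ z = gal k f σ z :=
  rfl

lemma gal_fst_apply (σ : L ≃ₐ[k] L) (z : ↥(pullback f (sK k L))) :
    pullback.fst f (sK k L) (gal k f σ z) = pullback.fst f (sK k L) z := by
  rw [← Scheme.Hom.comp_apply, gal_fst]

/-- The automorphisms of a normal extension are transitive on the fibres of the base change. -/
theorem exists_gal_apply_eq [Normal k L] {p q : ↥(pullback f (sK k L))}
    (h : pullback.fst f (sK k L) p = pullback.fst f (sK k L) q) : ∃ σ : L ≃ₐ[k] L, gal k f σ q = p := by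
  obtain ⟨z, hzp, hzq⟩ := Scheme.Pullback.exists_preimage_pullback
    (f := pullback.fst f (sK k L)) (g := pullback.fst f (sK k L)) p q h
  let W := pullback (pullback.fst f (sK k L)) (pullback.fst f (sK k L))
  let r : Spec (W.residueField z) ⟶ W := W.fromSpecResidueField z
  obtain ⟨rp, hrp⟩ : ∃ rp, rp = r ≫ pullback.fst _ _ := ⟨_, rfl⟩
  obtain ⟨rq, hrq⟩ : ∃ rq, rq = r ≫ pullback.snd _ _ := ⟨_, rfl⟩
  obtain ⟨α, hα⟩ := Spec.map_surjective (rp ≫ pullback.snd f (sK k L))
  obtain ⟨β, hβ⟩ := Spec.map_surjective (rq ≫ pullback.snd f (sK k L))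
  have hfst : rp ≫ pullback.fst f (sK k L) = rq ≫ pullback.fst f (sK k L) := by
    simp only [hrp, hrq, Category.assoc, pullback.condition]
  have hk : (CommRingCat.ofHom (algebraMap k L)) ≫ α = (CommRingCat.ofHom (algebraMap k L)) ≫ β := by
    apply Spec.map_injective
    rw [Spec.map_comp, Spec.map_comp, hα, hβ, Category.assoc, Category.assoc, ← pullback.condition,
      reassoc_of% hfst]
  let Ω := W.residueField z
  let : Algebra L Ω := β.hom.toAlgebra
  let : Algebra k Ω := (β.hom.comp (algebraMap k L)).toAlgebra
  have : IsScalarTower k L Ω := .of_algebraMap_eq fun _ => rfl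
  let a : L →ₐ[k] Ω :=
    { α.hom with commutes' := fun c => by exact congr($(hk).hom c) }
  let σ : L ≃ₐ[k] L := a.restrictNormal' L
  have hσ : CommRingCat.ofHom (σ : L →ₐ[k] L).toRingHom ≫ β = α := by
    ext x
    exact AlgHom.restrictNormal_commutes a L x
  have : rp = rq ≫ gal k f σ := by
    apply pullback.hom_ext
    · rw [Category.assoc, gal_fst, hfst]
    · rw [Category.assoc, gal_snd, ← hα, ← hσ, Spec.map_comp, hβ, Category.assoc]
  refine ⟨σ, ?_⟩
  let o : ↥(Spec Ω) := IsLocalRing.closedPoint Ω
  have hr : r o = z := W.fromSpecResidueField_apply z o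
  have h1 : rp o = p := by rw [hrp, Scheme.Hom.comp_apply, hr, hzp]
  have h2 : rq o = q := by rw [hrq, Scheme.Hom.comp_apply, hr, hzq]
  rw [← h1, this, Scheme.Hom.comp_apply, h2]

lemma surjective_fst : Function.Surjective (pullback.fst f (sK k L)) := by
  have : Surjective (sK k L) := ⟨fun z => ⟨Classical.arbitrary _, Subsingleton.elim _ _⟩⟩
  exact (inferInstance : Surjective (pullback.fst f (sK k L))).1

lemma isIntegralHom_fst [Algebra.IsAlgebraic k L] : IsIntegralHom (pullback.fst f (sK k L)) := by
  have : Algebra.IsIntegral k L := Algebra.IsAlgebraic.isIntegral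
  have : IsIntegralHom (sK k L) :=
    IsIntegralHom.SpecMap_iff.2 fun x => Algebra.IsIntegral.isIntegral x
  exact MorphismProperty.pullback_fst (P := @IsIntegralHom) _ _ this

/-- Base change to a normal algebraic extension maps connected components onto connected components. -/
theorem image_connectedComponent_fst [Normal k L] (y : ↥(pullback f (sK k L))) :
    pullback.fst f (sK k L) '' connectedComponent y = connectedComponent (pullback.fst f (sK k L) y) := by
  have := isIntegralHom_fst k f (L := L)
  exact image_connectedComponent_eq (galHomeo k f) (pullback.fst f (sK k L)).continuous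
    (surjective_fst k f) (pullback.fst f (sK k L)).isClosedMap
    (fun c => (pullback.fst f (sK k L)).isCompact_preimage_singleton c)
    (fun σ z => gal_fst_apply k f σ z)
    (fun p q h => exists_gal_apply_eq k f h.symm) y

/-- A closed invariant subset of the base change to a normal algebraic extension descends. -/
theorem preimage_image_of_invariant [Normal k L] {Z : Set ↥(pullback f (sK k L))}
    (hinv : ∀ σ : L ≃ₐ[k] L, gal k f σ '' Z = Z) :
    pullback.fst f (sK k L) ⁻¹' (pullback.fst f (sK k L) '' Z) = Z := by
  refine subset_antisymm ?_ (subset_preimage_image _ _)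
  rintro p ⟨q, hq, h⟩
  obtain ⟨σ, rfl⟩ := exists_gal_apply_eq k f h.symm
  exact hinv σ ▸ ⟨q, hq, rfl⟩

/-- Preimages from `X` are invariant. -/
theorem image_preimage_gal (σ : L ≃ₐ[k] L) (T : Set X) :
    gal k f σ '' (pullback.fst f (sK k L) ⁻¹' T) = pullback.fst f (sK k L) ⁻¹' T := by
  ext z
  constructor
  · rintro ⟨w, hw, rfl⟩
    rwa [mem_preimage, gal_fst_apply]
  · intro hz
    obtain ⟨w, rfl⟩ := (galHomeo k f σ).surjective z
    exact ⟨w, by rwa [mem_preimage, galHomeo_apply, gal_fst_apply] at hz, rfl⟩

end Field

section Tower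

variable (k : Type u) [Field k] {X : Scheme.{u}} (f : X ⟶ Spec (CommRingCat.of k))
variable (L M : Type u) [Field L] [Field M] [Algebra k L] [Algebra k M] [Algebra L M] [IsScalarTower k L M]

/-- The transition map between base changes. -/
noncomputable def tr : pullback f (sK k M) ⟶ pullback f (sK k L) :=
  pullback.map _ _ _ _ (𝟙 X) (sK L M) (𝟙 _) (by simp)
    (by rw [Category.comp_id, ← Spec.map_comp, ← CommRingCat.ofHom_comp, ← IsScalarTower.algebraMap_eq])

@[simp] lemma tr_fst : tr k f L M ≫ pullback.fst _ _ = pullback.fst _ _ :=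
  (pullback.lift_fst _ _ _).trans (Category.comp_id _)

lemma tr_fst_apply (z : ↥(pullback f (sK k M))) :
    pullback.fst f (sK k L) (tr k f L M z) = pullback.fst f (sK k M) z := by
  rw [← Scheme.Hom.comp_apply, tr_fst]

lemma isPullback_tr : IsPullback (tr k f L M) (pullback.snd f (sK k M)) (pullback.snd f (sK k L)) (sK L M) := by
  refine IsPullback.of_right ?_ (pullback.lift_snd _ _ _) (IsPullback.of_hasPullback f (sK k L))
  have e : sK L M ≫ sK k L = sK k M := by
    rw [← Spec.map_comp, ← CommRingCat.ofHom_comp, ← IsScalarTower.algebraMap_eq]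
  rw [tr_fst, e]
  exact IsPullback.of_hasPullback f (sK k M)

lemma surjective_tr : Function.Surjective (tr k f L M) := by
  have : Surjective (sK L M) := ⟨fun z => ⟨Classical.arbitrary _, Subsingleton.elim _ _⟩⟩
  exact (MorphismProperty.of_isPullback (P := @Surjective) (isPullback_tr k f L M).flip this).1

lemma geometricallyIrreducible_tr [IsSepClosed L] : GeometricallyIrreducible (tr k f L M) :=
  MorphismProperty.of_isPullback (P := @GeometricallyIrreducible) (isPullback_tr k f L M).flip
    (geometricallyIrreducible_algSpec L M)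

lemma geometricallyConnected_tr [IsSepClosed L] : GeometricallyConnected (tr k f L M) :=
  ⟨fun K _ y P fst snd h => by
    have := geometricallyIrreducible_tr k f L M
    have := GeometricallyIrreducible.geometrically_irreducibleSpace (f := tr k f L M) y fst snd h
    infer_instance⟩

lemma isOpenMap_tr : IsOpenMap (tr k f L M) := by
  have : UniversallyOpen (tr k f L M) :=
    MorphismProperty.of_isPullback (P := @UniversallyOpen) (isPullback_tr k f L M).flip inferInstance
  exact (tr k f L M).isOpenMap

lemma flat_tr : Flat (tr k f L M) :=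
  MorphismProperty.of_isPullback (P := @Flat) (isPullback_tr k f L M).flip inferInstance

/-- Preimages of connected closed sets in the base change to a separably closed field are connected. -/
theorem isConnected_preimage_tr [IsSepClosed L] {s : Set ↥(pullback f (sK k L))}
    (hs : _root_.IsConnected s) (hs' : IsClosed s) : _root_.IsConnected (tr k f L M ⁻¹' s) := by
  have := geometricallyConnected_tr k f L M
  exact Scheme.Hom.isConnected_preimage _ (isOpenMap_tr k f L M) hs hs'

/-- Preimages of irreducible sets in the base change to a separably closed field are irreducible. -/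
theorem isIrreducible_preimage_tr [IsSepClosed L] {s : Set ↥(pullback f (sK k L))}
    (hs : IsIrreducible s) : IsIrreducible (tr k f L M ⁻¹' s) := by
  have := geometricallyIrreducible_tr k f L M
  exact Scheme.Hom.isIrreducible_preimage _ (isOpenMap_tr k f L M) hs

end Tower

section Big

/-- A separable closure of `k` and a given extension embed in a common field. -/
theorem exists_common_extension (k : Type u) [Field k] (K : Type u) [Field K] [Algebra k K] :
    ∃ (Ω : Type u) (_ : Field Ω) (_ : Algebra k Ω) (_ : Algebra K Ω) (_ : IsScalarTower k K Ω)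
      (_ : Algebra (SeparableClosure k) Ω), IsScalarTower k (SeparableClosure k) Ω := by
  let i : SeparableClosure k →ₐ[k] AlgebraicClosure K := IsAlgClosed.lift
  let : Algebra (SeparableClosure k) (AlgebraicClosure K) := i.toRingHom.toAlgebra
  exact ⟨AlgebraicClosure K, inferInstance, inferInstance, inferInstance, inferInstance, this,
    .of_algebraMap_eq fun c => (i.commutes c).symm⟩

variable (k : Type u) [Field k] {X : Scheme.{u}} (f : X ⟶ Spec (CommRingCat.of k))

/-- The image of a connected component of any field base change is a connected component. -/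
theorem image_connectedComponent_fst' (K : Type u) [Field K] [Algebra k K] (y : ↥(pullback f (sK k K))) :
    pullback.fst f (sK k K) '' connectedComponent y = connectedComponent (pullback.fst f (sK k K) y) := by
  refine subset_antisymm ((pullback.fst f (sK k K)).continuous.image_connectedComponent_subset y) ?_
  obtain ⟨Ω, _, _, _, _, _, _⟩ := exists_common_extension k K
  obtain ⟨z, rfl⟩ := surjective_tr k f K Ω y
  rw [tr_fst_apply, ← tr_fst_apply k f (SeparableClosure k), ← image_connectedComponent_fst k f (L := SeparableClosure k)]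
  rintro _ ⟨s, hs, rfl⟩
  obtain ⟨w, rfl⟩ := surjective_tr k f (SeparableClosure k) Ω s
  rw [tr_fst_apply, ← tr_fst_apply k f K Ω]
  refine ⟨_, ?_, rfl⟩
  have hc := isConnected_preimage_tr k f (SeparableClosure k) Ω
    (isConnected_connectedComponent (x := tr k f (SeparableClosure k) Ω z)) isClosed_connectedComponent
  exact (tr k f K Ω).continuous.image_connectedComponent_subset z
    ⟨w, hc.isPreconnected.subset_connectedComponent mem_connectedComponent hs, rfl⟩

end Big

end Groth.Agent.VarietyLib
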