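import Mathlib
import Groth.Agent.VarietyLib.GaloisFibre
import Groth.Agent.H8Lim.GeomConnected

/-!
# Irreducible and connected components of base changes along field extensions
-/

set_option autoImplicit false
set_option backward.isDefEq.respectTransparency.types false

universe u

open CategoryTheory Limits AlgebraicGeometry Set Topology

namespace Groth.Agent.VarietyLib

section Max

variable {α β : Type*} [TopologicalSpace α] [TopologicalSpace β]

theorem eq_of_specializes_genericPoints [T0Space α] {x y : α} (hx : x ∈ genericPoints α) (h : y ⤳ x) :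
    y = x := by
  have h1 : closure {x} ⊆ closure {y} := specializes_iff_closure_subset.1 h
  have h2 : closure {y} ⊆ closure {x} := hx.2 (isGenericPoint_closure.isIrreducible) h1
  exact IsGenericPoint.eq isGenericPoint_closure (show IsGenericPoint x (closure {y}) from h1.antisymm h2)

theorem exists_genericPoints_specializes [T0Space α] [QuasiSober α] (x : α) :
    ∃ η ∈ genericPoints α, η ⤳ x := by
  let c : irreducibleComponents α := ⟨_, irreducibleComponent_mem_irreducibleComponents x⟩
  exact ⟨(genericPoints.ofComponent c).1, (genericPoints.ofComponent c).2,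
    (genericPoints.isGenericPoint_ofComponent c).specializes mem_irreducibleComponent⟩

theorem mem_genericPoints_iff [T0Space α] [QuasiSober α] {x : α} :
    x ∈ genericPoints α ↔ ∀ y, y ⤳ x → y = x := by
  refine ⟨fun h y => eq_of_specializes_genericPoints h, fun h => ?_⟩
  obtain ⟨η, hη, hηx⟩ := exists_genericPoints_specializes x
  exact h η hηx ▸ hη

theorem generalizing_genericPoints [T0Space α] [T0Space β] [QuasiSober β] {g : α → β}
    (hg : GeneralizingMap g) {x : α} (hx : x ∈ genericPoints α) : g x ∈ genericPoints β := by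
  rw [mem_genericPoints_iff]
  intro y hy
  obtain ⟨y', hy', rfl⟩ := hg hy
  rw [eq_of_specializes_genericPoints hx hy']

theorem exists_genericPoint_of_component [T0Space α] [QuasiSober α] {T : Set α}
    (hT : T ∈ irreducibleComponents α) : ∃ ζ ∈ genericPoints α, closure {ζ} = T :=
  ⟨_, (genericPoints.ofComponent ⟨T, hT⟩).2, genericPoints.isGenericPoint_ofComponent ⟨T, hT⟩⟩

theorem eq_genericPoint_of_mem_genericPoints [T0Space α] [QuasiSober α] [IrreducibleSpace α] {x : α}
    (hx : x ∈ genericPoints α) : x = genericPoint α :=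
  (eq_of_specializes_genericPoints hx (genericPoint_specializes x)).symm

end Max

variable (k : Type u) [Field k] {X : Scheme.{u}} (f : X ⟶ Spec (CommRingCat.of k))

section Field

variable (K : Type u) [Field K] [Algebra k K]

theorem generalizingMap_fst : GeneralizingMap (pullback.fst f (sK k K)) := by
  have : Flat (pullback.fst f (sK k K)) := MorphismProperty.pullback_fst (P := @Flat) _ _ inferInstance
  exact Flat.generalizingMap _

/-- The image of an irreducible component of a field base change is an irreducible component,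
with the expected generic point. -/
theorem image_closure_genericPoint {ζ : ↥(pullback f (sK k K))} (hζ : ζ ∈ genericPoints ↥(pullback f (sK k K))) :
    pullback.fst f (sK k K) '' closure {ζ} = closure {pullback.fst f (sK k K) ζ} := by
  refine subset_antisymm ((image_closure_subset_closure_image (pullback.fst f (sK k K)).continuous).trans
    (by rw [image_singleton])) fun x hx => ?_
  obtain ⟨Ω, _, _, _, _, _, _⟩ := exists_common_extension k K
  obtain ⟨z, hz⟩ := surjective_tr k f K Ω ζ
  obtain ⟨ω, hω, hωz⟩ := exists_genericPoints_specializes z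
  have hζω : tr k f K Ω ω = ζ := eq_of_specializes_genericPoints hζ (hz ▸ hωz.map (tr k f K Ω).continuous)
  let ks := SeparableClosure k
  let s := tr k f ks Ω ω
  have hξ : pullback.fst f (sK k ks) s = pullback.fst f (sK k K) ζ := by
    rw [tr_fst_apply, ← hζω, tr_fst_apply]
  have := isIntegralHom_fst k f (L := ks)
  obtain ⟨s', hs', rfl⟩ : x ∈ pullback.fst f (sK k ks) '' closure {s} := by
    have hcl := (pullback.fst f (sK k ks)).isClosedMap _ (isClosed_closure (s := {s}))
    exact closure_minimal (by simpa using ⟨s, subset_closure rfl, hξ⟩) hcl hx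
  have hirr : IsIrreducible (tr k f ks Ω ⁻¹' closure {s}) :=
    isIrreducible_preimage_tr k f ks Ω isGenericPoint_closure.isIrreducible
  have hle : closure {ω} ⊆ tr k f ks Ω ⁻¹' closure {s} :=
    closure_minimal (singleton_subset_iff.2 (subset_closure rfl)) (isClosed_closure.preimage (tr k f ks Ω).continuous)
  obtain ⟨w, rfl⟩ := surjective_tr k f ks Ω s'
  have hw : w ∈ closure {ω} := hω.2 hirr hle hs'
  refine ⟨tr k f K Ω w, ?_, by rw [tr_fst_apply, tr_fst_apply]⟩
  rw [← hζω]
  exact (specializes_iff_mem_closure.1 ((specializes_iff_mem_closure.2 hw).map (tr k f K Ω).continuous))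

theorem image_irreducibleComponent {T : Set ↥(pullback f (sK k K))}
    (hT : T ∈ irreducibleComponents ↥(pullback f (sK k K))) :
    pullback.fst f (sK k K) '' T ∈ irreducibleComponents X := by
  obtain ⟨ζ, hζ, rfl⟩ := exists_genericPoint_of_component hT
  rw [image_closure_genericPoint k f K hζ]
  exact generalizing_genericPoints (generalizingMap_fst k f K) hζ

theorem exists_irreducibleComponent_image_eq {Z : Set X} (hZ : Z ∈ irreducibleComponents X) :
    ∃ T ∈ irreducibleComponents ↥(pullback f (sK k K)), pullback.fst f (sK k K) '' T = Z := by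
  obtain ⟨ξ, hξ, rfl⟩ := exists_genericPoint_of_component hZ
  obtain ⟨z, rfl⟩ := surjective_fst k f (L := K) ξ
  obtain ⟨η, hη, hηz⟩ := exists_genericPoints_specializes z
  refine ⟨closure {η}, hη, ?_⟩
  rw [image_closure_genericPoint k f K hη,
    eq_of_specializes_genericPoints hξ (hηz.map (pullback.fst f (sK k K)).continuous)]

end Field

section Normal

variable {L : Type u} [Field L] [Algebra k L] [Normal k L]

omit [Normal k L] in
theorem image_gal_component (σ : L ≃ₐ[k] L) {T : Set ↥(pullback f (sK k L))}
    (hT : T ∈ irreducibleComponents ↥(pullback f (sK k L))) :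
    gal k f σ '' T ∈ irreducibleComponents ↥(pullback f (sK k L)) := by
  have hT' := hT
  obtain ⟨ζ, -, rfl⟩ := exists_genericPoint_of_component hT
  have e : gal k f σ '' closure {ζ} = galHomeo k f σ '' closure {ζ} := rfl
  rw [e]
  refine ⟨hT'.1.image _ (galHomeo k f σ).continuous.continuousOn, fun S hS hle => ?_⟩
  have h1 : IsIrreducible ((galHomeo k f σ).symm '' S) := hS.image _ (galHomeo k f σ).symm.continuous.continuousOn
  have h2 := hT'.2 h1 fun z hz => ⟨galHomeo k f σ z, hle ⟨z, hz, rfl⟩, (galHomeo k f σ).symm_apply_apply z⟩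
  intro z hz
  exact ⟨(galHomeo k f σ).symm z, h2 ⟨z, hz, rfl⟩, (galHomeo k f σ).apply_symm_apply z⟩

/-- Two components with the same image are conjugate. -/
theorem exists_gal_image_eq {T₁ T₂ : Set ↥(pullback f (sK k L))}
    (h₁ : T₁ ∈ irreducibleComponents ↥(pullback f (sK k L))) (h₂ : T₂ ∈ irreducibleComponents ↥(pullback f (sK k L)))
    (h : pullback.fst f (sK k L) '' T₁ = pullback.fst f (sK k L) '' T₂) :
    ∃ σ : L ≃ₐ[k] L, gal k f σ '' T₁ = T₂ := by
  obtain ⟨ζ₁, hζ₁, rfl⟩ := exists_genericPoint_of_component h₁
  obtain ⟨ζ₂, hζ₂, rfl⟩ := exists_genericPoint_of_component h₂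
  rw [image_closure_genericPoint k f L hζ₁, image_closure_genericPoint k f L hζ₂] at h
  have h' := IsGenericPoint.eq (show IsGenericPoint (pullback.fst f (sK k L) ζ₁) _ from h) isGenericPoint_closure
  obtain ⟨σ, hσ⟩ := exists_gal_apply_eq k f (p := ζ₂) (q := ζ₁) h'.symm
  refine ⟨σ, ?_⟩
  change galHomeo k f σ '' closure {ζ₁} = closure {ζ₂}
  rw [(galHomeo k f σ).image_closure, image_singleton, galHomeo_apply, hσ]

/-- The preimage of a component is the union of the components over it. -/
theorem preimage_component_eq {T : Set X} (hT : T ∈ irreducibleComponents X) :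
    pullback.fst f (sK k L) ⁻¹' T = ⋃₀ {T' | T' ∈ irreducibleComponents ↥(pullback f (sK k L)) ∧
      pullback.fst f (sK k L) '' T' ⊆ T} := by
  refine subset_antisymm (fun y hy => ?_) ?_
  · obtain ⟨C, hC, hCT⟩ := exists_irreducibleComponent_image_eq k f L hT
    obtain ⟨y₀, hy₀, he⟩ := hCT.symm ▸ (show pullback.fst f (sK k L) y ∈ T from hy)
    obtain ⟨σ, rfl⟩ := exists_gal_apply_eq k f he.symm
    refine ⟨gal k f σ '' C, ⟨image_gal_component k f σ hC, ?_⟩, y₀, hy₀, rfl⟩
    rintro _ ⟨_, ⟨z, hz, rfl⟩, rfl⟩
    rw [gal_fst_apply]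
    exact hCT ▸ ⟨z, hz, rfl⟩
  · rintro y ⟨T', ⟨-, hT'⟩, hy⟩
    exact hT' ⟨y, hy, rfl⟩

end Normal

theorem image_eq_of_image_subset (K : Type u) [Field K] [Algebra k K] {T : Set X} (hT : T ∈ irreducibleComponents X)
    {T' : Set ↥(pullback f (sK k K))} (hT' : T' ∈ irreducibleComponents ↥(pullback f (sK k K)))
    (h : pullback.fst f (sK k K) '' T' ⊆ T) : pullback.fst f (sK k K) '' T' = T :=
  h.antisymm ((image_irreducibleComponent k f K hT').2 hT.1 h)

/-- Finiteness of the components over a component, for `X` locally of finite type. -/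
theorem finite_components_over [LocallyOfFiniteType f] {T : Set X} (hT : T ∈ irreducibleComponents X)
    (L : Type u) [Field L] [Algebra k L] [Algebra.IsAlgebraic k L] :
    {T' | T' ∈ irreducibleComponents ↥(pullback f (sK k L)) ∧ pullback.fst f (sK k L) '' T' ⊆ T}.Finite := by
  obtain ⟨ξ, hξ, rfl⟩ := exists_genericPoint_of_component hT
  obtain ⟨_, ⟨U, hU, rfl⟩, hξU, -⟩ := X.isBasis_affineOpens.exists_subset_of_mem_open (mem_univ ξ) isOpen_univ
  have := isIntegralHom_fst k f (L := L)
  have : IsLocallyNoetherian (pullback f (sK k L)) :=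
    LocallyOfFiniteType.isLocallyNoetherian (pullback.snd f (sK k L))
  let V := pullback.fst f (sK k L) ⁻¹ᵁ U
  have hV : IsAffineOpen V := hU.preimage _
  have : IsNoetherianRing Γ(pullback f (sK k L), V) := IsLocallyNoetherian.component_noetherian ⟨V, hV⟩
  have : TopologicalSpace.NoetherianSpace ↥V := noetherianSpace_of_isAffineOpen V hV
  have : QuasiSober ↥V := V.2.isOpenEmbedding_subtypeVal.quasiSober
  have hfin := genericPoints.finite (α := ↥V) TopologicalSpace.NoetherianSpace.finite_irreducibleComponents
  refine (hfin.image (fun v : ↥V => closure ({(v : ↥(pullback f (sK k L)))} : Set _))).subset ?_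
  rintro T' ⟨hT', hle⟩
  obtain ⟨ζ, hζ, rfl⟩ := exists_genericPoint_of_component hT'
  have hζξ : pullback.fst f (sK k L) ζ = ξ :=
    (eq_of_specializes_genericPoints (generalizing_genericPoints (generalizingMap_fst k f L) hζ)
      (specializes_iff_mem_closure.2 (hle ⟨ζ, subset_closure rfl, rfl⟩))).symm
  refine ⟨⟨ζ, show pullback.fst f (sK k L) ζ ∈ U from hζξ ▸ hξU⟩, mem_genericPoints_iff.2 fun y hy => ?_, rfl⟩
  exact Subtype.ext (eq_of_specializes_genericPoints hζ (hy.map continuous_subtype_val))

section Criteria

/-- Geometric irreducibility is tested on the separable closure. -/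
theorem geometricallyIrreducible_of_irreducibleSpace
    [IrreducibleSpace ↥(pullback f (sK k (SeparableClosure k)))] : GeometricallyIrreducible f := by
  refine ⟨geometrically_iff_of_commRing_of_isClosedUnderIsomorphisms.2 fun K _ _ => ?_⟩
  obtain ⟨Ω, _, _, _, _, _, _⟩ := exists_common_extension k K
  have h := isIrreducible_preimage_tr k f (SeparableClosure k) Ω (IrreducibleSpace.isIrreducible_univ _)
  rw [preimage_univ] at h
  have : IrreducibleSpace ↥(pullback f (sK k Ω)) := (irreducibleSpace_def _).2 h
  exact (surjective_tr k f K Ω).irreducibleSpace (tr k f K Ω).continuous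

/-- Geometric connectedness is tested on the separable closure. -/
theorem geometricallyConnected_of_connectedSpace
    [ConnectedSpace ↥(pullback f (sK k (SeparableClosure k)))] : GeometricallyConnected f := by
  refine ⟨geometrically_iff_of_commRing_of_isClosedUnderIsomorphisms.2 fun K _ _ => ?_⟩
  obtain ⟨Ω, _, _, _, _, _, _⟩ := exists_common_extension k K
  have h := isConnected_preimage_tr k f (SeparableClosure k) Ω isConnected_univ isClosed_univ
  rw [preimage_univ] at h
  have : ConnectedSpace ↥(pullback f (sK k Ω)) := connectedSpace_iff_univ.2 h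
  exact (surjective_tr k f K Ω).connectedSpace (tr k f K Ω).continuous

/-- Image of components along a normal algebraic tower. -/
theorem image_connectedComponent_tr (L M : Type u) [Field L] [Field M] [Algebra k L] [Algebra k M]
    [Algebra L M] [IsScalarTower k L M] [Normal L M] (z : ↥(pullback f (sK k M))) :
    tr k f L M '' connectedComponent z = connectedComponent (tr k f L M z) := by
  let e := (isPullback_tr k f L M).flip.flip.isoPullback
  have he : e.hom ≫ pullback.fst _ _ = tr k f L M := IsPullback.isoPullback_hom_fst _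
  have h := image_connectedComponent_fst L (pullback.snd f (sK k L)) (L := M) (e.hom z)
  rw [← Scheme.Hom.comp_apply, he] at h
  refine subset_antisymm ((tr k f L M).continuous.image_connectedComponent_subset z) ?_
  rw [← h]
  rintro _ ⟨w, hw, rfl⟩
  obtain ⟨w', rfl⟩ := e.hom.homeomorph.surjective w
  refine ⟨w', ?_, by rw [← he, Scheme.Hom.comp_apply]; rfl⟩
  have := e.inv.continuous.image_connectedComponent_subset (e.hom z) ⟨_, hw, rfl⟩
  rwa [← Scheme.Hom.comp_apply, e.hom_inv_id, show e.inv (e.hom.homeomorph w') = w' from by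
    change e.inv (e.hom w') = w'
    rw [← Scheme.Hom.comp_apply, e.hom_inv_id]; rfl] at this

/-- Geometric connectedness is tested on finite separable extensions. -/
theorem geometricallyConnected_of_finite_separable
    (h : ∀ (L : Type u) [Field L] [Algebra k L] [FiniteDimensional k L] [Algebra.IsSeparable k L],
      ConnectedSpace ↥(pullback f (sK k L))) : GeometricallyConnected f := by
  have hk := h k
  obtain ⟨z⟩ := hk.toNonempty
  obtain ⟨y, -⟩ := surjective_fst k f (L := SeparableClosure k) (pullback.fst f (sK k k) z)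
  suffices ConnectedSpace ↥(pullback f (sK k (SeparableClosure k))) from geometricallyConnected_of_connectedSpace k f
  refine connectedSpace_iff_connectedComponent.2 ⟨y, eq_univ_of_forall fun y' => ?_⟩
  by_contra hy'
  obtain ⟨σ, hσ⟩ := H8Lim.exists_finset_nhd f (SeparableClosure k)
    (isClosed_connectedComponent (x := y)).isOpen_compl (p := y') hy'
  let L : IntermediateField k (SeparableClosure k) := IntermediateField.adjoin k (σ : Set (SeparableClosure k))
  have : FiniteDimensional k L := IntermediateField.finiteDimensional_adjoin fun x _ => Algebra.IsIntegral.isIntegral x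
  have : Algebra.IsSeparable k L := Algebra.isSeparable_tower_bot_of_isSeparable k L (SeparableClosure k)
  have : Normal L (SeparableClosure k) := Normal.tower_top_of_normal k L (SeparableClosure k)
  have hL := h L
  obtain ⟨O', hO'⟩ := hσ L.toSubalgebra (IntermediateField.subset_adjoin k _)
  obtain ⟨hmem, hsub⟩ := hO' (tr k f L (SeparableClosure k)) (tr_fst k f L _) (pullback.lift_snd _ _ _)
  have hcc := image_connectedComponent_tr k f L (SeparableClosure k) y
  rw [PreconnectedSpace.connectedComponent_eq_univ (tr k f L (SeparableClosure k) y)] at hcc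
  obtain ⟨w, hw, hwy⟩ := hcc.ge (mem_univ (tr k f L (SeparableClosure k) y'))
  exact hsub (show tr k f L (SeparableClosure k) w ∈ O' by rw [hwy]; exact hmem) hw

/-- The map of base changes induced by a morphism over `k`. -/
noncomputable def bcMap {P : Scheme.{u}} {g : P ⟶ Spec (CommRingCat.of k)} (p : P ⟶ X) (h : p ≫ f = g)
    (L : Type u) [Field L] [Algebra k L] : pullback g (sK k L) ⟶ pullback f (sK k L) :=
  pullback.lift (pullback.fst g (sK k L) ≫ p) (pullback.snd g (sK k L))
    (by rw [Category.assoc, h, pullback.condition])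

variable {P : Scheme.{u}} {g : P ⟶ Spec (CommRingCat.of k)} (p : P ⟶ X) (h : p ≫ f = g)
  (L : Type u) [Field L] [Algebra k L]

lemma bcMap_fst : bcMap k f p h L ≫ pullback.fst _ _ = pullback.fst _ _ ≫ p := pullback.lift_fst _ _ _

lemma bcMap_snd : bcMap k f p h L ≫ pullback.snd _ _ = pullback.snd _ _ := pullback.lift_snd _ _ _

lemma bcMap_gal (σ : L ≃ₐ[k] L) : gal k g σ ≫ bcMap k f p h L = bcMap k f p h L ≫ gal k f σ := by
  apply pullback.hom_ext
  · rw [Category.assoc, Category.assoc, bcMap_fst, gal_fst, bcMap_fst, ← Category.assoc, gal_fst]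
  · rw [Category.assoc, Category.assoc, bcMap_snd, gal_snd, gal_snd, ← Category.assoc, bcMap_snd]

variable {k f}

/-- If the square is irreducible, so is the separable base change. -/
theorem irreducibleSpace_of_square [IrreducibleSpace ↥(pullback f f)] :
    IrreducibleSpace ↥(pullback f (sK k (SeparableClosure k))) := by
  let ks := SeparableClosure k
  let g : pullback f f ⟶ Spec (CommRingCat.of k) := pullback.fst f f ≫ f
  let q₁ : pullback g (sK k ks) ⟶ pullback f (sK k ks) := bcMap k f (pullback.fst f f) rfl ks
  let q₂ : pullback g (sK k ks) ⟶ pullback f (sK k ks) := bcMap k f (pullback.snd f f) pullback.condition.symm ks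
  have hq₁ : ∀ σ : ks ≃ₐ[k] ks, gal k g σ ≫ q₁ = q₁ ≫ gal k f σ := bcMap_gal k f _ _ ks
  have hq₂ : ∀ σ : ks ≃ₐ[k] ks, gal k g σ ≫ q₂ = q₂ ≫ gal k f σ := bcMap_gal k f _ _ ks
  let Q := pullback (pullback.snd f (sK k ks)) (pullback.snd f (sK k ks))
  let Q₁ : Q ⟶ pullback f (sK k ks) := pullback.fst _ _
  let Q₂ : Q ⟶ pullback f (sK k ks) := pullback.snd _ _
  have hQ : (Q₁ ≫ pullback.fst f (sK k ks)) ≫ f = (Q₂ ≫ pullback.fst f (sK k ks)) ≫ f := by
    rw [Category.assoc, Category.assoc, pullback.condition, ← Category.assoc, ← Category.assoc]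
    exact congrArg (· ≫ sK k ks) pullback.condition
  let m : Q ⟶ pullback g (sK k ks) :=
    pullback.lift (pullback.lift (Q₁ ≫ pullback.fst _ _) (Q₂ ≫ pullback.fst _ _) hQ)
      (Q₁ ≫ pullback.snd _ _) (by
        show pullback.lift _ _ hQ ≫ pullback.fst f f ≫ f = _
        rw [← Category.assoc, pullback.lift_fst, Category.assoc, Category.assoc, pullback.condition])
  have hm₁ : m ≫ q₁ = pullback.fst _ _ := by
    apply pullback.hom_ext
    · rw [Category.assoc, bcMap_fst, ← Category.assoc, pullback.lift_fst, pullback.lift_fst]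
    · rw [Category.assoc, bcMap_snd, pullback.lift_snd]
  have hm₂ : m ≫ q₂ = pullback.snd _ _ := by
    apply pullback.hom_ext
    · rw [Category.assoc, bcMap_fst, ← Category.assoc, pullback.lift_fst, pullback.lift_snd]
    · rw [Category.assoc, bcMap_snd, pullback.lift_snd]
      exact pullback.condition
  obtain ⟨z⟩ := (inferInstance : Nonempty ↥(pullback f f))
  obtain ⟨y, -⟩ := surjective_fst k f (L := ks) (pullback.fst f f z)
  obtain ⟨ζ, hζ, -⟩ := exists_genericPoints_specializes y
  have key : ∀ ζ' ∈ genericPoints ↥(pullback f (sK k ks)), ∃ w ∈ genericPoints ↥(pullback g (sK k ks)),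
      q₁ w = ζ ∧ q₂ w = ζ' := by
    intro ζ' hζ'
    obtain ⟨b, hb₁, hb₂⟩ := Scheme.Pullback.exists_preimage_pullback
      (f := pullback.snd f (sK k ks)) (g := pullback.snd f (sK k ks)) ζ ζ' (Subsingleton.elim _ _)
    obtain ⟨w, hw, hwb⟩ := exists_genericPoints_specializes (m b)
    refine ⟨w, hw, eq_of_specializes_genericPoints hζ ?_, eq_of_specializes_genericPoints hζ' ?_⟩
    · exact hb₁ ▸ hm₁ ▸ (by rw [Scheme.Hom.comp_apply]; exact hwb.map q₁.continuous)
    · exact hb₂ ▸ hm₂ ▸ (by rw [Scheme.Hom.comp_apply]; exact hwb.map q₂.continuous)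
  have hall : ∀ ζ' ∈ genericPoints ↥(pullback f (sK k ks)), ζ' = ζ := by
    intro ζ' hζ'
    obtain ⟨w, hw, h1, h2⟩ := key ζ' hζ'
    obtain ⟨w', hw', h1', h2'⟩ := key ζ hζ
    obtain ⟨σ, rfl⟩ := exists_gal_apply_eq k g (p := w') (q := w) (by
      rw [eq_genericPoint_of_mem_genericPoints (generalizing_genericPoints (generalizingMap_fst k g ks) hw),
        eq_genericPoint_of_mem_genericPoints (generalizing_genericPoints (generalizingMap_fst k g ks) hw')])
    rw [← Scheme.Hom.comp_apply, hq₁, Scheme.Hom.comp_apply, h1] at h1'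
    rw [← Scheme.Hom.comp_apply, hq₂, Scheme.Hom.comp_apply, h2] at h2'
    exact (galHomeo k f σ).injective (h2'.trans h1'.symm)
  refine (irreducibleSpace_def _).2 ?_
  change IsIrreducible (univ : Set ↥(pullback f (sK k ks)))
  have : (univ : Set ↥(pullback f (sK k ks))) = closure {ζ} := by
    refine (eq_univ_of_forall fun x => ?_).symm
    obtain ⟨η, hη, hηx⟩ := exists_genericPoints_specializes x
    exact specializes_iff_mem_closure.1 (hall η hη ▸ hηx)
  rw [this]
  exact isGenericPoint_closure.isIrreducible

end Criteria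

end Groth.Agent.VarietyLib
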