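import Groth.Agent.AmpleLib.Power
import Groth.Agent.AmpleLib.Twist
import Groth.Prelude.Def_RefHull
import Groth.Prelude.Def_ClSub2

/-!
# Inverses of invertible modules
-/

set_option autoImplicit false
set_option backward.isDefEq.respectTransparency.types false

universe u

open CategoryTheory CategoryTheory.Limits AlgebraicGeometry Opposite TopologicalSpace
open Groth.Agent.Coherent Groth.Agent.PicLib Groth.Agent.AmpleLib

namespace Groth.Agent.VarietyLib

variable {X : Scheme.{u}} {L : X.Modules} {U V : X.Opens}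

theorem sec_ext_germ (M : X.Modules) {a b : Γ(M, U)}
    (h : ∀ x (hx : x ∈ U), M.presheaf.germ U x hx a = M.presheaf.germ U x hx b) : a = b :=
  TopCat.Presheaf.section_ext (⟨M.presheaf, M.isSheaf⟩ : TopCat.Sheaf Ab X) U a b h

theorem germ_resM (M : X.Modules) (h : V ≤ U) {x : X} (hx : x ∈ V) (a : Γ(M, U)) :
    M.presheaf.germ V x hx (resM M h a) = M.presheaf.germ U x (h hx) a :=
  TopCat.Presheaf.germ_res_apply M.presheaf (homOfLE h) x hx a

theorem germ_coef_smul {e : Γ(L, U)} (he : IsGen L U e) (h : V ≤ U) (m : Γ(L, V)) {x : X} (hx : x ∈ V) :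
    L.presheaf.germ V x hx m =
      X.presheaf.germ V x hx (he.coef h m) • L.presheaf.germ U x (h hx) e := by
  conv_lhs => rw [← he.coef_spec h m]
  rw [← germ_resM L h hx e]
  exact PresheafOfModules.germ_smul L.val x V hx _ _

theorem gen_germ_bijective {e : Γ(L, U)} (he : IsGen L U e) {p : X} (hp : p ∈ U) :
    Function.Bijective (fun r : X.presheaf.stalk p => r • L.presheaf.germ U p hp e) := by
  constructor
  · intro r r' h
    obtain ⟨W, hW, a, rfl⟩ := X.presheaf.exists_germ_eq r
    obtain ⟨W', hW', a', rfl⟩ := X.presheaf.exists_germ_eq r'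
    let V := W ⊓ W' ⊓ U
    have hV : p ∈ V := ⟨⟨hW, hW'⟩, hp⟩
    have key : ∀ {W₀ : X.Opens} (hW₀ : p ∈ W₀) (hle : V ≤ W₀) (b : Γ(X, W₀)),
        X.presheaf.germ W₀ p hW₀ b • L.presheaf.germ U p hp e =
          L.presheaf.germ V p hV (PicLib.res hle b • resM L (inf_le_right : V ≤ U) e) := by
      intro W₀ hW₀ hle b
      refine Eq.trans ?_ (PresheafOfModules.germ_smul L.val p V hV _ _).symm
      exact congrArg₂ (· • ·) (TopCat.Presheaf.germ_res_apply X.presheaf (homOfLE hle) p hV b).symm
        (germ_resM L (inf_le_right : V ≤ U) hV e).symm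
    simp only [key hW (inf_le_left.trans inf_le_left) a, key hW' (inf_le_left.trans inf_le_right) a'] at h
    obtain ⟨V', hpV', i₁, i₂, h'⟩ := L.presheaf.germ_eq p hV hV _ _ h
    have h'' : resM L i₁.le _ = resM L i₁.le _ := h'
    rw [resM_smul, resM_smul, resM_resM] at h''
    have h3 := (he V' (i₁.le.trans inf_le_right)).1 h''
    rw [← TopCat.Presheaf.germ_res_apply X.presheaf
      (homOfLE (i₁.le.trans (inf_le_left.trans inf_le_left))) p hpV' a,
      ← TopCat.Presheaf.germ_res_apply X.presheaf
      (homOfLE (i₁.le.trans (inf_le_left.trans inf_le_right))) p hpV' a']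
    congr 1
    simp only [PicLib.res_res] at h3
    exact h3
  · intro l
    obtain ⟨W, hW, m, rfl⟩ := TopCat.Presheaf.exists_germ_eq L.presheaf l
    refine ⟨X.presheaf.germ (W ⊓ U) p ⟨hW, hp⟩ (he.coef inf_le_right (resM L inf_le_left m)), ?_⟩
    exact (germ_coef_smul he inf_le_right (resM L inf_le_left m) (x := p) ⟨hW, hp⟩).symm.trans
      (germ_resM L inf_le_left _ m)

/-- The linear form on the stalk sending the germ of a generator to one. -/
noncomputable def coordStalk {e : Γ(L, U)} (he : IsGen L U e) {p : X} (hp : p ∈ U) :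
    RefHull.StalkHom L (Coh.structureModule X) p :=
  (LinearMap.toSpanSingleton (X.presheaf.stalk p) _
      ((Coh.structureModule X).presheaf.germ U p hp (oneSec U))).comp
    (LinearEquiv.ofBijective (LinearMap.toSpanSingleton (X.presheaf.stalk p) _ (L.presheaf.germ U p hp e))
      (gen_germ_bijective he hp)).symm.toLinearMap

theorem coordStalk_apply {e : Γ(L, U)} (he : IsGen L U e) {p : X} (hp : p ∈ U) (r : X.presheaf.stalk p) :
    coordStalk he hp (r • L.presheaf.germ U p hp e) =
      r • (Coh.structureModule X).presheaf.germ U p hp (oneSec U) :=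
  congrArg (fun s : X.presheaf.stalk p => s • (Coh.structureModule X).presheaf.germ U p hp (oneSec U))
    ((LinearEquiv.symm_apply_eq _).2 rfl)

/-- The coordinate of a generator, as a section of the dual. -/
noncomputable def coordSec {e : Γ(L, U)} (he : IsGen L U e) : Γ(RefHull.dual L, U) :=
  ⟨fun x => coordStalk he x.2, fun V i m x => ⟨V, x.2, 𝟙 V,
    (show Γ(Coh.structureModule X, V) from he.coef i.le m), fun y => by
      rw [germ_coef_smul he i.le m y.2, coordStalk_apply]
      refine Eq.trans ?_ (germ_coef_smul (isGen_oneSec U) i.le _ y.2).symm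
      rw [(isGen_oneSec U).coef_eq (r := he.coef i.le m) i.le (by rw [resM_oneSec]; exact mul_one (he.coef i.le m))]⟩⟩

theorem isGen_coordSec {e : Γ(L, U)} (he : IsGen L U e) : IsGen (RefHull.dual L) U (coordSec he) := by
  intro V h
  have hval : ∀ (r : Γ(X, V)) (x : X) (hx : x ∈ V),
      (r • resM (RefHull.dual L) h (coordSec he)).1 ⟨x, hx⟩ (L.presheaf.germ U x (h hx) e) =
        (Coh.structureModule X).presheaf.germ V x hx (r • oneSec V) := by
    intro r x hx
    show X.presheaf.germ V x hx r • coordStalk he (h hx) (L.presheaf.germ U x (h hx) e) = _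
    have h1 := coordStalk_apply he (h hx) 1
    rw [one_smul, one_smul] at h1
    rw [h1, ← germ_resM (Coh.structureModule X) h hx (oneSec U), resM_oneSec]
    exact (PresheafOfModules.germ_smul (Coh.structureModule X).val x V hx r _).symm
  refine ⟨fun r r' hr => (isGen_oneSec U V h).1 ?_, fun g => ?_⟩
  · show r • resM _ h (oneSec U) = r' • resM _ h (oneSec U)
    rw [resM_oneSec]
    refine sec_ext_germ _ fun x hx => ?_
    rw [← hval r x hx, ← hval r' x hx]
    exact congrArg (fun g : Γ(RefHull.dual L, V) => g.1 ⟨x, hx⟩ _) hr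
  choose W hW j n hn using fun x : V =>
    RefHull.isLocSect_of_mem g V (𝟙 V) (resM L h e) x
  have hcov : V ≤ iSup W := fun y hy => Opens.mem_iSup.2 ⟨⟨y, hy⟩, hW ⟨y, hy⟩⟩
  obtain ⟨r, hr, -⟩ := TopCat.Sheaf.existsUnique_gluing' (⟨(Coh.structureModule X).presheaf,
    (Coh.structureModule X).isSheaf⟩ : TopCat.Sheaf Ab X) W V j hcov n (fun a b => by
      refine sec_ext_germ (Coh.structureModule X) fun y hy => ?_
      refine (germ_resM _ inf_le_left hy (n a)).trans (((hn a ⟨y, hy.1⟩).symm.trans
        (hn b ⟨y, hy.2⟩)).trans (germ_resM _ inf_le_right hy (n b)).symm))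
  refine ⟨(show Γ(X, V) from r), Subtype.ext (funext fun x => LinearMap.ext fun v => ?_)⟩
  obtain ⟨s, rfl⟩ := (gen_germ_bijective he (h x.2)).2 v
  refine (map_smul _ s _).trans ((congrArg (s • ·) ?_).trans (map_smul _ s _).symm)
  rw [hval]
  refine Eq.trans ?_ (hn x ⟨x.1, hW x⟩).symm |>.trans (congrArg _ (germ_resM L h _ e))
  rw [show (show Γ(X, V) from r) • oneSec V = r from mul_one (show Γ(X, V) from r),
    ← germ_resM (Coh.structureModule X) (j x).le (hW x) r]
  exact congrArg _ (hr x)

theorem coordSec_mul_eq {e f : Γ(L, U)} (he : IsGen L U e) (hf : IsGen L U f) (a : Γ(X, U))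
    (ha : f = a • e) : coordSec he = a • coordSec hf := by
  refine Subtype.ext (funext fun x => LinearMap.ext fun v => ?_)
  obtain ⟨s, rfl⟩ := (gen_germ_bijective hf x.2).2 v
  show coordStalk he x.2 _ = X.presheaf.germ U x.1 x.2 a • coordStalk hf x.2 _
  rw [coordStalk_apply hf]
  beta_reduce
  conv_lhs => rw [ha, show L.presheaf.germ U x.1 x.2 (a • e) =
    X.presheaf.germ U x.1 x.2 a • L.presheaf.germ U x.1 x.2 e from PresheafOfModules.germ_smul L.val x.1 U x.2 a e,
    smul_smul, coordStalk_apply he]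
  rw [smul_smul, mul_comm]

theorem resM_coordSec {e : Γ(L, U)} (he : IsGen L U e) (h : V ≤ U) :
    resM (RefHull.dual L) h (coordSec he) = coordSec (he.restrict h) := by
  refine Subtype.ext (funext fun x => LinearMap.ext fun v => ?_)
  obtain ⟨s, rfl⟩ := (gen_germ_bijective he (h x.2)).2 v
  show coordStalk he (h x.2) _ = coordStalk (he.restrict h) x.2 _
  rw [coordStalk_apply]
  conv_rhs => rw [← germ_resM L h x.2 e, coordStalk_apply]
  rw [← germ_resM (Coh.structureModule X) h x.2 (oneSec U), resM_oneSec]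

/-- The dual of an invertible module is an inverse. -/
theorem isInverseOf_dual (hL : PicF.IsInvertible L) : ClSub.IsInverseOf L (RefHull.dual L) := by
  obtain ⟨W, g, hmem, hg⟩ := exists_cover hL
  have hW : iSup W = ⊤ := top_le_iff.1 fun y _ => Opens.mem_iSup.2 ⟨y, hmem y⟩
  obtain ⟨e, -⟩ := exists_iso_of_gens W hW (fun i => tmul (g i) (coordSec (hg i)))
    (fun i => isGen_tmul (hg i) (isGen_coordSec (hg i))) (fun i => oneSec (W i)) (fun i => isGen_oneSec _) (by
      intro i j V hi hj c hc
      obtain ⟨d, hd⟩ : ∃ d : Γ(X, V), d • resM L hj (g j) = resM L hi (g i) := (hg j V hj).2 _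
      have h2 := coordSec_mul_eq ((hg j).restrict hj) ((hg i).restrict hi) d hd.symm
      have hj' := isGen_tmul ((hg j).restrict hj) (isGen_coordSec ((hg j).restrict hj))
      rw [resM_tmul, resM_tmul, resM_coordSec, resM_coordSec] at hc
      have h3 : tmul (resM L hi (g i)) (coordSec ((hg i).restrict hi)) =
          tmul (resM L hj (g j)) (coordSec ((hg j).restrict hj)) := by
        rw [h2, tmul_smul_right, ← tmul_smul_left, hd]
      rw [h3] at hc
      have hc1 : c = 1 := ((hj' V le_rfl).1 (a₁ := c) (a₂ := 1)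
        (by simpa only [resM_self, one_smul] using hc.symm))
      rw [hc1, one_smul, resM_oneSec, resM_oneSec])
  exact ⟨e⟩

/-- Invertible modules have inverses. -/
theorem exists_isInverseOf (hL : PicF.IsInvertible L) : ∃ M : X.Modules, ClSub.IsInverseOf L M :=
  ⟨_, isInverseOf_dual hL⟩

end Groth.Agent.VarietyLib
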