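import Groth.Agent.AlgSpLib.SmoothField
import Mathlib.AlgebraicGeometry.Morphisms.Smooth
import Mathlib.RingTheory.Localization.LocalizationLocalization

/-! Smooth algebras over a field are regular; smooth schemes over a field have regular stalks. -/

set_option autoImplicit false
universe u
open CategoryTheory AlgebraicGeometry TensorProduct IsLocalRing

noncomputable section

namespace Groth.Agent.VarietyLib

attribute [local instance] Algebra.TensorProduct.rightAlgebra in
theorem isRegularLocalRing_of_smooth (k A : Type u) [Field k] [CommRing A] [Algebra k A]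
    [Algebra.Smooth k A] (p : Ideal A) [p.IsPrime] : IsRegularLocalRing (Localization.AtPrime p) := by
  let K := AlgebraicClosure k
  let B := K ⊗[k] A
  have : IsNoetherianRing A := Algebra.FiniteType.isNoetherianRing k A
  have : Algebra.Smooth K B := inferInstance
  have : Module.FaithfullyFlat A B :=
    Module.FaithfullyFlat.of_linearEquiv A (A ⊗[k] K)
      (LinearEquiv.symm { (Algebra.TensorProduct.comm k A K).toLinearEquiv with
        map_smul' := fun a x => by
          change Algebra.TensorProduct.comm k A K (a • x) = a • Algebra.TensorProduct.comm k A K x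
          rw [Algebra.smul_def, map_mul, Algebra.smul_def]
          simp [RingHom.algebraMap_toAlgebra] })
  obtain ⟨⟨q, hq⟩, hqp⟩ := PrimeSpectrum.comap_surjective_of_faithfullyFlat (A := A) (B := B) ⟨p, ‹_›⟩
  have hqp : p = q.comap (algebraMap A B) := (congrArg PrimeSpectrum.asIdeal hqp).symm
  obtain ⟨m, hm, hqm⟩ := q.exists_le_maximal hq.ne_top
  have : Algebra.IsSmoothAt K m := by
    have : Algebra.FormallyEtale B (Localization.AtPrime m) := .of_isLocalization m.primeCompl
    exact Algebra.FormallySmooth.comp K B (Localization.AtPrime m)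
  have hreg : IsRegularLocalRing (Localization.AtPrime m) :=
    (AlgSpLib.SmoothField.isSmoothAt_iff_regular K B m).1 this
  have : IsRegularLocalRing (Localization.AtPrime q) := by
    let q' := q.map (algebraMap B (Localization.AtPrime m))
    have hd : Disjoint (m.primeCompl : Set B) q :=
      Set.disjoint_left.2 fun x hx hx' => hx (hqm hx')
    have : q'.IsPrime := IsLocalization.isPrime_of_isPrime_disjoint m.primeCompl _ q hq hd
    have hq' : q'.comap (algebraMap B (Localization.AtPrime m)) = q :=
      IsLocalization.comap_map_of_isPrime_disjoint m.primeCompl _ hq hd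
    have := CAlgH3.isRegularLocalRing_localization q'
    have hl := IsLocalization.isLocalization_isLocalization_atPrime_isLocalization
      (M := m.primeCompl) (S := Localization.AtPrime m) (Localization.AtPrime q') q'
    simp only [hq'] at hl
    exact IsRegularLocalRing.of_ringEquiv (R := Localization.AtPrime q')
      (IsLocalization.algEquiv q.primeCompl (Localization.AtPrime q') (Localization.AtPrime q)).toRingEquiv
  subst hqp
  let f := Localization.localRingHom (q.comap (algebraMap A B)) q (algebraMap A B) rfl
  letI := f.toAlgebra
  have : IsLocalHom (algebraMap (Localization.AtPrime (q.comap (algebraMap A B))) (Localization.AtPrime q)) :=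
    Localization.isLocalHom_localRingHom _ _ _ _
  have : Module.Flat (Localization.AtPrime (q.comap (algebraMap A B))) (Localization.AtPrime q) :=
    RingHom.Flat.localRingHom (f := algebraMap A B) (RingHom.flat_algebraMap_iff.2 inferInstance) q _ rfl
  exact CAlgH3.isRegularLocalRing_of_flat (Localization.AtPrime q)

theorem isRegularLocalRing_stalk_of_smooth (k : Type u) [Field k] (X : Scheme.{u})
    (f : X ⟶ Spec (CommRingCat.of k)) [Smooth f] (x : X) :
    IsRegularLocalRing (X.presheaf.stalk x) := by
  obtain ⟨U, hU, V, hV, hxV, e, h⟩ := Smooth.exists_isStandardSmooth f x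
  obtain rfl : U = ⊤ := by
    ext y
    simp only [TopologicalSpace.Opens.coe_top, Set.mem_univ, iff_true]
    have : Subsingleton (Spec (CommRingCat.of k)) := inferInstanceAs (Subsingleton (PrimeSpectrum k))
    exact Subsingleton.elim (f x) y ▸ e hxV
  let φ : k →+* Γ(X, V) := (f.appLE ⊤ V e).hom.comp (Scheme.ΓSpecIso (CommRingCat.of k)).inv.hom
  algebraize [φ]
  have : RingHom.IsStandardSmooth φ :=
    RingHom.isStandardSmooth_respectsIso.2 _ (Scheme.ΓSpecIso (CommRingCat.of k)).symm.commRingCatIsoToRingEquiv h
  have : Algebra.IsStandardSmooth k Γ(X, V) := this.toAlgebra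
  have := isRegularLocalRing_of_smooth k Γ(X, V) (hV.primeIdealOf ⟨x, hxV⟩).asIdeal
  have := hV.isLocalization_stalk ⟨x, hxV⟩
  letI := TopCat.Presheaf.algebra_section_stalk X.presheaf (⟨x, hxV⟩ : V)
  exact IsRegularLocalRing.of_ringEquiv (R := Localization.AtPrime (hV.primeIdealOf ⟨x, hxV⟩).asIdeal)
    (IsLocalization.algEquiv (hV.primeIdealOf ⟨x, hxV⟩).asIdeal.primeCompl _ (X.presheaf.stalk x)).toRingEquiv

end Groth.Agent.VarietyLib
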