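import Groth.Agent.H8Coh.FibreAmple
import Groth.Agent.Coherent.CohBC.EulerConst
import Groth.Agent.Coherent.CohBC.FibreInvariance
import Groth.Agent.Desc19b.ModStFibGrpd

/-!
# Noetherian models of relatively ample polarised families with a module
-/

set_option autoImplicit false
set_option maxHeartbeats 800000
set_option backward.isDefEq.respectTransparency.types false
set_option linter.style.haveILetI false

universe u

open CategoryTheory CategoryTheory.Limits AlgebraicGeometry TopologicalSpace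
open Groth.Agent.AmpleLib

namespace Groth.Agent.VarietyLib

/-- A proper finitely presented family over an affine base with a relatively ample module and a module of
finite presentation comes from such a family over a Noetherian scheme. -/
theorem exists_noetherian_family {R : CommRingCat.{u}} {X : Scheme.{u}} (u : X ⟶ Spec R) [IsProper u]
    [LocallyOfFinitePresentation u] (L : X.Modules) (hL : RelAmple.IsRelAmple u L)
    (F : X.Modules) (hF : CohB1.IsFP F) :
    ∃ (U₀ X₀ : Scheme.{u}) (r : Spec R ⟶ U₀) (u₀ : X₀ ⟶ U₀) (q : X ⟶ X₀) (L₀ F₀ : X₀.Modules),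
      IsNoetherian U₀ ∧ IsProper u₀ ∧ IsPullback q u u₀ r ∧ PicF.IsInvertible L₀ ∧
        RelAmple.IsRelAmple u₀ L₀ ∧ Coh.IsCoh F₀ ∧
        Nonempty (L ≅ (Scheme.Modules.pullback q).obj L₀) ∧
        Nonempty (F ≅ (Scheme.Modules.pullback q).obj F₀) := by
  have hLi := isInvertible_of_isRelAmple _ hL
  obtain ⟨j, X₁, h₁, q₁, _, _, _, sX⟩ := H8Lim.exists_stage_spec (R := R) u
  have hN : ∀ i, IsNoetherian ((H8Lim.fgSpecDiagram R).obj i) := fun i =>
    inferInstanceAs (IsNoetherian (Spec (CommRingCat.of (H8Lim.fgSub R i.unop))))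
  have hc := H8Lim.isLimitFgSpecCone R
  obtain ⟨l, X₂, u₂, q₂, G₂, _, _, sq₂, hG₂, ⟨e⟩⟩ :=
    ConsPropLib.exists_model_mod_aux hc hN u sX L (H8Coh.FibreAmple.isFP_of_invertible hLi)
  have : IsProper (Y := (H8Lim.fgSpecCone R).pt) u := ‹IsProper u›
  obtain ⟨m, X₃, u₃, q₃, L₃, _, sq₃, hL₃, ⟨e₃⟩⟩ :=
    H8Coh.FibreAmple.exists_model_aux hc hN u₂ G₂ hG₂ sq₂ (KLLib.isInvertible_of_iso e hLi)
  have := hN m
  have : LocallyOfFinitePresentation u₃ :=
    LocallyOfFinitePresentation.iff_locallyOfFiniteType.2 inferInstance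
  have : CompactSpace X₃ := QuasiCompact.compactSpace_of_compactSpace u₃
  have : QuasiSeparatedSpace X₃ := quasiSeparatedSpace_of_quasiSeparated u₃
  have hqF : Coh.IsQCoh (X := (H8Lim.stageCone u₃ (H8Lim.fgSpecCone R) q₃ u sq₃).pt) F := ConsPropLib.isQCoh_of_isFP hF
  let o : Over m := Over.mk (𝟙 m)
  have hlim := H8Lim.isLimitStageCone u₃ q₃ u sq₃ hc
  obtain ⟨k, -, Fk, -, hFk, ⟨eF⟩⟩ :=
    H8Lim.exists_stage_fpModule (D := H8Lim.stage (H8Lim.fgSpecDiagram R) u₃) hlim (i := o) F hF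
  let q₀ := H8Lim.stageProj u₃ (H8Lim.fgSpecCone R) q₃ u sq₃ k
  let u₀ := H8Lim.stageSnd (H8Lim.fgSpecDiagram R) u₃ k
  let L₀ := (Scheme.Modules.pullback (H8Lim.stageFst (H8Lim.fgSpecDiagram R) u₃ k)).obj L₃
  have hu₀ : IsProper u₀ := MorphismProperty.of_isPullback (H8Lim.isPullback_stage (H8Lim.fgSpecDiagram R) u₃ k) ‹IsProper u₃›
  have sq₀ : IsPullback q₀ u u₀ ((H8Lim.fgSpecCone R).π.app k.left) :=
    IsPullback.of_right (by erw [H8Lim.stageProj_fst, (H8Lim.fgSpecCone R).w k.hom]; exact sq₃)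
      (H8Lim.stageProj_snd u₃ (H8Lim.fgSpecCone R) q₃ u sq₃ k) (H8Lim.isPullback_stage (H8Lim.fgSpecDiagram R) u₃ k)
  have hL₀ : PicF.IsInvertible L₀ := PicLoc.isInvertible_pullback _ hL₃
  let eL : L ≅ (Scheme.Modules.pullback q₀).obj L₀ :=
    e ≪≫ e₃ ≪≫ ((Scheme.Modules.pullbackCongr (H8Lim.stageProj_fst u₃ (H8Lim.fgSpecCone R) q₃ u sq₃ k)).app L₃).symm ≪≫
      ((Scheme.Modules.pullbackComp _ _).app L₃).symm
  have := hN k.left
  have : LocallyOfFinitePresentation u₀ :=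
    LocallyOfFinitePresentation.iff_locallyOfFiniteType.2 inferInstance
  let U : ((H8Lim.fgSpecDiagram R).obj k.left).Opens :=
    ⟨H8Coh.FibreAmple.locus u₀ L₀, H8Coh.FibreAmple.isOpen_locus_noetherian hL₀⟩
  have hr : ∀ z, (H8Lim.fgSpecCone R).π.app k.left z ∈ U := by
    intro z
    have h1 : z ∈ H8Coh.FibreAmple.locus u ((Scheme.Modules.pullback q₀).obj L₀) := by
      rw [(H8Coh.FibreAmple.isRelAmple_iff_locus (PicLoc.isInvertible_pullback _ hL₀)).1 ?_]
      · trivial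
      · rw [AmpleLib.isRelAmple_iff] at hL ⊢
        exact ⟨hL.1, fun V => isAmple_of_iso ((Scheme.Modules.pullback _).mapIso eL) (hL.2 V)⟩
    rwa [H8Coh.FibreAmple.locus_preimage hL₀ sq₀] at h1
  have : IsLocallyNoetherian U.toScheme := LocallyOfFiniteType.isLocallyNoetherian U.ι
  have : CompactSpace U.toScheme := isCompact_iff_compactSpace.mp (NoetherianSpace.isCompact _)
  let r : Spec R ⟶ U.toScheme := IsOpenImmersion.lift U.ι ((H8Lim.fgSpecCone R).π.app k.left) (by
    rw [Scheme.Opens.range_ι]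
    rintro _ ⟨z, rfl⟩
    exact hr z)
  have hrι : r ≫ U.ι = (H8Lim.fgSpecCone R).π.app k.left := IsOpenImmersion.lift_fac _ _ _
  have : IsProper (pullback.snd u₀ U.ι) := MorphismProperty.pullback_snd (P := @IsProper) _ _ inferInstance
  have : LocallyOfFinitePresentation (pullback.snd u₀ U.ι) :=
    MorphismProperty.pullback_snd (P := @LocallyOfFinitePresentation) _ _ inferInstance
  have : IsLocallyNoetherian (pullback u₀ U.ι) :=
    LocallyOfFiniteType.isLocallyNoetherian (pullback.snd u₀ U.ι)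
  let q : X ⟶ pullback u₀ U.ι := pullback.lift q₀ (u ≫ r) (by rw [Category.assoc, hrι]; exact sq₀.w)
  have hq : q ≫ pullback.fst u₀ U.ι = q₀ := pullback.lift_fst _ _ _
  refine ⟨U.toScheme, pullback u₀ U.ι, r, pullback.snd u₀ U.ι, q,
    (Scheme.Modules.pullback (pullback.fst u₀ U.ι)).obj L₀,
    (Scheme.Modules.pullback (pullback.fst u₀ U.ι)).obj Fk, ⟨⟩, inferInstance, ?_,
    PicLoc.isInvertible_pullback _ hL₀, ?_, ?_, ⟨?_⟩, ⟨?_⟩⟩
  · exact IsPullback.of_right (by rw [hq, hrι]; exact sq₀) (pullback.lift_snd _ _ _)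
      (IsPullback.of_hasPullback u₀ U.ι)
  · rw [H8Coh.FibreAmple.isRelAmple_iff_locus (PicLoc.isInvertible_pullback _ hL₀),
      H8Coh.FibreAmple.locus_preimage hL₀ (IsPullback.of_hasPullback u₀ U.ι)]
    exact Set.eq_univ_of_forall fun z => z.2
  · exact (Coherent.isCoh_iff_isFP _).2 (Desc19b.ModStFib.isFP_pullback _ Fk hFk)
  · exact eL ≪≫ ((Scheme.Modules.pullbackCongr hq).app L₀).symm ≪≫
      ((Scheme.Modules.pullbackComp _ _).app L₀).symm
  · exact eF.symm ≪≫ ((Scheme.Modules.pullbackCongr hq).app Fk).symm ≪≫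
      ((Scheme.Modules.pullbackComp _ _).app Fk).symm

end Groth.Agent.VarietyLib
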