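import Groth.Agent.VarietyLib.HilbFamily
import Groth.Agent.VarietyLib.HilbModel
import Groth.Agent.DVRDom.Points
import Groth.Agent.H8Res.FlatImage
import Groth.Agent.Props12.Topo
import Groth.Agent.Coherent.Serre.Vanishing
import Groth.Agent.AmpleLib.Relative2

/-!
# Semicontinuity of Hilbert polynomials
-/

set_option autoImplicit false
set_option linter.style.haveILetI false
set_option backward.isDefEq.respectTransparency.types false

universe u

open CategoryTheory CategoryTheory.Limits AlgebraicGeometry TopologicalSpace Opposite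
open Groth.Agent.Coherent Groth.Agent.PicLib Groth.Agent.AmpleLib Groth.Agent.EulerLib

namespace Groth.Agent.VarietyLib

variable {X S : Scheme.{u}}

theorem eulerChar_congr (f : X ⟶ S) [IsProper f] {M N : X.Modules} (e : M ≅ N) (s : S) :
    PerfAux.eulerChar f M s = PerfAux.eulerChar f N s := by
  letI : (f.fiber s).Over (Spec (CommRingCat.of (S.residueField s))) := ⟨f.fiberToSpecResidueField s⟩
  haveI : IsProper ((f.fiber s) ↘ Spec (CommRingCat.of (S.residueField s))) :=
    MorphismProperty.pullback_snd (P := @IsProper) _ _ inferInstance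
  exact euler_congr (S.residueField s) (f.fiber s) ((Scheme.Modules.pullback (f.fiberι s)).mapIso e)

/-- Euler characteristics of iterated twists on the fibres are unchanged by base change. -/
theorem eulerChar_tensorPows_pullback {X' S' : Scheme.{u}} {f : X ⟶ S} [IsProper f] {g : S' ⟶ S}
    {g' : X' ⟶ X} {f' : X' ⟶ S'} (h : IsPullback g' f' f g) {F : X.Modules} (hF : CohB1.IsFP F) {t : ℕ}
    (L : Fin t → X.Modules) (hL : ∀ i, PicF.IsInvertible (L i)) (n : Fin t → ℕ) (y : S') :
    PerfAux.eulerChar f' (Curv2.tensorPows ((Scheme.Modules.pullback g').obj F) t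
      (fun i => (Scheme.Modules.pullback g').obj (L i)) n) y =
      PerfAux.eulerChar f (Curv2.tensorPows F t L n) (g y) := by
  haveI : IsProper f' := MorphismProperty.of_isPullback h inferInstance
  haveI : Coh.IsQCoh (Curv2.tensorPows F t L n) :=
    VarietyLib.qcoh_of_isFP (isFP_tensorPows hF t L hL n)
  obtain ⟨e⟩ := nonempty_pullback_tensorPows g' F t L hL n
  rw [← eulerChar_congr f' e, Coherent.CohBC.eulerChar_pullback h _ y]

/-- The functions `n ↦ χ(X_s, F_s(n))` form a finite set over a quasi-compact base. -/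
theorem finite_range_eulerChar_twists (f : X ⟶ S) [IsProper f] [LocallyOfFinitePresentation f] [CompactSpace S]
    {L : X.Modules} (hL : PicF.IsInvertible L) {F : X.Modules} (hF : CohB1.IsFP F) :
    (Set.range fun s : S => fun n : ℕ =>
      PerfAux.eulerChar f (CohB1.tensorMod F (CohB1.tensorPow L n)) s).Finite := by
  haveI : CompactSpace X := QuasiCompact.compactSpace_of_compactSpace f
  obtain ⟨B, hB⟩ := exists_finset_determines f hF (t := 1) (fun _ => L) (fun _ => hL)
  let φ : S → (B → ℤ) := fun s n => PerfAux.eulerChar f (Curv2.tensorPows F 1 (fun _ => L) n.1) s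
  have hφ : (Set.range φ).Finite := by
    refine (Set.Finite.pi' fun n : B => finite_range_eulerChar_of_isFP f
      (isFP_tensorPows hF 1 (fun _ => L) (fun _ => hL) n.1)).subset ?_
    rintro _ ⟨s, rfl⟩ n
    exact ⟨s, rfl⟩
  haveI := hφ.to_subtype
  choose c hc using fun v : Set.range φ => v.2
  refine (Set.finite_range (fun v : Set.range φ => fun n : ℕ =>
    PerfAux.eulerChar f (CohB1.tensorMod F (CohB1.tensorPow L n)) (c v))).subset ?_
  rintro _ ⟨s, rfl⟩
  refine ⟨⟨φ s, s, rfl⟩, funext fun n => ?_⟩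
  exact hB (c ⟨φ s, s, rfl⟩) s (fun m hm => congrFun (hc ⟨φ s, s, rfl⟩) ⟨m, hm⟩) fun _ => n

/-- Over a discrete valuation ring a coherent module has a flat quotient with the same generic fibre. -/
theorem exists_flat_quotient {R : Type u} [CommRing R] [IsDomain R] [IsDiscreteValuationRing R]
    {P : Scheme.{u}} (g : P ⟶ Spec (CommRingCat.of R)) [LocallyOfFiniteType g] (F : P.Modules)
    (hF : Coh.IsCoh F) :
    ∃ (F' : P.Modules) (q : F ⟶ F'), Coh.IsCoh F' ∧ Epi q ∧ FlatMod.IsFlatOver g F' ∧
      IsIso ((Scheme.Modules.pullback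
        (pullback.fst g (Spec.map (CommRingCat.ofHom (algebraMap R (FractionRing R)))))).map q) := by
  let a := Spec.map (CommRingCat.ofHom (algebraMap R (FractionRing R)))
  haveI : IsOpenImmersion a := H8Res.isOpenImmersion_fractionRing R
  let j := pullback.fst g a
  haveI : IsOpenImmersion j := inferInstance
  haveI : QuasiCompact j := MorphismProperty.pullback_fst g a (inferInstance : QuasiCompact a)
  haveI : QuasiSeparated j := inferInstance
  haveI := hF.1
  haveI : Coh.IsQCoh ((Scheme.Modules.restrictFunctor j).obj F) := by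
    haveI : Coh.IsQCoh ((Scheme.Modules.pullback j).obj F) := EGA43.InjFibre.isQCoh_pullback j F
    exact Coherent.isQCoh_of_iso ((Scheme.Modules.restrictFunctorIsoPullback j).app F).symm
  let G := (Scheme.Modules.restrictFunctor j).obj F
  haveI := Coherent.isQCoh_push j G
  let adj := Scheme.Modules.restrictAdjunction j
  let φ : F ⟶ (Scheme.Modules.pushforward j).obj G := adj.unit.app F
  haveI := Coherent.isQCoh_image φ
  have hcomp : ((Scheme.Modules.restrictFunctor j).map (Abelian.factorThruImage φ)) ≫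
      ((Scheme.Modules.restrictFunctor j).map (Abelian.image.ι φ) ≫ adj.counit.app G) = 𝟙 G := by
    rw [← Category.assoc, ← Functor.map_comp, Abelian.image.fac]
    exact adj.left_triangle_components F
  have hft : CohB1.IsFT (Abelian.image φ) := Coherent.isFT_of_epi (Abelian.factorThruImage φ) hF.2
  refine ⟨Abelian.image φ, Abelian.factorThruImage φ, ⟨inferInstance, hft⟩, inferInstance, ?_, ?_⟩
  · refine H8Res.isFlatOver_of_forall_smul (R := CommRingCat.of R) g _ fun U hU r hr m hm => ?_
    have hinj := ModStalk.app_injective_of_mono (Abelian.image.ι φ) U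
    refine hinj ?_
    rw [map_zero]
    have h1 := congrArg ((Abelian.image.ι φ).app U) hm
    rw [Scheme.Modules.Hom.app_smul, map_zero] at h1
    have hu : IsUnit (j.app U (g.appLE ⊤ U le_top r)) := by
      have hm : g.appLE ⊤ U le_top ≫ j.app U =
          a.app ⊤ ≫ (pullback.snd g a).appLE (a ⁻¹ᵁ ⊤) (j ⁻¹ᵁ U) le_top := by
        rw [Scheme.Hom.app_eq_appLE j, Scheme.Hom.appLE_comp_appLE, Scheme.Hom.app_eq_appLE a,
          Scheme.Hom.appLE_comp_appLE]
        simp only [pullback.condition, j]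
      have h2 : j.app U (g.appLE ⊤ U le_top r) =
          (pullback.snd g a).appLE ⊤ (j ⁻¹ᵁ U) le_top (a.app ⊤ r) :=
        congrArg (fun k => k r) hm
      rw [h2]
      refine IsUnit.map _ ?_
      have h3 : (Scheme.ΓSpecIso (CommRingCat.of (FractionRing R))).hom (a.app ⊤ r) =
          algebraMap R (FractionRing R) ((Scheme.ΓSpecIso (CommRingCat.of R)).hom r) := by
        exact congrArg (fun k => k r) (Scheme.ΓSpecIso_naturality (CommRingCat.ofHom (algebraMap R (FractionRing R))))
      have hu3 : IsUnit ((Scheme.ΓSpecIso (CommRingCat.of (FractionRing R))).hom (a.app ⊤ r)) := by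
        rw [h3]
        refine isUnit_iff_ne_zero.2 ((map_ne_zero_iff _ (IsFractionRing.injective R (FractionRing R))).2 ?_)
        exact (map_ne_zero_iff _ (Scheme.ΓSpecIso (CommRingCat.of R)).commRingCatIsoToRingEquiv.injective).2 hr
      exact (isUnit_map_iff (Scheme.ΓSpecIso (CommRingCat.of (FractionRing R))).commRingCatIsoToRingEquiv _).1 hu3
    let v : Γ(G, j ⁻¹ᵁ U) := (Abelian.image.ι φ).app U m
    have h4 : j.app U (g.appLE ⊤ U le_top r) • v = 0 := h1
    exact ((hu.smul_eq_zero (x := v)).1 h4 : v = 0)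
  · haveI : Mono ((Scheme.Modules.restrictFunctor j).map (Abelian.factorThruImage φ)) :=
      mono_of_mono_fac hcomp
    haveI : IsIso ((Scheme.Modules.restrictFunctor j).map (Abelian.factorThruImage φ)) :=
      isIso_of_mono_of_epi _
    exact (NatIso.isIso_map_iff (Scheme.Modules.restrictFunctorIsoPullback j) _).1 inferInstance

/-- A quotient has eventually smaller Euler characteristics on a fibre with an ample module. -/
theorem exists_eulerChar_le (f : X ⟶ S) [IsProper f] (s : S) {L : X.Modules} (hL : PicF.IsInvertible L)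
    (hamp : CohB1.IsAmple ((Scheme.Modules.pullback (f.fiberι s)).obj L)) {F G : X.Modules}
    (hF : CohB1.IsFP F) (hG : CohB1.IsFP G) (q : F ⟶ G) [Epi q] :
    ∃ N : ℕ, ∀ n : ℕ, N ≤ n → PerfAux.eulerChar f (CohB1.tensorMod G (CohB1.tensorPow L n)) s ≤
      PerfAux.eulerChar f (CohB1.tensorMod F (CohB1.tensorPow L n)) s := by
  letI : (f.fiber s).Over (Spec (CommRingCat.of (S.residueField s))) := ⟨f.fiberToSpecResidueField s⟩
  haveI : IsProper ((f.fiber s) ↘ Spec (CommRingCat.of (S.residueField s))) :=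
    MorphismProperty.pullback_snd (P := @IsProper) _ _ inferInstance
  haveI := isNoetherian_of_proper (X := f.fiber s) (S.residueField s)
  let ι := f.fiberι s
  let L' := (Scheme.Modules.pullback ι).obj L
  let q' := (Scheme.Modules.pullback ι).map q
  haveI : Epi q' := inferInstance
  have hF' : Coh.IsCoh ((Scheme.Modules.pullback ι).obj F) :=
    (isCoh_iff_isFP _).2 (Desc19b.ModStFib.isFP_pullback _ F hF)
  have hG' : Coh.IsCoh ((Scheme.Modules.pullback ι).obj G) :=
    (isCoh_iff_isFP _).2 (Desc19b.ModStFib.isFP_pullback _ G hG)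
  have hK : Coh.IsCoh (kernel q') := isCoh_kernel q' hF' hG'.1
  obtain ⟨N, hN⟩ := Coherent.Serre.exists_subsingleton_HH_twist (S.residueField s : Type u) hamp (kernel q') hK
  refine ⟨N, fun n hn => ?_⟩
  let M := CohB1.tensorPow L' n
  have hM : PicF.IsInvertible M := isInvertible_tensorPow (PicLoc.isInvertible_pullback _ hL) n
  let SC : ShortComplex (f.fiber s).Modules := ShortComplex.mk (kernel.ι q') q' (kernel.condition q')
  have hS : SC.ShortExact :=
    { exact := ShortComplex.exact_kernel q', epi_g := ‹Epi q'›, mono_f := inferInstance }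
  have hS' := EulerLib.twistSeq_shortExact hM hS
  have hadd := euler_additive (S.residueField s) (X := f.fiber s) _ hS'
    (isCoh_twist hM hK) (isCoh_twist hM hF') (isCoh_twist hM hG')
  have h0 : 0 ≤ Curv2.euler (S.residueField s) (f.fiber s) (CohB1.tensorMod (kernel q') M) := by
    unfold Curv2.euler
    rw [finsum_eq_single _ 0 fun i hi => ?_]
    · simp
    · haveI := hN n hn i (Nat.pos_of_ne_zero hi)
      rw [Module.finrank_zero_of_subsingleton, Nat.cast_zero, mul_zero]
  obtain ⟨eF⟩ := (EulerLib.nonempty_twist_pullback ι hL F n :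
    Nonempty ((Scheme.Modules.pullback (f.fiberι s)).obj (CohB1.tensorMod F (CohB1.tensorPow L n)) ≅
      CohB1.tensorMod ((Scheme.Modules.pullback (f.fiberι s)).obj F) M))
  obtain ⟨eG⟩ := (EulerLib.nonempty_twist_pullback ι hL G n :
    Nonempty ((Scheme.Modules.pullback (f.fiberι s)).obj (CohB1.tensorMod G (CohB1.tensorPow L n)) ≅
      CohB1.tensorMod ((Scheme.Modules.pullback (f.fiberι s)).obj G) M))
  show Curv2.euler (S.residueField s) (f.fiber s) _ ≤ Curv2.euler (S.residueField s) (f.fiber s) _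
  refine le_of_le_of_eq (le_of_eq_of_le (euler_congr (S.residueField s) (f.fiber s) eG) ?_)
    (euler_congr (S.residueField s) (f.fiber s) eF).symm
  show Curv2.euler (S.residueField s) (f.fiber s) (EulerLib.twistSeq SC M).X₃ ≤
    Curv2.euler (S.residueField s) (f.fiber s) (EulerLib.twistSeq SC M).X₂
  have h0' : 0 ≤ Curv2.euler (S.residueField s) (f.fiber s) (EulerLib.twistSeq SC M).X₁ := h0
  omega

/-- Hilbert polynomials increase under specialisation over a Noetherian base. -/
theorem exists_eulerChar_le_of_specializes (f : X ⟶ S) [IsProper f] [IsLocallyNoetherian S] {L : X.Modules}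
    (hL : RelAmple.IsRelAmple f L) {F : X.Modules} (hF : Coh.IsCoh F) {u₀ x : S} (hsp : u₀ ⤳ x) :
    ∃ N : ℕ, ∀ n : ℕ, N ≤ n → PerfAux.eulerChar f (CohB1.tensorMod F (CohB1.tensorPow L n)) u₀ ≤
      PerfAux.eulerChar f (CohB1.tensorMod F (CohB1.tensorPow L n)) x := by
  by_cases hne : u₀ = x
  · exact ⟨0, fun n _ => by rw [hne]⟩
  haveI : LocallyOfFinitePresentation f :=
    LocallyOfFinitePresentation.iff_locallyOfFiniteType.2 inferInstance
  haveI : IsLocallyNoetherian X := LocallyOfFiniteType.isLocallyNoetherian f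
  have hLi := isInvertible_of_isRelAmple _ hL
  obtain ⟨R, _, _, _, m, hx, hgen⟩ := DVRDom.exists_dvr_point hsp hne
  let g := pullback.snd f m
  let g' := pullback.fst f m
  haveI : IsProper g := MorphismProperty.pullback_snd (P := @IsProper) _ _ inferInstance
  haveI : LocallyOfFinitePresentation g :=
    MorphismProperty.pullback_snd (P := @LocallyOfFinitePresentation) _ _ inferInstance
  haveI : IsLocallyNoetherian (pullback f m) := LocallyOfFiniteType.isLocallyNoetherian g
  let FR := (Scheme.Modules.pullback g').obj F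
  let LR := (Scheme.Modules.pullback g').obj L
  have hLR : PicF.IsInvertible LR := PicLoc.isInvertible_pullback _ hLi
  have hFR : Coh.IsCoh FR :=
    (isCoh_iff_isFP _).2 (Desc19b.ModStFib.isFP_pullback _ F ((isCoh_iff_isFP F).1 hF))
  obtain ⟨F', q, hF', hq, hfl, hiso⟩ := exists_flat_quotient g FR hFR
  let o : Spec (CommRingCat.of R) := IsLocalRing.closedPoint R
  have hamp : CohB1.IsAmple ((Scheme.Modules.pullback (g.fiberι o)).obj LR) := by
    have h1 := (H8Coh.FibreAmple.isRelAmple_iff_locus hLR).1 (isRelAmple_baseChange f m hL)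
    exact (h1.ge (Set.mem_univ o) : o ∈ H8Coh.FibreAmple.locus g LR)
  obtain ⟨N₁, hN₁⟩ := exists_eulerChar_le g o hLR hamp ((isCoh_iff_isFP _).1 hFR) ((isCoh_iff_isFP _).1 hF') q
  let a := Spec.map (CommRingCat.ofHom (algebraMap R (FractionRing R)))
  let z₀ : Spec (CommRingCat.of (FractionRing R)) := (default : PrimeSpectrum (FractionRing R))
  refine ⟨N₁, fun n hn => ?_⟩
  have hpb : ∀ y, PerfAux.eulerChar g (CohB1.tensorMod FR (CohB1.tensorPow LR n)) y =
      PerfAux.eulerChar f (CohB1.tensorMod F (CohB1.tensorPow L n)) (m y) := fun y =>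
    eulerChar_tensorPows_pullback (IsPullback.of_hasPullback f m) ((isCoh_iff_isFP F).1 hF) (t := 1)
      (fun _ => L) (fun _ => hLi) (fun _ => n) y
  have hgen' : PerfAux.eulerChar g (CohB1.tensorMod FR (CohB1.tensorPow LR n)) (a z₀) =
      PerfAux.eulerChar g (CohB1.tensorMod F' (CohB1.tensorPow LR n)) (a z₀) := by
    haveI : IsProper (pullback.snd g a) := MorphismProperty.pullback_snd (P := @IsProper) _ _ inferInstance
    refine (eulerChar_tensorPows_pullback (IsPullback.of_hasPullback g a) ((isCoh_iff_isFP _).1 hFR) (t := 1)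
      (fun _ => LR) (fun _ => hLR) (fun _ => n) z₀).symm.trans (Eq.trans ?_ (eulerChar_tensorPows_pullback
        (IsPullback.of_hasPullback g a) ((isCoh_iff_isFP _).1 hF') (t := 1)
        (fun _ => LR) (fun _ => hLR) (fun _ => n) z₀))
    exact eulerChar_congr (pullback.snd g a)
      (AmpleLib.tensorIso (asIso ((Scheme.Modules.pullback (pullback.fst g a)).map q)) (Iso.refl _)) z₀
  have hconst : PerfAux.eulerChar g (CohB1.tensorMod F' (CohB1.tensorPow LR n)) (a z₀) =
      PerfAux.eulerChar g (CohB1.tensorMod F' (CohB1.tensorPow LR n)) o := by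
    haveI : Coh.IsQCoh (CohB1.tensorMod F' (CohB1.tensorPow LR n)) :=
      (isCoh_twist (isInvertible_tensorPow hLR n) hF').1
    haveI : PreconnectedSpace ↥(Spec (CommRingCat.of R)) := inferInstance
    exact (Coherent.CohBC.isLocallyConstant_eulerChar_of_isFP g
      (isFP_twist (isInvertible_tensorPow hLR n) ((isCoh_iff_isFP _).1 hF'))
      (CohExch.isFlatOver_twist g (isInvertible_tensorPow hLR n) F' hfl)).apply_eq_of_preconnectedSpace _ _
  rw [← hgen z₀, ← hx]
  show PerfAux.eulerChar f _ (m (a z₀)) ≤ PerfAux.eulerChar f _ (m o)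
  rw [← hpb, ← hpb, hgen', hconst]
  exact hN₁ n hn

/-- Over a Noetherian base the set of fibres with Hilbert polynomial at least `Φ` is stable under
specialisation. -/
theorem hilbert_ge_specializes (f : X ⟶ S) [IsProper f] [IsLocallyNoetherian S] {L : X.Modules}
    (hL : RelAmple.IsRelAmple f L) {F : X.Modules} (hF : Coh.IsCoh F) (Φ : Polynomial ℚ) :
    StableUnderSpecialization {s : S | ∃ N : ℕ, ∀ n : ℕ, N ≤ n →
      Φ.eval (n : ℚ) ≤ (PerfAux.eulerChar f (CohB1.tensorMod F (CohB1.tensorPow L n)) s : ℚ)} := by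
  intro u₀ x hsp hu
  obtain ⟨N₁, hN₁⟩ := exists_eulerChar_le_of_specializes f hL hF hsp
  obtain ⟨N, hN⟩ := hu
  exact ⟨max N N₁, fun n hn => (hN n ((le_max_left _ _).trans hn)).trans
    (Int.cast_le.2 (hN₁ n ((le_max_right _ _).trans hn)))⟩

/-- Over a Noetherian base the fibres with Hilbert polynomial at least `Φ` form a closed set. -/
theorem isClosed_hilbert_ge_noetherian (f : X ⟶ S) [IsProper f] [IsNoetherian S] {L : X.Modules}
    (hL : RelAmple.IsRelAmple f L) {F : X.Modules} (hF : Coh.IsCoh F) (Φ : Polynomial ℚ) :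
    IsClosed {s : S | ∃ N : ℕ, ∀ n : ℕ, N ≤ n →
      Φ.eval (n : ℚ) ≤ (PerfAux.eulerChar f (CohB1.tensorMod F (CohB1.tensorPow L n)) s : ℚ)} := by
  classical
  haveI : LocallyOfFinitePresentation f :=
    LocallyOfFinitePresentation.iff_locallyOfFiniteType.2 inferInstance
  haveI : IsLocallyNoetherian X := LocallyOfFiniteType.isLocallyNoetherian f
  have hLi := isInvertible_of_isRelAmple _ hL
  let χ : S → ℕ → ℤ := fun s n => PerfAux.eulerChar f (CohB1.tensorMod F (CohB1.tensorPow L n)) s
  let T : Set S := {s | ∃ N : ℕ, ∀ n : ℕ, N ≤ n → Φ.eval (n : ℚ) ≤ (χ s n : ℚ)}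
  show IsClosed T
  have hFP := (isCoh_iff_isFP F).1 hF
  obtain ⟨ι, _, Z, j, hZ, hcov, himm, hflat⟩ := exists_flat_pieces f hFP
  let ι' : Type u := ULift.{u} ι
  have hopen : ∀ i, IsOpen (j i ⁻¹' T) := by
    intro i
    haveI := hZ i
    let g := pullback.snd f (j i)
    let g' := pullback.fst f (j i)
    haveI : IsProper g := MorphismProperty.pullback_snd (P := @IsProper) _ _ inferInstance
    haveI : LocallyOfFinitePresentation g :=
      MorphismProperty.pullback_snd (P := @LocallyOfFinitePresentation) _ _ inferInstance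
    haveI : CompactSpace ↥(pullback f (j i)) := QuasiCompact.compactSpace_of_compactSpace g
    have hF' := Desc19b.ModStFib.isFP_pullback g' F hFP
    have hL' : ∀ k : Fin 1, PicF.IsInvertible ((Scheme.Modules.pullback g').obj L) :=
      fun _ => PicLoc.isInvertible_pullback _ hLi
    obtain ⟨B, hB⟩ := exists_finset_determines g hF' _ hL'
    let χ' := fun (n : Fin 1 → ℕ) (z : Z i) => PerfAux.eulerChar g
      (Curv2.tensorPows ((Scheme.Modules.pullback g').obj F) 1
        (fun _ => (Scheme.Modules.pullback g').obj L) n) z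
    have hlc : ∀ n, IsLocallyConstant (χ' n) := fun n => by
      have hn := isFP_tensorPows hF' 1 _ hL' n
      haveI := qcoh_of_isFP hn
      exact Coherent.CohBC.isLocallyConstant_eulerChar_of_isFP g hn
        (isFlatOver_tensorPows g (hflat i) 1 _ hL' n)
    refine isOpen_iff_forall_mem_open.2 fun z₀ hz₀ => ⟨⋂ n ∈ B, χ' n ⁻¹' {χ' n z₀}, fun z hz => ?_,
      B.finite_toSet.isOpen_biInter fun n _ => hlc n _, Set.mem_iInter₂.2 fun n _ => rfl⟩
    have heq : χ (j i z) = χ (j i z₀) := funext fun n => by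
      have h := hB z z₀ (fun m hm => Set.mem_iInter₂.1 hz m hm) (fun _ => n)
      rw [eulerChar_tensorPows_pullback (IsPullback.of_hasPullback f (j i)) hFP (fun _ => L) (fun _ => hLi),
        eulerChar_tensorPows_pullback (IsPullback.of_hasPullback f (j i)) hFP (fun _ => L) (fun _ => hLi)] at h
      exact h
    show ∃ N : ℕ, ∀ n : ℕ, N ≤ n → Φ.eval (n : ℚ) ≤ (χ (j i z) n : ℚ)
    rw [heq]
    exact hz₀
  have hnoeth : ∀ i, IsLocallyNoetherian (Z i) := fun i => by
    haveI := himm i
    exact LocallyOfFiniteType.isLocallyNoetherian (j i)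
  let O : ∀ i : ι', (Z i.down).Opens := fun i => ⟨j i.down ⁻¹' T, hopen i.down⟩
  let W : ι' → Scheme.{u} := fun i => (O i).toScheme
  let p : ∐ W ⟶ S := Limits.Sigma.desc fun i => (O i).ι ≫ j i.down
  have hp : ∀ i, Sigma.ι W i ≫ p = (O i).ι ≫ j i.down := fun i => Sigma.ι_desc _ i
  have hrange : Set.range p = T := by
    refine Set.Subset.antisymm ?_ fun s hs => ?_
    · rintro _ ⟨z, rfl⟩
      obtain ⟨i, w, rfl⟩ := (sigmaOpenCover W).exists_eq z
      show (Sigma.ι W i ≫ p) w ∈ T
      rw [hp]
      exact w.2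
    · obtain ⟨i, z, rfl⟩ := hcov s
      let w : (O ⟨i⟩).toScheme := ⟨z, hs⟩
      refine ⟨(Sigma.ι W ⟨i⟩) w, ?_⟩
      show (Sigma.ι W ⟨i⟩ ≫ p) w = _
      rw [hp]
      rfl
  haveI : ∀ i, CompactSpace ↥(W i) := fun i => by
    haveI := hZ i.down
    haveI : IsLocallyNoetherian (Z i.down) := hnoeth i.down
    haveI : IsNoetherian (Z i.down) := ⟨⟩
    exact isCompact_iff_compactSpace.mp (NoetherianSpace.isCompact (O i : Set (Z i.down)))
  haveI : Finite ι' := inferInstanceAs (Finite (ULift.{u} ι))
  haveI : CompactSpace ↥(∐ W) := ⟨by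
    have hu : (Set.univ : Set ↥(∐ W)) = ⋃ i, Set.range (Sigma.ι W i) := (Set.eq_univ_of_forall fun z => by
      obtain ⟨i, w, rfl⟩ := (sigmaOpenCover W).exists_eq z
      exact Set.mem_iUnion.2 ⟨i, w, rfl⟩).symm
    rw [hu]
    exact isCompact_iUnion fun i => isCompact_range (Sigma.ι W i).continuous⟩
  haveI : QuasiSeparatedSpace S := inferInstance
  haveI : QuasiCompact (p ≫ terminal.from S) :=
    (HasAffineProperty.iff_of_isAffine (P := @QuasiCompact)).mpr inferInstance
  haveI : QuasiSeparated (terminal.from S) :=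
    (HasAffineProperty.iff_of_isAffine (P := @QuasiSeparated)).mpr inferInstance
  haveI : QuasiCompact p := QuasiCompact.of_comp p (terminal.from S)
  rw [← hrange]
  exact Props12.isClosed_range_of_stableUnderSpecialization p
    (hrange ▸ hilbert_ge_specializes f hL hF Φ)

/-- The fibres with Hilbert polynomial at least `Φ` form a closed set. -/
theorem isClosed_hilbert_ge (f : X ⟶ S) [IsProper f] [LocallyOfFinitePresentation f] {L : X.Modules}
    (hL : RelAmple.IsRelAmple f L) {F : X.Modules} (hF : CohB1.IsFP F) (Φ : Polynomial ℚ) :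
    IsClosed {s : S | ∃ N : ℕ, ∀ n : ℕ, N ≤ n →
      Φ.eval (n : ℚ) ≤ (PerfAux.eulerChar f (CohB1.tensorMod F (CohB1.tensorPow L n)) s : ℚ)} := by
  have hLi := isInvertible_of_isRelAmple _ hL
  let T : Set S := {s | ∃ N : ℕ, ∀ n : ℕ, N ≤ n →
      Φ.eval (n : ℚ) ≤ (PerfAux.eulerChar f (CohB1.tensorMod F (CohB1.tensorPow L n)) s : ℚ)}
  show IsClosed T
  rw [TopologicalSpace.IsOpenCover.isClosed_iff_coe_preimage (iSup_affineOpens_eq_top S)]
  rintro ⟨U, hU⟩
  let j : Spec Γ(S, U) ⟶ S := hU.fromSpec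
  obtain ⟨U₀, X₀, r, u₀, q, L₀, F₀, _, _, sq, hL₀, hL₀', hF₀, ⟨eL⟩, ⟨eF⟩⟩ :=
    exists_noetherian_family (pullback.snd f j)
      ((Scheme.Modules.pullback (pullback.fst f j)).obj L)
      (isRelAmple_baseChange f j hL)
      ((Scheme.Modules.pullback (pullback.fst f j)).obj F) (Desc19b.ModStFib.isFP_pullback _ F hF)
  haveI : IsLocallyNoetherian X₀ := LocallyOfFiniteType.isLocallyNoetherian u₀
  let T₀ : Set U₀ := {s | ∃ N : ℕ, ∀ n : ℕ, N ≤ n →
      Φ.eval (n : ℚ) ≤ (PerfAux.eulerChar u₀ (CohB1.tensorMod F₀ (CohB1.tensorPow L₀ n)) s : ℚ)}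
  have hT₀ : IsClosed T₀ := isClosed_hilbert_ge_noetherian u₀ hL₀' hF₀ Φ
  have hχ : ∀ (n : ℕ) (z : (Spec Γ(S, U) : Scheme.{u})),
      PerfAux.eulerChar f (CohB1.tensorMod F (CohB1.tensorPow L n)) (j z) =
        PerfAux.eulerChar u₀ (CohB1.tensorMod F₀ (CohB1.tensorPow L₀ n)) (r z) := by
    intro n z
    haveI : IsProper (pullback.snd f j) :=
      MorphismProperty.pullback_snd (P := @IsProper) _ _ inferInstance
    refine (eulerChar_tensorPows_pullback (IsPullback.of_hasPullback f j) hF (t := 1) (fun _ => L)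
      (fun _ => hLi) (fun _ => n) z).symm.trans ?_
    refine Eq.trans ?_ (eulerChar_tensorPows_pullback sq ((isCoh_iff_isFP F₀).1 hF₀) (t := 1) (fun _ => L₀)
      (fun _ => hL₀) (fun _ => n) z)
    exact eulerChar_congr (pullback.snd f j) (AmpleLib.tensorIso eF (powIsoOfIso eL n)) z
  have hpre : j ⁻¹' T = r ⁻¹' T₀ := by
    ext z
    show (∃ N : ℕ, _) ↔ ∃ N : ℕ, _
    simp only [hχ]
  have hsub : ((↑) : U → S) ⁻¹' T = hU.isoSpec.hom ⁻¹' (j ⁻¹' T) := by
    ext z
    show z.1 ∈ T ↔ (hU.isoSpec.hom ≫ hU.fromSpec) z ∈ T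
    rw [hU.isoSpec_hom_fromSpec]
    rfl
  show IsClosed (((↑) : U → S) ⁻¹' T)
  rw [hsub, hpre]
  exact (hT₀.preimage r.continuous).preimage hU.isoSpec.hom.continuous

end Groth.Agent.VarietyLib
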