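import Groth.Agent.VarietyLib.HilbClosed
import Groth.Agent.Coherent.CohBC.ClosedFibreMono
import Groth.Agent.SerreDual.ExtShProj
import Groth.Agent.EGA43.DvrCrit.Main
import Groth.Agent.CurveRR24.RR

/-!
# Flatness from constancy of Hilbert polynomials
-/

set_option autoImplicit false
set_option linter.style.haveILetI false
set_option backward.isDefEq.respectTransparency.types false

universe u

open CategoryTheory CategoryTheory.Limits AlgebraicGeometry TopologicalSpace Opposite
open Groth.Agent.Coherent Groth.Agent.PicLib Groth.Agent.AmpleLib Groth.Agent.EulerLib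

namespace Groth.Agent.VarietyLib

variable {X S : Scheme.{u}}

/-- A coherent module on a proper scheme over a field whose twists by an ample module eventually have
Euler characteristic zero is zero. -/
theorem isZero_of_eventually_euler_eq_zero (k : Type u) [Field k] {Z : Scheme.{u}}
    [Z.Over (Spec (CommRingCat.of k))] [IsProper (Z ↘ Spec (CommRingCat.of k))] {L : Z.Modules}
    (hL : CohB1.IsAmple L) {K : Z.Modules} (hK : Coh.IsCoh K) (N₀ : ℕ)
    (h : ∀ n, N₀ ≤ n → Curv2.euler k Z (CohB1.tensorMod K (CohB1.tensorPow L n)) = 0) : IsZero K := by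
  haveI := isNoetherian_of_proper (X := Z) k
  haveI : IsGrothendieckAbelian.{u} Z.Modules := DCat.schemeModules_isGrothendieckAbelian _
  haveI : HasExt.{u} Z.Modules := inferInstance
  have hLi : PicF.IsInvertible L := (isAmple_iff_affGlocus.1 hL).1
  obtain ⟨N₁, hN₁⟩ := eventually_globallyGenerated hL K hK
  obtain ⟨N₂, hN₂⟩ := Coherent.Serre.exists_subsingleton_HH_twist k hL K hK
  let n := N₀ + N₁ + N₂
  have hP := isInvertible_tensorPow hLi n
  have he := h n (by omega)
  unfold Curv2.euler at he
  rw [finsum_eq_single _ 0 fun i hi => ?_] at he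
  · haveI := CurveRR24.finite_HH_of_isCoh k (isCoh_twist hP hK) 0
    have h0 : Subsingleton (Coh.HH Z (CohB1.tensorMod K (CohB1.tensorPow L n)) 0) :=
      (Module.finrank_zero_iff (R := k)).1 (by simpa using he)
    have hz := SerreDual.isZero_of_globallyGenerated (hN₁ n (by omega)) h0
    refine isZero_of_support_eq_empty ?_
    rw [← EulerLib.support_twist hP K]
    exact Set.subset_empty_iff.1 (support_of_isZero hz ∅)
  · haveI := hN₂ n (by omega) i (Nat.pos_of_ne_zero hi)
    rw [Module.finrank_zero_of_subsingleton, Nat.cast_zero, mul_zero]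

/-- Flatness over a discrete valuation ring from eventual equality of the two Hilbert polynomials. -/
theorem isFlatOver_dvr_of_eulerChar_eq {R : Type u} [CommRing R] [IsDomain R] [IsDiscreteValuationRing R]
    {P : Scheme.{u}} (g : P ⟶ Spec (CommRingCat.of R)) [IsProper g] {L : P.Modules} (hL : PicF.IsInvertible L)
    (hamp : CohB1.IsAmple ((Scheme.Modules.pullback (g.fiberι (IsLocalRing.closedPoint R))).obj L))
    {F : P.Modules} (hF : Coh.IsCoh F) (η : Spec (CommRingCat.of R))
    (hη : η ∈ Set.range (Spec.map (CommRingCat.ofHom (algebraMap R (FractionRing R)))))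
    (N₀ : ℕ) (hχ : ∀ n, N₀ ≤ n → PerfAux.eulerChar g (CohB1.tensorMod F (CohB1.tensorPow L n)) η =
      PerfAux.eulerChar g (CohB1.tensorMod F (CohB1.tensorPow L n)) (IsLocalRing.closedPoint R)) :
    FlatMod.IsFlatOver g F := by
  haveI : LocallyOfFinitePresentation g :=
    LocallyOfFinitePresentation.iff_locallyOfFiniteType.2 inferInstance
  haveI : IsLocallyNoetherian P := LocallyOfFiniteType.isLocallyNoetherian g
  obtain ⟨F', q, hF', hq, hfl, hiso⟩ := exists_flat_quotient g F hF
  haveI := hF.1
  haveI := hF'.1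
  obtain ⟨z₀, rfl⟩ := hη
  let a := Spec.map (CommRingCat.ofHom (algebraMap R (FractionRing R)))
  let o : Spec (CommRingCat.of R) := IsLocalRing.closedPoint R
  have hFP := (isCoh_iff_isFP F).1 hF
  have hFP' := (isCoh_iff_isFP F').1 hF'
  let s := o
  letI : (g.fiber s).Over (Spec (CommRingCat.of ((Spec (CommRingCat.of R)).residueField s))) :=
    ⟨g.fiberToSpecResidueField s⟩
  let κ := (Spec (CommRingCat.of R)).residueField s
  haveI : IsProper ((g.fiber s) ↘ Spec (CommRingCat.of κ)) :=
    MorphismProperty.pullback_snd (P := @IsProper) _ _ inferInstance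
  haveI := isNoetherian_of_proper (X := g.fiber s) κ
  let ι := g.fiberι s
  let q' := (Scheme.Modules.pullback ι).map q
  haveI : Epi q' := inferInstance
  have hA : Coh.IsCoh ((Scheme.Modules.pullback ι).obj F) :=
    (isCoh_iff_isFP _).2 (Desc19b.ModStFib.isFP_pullback _ F hFP)
  have hB : Coh.IsCoh ((Scheme.Modules.pullback ι).obj F') :=
    (isCoh_iff_isFP _).2 (Desc19b.ModStFib.isFP_pullback _ F' hFP')
  have hK : Coh.IsCoh (kernel q') := isCoh_kernel q' hA hB.1
  let L' := (Scheme.Modules.pullback ι).obj L
  haveI : PreconnectedSpace ↥(Spec (CommRingCat.of R)) := inferInstance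
  have hzero : IsZero (kernel q') := by
    refine isZero_of_eventually_euler_eq_zero κ hamp hK N₀ fun n hn => ?_
    let M := CohB1.tensorPow L' n
    have hM : PicF.IsInvertible M := isInvertible_tensorPow (PicLoc.isInvertible_pullback _ hL) n
    let SC : ShortComplex (g.fiber s).Modules := ShortComplex.mk (kernel.ι q') q' (kernel.condition q')
    have hS : SC.ShortExact :=
      { exact := ShortComplex.exact_kernel q', epi_g := ‹Epi q'›, mono_f := inferInstance }
    have hS' := EulerLib.twistSeq_shortExact hM hS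
    have hadd := euler_additive κ (X := g.fiber s) _ hS' (isCoh_twist hM hK) (isCoh_twist hM hA)
      (isCoh_twist hM hB)
    obtain ⟨eF⟩ := EulerLib.nonempty_twist_pullback ι hL F n
    obtain ⟨eG⟩ := EulerLib.nonempty_twist_pullback ι hL F' n
    have e1 : PerfAux.eulerChar g (CohB1.tensorMod F (CohB1.tensorPow L n)) s =
        Curv2.euler κ (g.fiber s) (EulerLib.twistSeq SC M).X₂ := euler_congr κ (g.fiber s) eF
    have e2 : PerfAux.eulerChar g (CohB1.tensorMod F' (CohB1.tensorPow L n)) s =
        Curv2.euler κ (g.fiber s) (EulerLib.twistSeq SC M).X₃ := euler_congr κ (g.fiber s) eG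
    have hgen : PerfAux.eulerChar g (CohB1.tensorMod F (CohB1.tensorPow L n)) (a z₀) =
        PerfAux.eulerChar g (CohB1.tensorMod F' (CohB1.tensorPow L n)) (a z₀) := by
      haveI : IsProper (pullback.snd g a) := MorphismProperty.pullback_snd (P := @IsProper) _ _ inferInstance
      refine (eulerChar_tensorPows_pullback (IsPullback.of_hasPullback g a) hFP (t := 1)
        (fun _ => L) (fun _ => hL) (fun _ => n) z₀).symm.trans (Eq.trans ?_ (eulerChar_tensorPows_pullback
          (IsPullback.of_hasPullback g a) hFP' (t := 1) (fun _ => L) (fun _ => hL) (fun _ => n) z₀))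
      exact eulerChar_congr (pullback.snd g a)
        (AmpleLib.tensorIso (asIso ((Scheme.Modules.pullback (pullback.fst g a)).map q)) (Iso.refl _)) z₀
    have hconst : PerfAux.eulerChar g (CohB1.tensorMod F' (CohB1.tensorPow L n)) (a z₀) =
        PerfAux.eulerChar g (CohB1.tensorMod F' (CohB1.tensorPow L n)) s := by
      haveI : Coh.IsQCoh (CohB1.tensorMod F' (CohB1.tensorPow L n)) :=
        (isCoh_twist (isInvertible_tensorPow hL n) hF').1
      exact (Coherent.CohBC.isLocallyConstant_eulerChar_of_isFP g
        (isFP_twist (isInvertible_tensorPow hL n) hFP')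
        (CohExch.isFlatOver_twist g (isInvertible_tensorPow hL n) F' hfl)).apply_eq_of_preconnectedSpace _ _
    have h1 : PerfAux.eulerChar g (CohB1.tensorMod F (CohB1.tensorPow L n)) (a z₀) =
        PerfAux.eulerChar g (CohB1.tensorMod F (CohB1.tensorPow L n)) s := hχ n hn
    show Curv2.euler κ (g.fiber s) (EulerLib.twistSeq SC M).X₁ = 0
    omega
  haveI : Mono q' := Preadditive.mono_of_isZero_kernel _ hzero
  haveI : Mono q := by
    refine Coherent.CohBC.mono_of_injective_stalks q fun x => ?_
    have h := Coherent.CohBC.eq_univ_of_fibre_subset g (y := o)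
      (fun U hU => top_le_iff.1 fun z _ => (IsLocalRing.specializes_closedPoint z).mem_open U.2 hU)
      (EGA43.InjCokerFlat.isOpen_setOf g hFP' hFP q) fun x hx => ?_
    · exact ((Set.eq_univ_iff_forall.1 h) x).1
    · obtain ⟨z, rfl⟩ : x ∈ Set.range (g.fiberι o) := by rw [g.range_fiberι]; exact hx
      obtain ⟨hs, hker⟩ := Props12.stalkMap_fiberι g o z
      refine (EGA43.InjFibre.inj_and_coker_flat_iff g hFP' hFP q _ (hfl _)).2 fun m hm => ?_
      rw [← hker] at hm ⊢
      exact Coherent.CohBC.mem_smul_top_of_mono (g.fiberι o) z q hs m hm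
  haveI : IsIso q := isIso_of_mono_of_epi q
  exact CohExch.isFlatOver_of_iso g (asIso q).symm hfl

/-- Flatness over a reduced base from eventual constancy along specialisations (EGA IV 11.8.1). -/
theorem isFlatOver_of_eulerChar_specializes (f : X ⟶ S) [IsProper f] [IsLocallyNoetherian S] [IsReduced S]
    {L : X.Modules} (hL : RelAmple.IsRelAmple f L) {F : X.Modules} (hF : Coh.IsCoh F)
    (h : ∀ u₀ x : S, u₀ ⤳ x → ∃ N : ℕ, ∀ n, N ≤ n →
      PerfAux.eulerChar f (CohB1.tensorMod F (CohB1.tensorPow L n)) u₀ =
        PerfAux.eulerChar f (CohB1.tensorMod F (CohB1.tensorPow L n)) x) :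
    FlatMod.IsFlatOver f F := by
  haveI : IsLocallyNoetherian X := LocallyOfFiniteType.isLocallyNoetherian f
  haveI := hF.1
  have hLi := isInvertible_of_isRelAmple _ hL
  intro x
  haveI := Props12.finite_stalk_of_isFT F hF.2 x
  refine EGA43.DvrCrit.isFlatOverAt_of_dvr (f := f) (F := F) x ?_
  intro V _ _ _ φ _ w _ _
  let m := EGA43.FlatBC.specTo f x φ
  haveI : IsProper (pullback.snd f m) := MorphismProperty.pullback_snd (P := @IsProper) _ _ inferInstance
  haveI : IsLocallyNoetherian (pullback f m) := LocallyOfFiniteType.isLocallyNoetherian (pullback.snd f m)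
  have hFP := (isCoh_iff_isFP F).1 hF
  have hF' := (isCoh_iff_isFP _).2 (Desc19b.ModStFib.isFP_pullback (pullback.fst f m) F hFP)
  have hL' := PicLoc.isInvertible_pullback (pullback.fst f m) hLi
  let a := Spec.map (CommRingCat.ofHom (algebraMap V (FractionRing V)))
  let z₀ : Spec (CommRingCat.of (FractionRing V)) := (default : PrimeSpectrum (FractionRing V))
  obtain ⟨N, hN⟩ := h (m (a z₀)) (m (IsLocalRing.closedPoint V))
    ((IsLocalRing.specializes_closedPoint (a z₀)).map m.continuous)
  refine isFlatOver_dvr_of_eulerChar_eq (pullback.snd f m) hL'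
    (((H8Coh.FibreAmple.isRelAmple_iff_locus hL').1 (isRelAmple_baseChange f m hL)).ge (Set.mem_univ _))
    hF' (a z₀) ⟨z₀, rfl⟩ N (fun n hn => ?_) w
  have hpb : ∀ y, PerfAux.eulerChar (pullback.snd f m) (CohB1.tensorMod
      ((Scheme.Modules.pullback (pullback.fst f m)).obj F)
      (CohB1.tensorPow ((Scheme.Modules.pullback (pullback.fst f m)).obj L) n)) y =
      PerfAux.eulerChar f (CohB1.tensorMod F (CohB1.tensorPow L n)) (m y) := fun y =>
    eulerChar_tensorPows_pullback (IsPullback.of_hasPullback f m) hFP (t := 1)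
      (fun _ => L) (fun _ => hLi) (fun _ => n) y
  rw [hpb, hpb]
  exact hN n hn

end Groth.Agent.VarietyLib
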