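import Groth.Agent.VarietyLib.HilbStratum
import Groth.Agent.VarietyLib.HilbFlat
import Groth.Agent.S7761
import Groth.Agent.S11742
import Groth.Agent.CohExch.AffineBC0
import Groth.Agent.Props12.AmpleExternal
import Groth.Agent.Props12.FlatOver
import Groth.Agent.Coherent.CohBC.EulerFamily
import Groth.Agent.MorProj.VeryAmple

/-!
# The stratum of a Hilbert polynomial over an affine Noetherian base

Embed by a power of the polarisation, take the flattening stratification on projective space, and keep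
the part on which the Hilbert polynomial is `Φ`.
-/

set_option autoImplicit false
set_option maxHeartbeats 2000000
set_option linter.style.haveILetI false
set_option backward.isDefEq.respectTransparency.types false

universe u

open CategoryTheory CategoryTheory.Limits AlgebraicGeometry Opposite
open Groth.Agent Groth.Agent.Coherent Groth.Agent.EulerLib Groth.Agent.AmpleLib

namespace Groth.Agent.VarietyLib

variable {X S : Scheme.{u}}

/-- Flatness of a pushforward along a closed immersion. -/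
theorem isFlatOver_push_iff {P T : Scheme.{u}} (i : X ⟶ P) [IsClosedImmersion i] (π : P ⟶ T) (M : X.Modules)
    [Coh.IsQCoh M] :
    FlatMod.IsFlatOver π ((Scheme.Modules.pushforward i).obj M) ↔ FlatMod.IsFlatOver (i ≫ π) M := by
  haveI : Coh.IsQCoh ((Scheme.Modules.pushforward i).obj M) := Groth.Agent.Coherent.isQCoh_push i M
  have hsec : ∀ (V : T.Opens) (U : P.Opens) (e : U ≤ π ⁻¹ᵁ V),
      @Module.Flat Γ(T, V) Γ((Scheme.Modules.pushforward i).obj M, U) _ _
          (EGA43.QcohFlat.overModule π _ V U e) ↔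
        @Module.Flat Γ(T, V) Γ(M, i ⁻¹ᵁ U) _ _
          (EGA43.QcohFlat.overModule (i ≫ π) M V (i ⁻¹ᵁ U) (fun z hz => e hz)) := by
    intro V U e
    letI m₁ := EGA43.QcohFlat.overModule π ((Scheme.Modules.pushforward i).obj M) V U e
    letI m₂ := EGA43.QcohFlat.overModule (i ≫ π) M V (i ⁻¹ᵁ U) (fun z hz => e hz)
    refine Module.Flat.equiv_iff (LinearEquiv.mk
      { toFun := fun m => (show Γ(M, i ⁻¹ᵁ U) from m), map_add' := fun _ _ => rfl, map_smul' := ?_ }
      (fun m => (show Γ((Scheme.Modules.pushforward i).obj M, U) from m)) (fun _ => rfl) (fun _ => rfl))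
    intro r m
    show (i.app U) (π.appLE V U e r) • (show Γ(M, i ⁻¹ᵁ U) from m) =
      ((i ≫ π).appLE V (i ⁻¹ᵁ U) _ r) • (show Γ(M, i ⁻¹ᵁ U) from m)
    rw [← Scheme.Hom.appLE_comp_appLE i π V U (i ⁻¹ᵁ U) e le_rfl, Scheme.Hom.app_eq_appLE]
    rfl
  have key : ∀ (V : T.Opens) (U : P.Opens), IsAffineOpen V → IsAffineOpen U → U ≤ π ⁻¹ᵁ V →
      ((∀ y ∈ U, FlatMod.IsFlatOverAt π ((Scheme.Modules.pushforward i).obj M) y) ↔
        ∀ x ∈ i ⁻¹ᵁ U, FlatMod.IsFlatOverAt (i ≫ π) M x) := fun V U hV hU e => by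
    rw [← Props12.flat_sections_iff π _ hV hU e, hsec V U e,
      Props12.flat_sections_iff (i ≫ π) M hV (hU.preimage i) (fun z hz => e hz)]
  have hcov : ∀ y : P, ∃ (V : T.Opens) (U : P.Opens), IsAffineOpen V ∧ IsAffineOpen U ∧ y ∈ U ∧ U ≤ π ⁻¹ᵁ V :=
    fun y => by
      obtain ⟨V, hV, hyV, -⟩ := exists_isAffineOpen_mem_and_subset (x := π y) (U := ⊤) trivial
      obtain ⟨U, hU, hyU, e⟩ := exists_isAffineOpen_mem_and_subset (x := y) (U := π ⁻¹ᵁ V) hyV
      exact ⟨V, U, hV, hU, hyU, e⟩
  constructor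
  · intro h x
    obtain ⟨V, U, hV, hU, hyU, e⟩ := hcov (i x)
    exact (key V U hV hU e).1 (fun y _ => h y) x hyU
  · intro h y
    obtain ⟨V, U, hV, hU, hyU, e⟩ := hcov y
    exact (key V U hV hU e).2 (fun x _ => h x) y hyU

/-- The flattening stratification of a family inside projective space, as a single injective map
with surjective stalk maps. -/
theorem exists_flattening_embedded (f : X ⟶ S) [IsProper f] [IsNoetherian S] (n : ℕ)
    (i : X ⟶ CohB1.ProjSpaceOver n S) [IsClosedImmersion i] (hi : i ≫ CohB1.ProjSpaceOver.toBase n S = f)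
    (F : X.Modules) (hF : Coh.IsCoh F) :
    ∃ (Z : Scheme.{u}) (z : Z ⟶ S), IsLocallyNoetherian Z ∧ Function.Injective z ∧
      (∀ y : Z, Function.Surjective (z.stalkMap y)) ∧
      ∀ (T XT : Scheme.{u}) [IsLocallyNoetherian T] (φ : T ⟶ S) (πT : XT ⟶ T) (q : XT ⟶ X),
        IsPullback q πT f φ → (FlatMod.IsFlatOver πT ((Scheme.Modules.pullback q).obj F) ↔
          ∃ g : T ⟶ Z, g ≫ z = φ) := by
  haveI := hF.1
  haveI : IsLocallyNoetherian (CohB1.ProjSpaceOver n S) :=
    haveI : IsProper (CohB1.ProjSpaceOver.toBase n S) := RelVALib.isProper_toBase n S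
    LocallyOfFiniteType.isLocallyNoetherian (CohB1.ProjSpaceOver.toBase n S)
  obtain ⟨I, St, e, he, hrange, huniv, -⟩ := Groth.Agent.S11742.result S n ((Coh.push i).obj F)
    (Existence.isCoh_push_of_isProper i hF)
  haveI := he
  haveI : IsLocallyNoetherian (∐ St) := by
    rw [isLocallyNoetherian_iff_openCover (sigmaOpenCover St)]
    exact fun P => haveI := he P; haveI : LocallyOfFiniteType (e P) := inferInstanceAs (LocallyOfFiniteType (e P)); LocallyOfFiniteType.isLocallyNoetherian (X := St P) (e P)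
  refine ⟨∐ St, Sigma.desc e, inferInstance, ?_, ?_, fun T XT _ φ πT q hsq => ?_⟩
  · intro a b hab
    obtain ⟨P, a, rfl⟩ : ∃ (P : ↥I) (a' : St P), Sigma.ι St P a' = a := (sigmaOpenCover St).exists_eq a
    obtain ⟨Q, b, rfl⟩ : ∃ (Q : ↥I) (b' : St Q), Sigma.ι St Q b' = b := (sigmaOpenCover St).exists_eq b
    rw [← Scheme.Hom.comp_apply, ← Scheme.Hom.comp_apply, Sigma.ι_desc,
      Sigma.ι_desc] at hab
    have hP := (hrange P (e P a)).1 ⟨a, rfl⟩
    have hQ := (hrange Q (e P a)).1 ⟨b, hab.symm⟩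
    have hPQ : P = Q := by
      refine Subtype.ext (Polynomial.eq_of_infinite_eval_eq _ _ (Set.Infinite.mono
        (s := Set.range fun r : ℤ => (r : ℚ)) ?_ (Set.infinite_range_of_injective Int.cast_injective)))
      rintro _ ⟨r, rfl⟩
      exact (hP r).symm.trans (hQ r)
    subst hPQ
    rw [(e P).isEmbedding.injective hab]
  · intro y
    obtain ⟨P, a, rfl⟩ : ∃ (P : ↥I) (a' : St P), Sigma.ι St P a' = y := (sigmaOpenCover St).exists_eq y
    intro t
    haveI : IsPreimmersion (Sigma.ι St P ≫ Sigma.desc e) := by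
      rw [Sigma.ι_desc]; haveI := he P; infer_instance
    obtain ⟨r, hr⟩ := (Sigma.ι St P ≫ Sigma.desc e).stalkMap_surjective a ((Sigma.ι St P).stalkMap a t)
    refine ⟨r, (ConcreteCategory.bijective_of_isIso ((Sigma.ι St P).stalkMap a)).1 ?_⟩
    rw [← hr, Scheme.Hom.stalkMap_comp]
    rfl
  · let pT := CohB1.ProjSpaceOver.toBase n T
    have hsqP : IsPullback (FGA.projMap n φ) pT (CohB1.ProjSpaceOver.toBase n S) φ := by
      refine IsPullback.of_right (h₁₂ := pullback.fst _ _) ?_ ?_
        (IsPullback.of_hasPullback (CohB1.ProjSpace.toSpec n (ULift.{u} ℤ)) (specULiftZIsTerminal.from S))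
      · have h := IsPullback.of_hasPullback (CohB1.ProjSpace.toSpec n (ULift.{u} ℤ)) (specULiftZIsTerminal.from T)
        have e₁ : FGA.projMap n φ ≫ pullback.fst _ _ =
            pullback.fst (CohB1.ProjSpace.toSpec n (ULift.{u} ℤ)) (specULiftZIsTerminal.from T) :=
          (pullback.lift_fst _ _ _).trans (Category.comp_id _)
        have e₂ : φ ≫ specULiftZIsTerminal.from S = specULiftZIsTerminal.from T :=
          specULiftZIsTerminal.hom_ext _ _
        exact h.of_iso (Iso.refl _) (Iso.refl _) (Iso.refl _) (Iso.refl _) (by simp only [Iso.refl_hom, Category.id_comp, Category.comp_id]; exact e₁.symm)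
          (by simp only [Iso.refl_hom, Category.id_comp, Category.comp_id]; rfl) (by simp) (by simp only [Iso.refl_hom, Category.id_comp, Category.comp_id]; exact e₂.symm)
      · exact pullback.lift_snd _ _ _
    let i' : XT ⟶ CohB1.ProjSpaceOver n T := hsqP.lift (q ≫ i) πT (by rw [Category.assoc, hi]; exact hsq.w)
    have hi' : i' ≫ pT = πT := hsqP.lift_snd _ _ _
    have hsqi : IsPullback q i' i (FGA.projMap n φ) :=
      IsPullback.of_bot (by rw [hi', hi]; exact hsq) (hsqP.lift_fst _ _ _).symm hsqP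
    haveI : IsClosedImmersion i' := MorphismProperty.of_isPullback (P := @IsClosedImmersion) hsqi inferInstance
    haveI := CohExch.isIso_bc0_of_affine hsqi F
    haveI := EGA43.InjFibre.isQCoh_pullback q F
    haveI : Coh.IsQCoh ((Scheme.Modules.pushforward i).obj F) := Groth.Agent.Coherent.isQCoh_push i F
    haveI := EGA43.InjFibre.isQCoh_pullback (FGA.projMap n φ) ((Scheme.Modules.pushforward i).obj F)
    haveI : Coh.IsQCoh ((Scheme.Modules.pushforward i').obj ((Scheme.Modules.pullback q).obj F)) :=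
      Groth.Agent.Coherent.isQCoh_push i' _
    let eb := asIso (CohBC.bc0 i (FGA.projMap n φ) i' q hsqi.w F)
    refine Iff.trans ?_ (huniv T φ)
    rw [← hi', ← isFlatOver_push_iff i' pT]
    exact ⟨fun h x => EGA43.DvrCrit.isFlatOverAt_of_iso pT eb.symm x (h x),
      fun h x => EGA43.DvrCrit.isFlatOverAt_of_iso pT eb x (h x)⟩

/-- The Hilbert function of a fibre is a polynomial. -/
theorem exists_poly_eulerChar (f : X ⟶ S) [IsProper f] [CompactSpace X] {L F : X.Modules}
    (hL : PicF.IsInvertible L) (hF : CohB1.IsFP F) (z : S) :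
    ∃ Q : Polynomial ℚ, ∀ m : ℕ,
      (PerfAux.eulerChar f (CohB1.tensorMod F (CohB1.tensorPow L m)) z : ℚ) = Q.eval (m : ℚ) := by
  obtain ⟨_, hd⟩ := exists_poly_fibres f hF (t := 1) (fun _ => L) (fun _ => hL)
  obtain ⟨P, -, hP⟩ := hd z
  have hev : ∀ (R : MvPolynomial (Fin 1) ℚ) (x : ℚ),
      (MvPolynomial.aeval (fun _ : Fin 1 => (Polynomial.X : Polynomial ℚ)) R).eval x =
        MvPolynomial.eval (fun _ => x) R := by
    intro R x
    induction R using MvPolynomial.induction_on with
    | C a => simp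
    | add p q hp hq => simp [hp, hq]
    | mul_X p i hp => simp [hp]
  exact ⟨_, fun m => (hP fun _ => m).trans (hev P (m : ℚ)).symm⟩

/-- The locus of a Hilbert polynomial is locally closed. -/
theorem isLocallyClosed_hilbLocus (f : X ⟶ S) [IsProper f] [LocallyOfFinitePresentation f] {L : X.Modules}
    (hL : RelAmple.IsRelAmple f L) {F : X.Modules} (hF : CohB1.IsFP F) (Φ : Polynomial ℚ) :
    IsLocallyClosed (hilbLocus f L F Φ) := by
  rcases Set.eq_empty_or_nonempty (hilbLocus f L F Φ) with h | ⟨s₁, hs₁⟩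
  · rw [h]; exact isClosed_empty.isLocallyClosed
  let T : Polynomial ℚ → Set S := fun Ψ => {s | ∃ N : ℕ, ∀ n : ℕ, N ≤ n →
    Ψ.eval (n : ℚ) ≤ (PerfAux.eulerChar f (CohB1.tensorMod F (CohB1.tensorPow L n)) s : ℚ)}
  have hT : ∀ Ψ, IsClosed (T Ψ) := isClosed_hilbert_ge f hL hF
  suffices h : hilbLocus f L F Φ = T Φ ∩ (T (Φ + 1))ᶜ by
    rw [h]; exact (hT Φ).isLocallyClosed.inter (hT _).isOpen_compl.isLocallyClosed
  ext s
  constructor
  · intro h
    refine ⟨⟨0, fun n _ => (h n).ge⟩, ?_⟩
    rintro ⟨N, hN⟩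
    have h1 := hN N le_rfl
    rw [h N, Polynomial.eval_add, Polynomial.eval_one] at h1
    linarith
  · rintro ⟨⟨N, hN⟩, h2⟩
    have hev : ∀ M : ℕ, ∃ n, M ≤ n ∧
        (PerfAux.eulerChar f (CohB1.tensorMod F (CohB1.tensorPow L n)) s : ℚ) = Φ.eval (n : ℚ) := by
      intro M
      by_contra hc
      push Not at hc
      refine h2 ⟨max M N, fun n hn => ?_⟩
      have hlt := lt_of_le_of_ne (hN n (le_of_max_le_right hn)) (Ne.symm (hc n (le_of_max_le_left hn)))
      rw [Polynomial.eval_add, Polynomial.eval_one, ← hs₁ n] at *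
      norm_cast at hlt ⊢
    obtain ⟨U, hU, hsU, -⟩ := exists_isAffineOpen_mem_and_subset (x := s) (U := ⊤) trivial
    obtain ⟨z, hz⟩ : s ∈ Set.range hU.fromSpec := by rw [hU.range_fromSpec]; exact hsU
    haveI : IsProper (pullback.snd f hU.fromSpec) :=
      MorphismProperty.pullback_snd (P := @IsProper) _ _ inferInstance
    haveI : CompactSpace (pullback f hU.fromSpec : Scheme.{u}) :=
      QuasiCompact.compactSpace_of_compactSpace (pullback.snd f hU.fromSpec)
    have hLi := isInvertible_of_isRelAmple _ hL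
    obtain ⟨Q, hQ⟩ := exists_poly_eulerChar (pullback.snd f hU.fromSpec)
      (PicLoc.isInvertible_pullback (pullback.fst f hU.fromSpec) hLi)
      (Desc19b.ModStFib.isFP_pullback (pullback.fst f hU.fromSpec) F hF) z
    have hQ' : ∀ m : ℕ, (PerfAux.eulerChar f (CohB1.tensorMod F (CohB1.tensorPow L m)) s : ℚ) = Q.eval (m : ℚ) := by
      intro m
      rw [← hz]
      refine Eq.trans ?_ (hQ m)
      exact congrArg Int.cast (eulerChar_tensorPows_pullback (IsPullback.of_hasPullback f hU.fromSpec) hF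
        (t := 1) (fun _ => L) (fun _ => hLi) (fun _ => m) z).symm
    have hQΦ : Q = Φ := by
      choose n hn hn' using hev
      refine Polynomial.eq_of_infinite_eval_eq Q Φ (Set.Infinite.mono (s := Set.range fun M => (n M : ℚ)) ?_ ?_)
      · rintro _ ⟨M, rfl⟩
        exact (hQ' (n M)).symm.trans (hn' M)
      · refine Set.infinite_of_not_bddAbove fun ⟨b, hb⟩ => ?_
        obtain ⟨k, hk⟩ := exists_nat_gt b
        have h3 : (n k : ℚ) ≤ b := hb ⟨k, rfl⟩
        have h4 : (k : ℚ) ≤ (n k : ℚ) := by exact_mod_cast hn k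
        linarith
    intro m
    rw [hQ' m, hQΦ]

/-- The locus of a Hilbert polynomial in a flat family is open. -/
theorem isOpen_hilbLocus_of_flat (f : X ⟶ S) [IsProper f] [LocallyOfFinitePresentation f] {L : X.Modules}
    (hL : PicF.IsInvertible L) {F : X.Modules} (hF : CohB1.IsFP F) (hfl : FlatMod.IsFlatOver f F)
    (Φ : Polynomial ℚ) : IsOpen (hilbLocus f L F Φ) := by
  rw [isOpen_iff_forall_mem_open]
  intro s hs
  obtain ⟨U, hsU, hU⟩ := Groth.Agent.S7761.result X S f F hF hfl 1 (fun _ => L) (fun _ => hL) s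
  exact ⟨U, fun s' hs' n => (congrArg Int.cast (hU s' hs' fun _ => n)).trans (hs n), U.2, hsU⟩

/-- The stratum of a Hilbert polynomial over an affine Noetherian base. -/
theorem exists_stratum_affine (f : X ⟶ S) [IsProper f] [IsAffine S] [IsNoetherian S] {L : X.Modules}
    (hL : RelAmple.IsRelAmple f L) {F : X.Modules} (hF : Coh.IsCoh F) (Φ : Polynomial ℚ) :
    ∃ (W : Scheme.{u}) (e : W ⟶ S), IsImmersion e ∧ Set.range e = hilbLocus f L F Φ ∧
      ∀ (T : Scheme.{u}) (g : T ⟶ S), HilbFlat f L F Φ g ↔ ∃ h : T ⟶ W, h ≫ e = g := by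
  classical
  haveI : LocallyOfFinitePresentation f :=
    LocallyOfFinitePresentation.iff_locallyOfFiniteType.2 inferInstance
  haveI : IsLocallyNoetherian X := LocallyOfFiniteType.isLocallyNoetherian f
  haveI : CompactSpace X := QuasiCompact.compactSpace_of_compactSpace f
  haveI := hF.1
  have hFP : CohB1.IsFP F := (isCoh_iff_isFP F).1 hF
  have hLi := isInvertible_of_isRelAmple _ hL
  obtain ⟨n₀, hn₀⟩ := MorProj.eventually_isRelVeryAmplePn_pow f (Props12.AmpleExternal.isAmple_of_isRelAmple f L hL)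
  obtain ⟨n, i, hi, hif, -⟩ := hn₀ n₀ le_rfl
  haveI := hi
  haveI : IsProper (CohB1.ProjSpaceOver.toBase n S) := RelVALib.isProper_toBase n S
  haveI : IsProper i := by
    haveI : IsProper (i ≫ CohB1.ProjSpaceOver.toBase n S) := hif.symm ▸ ‹IsProper f›
    exact IsProper.of_comp i (CohB1.ProjSpaceOver.toBase n S)
  haveI : IsClosedImmersion i := IsClosedImmersion.of_isPreimmersion i i.isClosedMap.isClosed_range
  obtain ⟨Z, z, _, hzinj, hzst, huniv⟩ := exists_flattening_embedded f n i hif F hF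
  haveI : Coh.IsQCoh F := hF.1
  -- the open part of the stratification
  have hflZ : FlatMod.IsFlatOver (pullback.snd f z) ((Scheme.Modules.pullback (pullback.fst f z)).obj F) :=
    (huniv Z _ z _ _ (IsPullback.of_hasPullback f z)).2 ⟨𝟙 Z, Category.id_comp z⟩
  haveI : IsProper (pullback.snd f z) := MorphismProperty.pullback_snd (P := @IsProper) _ _ inferInstance
  haveI : LocallyOfFinitePresentation (pullback.snd f z) :=
    MorphismProperty.pullback_snd (P := @LocallyOfFinitePresentation) _ _ inferInstance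
  let O : Z.Opens := ⟨z ⁻¹' hilbLocus f L F Φ, by
    rw [← hilbLocus_of_isPullback hLi hFP Φ (IsPullback.of_hasPullback f z) (Iso.refl _) (Iso.refl _)]
    exact isOpen_hilbLocus_of_flat _ (PicLoc.isInvertible_pullback _ hLi)
      (Desc19b.ModStFib.isFP_pullback _ F hFP) hflZ Φ⟩
  let e : O.toScheme ⟶ S := O.ι ≫ z
  -- the reduced structure on the locus
  have hlc := isLocallyClosed_hilbLocus f hL hFP Φ
  let V : S.Opens := ⟨coborder (hilbLocus f L F Φ), hlc.isOpen_coborder⟩
  let C : TopologicalSpace.Closeds V.toScheme :=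
    ⟨Subtype.val ⁻¹' hilbLocus f L F Φ, isClosed_preimage_val_coborder⟩
  let R := (Scheme.IdealSheafData.vanishingIdeal C).subscheme
  haveI : IsReduced R := Props12.isReduced_subscheme_vanishingIdeal _
  let j : R ⟶ S := (Scheme.IdealSheafData.vanishingIdeal C).subschemeι ≫ V.ι
  haveI : IsLocallyNoetherian R := LocallyOfFiniteType.isLocallyNoetherian j
  have hjrange : Set.range j = hilbLocus f L F Φ := by
    ext s
    constructor
    · rintro ⟨y, rfl⟩
      have : (Scheme.IdealSheafData.vanishingIdeal C).subschemeι y ∈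
          Set.range (Scheme.IdealSheafData.vanishingIdeal C).subschemeι := ⟨y, rfl⟩
      rw [Scheme.IdealSheafData.range_subschemeι, Scheme.IdealSheafData.coe_support_vanishingIdeal] at this
      exact this
    · intro hs
      obtain ⟨y, hy⟩ : (⟨s, subset_coborder hs⟩ : V.toScheme) ∈
          Set.range (Scheme.IdealSheafData.vanishingIdeal C).subschemeι := by
        rw [Scheme.IdealSheafData.range_subschemeι, Scheme.IdealSheafData.coe_support_vanishingIdeal]
        exact hs
      exact ⟨y, congrArg Subtype.val hy⟩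
  haveI : IsProper (pullback.snd f j) := MorphismProperty.pullback_snd (P := @IsProper) _ _ inferInstance
  haveI : IsLocallyNoetherian (pullback f j : Scheme.{u}) := LocallyOfFiniteType.isLocallyNoetherian (pullback.snd f j)
  have hflR : FlatMod.IsFlatOver (pullback.snd f j) ((Scheme.Modules.pullback (pullback.fst f j)).obj F) := by
    refine isFlatOver_of_eulerChar_specializes (pullback.snd f j) (isRelAmple_baseChange f j hL)
      ((isCoh_iff_isFP _).2 (Desc19b.ModStFib.isFP_pullback _ F hFP)) fun u₀ x _ => ⟨0, fun m _ => ?_⟩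
    have h : ∀ y : R, (PerfAux.eulerChar (pullback.snd f j) (CohB1.tensorMod
        ((Scheme.Modules.pullback (pullback.fst f j)).obj F)
        (CohB1.tensorPow ((Scheme.Modules.pullback (pullback.fst f j)).obj L) m)) y : ℚ) = Φ.eval (m : ℚ) := by
      intro y
      have hy : y ∈ hilbLocus (pullback.snd f j) ((Scheme.Modules.pullback (pullback.fst f j)).obj L)
          ((Scheme.Modules.pullback (pullback.fst f j)).obj F) Φ := by
        rw [hilbLocus_of_isPullback hLi hFP Φ (IsPullback.of_hasPullback f j) (Iso.refl _) (Iso.refl _),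
          ← hjrange]
        exact ⟨y, rfl⟩
      exact hy m
    exact_mod_cast (h u₀).trans (h x).symm
  obtain ⟨h, hh⟩ := (huniv R _ j _ _ (IsPullback.of_hasPullback f j)).1 hflR
  -- every point of the locus comes from the open part
  have hhO : ∀ r : R, h r ∈ O := fun r => by
    show z (h r) ∈ hilbLocus f L F Φ
    rw [← Scheme.Hom.comp_apply, hh, ← hjrange]
    exact ⟨r, rfl⟩
  have herange : Set.range e = hilbLocus f L F Φ := by
    ext s
    constructor
    · rintro ⟨y, rfl⟩; exact y.2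
    · intro hs
      rw [← hjrange] at hs
      obtain ⟨r, rfl⟩ := hs
      refine ⟨⟨h r, hhO r⟩, ?_⟩
      show z (h r) = j r
      rw [← Scheme.Hom.comp_apply, hh]
  have heinj : Function.Injective e := fun a b hab => Subtype.ext (hzinj hab)
  have heind : Topology.IsInducing e := by
    refine ⟨le_antisymm (continuous_iff_le_induced.1 e.continuous) fun V' hV' => ?_⟩
    have hV'' : IsOpen (O.ι '' V') := O.ι.isOpenEmbedding.isOpenMap _ hV'
    have hjemb : Topology.IsInducing j := j.isEmbedding.isInducing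
    obtain ⟨U, hU, hUeq⟩ := hjemb.isOpen_iff.1 (hV''.preimage h.continuous)
    refine ⟨U, hU, ?_⟩
    ext y
    have hy : e y ∈ Set.range j := by rw [hjrange, ← herange]; exact ⟨y, rfl⟩
    obtain ⟨r, hr⟩ := hy
    have hyr : h r = O.ι y := hzinj (by rw [← Scheme.Hom.comp_apply, hh, hr]; rfl)
    show e y ∈ U ↔ y ∈ V'
    rw [← hr, ← Set.mem_preimage, hUeq, Set.mem_preimage, hyr]
    exact O.ι.isOpenEmbedding.injective.mem_set_image
  haveI : IsPreimmersion e := by
    refine IsPreimmersion.mk (toSurjectiveOnStalks := ⟨fun y => ?_⟩) ⟨heind, heinj⟩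
    show Function.Surjective (e.stalkMap y)
    rw [Scheme.Hom.stalkMap_comp]
    exact (ConcreteCategory.bijective_of_isIso (O.ι.stalkMap y)).2.comp (hzst _)
  have hei : IsImmersion e := { isLocallyClosed_range := herange ▸ hlc }
  haveI : IsLocallyNoetherian O.toScheme := isLocallyNoetherian_of_isOpenImmersion O.ι
  refine ⟨O.toScheme, e, hei, herange, fun T g => ⟨fun hg => ?_, ?_⟩⟩
  · have key : ∀ t : T, ∃ (A : CommRingCat.{u}) (o : Spec A ⟶ T), IsOpenImmersion o ∧ t ∈ Set.range o ∧
        ∃ a, a ≫ e = o ≫ g := by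
      intro t
      obtain ⟨U, hU, htU, hUO⟩ := exists_isAffineOpen_mem_and_subset (x := t) (U := g ⁻¹ᵁ ⊤) trivial
      refine ⟨Γ(T, U), hU.fromSpec, inferInstance, by rw [hU.range_fromSpec]; exact htU, ?_⟩
      haveI : IsNoetherianRing Γ(S, ⊤) := IsLocallyNoetherian.component_noetherian ⟨⊤, isAffineOpen_top S⟩
      letI : Algebra Γ(S, ⊤) Γ(T, U) := (g.appLE ⊤ U hUO).hom.toAlgebra
      have hge : Spec.map (CommRingCat.ofHom (algebraMap Γ(S, ⊤) Γ(T, U))) ≫ (isAffineOpen_top S).fromSpec =
          hU.fromSpec ≫ g :=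
        IsAffineOpen.SpecMap_appLE_fromSpec g (isAffineOpen_top S) hU hUO
      obtain ⟨T₀, XT, _, π, φ, πT, q, hπ, hsq, hfl⟩ :=
        exists_flat_stage f hFP Γ(S, ⊤) (isAffineOpen_top S).fromSpec Γ(T, U)
          (isFlatOver_square (𝟙 _) (by rw [Category.id_comp]; exact hge.symm) (IsPullback.of_hasPullback f _)
            (IsPullback.of_hasPullback f _) (hg.comp hU.fromSpec).1)
      obtain ⟨a, ha⟩ := (huniv T₀ XT φ πT q hsq).1 hfl
      have hcomp : (π ≫ a) ≫ z = hU.fromSpec ≫ g := by rw [Category.assoc, ha, hπ, hge]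
      refine ⟨IsOpenImmersion.lift O.ι (π ≫ a) ?_, by
        rw [← Category.assoc, IsOpenImmersion.lift_fac, hcomp]⟩
      rw [Scheme.Opens.range_ι]
      rintro _ ⟨y, rfl⟩
      show z ((π ≫ a) y) ∈ hilbLocus f L F Φ
      rw [← Scheme.Hom.comp_apply, hcomp]
      exact hg.2 _
    choose A o ho hto a ha using key
    exact exists_lift_of_local e g
      (Scheme.Cover.mkOfCovers T (fun t => Spec (A t)) o (fun t => ⟨t, hto t⟩) ho)
      fun t => ⟨a t, ha t⟩
  · rintro ⟨w, rfl⟩
    refine HilbFlat.comp ⟨?_, fun t => herange ▸ ⟨t, rfl⟩⟩ w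
    exact (huniv O.toScheme _ e _ _ (IsPullback.of_hasPullback f e)).2 ⟨O.ι, rfl⟩

end Groth.Agent.VarietyLib
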