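import Groth.Agent.DimLib.OverBridge
import Groth.Agent.Unram17Lib.LocalDim
import Groth.Agent.AlgSpLib.FibreDimChart
import Groth.Prelude.Def_Flat
import Mathlib

/-! Local dimension at a point of a scheme locally of finite type over a field. -/

set_option autoImplicit false
set_option backward.isDefEq.respectTransparency.types false
universe u

open CategoryTheory AlgebraicGeometry

namespace Groth.Agent.VarietyLib

variable {k : Type u} [Field k]

/-- `dim_x X = dim O_{X,x} + trdeg κ(x)`. -/
theorem localDim_eq_stalk_add_ptDim {X : Scheme.{u}} (f : X ⟶ Spec (CommRingCat.of k)) [LocallyOfFiniteType f]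
    (x : X) : FlatMor.localDim X x = ringKrullDim (X.presheaf.stalk x) + (DimLib.ptDim f x : WithBot ℕ∞) := by
  obtain ⟨A, φ, j, P, hj, hφ, e, rfl⟩ := DimLib.exists_chart f x
  have h1 := DimLib.ptDim_chart f φ hφ j e P
  rw [← AlgSpLib.localDim_eq_of_map j.continuous j.isOpenEmbedding.isOpenMap
    j.isOpenEmbedding.generalizingMap (fun _ _ _ h => j.isOpenEmbedding.injective h) P, ← h1]
  rw [ringKrullDim_eq_of_ringEquiv (asIso (j.stalkMap P)).commRingCatIsoToRingEquiv]
  algebraize [φ]
  letI : Algebra A ((Spec A).presheaf.stalk P) := StructureSheaf.stalkAlgebra A P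
  haveI : IsLocalization.AtPrime ((Spec A).presheaf.stalk P) P.asIdeal := StructureSheaf.IsLocalization.to_stalk A P
  rw [ringKrullDim_eq_of_ringEquiv
    (IsLocalization.algEquiv P.asIdeal.primeCompl ((Spec A).presheaf.stalk P) (Localization.AtPrime P.asIdeal)).toRingEquiv]
  exact Unram17Lib.localDim_spec (k := k) (A := A) P

/-- Natural-number transcendence degree of the residue field is `ptDim`. -/
theorem ptDim_eq_of_trdeg {X : Scheme.{u}} [X.Over (Spec (CommRingCat.of k))] (x : X) (n : ℕ)
    (hn : @Algebra.trdeg k (X.residueField x) _ _ (Curv2.resMap k X x).toAlgebra = n) :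
    DimLib.ptDim (X ↘ Spec (CommRingCat.of k)) x = n := by
  rw [DimLib.ptDim, DimLib.trdegHom, DimLib.baseRingHom_eq_resMap, hn, Cardinal.toNat_natCast]

/-- Converse: the cardinal transcendence degree of the residue field is the natural number `ptDim`. -/
theorem trdeg_eq_ptDim {X : Scheme.{u}} [X.Over (Spec (CommRingCat.of k))]
    [LocallyOfFiniteType (X ↘ Spec (CommRingCat.of k))] (x : X) :
    @Algebra.trdeg k (X.residueField x) _ _ (Curv2.resMap k X x).toAlgebra =
      DimLib.ptDim (X ↘ Spec (CommRingCat.of k)) x := by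
  rw [DimLib.ptDim, DimLib.trdegHom, ← DimLib.baseRingHom_eq_resMap]
  exact (Cardinal.cast_toNat_of_lt_aleph0 (DimLib.trdeg_baseRingHom_lt _ x)).symm

end Groth.Agent.VarietyLib
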