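import Groth.Agent.ModStalk.Exact
import Groth.Agent.Coherent.CohBC.PushStructure
import Groth.Agent.Coherent.CohBC.HomSheaf
import Groth.Agent.LocFreeLib.Semilocal
import Groth.Agent.EulerLib.Additive
import Groth.Agent.EulerLib.SupportVanishing
import Groth.Prelude.Def_CurvBase

/-!
# Additivity of ranks and degrees
-/

set_option autoImplicit false
set_option linter.style.haveILetI false
set_option backward.isDefEq.respectTransparency.types false

universe u

open CategoryTheory CategoryTheory.Limits AlgebraicGeometry TopologicalSpace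
open Groth.Agent.Coherent Groth.Agent.Coherent.CohBC Groth.Agent.ModStalk

namespace Groth.Agent.VarietyLib

variable {X : Scheme.{u}}

theorem isFinLocFree_of_rank {n : ℕ} {E : X.Modules} (hE : FlatMod.IsFinLocFreeOfRank n E) :
    FlatMod.IsFinLocFree E := fun x => by
  obtain ⟨U, hx, e⟩ := hE x
  exact ⟨U, n, hx, e⟩

theorem finrank_stalk_of_rank {n : ℕ} {E : X.Modules} (hE : FlatMod.IsFinLocFreeOfRank n E) (x : X) :
    Module.finrank (X.presheaf.stalk x) (E.presheaf.stalk x) = n := by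
  haveI := LocFreeLib.isQCoh_of_isFinLocFreeOfRank hE
  obtain ⟨U, hx, ⟨e⟩⟩ := hE x
  exact finrank_stalk_of_free E hx e

/-- Ranks add up in short exact sequences. -/
theorem rank_add {S : ShortComplex X.Modules} (hS : S.ShortExact) {n₁ n₂ n₃ : ℕ}
    (h₁ : FlatMod.IsFinLocFreeOfRank n₁ S.X₁) (h₂ : FlatMod.IsFinLocFreeOfRank n₂ S.X₂)
    (h₃ : FlatMod.IsFinLocFreeOfRank n₃ S.X₃) (x : X) : n₂ = n₁ + n₃ := by
  haveI := LocFreeLib.isQCoh_of_isFinLocFreeOfRank h₁
  haveI := LocFreeLib.isQCoh_of_isFinLocFreeOfRank h₃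
  haveI hf₁ : Module.Free (X.presheaf.stalk x) (S.X₁.presheaf.stalk x) :=
    Props12.free_stalk_of_isFinLocFree _ (isFinLocFree_of_rank h₁) x
  haveI hf₃ : Module.Free (X.presheaf.stalk x) (S.X₃.presheaf.stalk x) :=
    Props12.free_stalk_of_isFinLocFree _ (isFinLocFree_of_rank h₃) x
  haveI : Module.Finite (X.presheaf.stalk x) (S.X₁.presheaf.stalk x) := by
    obtain ⟨U, m, hxU, hb⟩ := Props12.exists_nhd_basis_stalk S.X₁ (isFinLocFree_of_rank h₁) x
    obtain ⟨b⟩ := hb x hxU
    exact Module.Finite.of_basis b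
  haveI : Module.Finite (X.presheaf.stalk x) (S.X₃.presheaf.stalk x) := by
    obtain ⟨U, m, hxU, hb⟩ := Props12.exists_nhd_basis_stalk S.X₃ (isFinLocFree_of_rank h₃) x
    obtain ⟨b⟩ := hb x hxU
    exact Module.Finite.of_basis b
  have hex := hS.map_of_exact (DerSch.stalkFunctor X x)
  let f : S.X₁.presheaf.stalk x →ₗ[X.presheaf.stalk x] S.X₂.presheaf.stalk x :=
    (S.map (DerSch.stalkFunctor X x)).f.hom
  let g : S.X₂.presheaf.stalk x →ₗ[X.presheaf.stalk x] S.X₃.presheaf.stalk x :=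
    (S.map (DerSch.stalkFunctor X x)).g.hom
  have hf : Function.Injective f := (ModuleCat.mono_iff_injective _).mp hex.mono_f
  have hg : Function.Surjective g := (ModuleCat.epi_iff_surjective _).mp hex.epi_g
  have hfg : Function.Exact f g :=
    (ShortComplex.ShortExact.moduleCat_exact_iff_function_exact _).mp hex.exact
  obtain ⟨s, hs⟩ := Module.projective_lifting_property g LinearMap.id hg
  have e := (hfg.splitSurjectiveEquiv hf ⟨s, hs⟩).1
  rw [← finrank_stalk_of_rank h₂ x, e.finrank_eq, Module.finrank_prod, finrank_stalk_of_rank h₁ x,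
    finrank_stalk_of_rank h₃ x]

/-- Degrees add up in short exact sequences. -/
theorem deg_add (k : Type u) [Field k] [X.Over (Spec (CommRingCat.of k))] [IsProper (X ↘ Spec (CommRingCat.of k))]
    {S : ShortComplex X.Modules} (hS : S.ShortExact) {n₁ n₂ n₃ : ℕ}
    (h₁ : FlatMod.IsFinLocFreeOfRank n₁ S.X₁) (h₂ : FlatMod.IsFinLocFreeOfRank n₂ S.X₂)
    (h₃ : FlatMod.IsFinLocFreeOfRank n₃ S.X₃) :
    Curv2.deg k X S.X₂ n₂ = Curv2.deg k X S.X₁ n₁ + Curv2.deg k X S.X₃ n₃ := by
  haveI := QuasiCompact.compactSpace_of_compactSpace (X ↘ Spec (CommRingCat.of k))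
  haveI : IsLocallyNoetherian X := LocallyOfFiniteType.isLocallyNoetherian (X ↘ Spec (CommRingCat.of k))
  have h := EulerLib.euler_additive k X S hS (isCoh_of_isFinLocFree (isFinLocFree_of_rank h₁))
    (isCoh_of_isFinLocFree (isFinLocFree_of_rank h₂)) (isCoh_of_isFinLocFree (isFinLocFree_of_rank h₃))
  rcases isEmpty_or_nonempty X with hX | ⟨⟨x⟩⟩
  · have hz : ∀ M : X.Modules, Curv2.euler k X M = 0 := fun M => EulerLib.euler_of_isZero k X
      (EulerLib.isZero_of_support_eq_empty (Set.eq_empty_of_isEmpty _))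
    simp [Curv2.deg, hz]
  · simp only [Curv2.deg, h, rank_add hS h₁ h₂ h₃ x]
    push_cast
    ring

end Groth.Agent.VarietyLib
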