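import Groth.Agent.ModStalk.Tensor
import Groth.Agent.OmegaLib.StalkLocal
import Groth.Agent.Props12.FinLocFree
import Groth.Agent.LocFreeLib.Semilocal
import Groth.Prelude.Def_KoszTw

/-!
# Tensoring with a module with flat stalks is exact
-/

set_option autoImplicit false
set_option linter.style.haveILetI false
set_option backward.isDefEq.respectTransparency.types false

universe u

open CategoryTheory CategoryTheory.Limits AlgebraicGeometry TopologicalSpace MonoidalCategory
open Groth.Agent.ModStalk Groth.Agent.OmegaLib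

namespace Groth.Agent.VarietyLib

variable {X : Scheme.{u}}

local notation "St" => DerSch.stalkFunctor X

/-- A morphism vanishing on all stalks is zero. -/
theorem eq_zero_of_stalks {A C : X.Modules} (φ : A ⟶ C) (h : ∀ x, ∀ v, (St x).map φ v = 0) : φ = 0 := by
  refine Scheme.Modules.hom_ext _ _ fun U => ?_
  ext s
  refine TopCat.Presheaf.section_ext ⟨C.presheaf, C.isSheaf⟩ U _ _ fun x hx => ?_
  have h1 := h x (gm A U x hx s)
  rw [map_gm] at h1
  exact h1.trans (gm_zero C hx).symm

/-- The stalk of `f ⊗ 1`. -/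
theorem stalk_tensorMap_id {M M' : X.Modules} (f : M ⟶ M') (E : X.Modules) (x : X)
    (v : (St x).obj (CohB1.tensorMod M E)) :
    (stalkTensorIso x M' E).hom ((St x).map (KoszTw.tensorMap f (𝟙 E)) v) =
      LinearMap.rTensor _ ((St x).map f).hom ((stalkTensorIso x M E).hom v) := by
  have h := ConcreteCategory.congr_hom (stalkTensorIso_natural (x := x) f (𝟙 E)) v
  refine h.trans ?_
  show (((St x).map f) ⊗ₘ ((St x).map (𝟙 E))).hom _ = _
  rw [CategoryTheory.Functor.map_id, tensorHom_id]
  rfl

/-- Tensoring a short exact sequence with a module with flat stalks. -/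
theorem exists_tensorSeq {S : ShortComplex X.Modules} (hS : S.ShortExact) (E : X.Modules)
    (hE : ∀ x, Module.Flat (X.presheaf.stalk x) (E.presheaf.stalk x)) :
    ∃ T : ShortComplex X.Modules, T.ShortExact ∧ T.X₁ = CohB1.tensorMod S.X₁ E ∧
      T.X₂ = CohB1.tensorMod S.X₂ E ∧ T.X₃ = CohB1.tensorMod S.X₃ E := by
  let a := KoszTw.tensorMap S.f (𝟙 E)
  let b := KoszTw.tensorMap S.g (𝟙 E)
  have hflat : ∀ x, Module.Flat (X.presheaf.stalk x) ((St x).obj E) := hE
  have hex : ∀ x, Function.Exact ((St x).map a) ((St x).map b) ∧ Function.Injective ((St x).map a) ∧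
      Function.Surjective ((St x).map b) := by
    intro x
    haveI := hflat x
    have hx := hS.map_of_exact (St x)
    let f := ((St x).map S.f).hom
    let g := ((St x).map S.g).hom
    have hfg : Function.Exact f g := (ShortComplex.ShortExact.moduleCat_exact_iff_function_exact _).mp hx.exact
    have hf : Function.Injective f := (ModuleCat.mono_iff_injective _).mp hx.mono_f
    have hg : Function.Surjective g := (ModuleCat.epi_iff_surjective _).mp hx.epi_g
    let e₁ : ((St x).obj (CohB1.tensorMod S.X₁ E)) ≃ₗ[X.presheaf.stalk x]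
        TensorProduct (X.presheaf.stalk x) ((St x).obj S.X₁) ((St x).obj E) :=
      (stalkTensorIso x S.X₁ E).toLinearEquiv
    let e₂ : ((St x).obj (CohB1.tensorMod S.X₂ E)) ≃ₗ[X.presheaf.stalk x]
        TensorProduct (X.presheaf.stalk x) ((St x).obj S.X₂) ((St x).obj E) :=
      (stalkTensorIso x S.X₂ E).toLinearEquiv
    let e₃ : ((St x).obj (CohB1.tensorMod S.X₃ E)) ≃ₗ[X.presheaf.stalk x]
        TensorProduct (X.presheaf.stalk x) ((St x).obj S.X₃) ((St x).obj E) :=
      (stalkTensorIso x S.X₃ E).toLinearEquiv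
    have ha : ∀ v, e₂ ((St x).map a v) = LinearMap.rTensor _ f (e₁ v) := fun v => stalk_tensorMap_id S.f E x v
    have hb : ∀ v, e₃ ((St x).map b v) = LinearMap.rTensor _ g (e₂ v) := fun v => stalk_tensorMap_id S.g E x v
    have hf' := Module.Flat.rTensor_preserves_injective_linearMap (M := ((St x).obj E)) f hf
    have hg' := LinearMap.rTensor_surjective ((St x).obj E) hg
    have hfg' := rTensor_exact ((St x).obj E) hfg hg
    refine ⟨fun v => ⟨fun hv => ?_, ?_⟩, fun v w h => ?_, fun w => ?_⟩
    · obtain ⟨u, hu⟩ := (hfg' (e₂ v)).1 (by rw [← hb, hv, map_zero])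
      refine ⟨e₁.symm u, e₂.injective ?_⟩
      rw [ha, e₁.apply_symm_apply, hu]
    · rintro ⟨u, rfl⟩
      refine e₃.injective ?_
      rw [hb, ha, hfg'.apply_apply_eq_zero, map_zero]
    · refine e₁.injective (hf' ?_)
      rw [← ha, ← ha, h]
    · obtain ⟨u, hu⟩ := hg' (e₃ w)
      refine ⟨e₂.symm u, e₃.injective ?_⟩
      rw [hb, e₂.apply_symm_apply, hu]
  have hz : a ≫ b = 0 := eq_zero_of_stalks _ fun x v => by
    rw [CategoryTheory.Functor.map_comp]
    exact (hex x).1.apply_apply_eq_zero v
  let T : ShortComplex X.Modules := ShortComplex.mk a b hz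
  haveI hm : Mono T.f := mono_of_stalks_injective a fun x => (hex x).2.1
  haveI he : Epi T.g := epi_of_stalks_surjective b fun x => (hex x).2.2
  refine ⟨T, { exact := exact_of_stalks T fun x => ?_ }, rfl, rfl, rfl⟩
  exact (ShortComplex.ShortExact.moduleCat_exact_iff_function_exact _).mpr (hex x).1

theorem flat_stalk_of_rank {n : ℕ} {E : X.Modules} (hE : FlatMod.IsFinLocFreeOfRank n E) (x : X) :
    Module.Flat (X.presheaf.stalk x) (E.presheaf.stalk x) := by
  haveI := LocFreeLib.isQCoh_of_isFinLocFreeOfRank hE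
  haveI := Props12.free_stalk_of_isFinLocFree E
    (fun y => by obtain ⟨U, hy, e⟩ := hE y; exact ⟨U, n, hy, e⟩) x
  infer_instance

end Groth.Agent.VarietyLib
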