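import Groth.Agent.VarietyLib.ClosedCoverLift
import Groth.Agent.H8Lim.ClosedModels
import Groth.Agent.H8Lim.Absolute

/-!
# Schemes covered by finitely many affine closed subschemes are affine

EGA I 5.1.9 / Stacks 05YU without Noetherian hypotheses, and its consequence for thickenings.
-/

set_option autoImplicit false
set_option backward.isDefEq.respectTransparency.types false

universe u v

open CategoryTheory Limits AlgebraicGeometry TopologicalSpace Opposite

namespace Groth.Agent.VarietyLib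

open CCLift

variable {X Y Z Z' : Scheme.{u}}

theorem app_congr_hom {f g : Y ⟶ X} (h : f = g) {U : X.Opens} {a : Γ(X, U)}
    (ha : f.app U a = 0) : g.app U a = 0 := by
  subst h; exact ha

theorem notMem_basicOpen_of_app_eq_zero (f : Y ⟶ X) {U : X.Opens} {a : Γ(X, U)} (h : f.app U a = 0)
    (y : Y) : f y ∉ X.basicOpen a := fun hy => by
  have h1 : y ∈ f ⁻¹ᵁ X.basicOpen a := hy
  rw [Scheme.preimage_basicOpen, h, Scheme.basicOpen_zero] at h1
  exact (h1 : y ∈ (⊥ : Y.Opens)).elim

/-- Lifting of global functions from one closed subscheme when the other is affine. -/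
theorem exists_lift_top [IsAffine Z'] [X.IsSeparated] {i : Z ⟶ X} {j : Z' ⟶ X} [IsClosedImmersion i]
    [IsClosedImmersion j] (hmul : MulZero i j) (f : Γ(Z, ⊤)) : ∃ g : Γ(X, ⊤), i.app ⊤ g = f := by
  have hU : ∀ x : X, ∃ U : X.Opens, IsAffineOpen U ∧ x ∈ U := fun x => by
    obtain ⟨_, ⟨U, hU, rfl⟩, hxU, -⟩ :=
      X.isBasis_affineOpens.exists_subset_of_mem_open (Set.mem_univ x) isOpen_univ
    exact ⟨U, hU, hxU⟩
  choose U hUa hxU using hU
  choose g hg using fun x => i.app_surjective (U x) (hUa x) (rs le_top f)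
  obtain ⟨G, hG⟩ := exists_global (j' := i) hmul.symm U (fun x => ⟨x, hxU x⟩) g (fun a b => by
    constructor <;>
    rw [map_sub, app_rs, app_rs, hg, hg, rs_rs, rs_rs, sub_self])
  refine ⟨G, eq_of_locally fun z _ => ⟨i ⁻¹ᵁ U (i z), le_top, hxU (i z), ?_⟩⟩
  have h := (hG (i z)).1
  rw [map_sub, sub_eq_zero, app_rs, hg] at h
  exact h

/-- A function nonvanishing at a point of a closed affine subscheme, vanishing on it outside `U`. -/
theorem exists_fun [IsAffine Z] [IsAffine Z'] [X.IsSeparated] {i : Z ⟶ X} {j : Z' ⟶ X}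
    [IsClosedImmersion i] [IsClosedImmersion j] (hmul : MulZero i j) (U : X.Opens) (z : Z)
    (hz : i z ∈ U) : ∃ g : Γ(X, ⊤), i z ∈ X.basicOpen g ∧ ∀ w : Z, i w ∈ X.basicOpen g → i w ∈ U := by
  obtain ⟨f, hf, hzf⟩ := (isAffineOpen_top Z).exists_basicOpen_le (V := i ⁻¹ᵁ U) ⟨z, hz⟩ trivial
  obtain ⟨g, hg⟩ := exists_lift_top hmul f
  have he : i ⁻¹ᵁ X.basicOpen g = Z.basicOpen f := by
    rw [Scheme.preimage_basicOpen, hg]
    rfl
  exact ⟨g, he.ge hzf, fun w hw => hf (he.le hw)⟩

/-- A function vanishing on `Z'` and invertible at a closed point outside it. -/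
theorem exists_fun_off [IsAffine Z] [IsAffine Z'] [X.IsSeparated] {i : Z ⟶ X} {j : Z' ⟶ X}
    [IsClosedImmersion i] [IsClosedImmersion j] (hmul : MulZero i j) {x : X}
    (hx : IsClosed ({x} : Set X)) (hxj : x ∉ Set.range j) :
    ∃ g : Γ(X, ⊤), x ∈ X.basicOpen g ∧ ∀ w : Z', j w ∉ X.basicOpen g := by
  let I := Scheme.IdealSheafData.vanishingIdeal (⟨{x}, hx⟩ : Closeds X)
  let p := I.subschemeι
  have hp : Set.range p = {x} := by
    rw [Scheme.IdealSheafData.range_subschemeι, Scheme.IdealSheafData.coe_support_vanishingIdeal]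
    rfl
  let W₁ : X.Opens := ⟨{x}ᶜ, hx.isOpen_compl⟩
  let W₂ : X.Opens := ⟨(Set.range j)ᶜ, j.isClosedEmbedding.isClosed_range.isOpen_compl⟩
  let W : ULift.{u} Bool → X.Opens := fun b => bif b.down then W₂ else W₁
  have hsub : ∀ (V : X.Opens), V ≤ W₁ ⊓ W₂ → ∀ a : Γ(X, V), Killed j p a := fun V hV a => by
    constructor
    · exact (subsingleton_sections (X := Z') fun w hw => (hV hw).2 ⟨w, rfl⟩).elim _ _
    · exact (subsingleton_sections (X := I.subscheme) fun w hw => (hV hw).1 (hp.le ⟨w, rfl⟩)).elim _ _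
  obtain ⟨G, hG⟩ := exists_global (j' := p) hmul W (fun y => by
      by_cases hy : y = x
      · exact ⟨⟨true⟩, by rw [hy]; exact hxj⟩
      · exact ⟨⟨false⟩, hy⟩)
    (fun b => match b with
      | ⟨true⟩ => (1 : Γ(X, W₂))
      | ⟨false⟩ => (0 : Γ(X, W₁)))
    (by
      rintro ⟨_ | _⟩ ⟨_ | _⟩
      · simp only [sub_self, rs, map_zero]; exact Killed.zero
      · exact hsub _ le_rfl _
      · exact hsub _ (inf_comm W₂ W₁).le _
      · simp only [rs, map_one, sub_self]; exact Killed.zero)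
  refine ⟨G, ?_, fun w hw => ?_⟩
  · obtain ⟨w, hw⟩ := hp.ge (Set.mem_singleton x)
    have h1 := (hG ⟨true⟩).2
    have h2 := notMem_basicOpen_of_app_eq_zero p h1 w
    rw [hw] at h2
    let a : Γ(X, W₂) := rs le_top G
    have hxW : x ∈ W₂ := hxj
    have h2' : ¬ IsUnit (X.presheaf.germ W₂ x hxW (a - 1)) := fun h =>
      h2 ((Scheme.mem_basicOpen'' _ _ _).2 ⟨hxW, h⟩)
    rw [map_sub, map_one] at h2'
    have hu : IsUnit (X.presheaf.germ W₂ x hxW a) := by
      rcases IsLocalRing.isUnit_or_isUnit_one_sub_self (X.presheaf.germ W₂ x hxW a) with h | h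
      · exact h
      · exact absurd (by simpa using h.neg) h2'
    have h3 : x ∈ X.basicOpen a := (Scheme.mem_basicOpen'' _ _ _).2 ⟨hxW, hu⟩
    rw [Scheme.basicOpen_res] at h3
    exact h3.2
  · have hwx : j w ∈ W₁ := fun h => hxj ⟨w, h⟩
    have h1 := (hG ⟨false⟩).1
    have h2 := notMem_basicOpen_of_app_eq_zero j h1 w
    rw [sub_zero, Scheme.basicOpen_res] at h2
    exact h2 ⟨hwx, hw⟩

/-- A scheme which is the union of two affine closed subschemes with vanishing product of ideals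
is affine. -/
theorem isAffine_of_mulZero [IsAffine Z] [IsAffine Z'] [X.IsSeparated] {i : Z ⟶ X} {j : Z' ⟶ X}
    [IsClosedImmersion i] [IsClosedImmersion j] (hmul : MulZero i j) : IsAffine X := by
  classical
  have : CompactSpace X := by
    refine ⟨?_⟩
    have h : (Set.univ : Set X) = Set.range i ∪ Set.range j :=
      (Set.eq_univ_of_forall fun x => hmul.cover x).symm
    rw [h]
    exact (isCompact_range i.continuous).union (isCompact_range j.continuous)
  let S : Set Γ(X, ⊤) := {g | IsAffineOpen (X.basicOpen g)}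
  have hS : ∀ x : X, ∃ g ∈ S, x ∈ X.basicOpen g := by
    intro x
    obtain ⟨y, hy, hyc⟩ := (isClosed_closure (s := ({x} : Set X))).exists_closed_singleton
      ⟨x, subset_closure rfl⟩
    obtain ⟨_, ⟨U, hU, rfl⟩, hyU, -⟩ :=
      X.isBasis_affineOpens.exists_subset_of_mem_open (Set.mem_univ y) isOpen_univ
    obtain ⟨g, hyg, hgU⟩ : ∃ g : Γ(X, ⊤), y ∈ X.basicOpen g ∧ X.basicOpen g ≤ U := by
      by_cases hi : y ∈ Set.range i <;> by_cases hj : y ∈ Set.range j
      · obtain ⟨z, rfl⟩ := hi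
        obtain ⟨v, hv, hvU⟩ := exists_fun hmul U z hyU
        obtain ⟨z', hz'⟩ := hj
        obtain ⟨u, hu, huU⟩ := exists_fun hmul.symm U z' (hz'.symm ▸ hyU)
        refine ⟨v * u, ?_, ?_⟩
        · rw [Scheme.basicOpen_mul]; exact ⟨hv, hz' ▸ hu⟩
        · rw [Scheme.basicOpen_mul]
          rintro w ⟨hwv, hwu⟩
          rcases hmul.cover w with ⟨w, rfl⟩ | ⟨w, rfl⟩
          exacts [hvU w hwv, huU w hwu]
      · obtain ⟨z, rfl⟩ := hi
        obtain ⟨v, hv, hvU⟩ := exists_fun hmul U z hyU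
        obtain ⟨u, hu, huj⟩ := exists_fun_off hmul hyc hj
        refine ⟨v * u, ?_, ?_⟩
        · rw [Scheme.basicOpen_mul]; exact ⟨hv, hu⟩
        · rw [Scheme.basicOpen_mul]
          rintro w ⟨hwv, hwu⟩
          rcases hmul.cover w with ⟨w, rfl⟩ | ⟨w, rfl⟩
          exacts [hvU w hwv, absurd hwu (huj w)]
      · obtain ⟨z, rfl⟩ := hj
        obtain ⟨v, hv, hvU⟩ := exists_fun hmul.symm U z hyU
        obtain ⟨u, hu, huj⟩ := exists_fun_off hmul.symm hyc hi
        refine ⟨v * u, ?_, ?_⟩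
        · rw [Scheme.basicOpen_mul]; exact ⟨hv, hu⟩
        · rw [Scheme.basicOpen_mul]
          rintro w ⟨hwv, hwu⟩
          rcases hmul.cover w with ⟨w, rfl⟩ | ⟨w, rfl⟩
          exacts [absurd hwu (huj w), hvU w hwv]
      · exact absurd (hmul.cover y) (not_or.2 ⟨hi, hj⟩)
    obtain ⟨z, hz, rfl⟩ := mem_closure_iff.1 hy _ (X.basicOpen g).2 hyg
    refine ⟨g, ?_, hz⟩
    show IsAffineOpen (X.basicOpen g)
    rw [← inf_eq_right.2 hgU, ← Scheme.basicOpen_res X g (homOfLE (le_top (a := U))).op]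
    exact hU.basicOpen _
  obtain ⟨t, ht⟩ := isCompact_univ.elim_finite_subcover
    (fun g : S => (X.basicOpen (g : Γ(X, ⊤)) : Set X)) (fun g => (X.basicOpen (g : Γ(X, ⊤))).2)
    (fun x _ => by
      obtain ⟨g, hg, hx⟩ := hS x
      exact Set.mem_iUnion.2 ⟨⟨g, hg⟩, hx⟩)
  have key : ∀ {T T' : Scheme.{u}} (p : T ⟶ X) (p' : T' ⟶ X) [IsAffine T] [IsAffine T']
      [IsClosedImmersion p] [IsClosedImmersion p'], MulZero p p' →
      ∃ ε ∈ Ideal.span S, p.app ⊤ (1 - ε) = 0 := by
    intro T T' p p' _ _ _ _ hm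
    have hspan : Ideal.span (Set.range fun g : {g // g ∈ t} => (show Γ(T, ⊤) from p.appTop g.1.1)) = (⊤ : Ideal Γ(T, ⊤)) := by
      rw [← (isAffineOpen_top T).iSup_basicOpen_eq_self_iff]
      refine top_unique fun w _ => ?_
      obtain ⟨g, hg, hw⟩ := Set.mem_iUnion₂.1 (ht (Set.mem_univ (p w)))
      refine Opens.mem_iSup.2 ⟨⟨_, ⟨g, hg⟩, rfl⟩, ?_⟩
      have : w ∈ p ⁻¹ᵁ X.basicOpen g.1 := hw
      rwa [Scheme.preimage_basicOpen] at this
    obtain ⟨a, ha⟩ := Ideal.mem_span_range_iff_exists_fun.1 (hspan ▸ Submodule.mem_top (x := (1 : Γ(T, ⊤))))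
    choose b hb using fun g => exists_lift_top hm (a g)
    refine ⟨∑ g, b g * g.1.1, Ideal.sum_mem _ fun g _ => Ideal.mul_mem_left _ _ (Ideal.subset_span g.1.2), ?_⟩
    simp only [map_sub, map_one, map_sum, map_mul, hb]
    exact sub_eq_zero.2 ha.symm
  obtain ⟨ε, hε, hε0⟩ := key i j hmul
  obtain ⟨ε', hε', hε'0⟩ := key j i hmul.symm
  refine isAffine_of_isAffineOpen_basicOpen S ?_ fun g hg => hg
  rw [Ideal.eq_top_iff_one, show (1 : Γ(X, ⊤)) = ε + ε' - ε * ε' by
    linear_combination hmul ⊤ _ _ hε0 hε'0]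
  exact Ideal.sub_mem _ (Ideal.add_mem _ hε hε') (Ideal.mul_mem_left _ _ hε')

/-- The closed subscheme of a product of two ideals with affine closed subschemes is affine. -/
theorem isAffine_subscheme_mul [X.IsSeparated] (J I : X.IdealSheafData) [IsAffine J.subscheme]
    [IsAffine I.subscheme] : IsAffine (J * I).subscheme := by
  have hJ : J * I ≤ J := fun U => Ideal.mul_le_left (I := J.ideal U) (J := I.ideal U)
  have hI : J * I ≤ I := fun U => Ideal.mul_le_right (I := J.ideal U) (J := I.ideal U)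
  let k := (J * I).subschemeι
  let ι₁ := Scheme.IdealSheafData.inclusion hJ
  let ι₂ := Scheme.IdealSheafData.inclusion hI
  have e₁ : ι₁ ≫ k = J.subschemeι := Scheme.IdealSheafData.inclusion_subschemeι hJ
  have e₂ : ι₂ ≫ k = I.subschemeι := Scheme.IdealSheafData.inclusion_subschemeι hI
  have : IsClosedImmersion (ι₁ ≫ k) := e₁ ▸ inferInstance
  have : IsClosedImmersion (ι₂ ≫ k) := e₂ ▸ inferInstance
  have : IsClosedImmersion ι₁ := IsClosedImmersion.of_comp ι₁ k
  have : IsClosedImmersion ι₂ := IsClosedImmersion.of_comp ι₂ k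
  have : (J * I).subscheme.IsSeparated := by
    have h : IsSeparated (k ≫ terminal.from X) := inferInstance
    rw [terminal.comp_from] at h
    exact ⟨h⟩
  refine isAffine_of_mulZero (i := ι₁) (j := ι₂) fun W a b ha hb => eq_of_locally fun y hy => ?_
  obtain ⟨O, hO, hOW⟩ := k.isEmbedding.isInducing.isOpen_iff.1 W.2
  obtain ⟨_, ⟨U, hU, rfl⟩, hyU, hUO⟩ :=
    X.isBasis_affineOpens.exists_subset_of_mem_open (show k y ∈ O from hOW.ge hy) hO
  have hle : k ⁻¹ᵁ U ≤ W := fun w hw => hOW.le (hUO hw)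
  obtain ⟨a', ha'⟩ := k.app_surjective U hU (rs hle a)
  obtain ⟨b', hb'⟩ := k.app_surjective U hU (rs hle b)
  have haJ : a' ∈ J.ideal ⟨U, hU⟩ := by
    rw [← J.ker_subschemeι_app ⟨U, hU⟩]
    refine app_congr_hom e₁ ?_
    show ι₁.app (k ⁻¹ᵁ U) (k.app U a') = 0
    rw [ha', app_rs, ha, rs, map_zero]
  have hbI : b' ∈ I.ideal ⟨U, hU⟩ := by
    rw [← I.ker_subschemeι_app ⟨U, hU⟩]
    refine app_congr_hom e₂ ?_
    show ι₂.app (k ⁻¹ᵁ U) (k.app U b') = 0
    rw [hb', app_rs, hb, rs, map_zero]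
  refine ⟨k ⁻¹ᵁ U, hle, hyU, ?_⟩
  have : k.app U (a' * b') = 0 := by
    show a' * b' ∈ RingHom.ker (k.app U).hom
    rw [(J * I).ker_subschemeι_app ⟨U, hU⟩, Scheme.IdealSheafData.ideal_mul, Pi.mul_apply]
    exact Ideal.mul_mem_mul haJ hbI
  simp only [rs, map_mul, map_zero] at ha' hb' ⊢
  rw [← ha', ← hb', ← map_mul]
  exact this

/-- The closed subscheme of a finite product of ideals. -/
theorem isAffine_subscheme_foldr [X.IsSeparated] :
    ∀ (L : List X.IdealSheafData), (∀ J ∈ L, IsAffine J.subscheme) →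
      IsAffine (L.foldr (· * ·) ⊤).subscheme
  | [], _ => by
    have : IsEmpty (⊤ : X.IdealSheafData).subscheme := ⟨fun w => by
      have h := (⊤ : X.IdealSheafData).range_subschemeι.le ⟨w, rfl⟩
      exact h.elim⟩
    simp only [List.foldr_nil]
    infer_instance
  | J :: L, h => by
    have := h J List.mem_cons_self
    have := isAffine_subscheme_foldr L fun J' hJ' => h J' (List.mem_cons_of_mem _ hJ')
    exact isAffine_subscheme_mul J _

theorem ideal_foldr (L : List X.IdealSheafData) (U : X.affineOpens) :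
    (L.foldr (· * ·) ⊤).ideal U = (L.map fun J => J.ideal U).prod := by
  induction L with
  | nil => simp [Scheme.IdealSheafData.ideal_top]
  | cons J L ih => simp [ih]

/-- A separated scheme covered by finitely many affine closed subschemes of finite presentation is
affine. -/
theorem isAffine_of_finitePresentation_cover [X.IsSeparated] [CompactSpace X] {n : ℕ}
    (Z : Fin n → Scheme.{u}) (ι : ∀ k, Z k ⟶ X) [∀ k, IsClosedImmersion (ι k)]
    [∀ k, LocallyOfFinitePresentation (ι k)] [∀ k, IsAffine (Z k)]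
    (hcov : ∀ x : X, ∃ k, x ∈ Set.range (ι k)) : IsAffine X := by
  classical
  let L₀ := List.ofFn fun k => (ι k).ker
  let P := fun U : X.affineOpens => (L₀.map fun J => J.ideal U).prod
  have hFG : ∀ U : X.affineOpens, ∀ k, ((ι k).ker.ideal U).FG := by
    intro U k
    rw [Scheme.Hom.ker_apply]
    have h1 := HasRingHomProperty.appLE @LocallyOfFinitePresentation (ι k) inferInstance U
      ⟨_, U.2.preimage (ι k)⟩ le_rfl
    rw [← Scheme.Hom.app_eq_appLE] at h1
    let := ((ι k).app U.1).hom.toAlgebra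
    have : Algebra.FinitePresentation Γ(X, U) Γ(Z k, ι k ⁻¹ᵁ U.1) := h1
    exact Algebra.FinitePresentation.ker_fG_of_surjective (Algebra.ofId Γ(X, U) Γ(Z k, ι k ⁻¹ᵁ U.1))
      ((ι k).app_surjective U.1 U.2)
  have hP : ∀ U, IsNilpotent (P U) := by
    intro U
    have hfg : (P U).FG := by
      refine List.prod_induction Ideal.FG (fun a b ha hb => ha.mul hb) ?_ ?_
      · rw [Ideal.one_eq_top]; exact ⟨{1}, by simp⟩
      · intro a ha
        obtain ⟨J, hJ, rfl⟩ := List.mem_map.1 ha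
        obtain ⟨k, rfl⟩ := (List.mem_ofFn' _ _).1 hJ
        exact hFG U k
    rw [hfg.isNilpotent_iff_le_nilradical]
    intro a ha
    rw [mem_nilradical, X.isNilpotent_iff_basicOpen_eq_bot_of_isCompact U.2.isCompact]
    refine eq_bot_iff.2 fun x hx => ?_
    obtain ⟨k, y, rfl⟩ := hcov x
    have hle : P U ≤ (ι k).ker.ideal U := by
      refine Ideal.le_of_dvd (List.dvd_prod ?_)
      exact List.mem_map.2 ⟨_, (List.mem_ofFn' _ _).2 ⟨k, rfl⟩, rfl⟩
    have h0 : (ι k).app U.1 a = 0 := by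
      have := hle ha
      rwa [Scheme.Hom.ker_apply] at this
    exact (notMem_basicOpen_of_app_eq_zero (ι k) h0 y hx).elim
  obtain ⟨s, hs⟩ := isCompact_univ.elim_finite_subcover (fun U : X.affineOpens => (U.1 : Set X))
    (fun U => U.1.2) fun x _ => by
      obtain ⟨_, ⟨U, hU, rfl⟩, hxU, -⟩ :=
        X.isBasis_affineOpens.exists_subset_of_mem_open (Set.mem_univ x) isOpen_univ
      exact Set.mem_iUnion.2 ⟨⟨U, hU⟩, hxU⟩
  choose N hN using hP
  let M := s.sup N
  let L := (List.replicate M L₀).flatten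
  have hL : ∀ U, (L.foldr (· * ·) ⊤).ideal U = P U ^ M := fun U => by
    rw [ideal_foldr, List.map_flatten, List.prod_flatten, List.map_replicate, List.map_replicate,
      List.prod_replicate]
  have hbot : L.foldr (· * ·) ⊤ = (⊥ : X.IdealSheafData) := by
    refine Scheme.IdealSheafData.ext_of_iSup_eq_top (fun U : s => (U : X.affineOpens)) (top_unique
      fun x _ => ?_) fun U => ?_
    · obtain ⟨U, hU, hx⟩ := Set.mem_iUnion₂.1 (hs (Set.mem_univ x))
      exact Opens.mem_iSup.2 ⟨⟨U, hU⟩, hx⟩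
    · rw [hL, pow_eq_zero_of_le (Finset.le_sup U.2) (hN U.1)]
      simp
  have h := isAffine_subscheme_foldr L fun J hJ => by
    obtain ⟨l, hl, hJl⟩ := List.mem_flatten.1 hJ
    rw [List.eq_of_mem_replicate hl] at hJl
    obtain ⟨k, rfl⟩ := (List.mem_ofFn' _ _).1 hJl
    exact IsAffine.of_isIso (inv (ι k).toImage)
  rw [hbot] at h
  exact IsAffine.of_isIso (inv ((⊥ : X.IdealSheafData).subschemeι))

/-- A scheme with finitely many affine closed subschemes covering it is separated. -/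
theorem isSeparated_of_closed_cover {κ : Type v} [Finite κ] (Z : κ → Scheme.{u}) (ι : ∀ k, Z k ⟶ X)
    [∀ k, IsClosedImmersion (ι k)] [∀ k, IsAffine (Z k)]
    (hcov : ∀ x : X, ∃ k, x ∈ Set.range (ι k)) : X.IsSeparated := by
  let δ := pullback.diagonal (terminal.from X)
  have hcl : IsClosed (Set.range δ) := by
    have : Set.range δ = ⋃ k, Set.range (ι k ≫ δ) := by
      refine Set.Subset.antisymm ?_ (Set.iUnion_subset fun k => ?_)
      · rintro _ ⟨x, rfl⟩
        obtain ⟨k, y, rfl⟩ := hcov x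
        exact Set.mem_iUnion.2 ⟨k, y, rfl⟩
      · rintro _ ⟨y, rfl⟩
        exact ⟨ι k y, rfl⟩
    rw [this]
    refine isClosed_iUnion_of_finite fun k => ?_
    let m := pullback.map (terminal.from (Z k)) (terminal.from (Z k)) (terminal.from X) (terminal.from X)
      (ι k) (ι k) (𝟙 _) (terminal.hom_ext _ _) (terminal.hom_ext _ _)
    have hm : IsClosedImmersion m :=
      MorphismProperty.pullbackMap (P := @IsClosedImmersion)
        (inferInstanceAs (IsClosedImmersion (ι k))) (inferInstanceAs (IsClosedImmersion (ι k))) (terminal.hom_ext _ _) (terminal.hom_ext _ _)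
    have e : ι k ≫ δ = pullback.diagonal (terminal.from (Z k)) ≫ m := by
      apply pullback.hom_ext <;>
        simp only [δ, m, pullback.map, Category.assoc, pullback.diagonal_fst, pullback.diagonal_snd,
          pullback.lift_fst, pullback.lift_snd, pullback.diagonal_fst_assoc, pullback.diagonal_snd_assoc, Category.comp_id]
    rw [e]
    exact (pullback.diagonal (terminal.from (Z k)) ≫ m).isClosedEmbedding.isClosed_range
  exact ⟨⟨IsClosedImmersion.of_isPreimmersion δ hcl⟩⟩

theorem isAffineHom_of_closed_comp {W : Scheme.{u}} (f : W ⟶ Y) (g : Y ⟶ X)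
    (hg : IsClosedImmersion g) (h : IsClosedImmersion (f ≫ g)) : IsAffineHom f := by
  have := IsClosedImmersion.of_comp f g
  infer_instance

theorem quasiSeparatedSpace_of_closed (g : Y ⟶ X) (hg : IsClosedImmersion g) [QuasiSeparatedSpace X] :
    QuasiSeparatedSpace Y :=
  quasiSeparatedSpace_of_quasiSeparated g

theorem isAffine_of_iso {W : Scheme.{u}} (g : Y ⟶ W) (hg : IsIso g) (hW : IsAffine W) : IsAffine Y :=
  IsAffine.of_isIso g

/-- A closed affine subscheme is contained in an affine one of finite presentation. -/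
theorem exists_affine_finitePresentation [CompactSpace X] [QuasiSeparatedSpace X] (ι : Z ⟶ X)
    [IsClosedImmersion ι] [IsAffine Z] :
    ∃ (Z₁ : Scheme.{u}) (ι₁ : Z₁ ⟶ X), IsAffine Z₁ ∧ IsClosedImmersion ι₁ ∧
      LocallyOfFinitePresentation ι₁ ∧ Set.range ι ⊆ Set.range ι₁ := by
  obtain ⟨I, _, _, _, D, c, hc, hD, ⟨e⟩⟩ := H8Lim.exists_limit_closedImmersion_finitePresentation ι
  have : IsConnected Iᵒᵖ := IsCofiltered.isConnected _
  let E := D ⋙ Over.forget X
  let cE : Cone E := (Over.forget X).mapCone c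
  have hE : IsLimit cE := isLimitOfPreserves (Over.forget X) hc
  have : ∀ i, IsClosedImmersion (D.obj i).hom := fun i => (hD i).1
  have : ∀ {i j : Iᵒᵖ} (g : i ⟶ j), IsAffineHom (E.map g) := fun {i j} g => by
    have h : IsClosedImmersion (E.map g ≫ (D.obj j).hom) := by
      show IsClosedImmersion ((D.map g).left ≫ (D.obj j).hom)
      rw [Over.w]
      infer_instance
    exact isAffineHom_of_closed_comp (Y := E.obj j) (E.map g) (D.obj j).hom (hD j).1 h
  have : ∀ i, CompactSpace (E.obj i) := fun i => (D.obj i).hom.isClosedEmbedding.compactSpace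
  have : ∀ i, QuasiSeparatedSpace (E.obj i) := fun i => quasiSeparatedSpace_of_closed (D.obj i).hom (hD i).1
  have hpt : IsAffine cE.pt := isAffine_of_iso e.hom.left
    (inferInstanceAs (IsIso ((Over.forget X).map e.hom))) (inferInstanceAs (IsAffine Z))
  let t : E ⟶ (Functor.const _).obj (⊤_ Scheme.{u}) :=
    { app := fun i => terminal.from _
      naturality := fun i j g => terminal.hom_ext _ _ }
  obtain ⟨i₁, hi₁⟩ := H8Lim.exists_forall_isAffineHom t hE (s := terminal.from cE.pt)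
    (fun i => terminal.hom_ext _ _)
  have := hi₁ i₁ (𝟙 _)
  refine ⟨E.obj i₁, (D.obj i₁).hom, isAffine_of_isAffineHom (Y := ⊤_ Scheme.{u}) (t.app i₁), (hD i₁).1, (hD i₁).2, ?_⟩
  rintro _ ⟨z, rfl⟩
  refine ⟨(e.inv ≫ c.π.app i₁).left z, ?_⟩
  exact congr($(Over.w (e.inv ≫ c.π.app i₁)) z)

/-- A scheme covered by finitely many affine closed subschemes is affine. -/
theorem isAffine_of_closed_cover {κ : Type v} [Finite κ] (Z : κ → Scheme.{u}) (ι : ∀ k, Z k ⟶ X)
    [∀ k, IsClosedImmersion (ι k)] [∀ k, IsAffine (Z k)]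
    (hcov : ∀ x : X, ∃ k, x ∈ Set.range (ι k)) : IsAffine X := by
  have := isSeparated_of_closed_cover Z ι hcov
  have : CompactSpace X := by
    refine ⟨?_⟩
    rw [show (Set.univ : Set X) = ⋃ k, Set.range (ι k) from
      (Set.eq_univ_of_forall fun x => Set.mem_iUnion.2 (hcov x)).symm]
    exact isCompact_iUnion fun k => isCompact_range (ι k).continuous
  obtain ⟨n, ⟨φ⟩⟩ := Finite.exists_equiv_fin κ
  choose Z₁ ι₁ h1 h2 h3 h4 using fun m : Fin n => exists_affine_finitePresentation (ι (φ.symm m))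
  refine isAffine_of_finitePresentation_cover Z₁ ι₁ fun x => ?_
  obtain ⟨k, hk⟩ := hcov x
  exact ⟨φ k, h4 _ ((φ.symm_apply_apply k).symm ▸ hk)⟩

/-- A thickening of an affine scheme is affine. -/
theorem isAffine_of_surjective_closedImmersion (i : Z ⟶ X) [IsClosedImmersion i] [IsAffine Z]
    (hi : Function.Surjective i) : IsAffine X :=
  isAffine_of_closed_cover (fun _ : Unit => Z) (fun _ => i) fun x => ⟨(), hi x⟩

end Groth.Agent.VarietyLib
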