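import Groth.Agent.S11559
import Groth.Agent.S1530
import Groth.Agent.Props12.KerReduced
import Groth.Agent.DimLib.Points

/-!
# Ampleness on one-dimensional proper schemes, component by component
-/

set_option autoImplicit false
set_option linter.style.haveILetI false
set_option backward.isDefEq.respectTransparency.types false

universe u

open CategoryTheory CategoryTheory.Limits AlgebraicGeometry TopologicalSpace
open Groth.Agent.AmpleLib

namespace Groth.Agent.VarietyLib

variable (k : Type u) [Field k]

/-- An irreducible zero-dimensional scheme of finite type over a field is one point, hence affine. -/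
theorem isAffine_of_dim_le_zero {X : Scheme.{u}} (f : X ⟶ Spec (CommRingCat.of k)) [LocallyOfFiniteType f]
    [IrreducibleSpace X] (h : topologicalKrullDim X ≤ 0) : IsAffine X := by
  have hall : ∀ x : X, x = genericPoint X := fun x => by
    by_contra hne
    have h1 := DimLib.ptDim_lt_of_specializes f (genericPoint_specializes x) (Ne.symm hne)
    rw [DimLib.topologicalKrullDim_eq_ptDim_genericPoint (f := f)] at h
    have h2 : DimLib.ptDim f (genericPoint X) ≤ 0 := by exact_mod_cast h
    omega
  obtain ⟨U, hU, hxU, -⟩ := exists_isAffineOpen_mem_and_subset (x := genericPoint X) (U := ⊤) trivial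
  have hUt : U = ⊤ := top_le_iff.1 fun x _ => hall x ▸ hxU
  subst hUt
  haveI : IsAffine (⊤ : X.Opens) := hU
  exact .of_isIso X.topIso.inv

/-- The reduced subscheme on an irreducible closed set is integral. -/
theorem isIntegral_vanishingIdeal {X : Scheme.{u}} (Z : Closeds X) (hZ : IsIrreducible (Z : Set X)) :
    IsIntegral (Scheme.IdealSheafData.vanishingIdeal Z).subscheme := by
  let I := Scheme.IdealSheafData.vanishingIdeal Z
  haveI : IsReduced I.subscheme := Props12.isReduced_subscheme_vanishingIdeal Z
  have he := I.subschemeι.isEmbedding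
  have hrg : Set.range I.subschemeι = (Z : Set X) := by
    rw [Scheme.IdealSheafData.range_subschemeι, Scheme.IdealSheafData.coe_support_vanishingIdeal]
  have himg : IsIrreducible (I.subschemeι '' Set.univ) := by rw [Set.image_univ, hrg]; exact hZ
  have h1 : IsIrreducible (Set.univ : Set I.subscheme) := by
    refine ⟨(Set.image_nonempty.1 himg.1), fun u v hu hv ⟨p, _, hp⟩ ⟨q, _, hq⟩ => ?_⟩
    obtain ⟨U', hU', rfl⟩ := he.isInducing.isOpen_iff.1 hu
    obtain ⟨V', hV', rfl⟩ := he.isInducing.isOpen_iff.1 hv
    obtain ⟨w, ⟨w', -, rfl⟩, hwU, hwV⟩ := himg.2 U' V' hU' hV' ⟨_, ⟨p, trivial, rfl⟩, hp⟩ ⟨_, ⟨q, trivial, rfl⟩, hq⟩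
    exact ⟨w', trivial, hwU, hwV⟩
  haveI : IrreducibleSpace I.subscheme :=
    { toPreirreducibleSpace := ⟨h1.2⟩, toNonempty := ⟨h1.1.some⟩ }
  exact isIntegral_of_irreducibleSpace_of_isReduced _

theorem topologicalKrullDim_vanishingIdeal {X : Scheme.{u}} (Z : Closeds X) :
    topologicalKrullDim (Scheme.IdealSheafData.vanishingIdeal Z).subscheme = topologicalKrullDim (Z : Set X) := by
  let I := Scheme.IdealSheafData.vanishingIdeal Z
  have hrg : Set.range I.subschemeι = (Z : Set X) := by
    rw [Scheme.IdealSheafData.range_subschemeι, Scheme.IdealSheafData.coe_support_vanishingIdeal]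
  rw [← hrg]
  exact (I.subschemeι.isEmbedding.toHomeomorph).isHomeomorph.topologicalKrullDim_eq

/-- On a proper scheme of dimension at most one, ample means positive degree on each curve component. -/
theorem isAmple_iff_deg_pos_components {X : Scheme.{u}} [X.Over (Spec (CommRingCat.of k))]
    [IsProper (X ↘ Spec (CommRingCat.of k))] (hdim : topologicalKrullDim X ≤ 1) {L : X.Modules}
    (hL : PicF.IsInvertible L) :
    CohB1.IsAmple L ↔ ∀ Z : Closeds X, (Z : Set X) ∈ irreducibleComponents X →
      topologicalKrullDim (Z : Set X) = 1 →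
        0 < @Curv2.deg k _ (Scheme.IdealSheafData.vanishingIdeal Z).subscheme
          ⟨(Scheme.IdealSheafData.vanishingIdeal Z).subschemeι ≫ (X ↘ Spec (CommRingCat.of k))⟩
          ((Scheme.Modules.pullback (Scheme.IdealSheafData.vanishingIdeal Z).subschemeι).obj L) 1 := by
  rw [S11559.result k X L hL]
  refine forall₂_congr fun Z hZ => ?_
  let I := Scheme.IdealSheafData.vanishingIdeal Z
  letI : I.subscheme.Over (Spec (CommRingCat.of k)) := ⟨I.subschemeι ≫ (X ↘ Spec (CommRingCat.of k))⟩
  haveI : IsProper (I.subscheme ↘ Spec (CommRingCat.of k)) :=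
    inferInstanceAs (IsProper (I.subschemeι ≫ (X ↘ Spec (CommRingCat.of k))))
  haveI : IsIntegral I.subscheme := isIntegral_vanishingIdeal Z hZ.1
  have hLZ : PicF.IsInvertible ((Scheme.Modules.pullback I.subschemeι).obj L) :=
    PicLoc.isInvertible_pullback _ hL
  by_cases h1 : topologicalKrullDim (Z : Set X) = 1
  · simp only [h1, forall_const]
    exact S1530.result k I.subscheme ((topologicalKrullDim_vanishingIdeal Z).trans h1) _ hLZ
  · simp only [h1, IsEmpty.forall_iff, iff_true]
    have hle : topologicalKrullDim I.subscheme ≤ 1 :=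
      ((I.subschemeι.isClosedEmbedding.isInducing).topologicalKrullDim_le).trans hdim
    have h0 : topologicalKrullDim I.subscheme ≤ 0 := by
      rw [DimLib.topologicalKrullDim_eq_ptDim_genericPoint
        (f := I.subscheme ↘ Spec (CommRingCat.of k))] at hle ⊢
      have h2 : DimLib.ptDim (I.subscheme ↘ Spec (CommRingCat.of k)) (genericPoint I.subscheme) ≠ 1 :=
        fun h => h1 ((topologicalKrullDim_vanishingIdeal Z).symm.trans
          ((DimLib.topologicalKrullDim_eq_ptDim_genericPoint
            (f := I.subscheme ↘ Spec (CommRingCat.of k))).trans (by rw [h]; rfl)))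
      have h3 : DimLib.ptDim (I.subscheme ↘ Spec (CommRingCat.of k)) (genericPoint I.subscheme) ≤ 1 := by
        exact_mod_cast hle
      exact_mod_cast (by omega :
        DimLib.ptDim (I.subscheme ↘ Spec (CommRingCat.of k)) (genericPoint I.subscheme) ≤ 0)
    haveI := isAffine_of_dim_le_zero k (I.subscheme ↘ Spec (CommRingCat.of k)) h0
    exact isAmple_of_isQuasiAffine hLZ

end Groth.Agent.VarietyLib
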