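import Groth.Agent.VarietyLib.DivisorGlue
import Groth.Agent.VarietyLib.AmpleComponents
import Groth.Agent.CurveRR24.Section
import Groth.Agent.PnEmb.Ample
import Groth.Agent.AbCubeLib.ProjEmbedding

/-!
# Proper schemes of dimension at most one are projective
-/

set_option autoImplicit false
set_option linter.style.haveILetI false
set_option backward.isDefEq.respectTransparency.types false

universe u

open CategoryTheory CategoryTheory.Limits AlgebraicGeometry TopologicalSpace
open Groth.Agent.Coherent Groth.Agent.PicLib Groth.Agent.AmpleLib Groth.Agent.CurveRR24 Groth.Agent.EulerLib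

namespace Groth.Agent.VarietyLib

variable (k : Type u) [Field k] {X : Scheme.{u}} [X.Over (Spec (CommRingCat.of k))]
  [IsProper (X ↘ Spec (CommRingCat.of k))]

include k in
/-- An invertible module with a section vanishing somewhere, not everywhere, has positive degree. -/
theorem deg_pos_of_section [IsIntegral X] (hdim : topologicalKrullDim X ≤ 1) {L : X.Modules}
    (hL : PicF.IsInvertible L) (t : Γ(L, ⊤)) {a b : X} (ha : a ∈ glocus L t) (hb : b ∉ glocus L t) :
    0 < Curv2.deg k X L 1 := by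
  have ht0 : t ≠ 0 := fun h => by
    obtain ⟨W, hW, g, hg⟩ := exists_isGen hL a
    have h1 := (glocus_inf t hg).le ⟨ha, hW⟩
    rw [show hg.coef le_rfl (resM L le_top t) = 0 from hg.coef_eq le_rfl (by rw [h, map_zero, zero_smul]),
      Scheme.basicOpen_zero] at h1
    exact h1
  haveI : Nontrivial (GA (baseHom k X) L) := ⟨⟨t, 0, ht0⟩⟩
  have hnt : Nontrivial (Coh.HH X L 0) := (hhZero k L).toEquiv.nontrivial
  obtain ⟨h0, h1, -⟩ := deg_nonneg_of_section k hdim hL hnt
  refine lt_of_le_of_ne h0 fun h => hb ?_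
  obtain ⟨e⟩ := h1 h.symm
  let r : Γ(X, ⊤) := e.hom.app ⊤ t
  have hr : r ≠ 0 := fun h => ht0 (by
    have := congrArg (e.inv.app ⊤) (show e.hom.app ⊤ t = 0 from h)
    rw [map_zero] at this
    exact (congr(($(e.hom_inv_id)).app (⊤ : X.Opens) t)).symm.trans this)
  have hfld := isField_of_universallyClosed k (X ↘ Spec (CommRingCat.of k))
  obtain ⟨r', hr'⟩ := hfld.mul_inv_cancel hr
  rw [← glocus_map_iso e t]
  have hgen := isGen_oneSec (X := X) ⊤
  have key := glocus_inf (e.hom.app ⊤ t) hgen
  rw [inf_top_eq, show hgen.coef le_rfl (resM _ le_top (e.hom.app ⊤ t)) = r from hgen.coef_eq le_rfl (by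
    rw [resM_self, resM_self]; exact mul_one r),
    X.basicOpen_of_isUnit (IsUnit.of_mul_eq_one r' hr')] at key
  rw [key]; trivial

include k in
/-- A proper scheme of dimension at most one has an ample invertible module. -/
theorem exists_ample_of_dim_le_one (hdim : topologicalKrullDim X ≤ 1) :
    ∃ L : X.Modules, PicF.IsInvertible L ∧ CohB1.IsAmple L := by
  classical
  haveI := QuasiCompact.compactSpace_of_compactSpace (X ↘ Spec (CommRingCat.of k))
  haveI : IsLocallyNoetherian X := LocallyOfFiniteType.isLocallyNoetherian (X ↘ Spec (CommRingCat.of k))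
  haveI : IsNoetherian X := {}
  have hfinC : (irreducibleComponents (X : Type u)).Finite := NoetherianSpace.finite_irreducibleComponents
  have hP : ∀ C ∈ irreducibleComponents (X : Type u), ∃ P ∈ C, IsClosed ({P} : Set X) := fun C hC => by
    obtain ⟨P, hPC, hP⟩ := (isClosed_of_mem_irreducibleComponents C hC).exists_closed_singleton hC.1.1
    exact ⟨P, hPC, hP⟩
  choose P hPC hPc using hP
  let S : Set (Set X) := {C | C ∈ irreducibleComponents (X : Type u) ∧ topologicalKrullDim C = 1}
  have hSfin : S.Finite := hfinC.subset fun C hC => hC.1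
  let T : Set X := ⋃ C ∈ S, if h : C ∈ irreducibleComponents (X : Type u) then {P C h} else ∅
  have hTmem : ∀ x ∈ T, ∃ C, ∃ h : C ∈ S, x = P C h.1 := fun x hx => by
    obtain ⟨C, hC, hx⟩ := Set.mem_iUnion₂.1 hx
    rw [dif_pos hC.1] at hx
    exact ⟨C, hC, hx⟩
  have hmemT : ∀ C, ∀ h : C ∈ S, P C h.1 ∈ T := fun C h =>
    Set.mem_iUnion₂.2 ⟨C, h, by rw [dif_pos h.1]; rfl⟩
  have hT : IsClosed T := hSfin.isClosed_biUnion fun C hC => by
    rw [dif_pos hC.1]; exact hPc C hC.1
  have hgen : ∀ C, ∀ h : C ∈ S, ∀ η, IsGenericPoint η C → η ∉ T := by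
    intro C hC η hη hηT
    obtain ⟨C', hC', e⟩ := hTmem η hηT
    have hc : IsClosed ({η} : Set X) := e ▸ hPc C' hC'.1
    have : C = {η} := hη.def.symm.trans hc.closure_eq
    subst this
    have h0 : topologicalKrullDim ({η} : Set X) ≤ 0 := topologicalKrullDim_zero_of_discreteTopology _
    rw [hC.2] at h0
    exact absurd h0 (by decide)
  obtain ⟨L, s, hL, hs⟩ := exists_section_glocus_eq hdim ⟨Tᶜ, hT.isOpen_compl⟩ (fun x hx => by
    obtain ⟨C, hC, rfl⟩ := hTmem x (not_not.1 hx)
    have hη := hC.1.1.isGenericPoint_genericPoint (isClosed_of_mem_irreducibleComponents C hC.1)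
    exact ⟨_, hη.specializes (hPC C hC.1), fun e => hgen C hC _ hη (e ▸ hmemT C hC)⟩)
  refine ⟨L, hL, (isAmple_iff_deg_pos_components k hdim hL).2 fun Z hZ h1 => ?_⟩
  have hZS : (Z : Set X) ∈ S := ⟨hZ, h1⟩
  let I := Scheme.IdealSheafData.vanishingIdeal Z
  letI : I.subscheme.Over (Spec (CommRingCat.of k)) := ⟨I.subschemeι ≫ (X ↘ Spec (CommRingCat.of k))⟩
  haveI : IsProper (I.subscheme ↘ Spec (CommRingCat.of k)) :=
    inferInstanceAs (IsProper (I.subschemeι ≫ (X ↘ Spec (CommRingCat.of k))))
  haveI : IsIntegral I.subscheme := isIntegral_vanishingIdeal Z hZ.1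
  have hrg : Set.range I.subschemeι = (Z : Set X) := by
    rw [Scheme.IdealSheafData.range_subschemeι, Scheme.IdealSheafData.coe_support_vanishingIdeal]
  have hη := hZ.1.isGenericPoint_genericPoint Z.2
  obtain ⟨a, ha⟩ := hrg.superset hη.mem
  obtain ⟨b, hb⟩ := hrg.superset (hPC _ hZ)
  have hloc := glocus_pullSec (σ := I.subschemeι) hL s
  refine deg_pos_of_section k ((topologicalKrullDim_vanishingIdeal Z).trans h1).le
    (PicLoc.isInvertible_pullback _ hL) (pullSec I.subschemeι s) (a := a) (b := b) ?_ ?_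
  · rw [hloc]
    show I.subschemeι a ∈ glocus L s
    rw [hs, ha]
    exact hgen _ hZS _ hη
  · rw [hloc]
    show ¬ I.subschemeι b ∈ glocus L s
    rw [hs, hb]
    exact fun h => h (hmemT _ hZS)

include k in
/-- A proper scheme of dimension at most one is projective. -/
theorem exists_closedImmersion_projSpace_dim_le_one (hdim : topologicalKrullDim X ≤ 1) :
    ∃ (d : ℕ) (c : X ⟶ CohB1.ProjSpace d k),
      IsClosedImmersion c ∧ c ≫ CohB1.ProjSpace.toSpec d k = X ↘ Spec (CommRingCat.of k) := by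
  obtain ⟨L, hLi, hL⟩ := exists_ample_of_dim_le_one k hdim
  obtain ⟨n₀, hn⟩ := PnEmb.eventually_isRelVeryAmplePn (X ↘ Spec (CommRingCat.of k)) hL
    (AmpleLib.isInvertible_structureModule (X := X))
  obtain ⟨d, c, hc, hcq, -⟩ := AbCubeLib.exists_isClosedImmersion_projSpace (X ↘ Spec (CommRingCat.of k))
    (AmpleLib.isInvertible_tensorMod (isInvertible_tensorPow hLi n₀) isInvertible_structureModule) (hn n₀ le_rfl)
  exact ⟨d, c, hc, hcq⟩

end Groth.Agent.VarietyLib
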