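import Groth.Agent.VarietyLib.CurveDegree

/-!
# Degrees of pullbacks and tensor products on curves
-/

set_option autoImplicit false
set_option linter.style.haveILetI false
set_option backward.isDefEq.respectTransparency.types false

universe u

open CategoryTheory CategoryTheory.Limits AlgebraicGeometry Opposite TopologicalSpace
open Groth.Agent.Coherent Groth.Agent.PicLib Groth.Agent.AmpleLib Groth.Agent.EulerLib Groth.Agent.AssSch12
  Groth.Agent.AbCubeLib

namespace Groth.Agent.VarietyLib

theorem mult_of_rank {X : Scheme.{u}} {m : ℕ} {V : X.Modules} (hV : FlatMod.IsFinLocFreeOfRank m V) (ξ : X) :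
    mult V ξ = m * mult (Coh.structureModule X) ξ := by
  have hone : FlatMod.IsFinLocFreeOfRank 1 (Coh.structureModule X) :=
    isFinLocFreeOfRank_one isInvertible_structureModule
  have key : ∀ {r : ℕ} {W : X.Modules}, FlatMod.IsFinLocFreeOfRank r W →
      Module.length (X.presheaf.stalk ξ) (W.presheaf.stalk ξ) =
        (r : ℕ∞) * Module.length (X.presheaf.stalk ξ) (X.presheaf.stalk ξ) := fun {r W} hW => by
    haveI := LocFreeLib.isQCoh_of_isFinLocFreeOfRank hW
    haveI := Props12.free_stalk_of_isFinLocFree W (isFinLocFree_of_rank hW) ξ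
    obtain ⟨U, n', hξ, hb⟩ := Props12.exists_nhd_basis_stalk W (isFinLocFree_of_rank hW) ξ
    obtain ⟨b'⟩ := hb ξ hξ
    haveI := Module.Finite.of_basis b'
    let b := Module.finBasisOfFinrankEq (X.presheaf.stalk ξ) (W.presheaf.stalk ξ) (finrank_stalk_of_rank hW ξ)
    rw [b.equivFun.length_eq, Module.length_pi_of_fintype]
    simp
  simp only [mult, key hV, key hone, Nat.cast_one, one_mul, ENat.toNat_mul, ENat.toNat_natCast]

variable (k : Type u) [Field k] {X Y : Scheme.{u}} [X.Over (Spec (CommRingCat.of k))]
  [IsProper (X ↘ Spec (CommRingCat.of k))]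

include k in
/-- `deg (E ⊗ V) = n deg V + m deg E`. -/
theorem deg_tensor_rank (hdim : topologicalKrullDim X ≤ 1) {n m : ℕ} {E V : X.Modules}
    (hE : FlatMod.IsFinLocFreeOfRank n E) (hV : FlatMod.IsFinLocFreeOfRank m V) :
    Curv2.deg k X (CohB1.tensorMod E V) (n * m) = n * Curv2.deg k X V m + m * Curv2.deg k X E n := by
  haveI := isNoetherian_of_proper (X := X) k
  obtain ⟨S, -, -, hS⟩ := degFun_eq_sum k hdim hE
  have h1 := hS V (CohBC.isCoh_of_isFinLocFree (isFinLocFree_of_rank hV))
  have h2 := hS (Coh.structureModule X) (isCoh_structureModule X)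
  have h3 : degFun k n E V = m * degFun k n E (Coh.structureModule X) := by
    rw [h1, h2, Finset.mul_sum]
    refine Finset.sum_congr rfl fun ξ _ => ?_
    rw [mult_of_rank hV ξ, nsmul_eq_mul, nsmul_eq_mul, Nat.cast_mul, mul_assoc]
  rw [degFun_structure] at h3
  have h4 : Curv2.euler k X (CohB1.tensorMod E V) = Curv2.euler k X (CohB1.tensorMod V E) :=
    euler_congr k X (AmpleLib.tensorComm E V)
  simp only [degFun] at h3
  simp only [Curv2.deg, h4, Nat.cast_mul] at h3 ⊢
  linear_combination h3

variable [Y.Over (Spec (CommRingCat.of k))] [IsProper (Y ↘ Spec (CommRingCat.of k))]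

include k in
/-- The degree of a pullback along a nonconstant morphism of proper curves. -/
theorem deg_pullback_curve [IsIntegral X] [IsIntegral Y] (hX : topologicalKrullDim X = 1)
    (hY : topologicalKrullDim Y = 1) (f : X ⟶ Y)
    (hf : f ≫ (Y ↘ Spec (CommRingCat.of k)) = X ↘ Spec (CommRingCat.of k))
    (hξ : f (genericPoint X) = genericPoint Y) {n : ℕ} {E : Y.Modules} (hE : FlatMod.IsFinLocFreeOfRank n E) :
    Curv2.deg k X ((Scheme.Modules.pullback f).obj E) n =
      (f.residueDegree (genericPoint X) : ℤ) * Curv2.deg k Y E n := by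
  haveI := isNoetherian_of_proper (X := X) k
  haveI := isNoetherian_of_proper (X := Y) k
  haveI : IsProper (f ≫ (Y ↘ Spec (CommRingCat.of k))) := by rw [hf]; infer_instance
  haveI : IsProper f := IsProper.of_comp f (Y ↘ Spec (CommRingCat.of k))
  -- the generic fibre is the generic point
  have hcl : ∀ z : X, z ≠ genericPoint X → f z ≠ genericPoint Y := fun z hz e => by
    have h1 : IsClosed ({z} : Set X) :=
      (CurvesLib24.eq_genericPoint_or_isClosed hX.le z).resolve_left hz
    have h2 : IsClosed ({f z} : Set Y) := by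
      rw [← Set.image_singleton]; exact f.isClosedMap _ h1
    exact CurvesLib24.not_isClosed_genericPoint hY (e ▸ h2)
  haveI : IsFinite f := by
    obtain ⟨P, -, hP⟩ := (isClosed_univ (X := X)).exists_closed_singleton ⟨genericPoint X, trivial⟩
    have hne : P ≠ genericPoint X := fun h => CurvesLib24.not_isClosed_genericPoint hX (h ▸ hP)
    exact isFinite_of_ne_point k f hf hX.le fun h => hcl P hne ((h P).trans hξ)
  rw [← degFun_push k f hf hE]
  obtain ⟨S, hS1, hS2, hS⟩ := degFun_eq_sum k hY.le hE
  have hη : S = {genericPoint Y} := by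
    ext ξ
    rw [Finset.mem_singleton]
    refine ⟨fun hξS => ?_, fun e => hS1 ξ ?_⟩
    · refine (CurvesLib24.eq_genericPoint_or_isClosed hY.le ξ).resolve_right fun hc => ?_
      have h := hS2 ξ hξS
      rw [hc.closure_eq] at h
      have h0 : topologicalKrullDim ({ξ} : Set Y) ≤ 0 := topologicalKrullDim_zero_of_discreteTopology _
      rw [h] at h0
      exact absurd h0 (by decide)
    · rw [e, genericPoint_closure, (Homeomorph.Set.univ Y).isHomeomorph.topologicalKrullDim_eq, hY]; rfl
  rw [← degFun_structure k E, hS _ (isCoh_push_finite f (isCoh_structureModule X)),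
    hS _ (isCoh_structureModule Y), hη, Finset.sum_singleton, Finset.sum_singleton]
  -- multiplicities at the generic point
  have hone : ∀ (Z : Scheme.{u}) [IsIntegral Z], Module.length (Z.presheaf.stalk (genericPoint Z))
      ((Coh.structureModule Z).presheaf.stalk (genericPoint Z)) = 1 := fun Z _ => by
    letI : Field (Z.presheaf.stalk (genericPoint Z)) := inferInstanceAs (Field Z.functionField)
    have h1 : FlatMod.IsFinLocFreeOfRank 1 (Coh.structureModule Z) :=
      isFinLocFreeOfRank_one isInvertible_structureModule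
    haveI := LocFreeLib.isQCoh_of_isFinLocFreeOfRank h1
    haveI := Props12.free_stalk_of_isFinLocFree _ (isFinLocFree_of_rank h1) (genericPoint Z)
    obtain ⟨U, n', hz, hb⟩ := Props12.exists_nhd_basis_stalk _ (isFinLocFree_of_rank h1) (genericPoint Z)
    obtain ⟨b'⟩ := hb _ hz
    haveI := Module.Finite.of_basis b'
    rw [Module.length_eq_finrank, finrank_stalk_of_rank h1]
    rfl
  have hmult : mult ((Coh.push f).obj (Coh.structureModule X)) (genericPoint Y) =
      f.residueDegree (genericPoint X) := by
    have hs : ∀ z, z ∈ ({genericPoint X} : Finset X) ↔ z ∈ (Set.univ : Set X) ∧ f z = genericPoint Y := fun z => by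
      rw [Finset.mem_singleton]
      exact ⟨fun e => ⟨trivial, e ▸ hξ⟩, fun h => by_contra fun hne => hcl z hne h.2⟩
    have hbij := CycLib28.pushGerm_bijective f f.isClosedMap (Coh.structureModule X) Set.univ isClosed_univ
      (fun z hz => absurd trivial hz) (genericPoint Y) {genericPoint X} hs (fun _ => ⊤) (fun _ _ => trivial)
      (fun a ha b hb hne => absurd ((Finset.mem_singleton.1 ha).trans (Finset.mem_singleton.1 hb).symm) hne)
    letI := Module.compHom ((Coh.structureModule X).presheaf.stalk (genericPoint X))
      (CycLib28.stalkTo f (genericPoint Y) (genericPoint X) hξ)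
    let l : ((Coh.push f).obj (Coh.structureModule X)).presheaf.stalk (genericPoint Y) →ₗ[Y.presheaf.stalk (genericPoint Y)]
        (Coh.structureModule X).presheaf.stalk (genericPoint X) :=
      { toFun := fun m => CycLib28.pushGerm f (Coh.structureModule X) (genericPoint Y) (genericPoint X) hξ m
        map_add' := fun a b => map_add _ a b
        map_smul' := fun r m => CycLib28.pushGerm_smul f _ _ _ hξ r m }
    have hl : Function.Bijective l := by
      refine ⟨fun a b h => hbij.1 (funext fun x => ?_), fun v => ?_⟩
      · obtain ⟨x, hx⟩ := x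
        obtain rfl := Finset.mem_singleton.1 hx
        exact h
      · obtain ⟨m, hm⟩ := hbij.2 (fun x => (Finset.mem_singleton.1 x.2).symm ▸ v)
        exact ⟨m, congrFun hm ⟨genericPoint X, Finset.mem_singleton_self _⟩⟩
    rw [mult, (LinearEquiv.ofBijective l hl).length_eq,
      CycLib28.length_stalkTo f (Coh.structureModule X) (genericPoint Y) (genericPoint X) hξ, hone X]
    simp
  rw [hmult, show mult (Coh.structureModule Y) (genericPoint Y) = 1 by rw [mult, hone Y]; rfl, one_smul,
    nsmul_eq_mul]

end Groth.Agent.VarietyLib
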