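import Groth.Agent.VarietyLib.SupportAdditive
import Groth.Agent.Coherent.Serre.AmpleCover
import Groth.Agent.Coherent.Serre.RightMul
import Groth.Agent.Coherent.GradedCoh
import Groth.Agent.Coherent.SecBridge
import Groth.Agent.Coherent.AffinenessApps
import Groth.Agent.Coherent.FormalFunctions
import Groth.Agent.EulerLib.Positive

/-!
# Twists along a morphism which is bijective at a point
-/

set_option autoImplicit false
set_option linter.style.haveILetI false
set_option backward.isDefEq.respectTransparency.types false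

universe u

open CategoryTheory CategoryTheory.Limits AlgebraicGeometry Opposite TopologicalSpace
open Groth.Agent.Coherent Groth.Agent.PicLib Groth.Agent.AmpleLib Groth.Agent.AssSch12
open Groth.Agent.EulerLib Groth.Agent.ModStalk Groth.Agent.Coherent.Serre

namespace Groth.Agent.VarietyLib

variable {X : Scheme.{u}}

local notation "St" => DerSch.stalkFunctor X

/-- Modules vanishing at `y` lose their twisted higher cohomology. -/
def SmallVanish (L : X.Modules) (y : X) : Prop :=
  ∀ M : X.Modules, Coh.IsCoh M → y ∉ CohB1.support M → ∀ p : ℕ, 0 < p → EvVanish L p M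

theorem SmallVanish.pow {L : X.Modules} {y : X} (h : SmallVanish L y) (hL : PicF.IsInvertible L) {r : ℕ}
    (hr : 0 < r) : SmallVanish (CohB1.tensorPow L r) y := fun M hM hy p hp => by
  obtain ⟨N, hN⟩ := h M hM hy p hp
  refine ⟨N, fun n hn => ?_⟩
  obtain ⟨e, -⟩ := exists_powPowIso hL r n
  exact subsingleton_H'_of_iso (tensorIso (Iso.refl M) e.symm) p ⊤
    (hN (r * n) (hn.trans (Nat.le_mul_of_pos_left n hr)))

theorem tensorMap_comp {F G H P : X.Modules} (a : F ⟶ G) (b : G ⟶ H) :
    tensorMap (a ≫ b) (𝟙 P) = tensorMap a (𝟙 P) ≫ tensorMap b (𝟙 P) :=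
  AmpleLib.hom_ext fun U s t => by
    show (tensorMap (a ≫ b) (𝟙 P)).app U (tmul s t) =
      (tensorMap b (𝟙 P)).app U ((tensorMap a (𝟙 P)).app U (tmul s t))
    rw [tensorMap_tmul, tensorMap_tmul, tensorMap_tmul]
    rfl

variable (k : Type u) [Field k] [X.Over (Spec (CommRingCat.of k))]

local notation "φk" => baseHom k X

theorem subsingleton_HA_of_evVanish {L M : X.Modules} {p : ℕ} (h : EvVanish L p M) : ∃ N, ∀ n, N ≤ n →
    Subsingleton (HA φk (CohB1.tensorMod M (CohB1.tensorPow L n)) (⊤ : X.Opens) p) :=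
  h.imp fun _ hN n hn => (subsingleton_HA_iff φk _ _ p).2 (hN n hn)

/-- A morphism bijective at `y` is eventually surjective on twisted `H^(q+1)` and bijective above. -/
theorem eventually_surjective [IsLocallyNoetherian X] {L : X.Modules} (hL : PicF.IsInvertible L) {y : X}
    (hsm : SmallVanish L y) {E F : X.Modules} (f : E ⟶ F) (hE : Coh.IsCoh E) (hF : Coh.IsCoh F)
    (hf : Function.Bijective ((St y).map f)) (q : ℕ) :
    ∃ N, ∀ n, N ≤ n →
      Function.Surjective (postA φk (tensorMap f (𝟙 (CohB1.tensorPow L n))) ⊤ (q + 1)) ∧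
      Function.Injective (postA φk (tensorMap f (𝟙 (CohB1.tensorPow L n))) ⊤ (q + 2)) := by
  have := hE.1
  have := hF.1
  let ι := Abelian.image.ι f
  let π := Abelian.factorThruImage f
  have hI : Coh.IsQCoh (Abelian.image f) := isQCoh_image f
  have hker : Coh.IsCoh (kernel f) := isCoh_kernel f hE hF.1
  have hcok : Coh.IsCoh (cokernel f) := isCoh_cokernel f hE.1 hF
  have hk : y ∉ CohB1.support (kernel f) := fun hy => hy (subsingleton_of_forall_eq 0 fun a => by
    have h : ((St y).map f) (((St y).map (kernel.ι f)) a) = 0 := by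
      refine (stalk_comp_apply _ _ _).trans ?_
      rw [kernel.condition]; exact stalk_zero_apply _
    exact (ModuleCat.mono_iff_injective ((St y).map (kernel.ι f))).1 inferInstance
      ((hf.1 (h.trans (map_zero _).symm)).trans (map_zero _).symm))
  have hc : y ∉ CohB1.support (cokernel f) := fun hy => hy (subsingleton_of_forall_eq 0 fun a => by
    obtain ⟨b, rfl⟩ := (ModuleCat.epi_iff_surjective ((St y).map (cokernel.π f))).1 inferInstance a
    obtain ⟨c, rfl⟩ := hf.2 b
    refine (stalk_comp_apply _ _ _).trans ?_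
    rw [cokernel.condition]; exact stalk_zero_apply _)
  let S₁ : ShortComplex X.Modules := ShortComplex.mk (kernel.ι f) π (by
    rw [← cancel_mono ι, Category.assoc, Abelian.image.fac, kernel.condition, zero_comp])
  have hS₁ : S₁.ShortExact :=
    { mono_f := inferInstanceAs (Mono (kernel.ι f))
      epi_g := inferInstanceAs (Epi (Abelian.factorThruImage f))
      exact := ShortComplex.exact_of_f_is_kernel _
        (isKernelOfComp (f := π) ι f (kernelIsKernel f) S₁.zero (Abelian.image.fac f)) }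
  let S₂ : ShortComplex X.Modules :=
    ShortComplex.mk ι (cokernel.π f) (kernel.condition (cokernel.π f))
  have hS₂ : S₂.ShortExact :=
    { exact := ShortComplex.exact_of_f_is_kernel _ (kernelIsKernel (cokernel.π f))
      mono_f := inferInstanceAs (Mono (kernel.ι (cokernel.π f)))
      epi_g := inferInstanceAs (Epi (cokernel.π f)) }
  obtain ⟨N₁, h₁⟩ := subsingleton_HA_of_evVanish k (hsm _ hker hk (q + 2) (by omega))
  obtain ⟨N₂, h₂⟩ := subsingleton_HA_of_evVanish k (hsm _ hcok hc (q + 1) (by omega))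
  refine ⟨max N₁ N₂, fun n hn => ?_⟩
  let P := CohB1.tensorPow L n
  have hP := isInvertible_tensorPow hL n
  have hT₁ := twistSeq_shortExact hP hS₁
  have hT₂ := twistSeq_shortExact hP hS₂
  have hk2 := h₁ n (le_of_max_le_left hn)
  have hc1 := h₂ n (le_of_max_le_right hn)
  have hfac : tensorMap f (𝟙 P) = tensorMap π (𝟙 P) ≫ tensorMap ι (𝟙 P) := by
    rw [← tensorMap_comp, Abelian.image.fac]
  have s1 : Function.Surjective (postA φk (twistSeq S₁ P).g ⊤ (q + 1)) := fun x =>
    (exact_postA_deltaA φk hT₁ ⊤ (q + 1) x).1 (hk2.elim _ _)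
  have i1 : Function.Injective (postA φk (twistSeq S₁ P).g ⊤ (q + 2)) :=
    (injective_iff_map_eq_zero _).2 fun x hx => by
      obtain ⟨z, rfl⟩ := (exact_postA φk hT₁ ⊤ (q + 2) x).1 hx
      rw [show z = 0 from hk2.elim _ _, map_zero]
  have s2 : Function.Surjective (postA φk (twistSeq S₂ P).f ⊤ (q + 1)) := fun x =>
    (exact_postA φk hT₂ ⊤ (q + 1) x).1 (hc1.elim _ _)
  have i2 : Function.Injective (postA φk (twistSeq S₂ P).f ⊤ (q + 2)) :=
    (injective_iff_map_eq_zero _).2 fun x hx => by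
      obtain ⟨z, rfl⟩ := (exact_deltaA_postA φk hT₂ ⊤ (q + 1) x).1 hx
      rw [show z = 0 from hc1.elim _ _, map_zero]
  have hcomp : ∀ p x, postA φk (tensorMap f (𝟙 P)) ⊤ p x =
      postA φk (twistSeq S₂ P).f ⊤ p (postA φk (twistSeq S₁ P).g ⊤ p x) := fun p x => by
    exact (congrArg (fun g => postA φk g ⊤ p x) hfac).trans (postA_comp φk (twistSeq S₁ P).g (twistSeq S₂ P).f p x)
  constructor
  · intro z
    obtain ⟨u, rfl⟩ := s2 z
    obtain ⟨x, rfl⟩ := s1 u
    exact ⟨x, hcomp _ x⟩
  · intro x x' h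
    rw [hcomp, hcomp] at h
    exact i1 (i2 h)

/-- Associativity of twists, on pure tensors. -/
theorem exists_assocIso_val (F : X.Modules) {L M : X.Modules} (hL : PicF.IsInvertible L)
    (hM : PicF.IsInvertible M) :
    ∃ α : CohB1.tensorMod (CohB1.tensorMod F L) M ⟶ CohB1.tensorMod F (CohB1.tensorMod L M), IsIso α ∧
      ∀ (U : X.Opens) (a : Γ(F, U)) (b : Γ(L, U)) (w : Γ(M, U)),
        α.app U (tmul (tmul a b) w) = tmul a (tmul b w) := by
  obtain ⟨α, hα⟩ := exists_assocHom F M hL
  have key : ∀ (y : X), ∃ (W : X.Opens) (g : Γ(L, W)) (h : Γ(M, W)), y ∈ W ∧ IsGen L W g ∧ IsGen M W h := by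
    intro y
    obtain ⟨U, hyU, g, hg⟩ := exists_isGen hL y
    obtain ⟨V, hyV, h, hh⟩ := exists_isGen hM y
    exact ⟨U ⊓ V, _, _, ⟨hyU, hyV⟩, hg.restrict inf_le_left, hh.restrict inf_le_right⟩
  have hrep : ∀ (W : X.Opens) (g : Γ(L, W)) (h : Γ(M, W)), IsGen L W g → IsGen M W h →
      ∀ (V : X.Opens) (hV : V ≤ W), Function.Bijective (fun a : Γ(F, V) =>
        (tmul (tmul a (resM L hV g)) (resM M hV h) :
          Γ(CohB1.tensorMod (CohB1.tensorMod F L) M, V))) ∧
      Function.Bijective (fun a : Γ(F, V) => (tmul a (tmul (resM L hV g) (resM M hV h)) :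
          Γ(CohB1.tensorMod F (CohB1.tensorMod L M), V))) := by
    intro W g h hg hh V hV
    refine ⟨(bijective_tmul_gen (M := CohB1.tensorMod F L) hh V hV).comp (bijective_tmul_gen (M := F) hg V hV), ?_⟩
    have hb := bijective_tmul_gen (M := F) (isGen_tmul hg hh) V hV
    simp only [resM_tmul] at hb
    exact hb
  have hmono : Mono α := by
    have hinj : ∀ (U : X.Opens) (a : Γ(CohB1.tensorMod (CohB1.tensorMod F L) M, U)), α.app U a = 0 → a = 0 := by
      intro U a ha
      refine sec_ext _ _ _ fun y hy => ?_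
      obtain ⟨W, g, h, hyW, hg, hh⟩ := key y
      refine ⟨U ⊓ W, inf_le_left, ⟨hy, hyW⟩, ?_⟩
      obtain ⟨hb₁, hb₂⟩ := hrep W g h hg hh (U ⊓ W) inf_le_right
      obtain ⟨x, hx⟩ := hb₁.2 (resM _ inf_le_left a)
      have h0 := congrArg (resM _ (inf_le_left : U ⊓ W ≤ U)) ha
      rw [← app_resM, ← hx, map_zero] at h0
      erw [hα] at h0
      rw [map_zero, ← hx]
      show tmul (tmul x _) _ = 0
      rw [hb₂.1 (h0.trans (tmul_zero_left _).symm), tmul_zero_left, tmul_zero_left]
    refine ⟨fun a b hab => Scheme.Modules.hom_ext _ _ fun U => ?_⟩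
    ext t
    rw [← sub_eq_zero]
    refine hinj U _ ?_
    rw [map_sub, sub_eq_zero]
    exact ConcreteCategory.congr_hom (congrArg (fun ψ => Scheme.Modules.Hom.app ψ U) hab) t
  have hepi : Epi α := by
    refine epi_of_locally_surjective _ fun U a y hy => ?_
    obtain ⟨W, g, h, hyW, hg, hh⟩ := key y
    obtain ⟨x, hx⟩ := (hrep W g h hg hh (U ⊓ W) inf_le_right).2.2 (resM _ inf_le_left a)
    exact ⟨U ⊓ W, inf_le_left, ⟨hy, hyW⟩, _, (hα _ x _ _).trans hx⟩
  exact ⟨α, isIso_of_mono_of_epi α, hα⟩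

/-- Shifting a twist by one. -/
theorem exists_shiftIso (F : X.Modules) {P : X.Modules} (hP : PicF.IsInvertible P) (n : ℕ) :
    ∃ γ : CohB1.tensorMod (CohB1.tensorMod F P) (CohB1.tensorPow P n) ⟶
        CohB1.tensorMod F (CohB1.tensorPow P (n + 1)), IsIso γ ∧
      ∀ (U : X.Opens) (a : Γ(F, U)) (b : Γ(P, U)) (c : Γ(CohB1.tensorPow P n, U)),
        γ.app U (tmul (tmul a b) c) = tmul a (tmul c b) := by
  obtain ⟨α, hiso, hα⟩ := exists_assocIso_val F hP (isInvertible_tensorPow hP n)
  let β : CohB1.tensorMod F (CohB1.tensorMod P (CohB1.tensorPow P n)) ≅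
      CohB1.tensorMod F (CohB1.tensorPow P (n + 1)) :=
    tensorIso (Iso.refl F) (AmpleLib.tensorComm P (CohB1.tensorPow P n))
  refine ⟨α ≫ β.hom, inferInstance, fun U a b c => ?_⟩
  show β.hom.app U (α.app U (tmul (tmul a b) c)) = _
  rw [hα]
  refine (tensorMap_tmul _ _ _ _).trans ?_
  refine congrArg (tmul a) ?_
  exact Bilin.desc_tmul _ U b c

/-- Multiplication by a section nonvanishing at `y` is eventually surjective on twisted `H^1`. -/
theorem eventually_surjective_twistMul [IsLocallyNoetherian X] {P : X.Modules} (hP : PicF.IsInvertible P)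
    {y : X} (hsm : SmallVanish P y) {F : X.Modules} (hF : Coh.IsCoh F) {w : Γ(P, ⊤)}
    (hw : y ∈ glocus P w) :
    ∃ N, ∀ n, N ≤ n → Function.Surjective (postA φk (twistMul F w n) ⊤ 1) := by
  obtain ⟨N, hN⟩ := eventually_surjective k hP hsm (mulSec F w) hF (isCoh_twist hP hF)
    (bijective_stalk_mulSec F w hw) 0
  refine ⟨N, fun n hn z => ?_⟩
  obtain ⟨γ, hγ, hval⟩ := exists_shiftIso F hP n
  have he : twistMul F w n = tensorMap (mulSec F w) (𝟙 _) ≫ γ :=
    AmpleLib.hom_ext fun U a c => by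
      show (twistMul F w n).app U (tmul a c) =
        γ.app U ((tensorMap (mulSec F w) (𝟙 (CohB1.tensorPow P n))).app U (tmul a c))
      rw [twistMul_tmul, tensorMap_tmul, mulSec_app]
      exact (hval U a _ c).symm
  obtain ⟨u, rfl⟩ := (isoA φk (asIso γ) ⊤ 1).surjective z
  obtain ⟨x, rfl⟩ := (hN n hn).1 u
  exact ⟨x, by rw [he]; exact postA_comp φk _ γ 1 x⟩

/-- Twisted multiplication, linearly in the section. -/
noncomputable def mulLin (F : X.Modules) (P : X.Modules) (n : ℕ) :
    GA φk P →ₗ[k] HA φk (CohB1.tensorMod F (CohB1.tensorPow P n)) (⊤ : X.Opens) 1 →ₗ[k]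
      HA φk (CohB1.tensorMod F (CohB1.tensorPow P (n + 1))) (⊤ : X.Opens) 1 where
  toFun w := postA φk (twistMul F (show Γ(P, ⊤) from w) n) ⊤ 1
  map_add' w w' := LinearMap.ext fun x => by
    have e : twistMul F (show Γ(P, ⊤) from w + w') n =
        twistMul F (show Γ(P, ⊤) from w) n + twistMul F (show Γ(P, ⊤) from w') n :=
      AmpleLib.hom_ext fun U a c => by
        show (twistMul F _ n).app U (tmul a c) =
          (twistMul F (show Γ(P, ⊤) from w) n).app U (tmul a c) +
            (twistMul F (show Γ(P, ⊤) from w') n).app U (tmul a c)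
        rw [twistMul_tmul, twistMul_tmul, twistMul_tmul]
        refine Eq.trans ?_ (tmul_add_right _ _ _)
        refine congrArg (tmul a) (Eq.trans ?_ (tmul_add_right _ _ _))
        exact congrArg (tmul c) (map_add (resM P (le_top : U ≤ ⊤)) _ _)
    rw [e]
    exact postHM_add _ _ 1 ⊤ x
  map_smul' r w := LinearMap.ext fun x => by
    have e : twistMul F (show Γ(P, ⊤) from r • w) n =
        twistMul F (show Γ(P, ⊤) from w) n ≫ Formal.smulMod k _ r :=
      AmpleLib.hom_ext fun U a c => by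
        show (twistMul F _ n).app U (tmul a c) =
          (Formal.smulMod k _ r).app U ((twistMul F (show Γ(P, ⊤) from w) n).app U (tmul a c))
        rw [twistMul_tmul, twistMul_tmul, smulMod_app]
        refine Eq.trans ?_ (tmul_smul_right _ _ _)
        refine congrArg (tmul a) (Eq.trans ?_ (tmul_smul_right _ _ _))
        exact congrArg (tmul c) (resM_smul P (le_top : U ≤ ⊤) _ _)
    rw [e, RingHom.id_apply, LinearMap.smul_apply, postA_comp, postA_smulMod]

variable [IsProper (X ↘ Spec (CommRingCat.of k))]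

theorem finite_HA {M : X.Modules} (hM : Coh.IsCoh M) (q : ℕ) :
    Module.Finite k (HA φk M (⊤ : X.Opens) q) :=
  finCoh_of_isProper (X ↘ Spec (CommRingCat.of k)) M hM q

/-- If sections outnumber endomorphisms of `H^1` twists, these twists vanish. -/
theorem evVanish_of_many_sections [IsLocallyNoetherian X] {P : X.Modules} (hP : PicF.IsInvertible P)
    {y : X} (hsm : SmallVanish P y) {F : X.Modules} (hF : Coh.IsCoh F) {s : Γ(P, ⊤)}
    (hs : y ∈ glocus P s) (hgl : ∀ w : Γ(P, ⊤), w ≠ 0 → y ∈ glocus P w) {C N₀ : ℕ}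
    (hC : ∀ n, N₀ ≤ n →
      Module.finrank k (HA φk (CohB1.tensorMod F (CohB1.tensorPow P n)) (⊤ : X.Opens) 1) ≤ C)
    (hdim : C * C < Module.finrank k (GA φk P)) : EvVanish P 1 F := by
  haveI := fun n => finite_HA k (isCoh_twist (isInvertible_tensorPow hP n) hF) 1
  obtain ⟨N₁, hs1⟩ := eventually_surjective_twistMul k hP hsm hF hs
  let n₀ := max N₀ N₁
  have hdim' : Module.finrank k (HA φk (CohB1.tensorMod F (CohB1.tensorPow P n₀)) (⊤ : X.Opens) 1 →ₗ[k]
      HA φk (CohB1.tensorMod F (CohB1.tensorPow P (n₀ + 1))) (⊤ : X.Opens) 1) ≤ C * C := by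
    rw [Module.finrank_linearMap]
    exact Nat.mul_le_mul (hC _ (le_max_left _ _)) (hC _ (Nat.le_add_right_of_le (le_max_left _ _)))
  haveI : Module.Finite k (GA φk P) := Module.finite_of_finrank_pos (by omega)
  have hker : LinearMap.ker (mulLin k F P n₀) ≠ ⊥ :=
    LinearMap.ker_ne_bot_of_finrank_lt (hdim'.trans_lt hdim)
  obtain ⟨w, hw, hw0⟩ := Submodule.exists_mem_ne_zero_of_ne_bot hker
  let w' : Γ(P, ⊤) := w
  have hzero : ∀ j, n₀ ≤ j → ∀ x, postA φk (twistMul F w' j) ⊤ 1 x = 0 := by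
    intro j hj
    induction j, hj using Nat.le_induction with
    | base => exact fun x => LinearMap.congr_fun (LinearMap.mem_ker.1 hw) x
    | succ j hj ih =>
      intro z
      obtain ⟨x, rfl⟩ := hs1 j ((le_max_right _ _).trans hj) z
      rw [← postA_comp φk, twistMul_comm hP, postA_comp φk, ih x, map_zero]
  obtain ⟨N₂, hs2⟩ := eventually_surjective_twistMul k hP hsm hF (hgl w' hw0)
  refine ⟨max n₀ N₂ + 1, fun n hn => ?_⟩
  obtain ⟨j, rfl⟩ : ∃ j, n = j + 1 := ⟨n - 1, by omega⟩
  refine (subsingleton_HA_iff φk _ _ 1).1 (subsingleton_of_forall_eq 0 fun z => ?_)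
  obtain ⟨x, rfl⟩ := hs2 j (by omega) z
  exact hzero j (by omega) x

end Groth.Agent.VarietyLib
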