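import Groth.Agent.VarietyLib.DetCoker
import Groth.Agent.VarietyLib.CurveDegreeApps
import Groth.Agent.VarietyLib.ProperCurveAmple
import Groth.Agent.VarietyLib.NakaiVanish
import Groth.Agent.AmpleLib.Sections
import Groth.Agent.AssSch12.Uniq
import Groth.Agent.CurveRR24.Ample
import Groth.Agent.Canon15.TopDiff
import Groth.Agent.DCat.PerfTensor

/-!
# The degree of a locally free module on a curve and of its determinant
-/

set_option autoImplicit false
set_option linter.style.haveILetI false
set_option maxHeartbeats 1000000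
set_option backward.isDefEq.respectTransparency.types false

universe u

open CategoryTheory CategoryTheory.Limits AlgebraicGeometry Opposite TopologicalSpace
open Groth.Agent.Coherent Groth.Agent.PicLib Groth.Agent.AmpleLib Groth.Agent.EulerLib Groth.Agent.AssSch12

namespace Groth.Agent.VarietyLib

variable {X : Scheme.{u}}

theorem isFinLocFreeOfRank_freeMod (n : ℕ) : FlatMod.IsFinLocFreeOfRank n (FlatMod.freeMod X n) := fun _ =>
  ⟨⊤, trivial, ⟨(Scheme.Modules.restrictFunctorIsoPullback (⊤ : X.Opens).ι).app _ ≪≫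
    (DCat.PerfTensor.nonempty_pullback_free (⊤ : X.Opens).ι n).some⟩⟩

/-- The Euler characteristic of a free module. -/
theorem euler_freeMod (k : Type u) [Field k] [X.Over (Spec (CommRingCat.of k))]
    [IsProper (X ↘ Spec (CommRingCat.of k))] :
    ∀ n : ℕ, Curv2.euler k X (FlatMod.freeMod X n) = n * Curv2.euler k X (Coh.structureModule X) := by
  haveI := EulerLib.isNoetherian_of_proper k (X := X)
  intro n
  induction n with
  | zero =>
    rw [euler_of_isZero k X (?_ : IsZero (FlatMod.freeMod X 0))]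
    · simp
    · rw [IsZero.iff_id_eq_zero]
      exact Sigma.hom_ext (f := fun _ : Fin 0 => Coh.structureModule X) _ _ fun i => i.elim0
  | succ n ih =>
    classical
    let O : Fin (n + 1) → X.Modules := fun _ => Coh.structureModule X
    let O' : Fin n → X.Modules := fun _ => Coh.structureModule X
    let f : ∐ O' ⟶ ∐ O := Sigma.desc fun i => Sigma.ι O i.castSucc
    let g : ∐ O ⟶ Coh.structureModule X := Sigma.desc fun i => if i = Fin.last n then 𝟙 _ else 0
    let r : ∐ O ⟶ ∐ O' := Sigma.desc (Fin.lastCases (motive := fun i => O i ⟶ ∐ O') 0 fun i => Sigma.ι O' i)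
    let S := ShortComplex.mk f g (Sigma.hom_ext _ _ fun i => by
      simp [f, g, (Fin.castSucc_lt_last i).ne])
    let sp : S.Splitting :=
      { r := r
        s := Sigma.ι O (Fin.last n)
        f_r := Sigma.hom_ext _ _ fun i => by simp [S, f, r]
        s_g := by simp [S, g]; rfl
        id := Sigma.hom_ext _ _ fun i => by
          induction i using Fin.lastCases with
          | last => simp [S, f, g, r]
          | cast i => simp [S, f, g, r, (Fin.castSucc_lt_last i).ne] }
    have hc : ∀ m, Coh.IsCoh (FlatMod.freeMod X m) := fun m =>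
      CohBC.isCoh_of_isFinLocFree (isFinLocFree_of_rank (isFinLocFreeOfRank_freeMod m))
    have := euler_additive k X S sp.shortExact (hc n) (hc (n + 1)) (isCoh_structureModule X)
    calc Curv2.euler k X (FlatMod.freeMod X (n + 1)) = Curv2.euler k X S.X₂ := rfl
      _ = Curv2.euler k X (FlatMod.freeMod X n) + Curv2.euler k X (Coh.structureModule X) := this
      _ = _ := by rw [ih]; push_cast; ring

/-- A change of basis of a free module of rank one. -/
theorem repr_fin_one {R M : Type*} [CommRing R] [AddCommGroup M] [Module R M]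
    (b c : Module.Basis (Fin 1) R M) (m : M) :
    c.repr m 0 = b.repr m 0 * c.repr (b 0) 0 ∧ IsUnit (c.repr (b 0) 0) := by
  have key : ∀ (b c : Module.Basis (Fin 1) R M) (m : M), c.repr m 0 = b.repr m 0 * c.repr (b 0) 0 := by
    intro b c m
    conv_lhs => rw [← b.sum_repr m]
    simp
  refine ⟨key b c m, .of_mul_eq_one (b.repr (c 0) 0) ?_⟩
  have h := key c b (b 0)
  rw [b.repr_self, Finsupp.single_eq_same] at h
  exact h.symm

/-- A section of an invertible module, given at every point by its coordinate, is regular everywhere when it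
generates at the associated points. -/
theorem mem_nonZeroDivisors_of_ass [IsLocallyNoetherian X] {M : X.Modules} (hM : PicF.IsInvertible M)
    (w : Γ(M, ⊤)) (c : ∀ x : X, Module.Basis (Fin 1) (X.presheaf.stalk x) (M.presheaf.stalk x))
    (hass : ∀ z ∈ AssSch.Ass (Coh.structureModule X),
      IsUnit ((c z).repr (M.presheaf.germ ⊤ z (Opens.mem_top z) w) 0)) (x : X) :
    (c x).repr (M.presheaf.germ ⊤ x (Opens.mem_top x) w) 0 ∈ nonZeroDivisors (X.presheaf.stalk x) := by
  classical
  haveI := AmpleLib.isQCoh_of_isInvertible hM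
  haveI : (Coh.structureModule X).IsQuasicoherent := (isCoh_structureModule X).1
  obtain ⟨U, hxU, g, hg⟩ := exists_isGen hM x
  obtain ⟨V, hV, hxV, hVU⟩ := exists_isAffineOpen_mem_and_subset (x := x) (U := U) hxU
  have hgV := hg.restrict (show V ≤ U from hVU)
  have hbij := hgV V le_rfl
  simp only [resM_self] at hbij
  let gV : Module.Basis (Fin 1) Γ(X, V) Γ(M, V) := (Module.Basis.singleton (Fin 1) Γ(X, V)).map
    (LinearEquiv.ofBijective (LinearMap.toSpanSingleton Γ(X, V) Γ(M, V) (resM M hVU g)) hbij)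
  let D : Γ(X, V) := gV.repr (resM M (le_top : V ≤ ⊤) w) 0
  have hD : D • gV 0 = resM M (le_top : V ≤ ⊤) w := by
    conv_rhs => rw [← gV.sum_repr (resM M (le_top : V ≤ ⊤) w)]
    simp [D]
  have hval : ∀ (y : X) (hy : y ∈ V), ∃ v : X.presheaf.stalk y, IsUnit v ∧
      (c y).repr (M.presheaf.germ ⊤ y (Opens.mem_top y) w) 0 = X.presheaf.germ V y hy D * v := by
    intro y hy
    obtain ⟨b, hb⟩ := exists_basis_stalk_of_basis M hV gV hy
    obtain ⟨h1, h2⟩ := repr_fin_one b (c y) (M.presheaf.germ ⊤ y (Opens.mem_top y) w)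
    refine ⟨_, h2, h1.trans (congrArg (· * _) ?_)⟩
    rw [← TopCat.Presheaf.germ_res_apply _ (homOfLE (le_top : V ≤ ⊤)) y hy w]
    change b.repr (M.presheaf.germ V y hy (resM M le_top w)) 0 = _
    rw [← hD, QCohLoc.germ_smul', ← hb, map_smul, Module.Basis.repr_self, Finsupp.smul_single_one,
      Finsupp.single_eq_same]
  haveI := AssSch12.isNoetherianRing_of_isAffineOpen hV
  have hnzd : D ∈ nonZeroDivisors Γ(X, V) := by
    rw [mem_nonZeroDivisors_iff_right]
    intro r hr
    refine AssSch12.eq_zero_of_forall_associatedPrimes (R := Γ(X, V)) (M := Γ(X, V)) r fun p hp => ⟨D, ?_, ?_⟩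
    · haveI := IsAssociatedPrime.isPrime hp
      obtain ⟨z, hz, hzp⟩ := exists_point hV p
      subst hzp
      have hza : z ∈ AssSch.Ass (Coh.structureModule X) := (mem_ass_iff hV hz (Coh.structureModule X)).2 hp
      obtain ⟨v, -, he⟩ := hval z hz
      rw [notMem_primeAt_iff hV hz, Scheme.mem_basicOpen _ _ _ hz]
      have := hass z hza
      rw [he] at this
      exact isUnit_of_mul_isUnit_left this
    · rw [smul_eq_mul, mul_comm]; exact hr
  obtain ⟨v, hv, he⟩ := hval x hxV
  rw [he]
  refine mul_mem ?_ hv.mem_nonZeroDivisors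
  letI := TopCat.Presheaf.algebra_section_stalk X.presheaf (⟨x, hxV⟩ : V)
  haveI := hV.isLocalization_stalk ⟨x, hxV⟩
  exact IsLocalization.map_nonZeroDivisors_le (hV.primeIdealOf ⟨x, hxV⟩).asIdeal.primeCompl
    (X.presheaf.stalk x) ⟨D, hnzd, rfl⟩

/-- On a space of dimension at most one, a closed subset missing the associated points is zero-dimensional. -/
theorem isClosed_singleton_of_notMem_ass [IsLocallyNoetherian X] (hdim : topologicalKrullDim X ≤ 1) {S : Set X}
    (hgen : ∀ z y : X, z ⤳ y → y ∈ S → z ∈ AssSch.Ass (Coh.structureModule X) → z ≠ y) {y : X} (hy : y ∈ S) :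
    IsClosed ({y} : Set X) := by
  haveI : (Coh.structureModule X).IsQuasicoherent := (isCoh_structureModule X).1
  by_contra hc
  obtain ⟨y', hy', hne⟩ : ∃ y', y' ∈ closure ({y} : Set X) ∧ y' ≠ y := by
    by_contra h
    push Not at h
    exact hc (closure_subset_iff_isClosed.1 fun a ha => h a ha)
  obtain ⟨V, hV, hyV, -⟩ := exists_isAffineOpen_mem_and_subset (x := y) (U := (⊤ : X.Opens)) trivial
  haveI := AssSch12.isNoetherianRing_of_isAffineOpen hV
  obtain ⟨q, hq, hqy⟩ := Ideal.exists_minimalPrimes_le (bot_le : ⊥ ≤ primeAt hV hyV)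
  haveI := hq.isPrime
  obtain ⟨z, hz, rfl⟩ := exists_point hV q
  have hza : z ∈ AssSch.Ass (Coh.structureModule X) := by
    refine (mem_ass_iff hV hz (Coh.structureModule X)).2 ?_
    refine Module.associatedPrimes.minimalPrimes_annihilator_subset_associatedPrimes Γ(X, V) Γ(X, V) ?_
    rwa [show Module.annihilator Γ(X, V) Γ(X, V) = ⊥ from ?_]
    exact eq_bot_iff.2 fun r hr => by simpa using Module.mem_annihilator.1 hr 1
  have hzy : z ⤳ y := (specializes_iff hV hz hyV).2 hqy
  have hzne := hgen z y hzy hy hza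
  have h1 : topologicalKrullDim (closure ({y} : Set X)) < (1 : ℕ) :=
    dim_lt_of_notMem isClosed_closure
      (closure_minimal (Set.singleton_subset_iff.2 (specializes_iff_mem_closure.1 hzy)) isClosed_closure)
      isClosed_closure rfl (fun h => hzne (hzy.antisymm (specializes_iff_mem_closure.2 h)).eq)
      ((Topology.IsInducing.subtypeVal.topologicalKrullDim_le).trans (by exact_mod_cast hdim))
  have h2 : topologicalKrullDim (closure ({y'} : Set X)) < (0 : ℕ) := by
    refine dim_lt_of_notMem isClosed_closure (closure_minimal (Set.singleton_subset_iff.2 hy') isClosed_closure)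
      isClosed_closure rfl (fun h => hne (((specializes_iff_mem_closure.2 hy').antisymm
        (specializes_iff_mem_closure.2 h)).eq.symm)) ?_
    have h1' : topologicalKrullDim (closure ({y} : Set X)) < 1 := by exact_mod_cast h1
    exact ENat.WithBot.lt_add_one_iff.1 (by simpa using h1')
  have : Nonempty (IrreducibleCloseds (closure ({y'} : Set X))) :=
    ⟨⟨closure {⟨y', subset_closure rfl⟩}, isIrreducible_singleton.closure, isClosed_closure⟩⟩
  exact absurd (Order.krullDim_nonneg (α := IrreducibleCloseds (closure ({y'} : Set X))))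
    (not_le.2 (by exact_mod_cast h2))

/-- A closed subset all of whose points are closed is zero-dimensional. -/
theorem dim_le_zero_of_closed_points {T : Set X} (hT : IsClosed T)
    (h : ∀ y ∈ T, IsClosed ({y} : Set X)) : topologicalKrullDim T ≤ 0 := by
  refine Order.krullDim_nonpos_iff_forall_isMin.2 fun A B hBA => ?_
  obtain ⟨⟨y, hyT⟩, hy⟩ := B.isIrreducible.nonempty
  have hA : IsIrreducible (Subtype.val '' (A : Set T)) := A.isIrreducible.image _ continuous_subtype_val.continuousOn
  have hAc : IsClosed (Subtype.val '' (A : Set T)) := hT.isClosedEmbedding_subtypeVal.isClosedMap _ A.isClosed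
  have hgen := hA.isGenericPoint_genericPoint hAc
  obtain ⟨a, -, ha⟩ := hgen.mem
  have hsub : Subtype.val '' (A : Set T) = {hA.genericPoint} := by
    conv_lhs => rw [← hgen.def]
    exact (h _ (ha ▸ a.2)).closure_eq
  intro b hb
  have e1 : b.1 ∈ ({hA.genericPoint} : Set X) := hsub ▸ ⟨b, hb, rfl⟩
  have e2 : y ∈ ({hA.genericPoint} : Set X) := hsub ▸ ⟨⟨y, hyT⟩, hBA hy, rfl⟩
  rwa [show b = ⟨y, hyT⟩ from Subtype.ext (e1.trans e2.symm)]

variable (k : Type u) [Field k] [X.Over (Spec (CommRingCat.of k))] [IsProper (X ↘ Spec (CommRingCat.of k))]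

/-- Two coherent modules with zero-dimensional supports and equal lengths at every point have the same
Euler characteristic. -/
theorem euler_eq_of_length_eq {T₁ T₂ : X.Modules} (h₁ : Coh.IsCoh T₁) (h₂ : Coh.IsCoh T₂)
    (hd₁ : topologicalKrullDim (CohB1.support T₁) ≤ 0) (hd₂ : topologicalKrullDim (CohB1.support T₂) ≤ 0)
    (hl : ∀ x : X, Module.length (X.presheaf.stalk x) (T₁.presheaf.stalk x) =
      Module.length (X.presheaf.stalk x) (T₂.presheaf.stalk x)) :
    Curv2.euler k X T₁ = Curv2.euler k X T₂ := by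
  classical
  haveI := EulerLib.isNoetherian_of_proper k (X := X)
  have c₁ := isClosed_support T₁ (locallyFinGen_of_isFT T₁ h₁.2)
  have c₂ := isClosed_support T₂ (locallyFinGen_of_isFT T₂ h₂.2)
  have f₁ := finite_top_points c₁ (d := 0) (by exact_mod_cast hd₁)
  have f₂ := finite_top_points c₂ (d := 0) (by exact_mod_cast hd₂)
  let s : Finset X := (f₁.union f₂).toFinset
  have hmem : ∀ {ξ : X}, ξ ∈ s ↔ _ := fun {ξ} => (f₁.union f₂).mem_toFinset
  have key : ∀ T : X.Modules, Coh.IsCoh T → topologicalKrullDim (CohB1.support T) ≤ 0 →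
      (∀ ξ ∈ CohB1.support T, topologicalKrullDim (closure ({ξ} : Set X)) = (0 : ℕ) → ξ ∈ s) →
      Curv2.euler k X T = ∑ ξ ∈ s, mult T ξ • Curv2.euler k X (clM ξ) := fun T hT hd hs => by
    refine eq_sum_mult (ψ := fun M => Curv2.euler k X M) (d := 0) (fun e => euler_congr k X e)
      (fun S hS a b c => euler_additive k X S hS a b c) (fun M hM hlt => ?_) hT (by exact_mod_cast hd) s hs
      (fun ξ hξ => ?_)
    · refine euler_of_isZero k X (isZero_of_support_eq_empty ?_)
      rw [Set.eq_empty_iff_forall_notMem]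
      intro a ha
      have : Nonempty (IrreducibleCloseds (CohB1.support M)) :=
        ⟨⟨closure {⟨a, ha⟩}, isIrreducible_singleton.closure, isClosed_closure⟩⟩
      exact absurd (Order.krullDim_nonneg (α := IrreducibleCloseds (CohB1.support M)))
        (not_le.2 (by exact_mod_cast hlt))
    · rcases hmem.1 hξ with h | h <;> exact h.2
  rw [key T₁ h₁ hd₁ (fun ξ a b => hmem.2 (Or.inl ⟨a, b⟩)), key T₂ h₂ hd₂ (fun ξ a b => hmem.2 (Or.inr ⟨a, b⟩))]
  exact Finset.sum_congr rfl fun ξ _ => by rw [mult, mult, hl ξ]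

include k in
/-- Sections of a high twist forming a basis at finitely many given points. -/
theorem exists_sections_basis_at (hdim : topologicalKrullDim X ≤ 1) {n : ℕ} {E : X.Modules}
    (hE : FlatMod.IsFinLocFreeOfRank n E) {Z : Set X} (hZ : Z.Finite) :
    ∃ (B : X.Modules) (_ : PicF.IsInvertible B) (T : Fin n → Γ(CohB1.tensorMod E B, ⊤)),
      ∀ z ∈ Z, ∀ b : Module.Basis (Fin n) (X.presheaf.stalk z) ((CohB1.tensorMod E B).presheaf.stalk z),
        IsUnit (b.det fun j => (CohB1.tensorMod E B).presheaf.germ ⊤ z (Opens.mem_top z) (T j)) := by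
  classical
  haveI := EulerLib.isNoetherian_of_proper k (X := X)
  haveI : X.IsSeparated := ⟨by rw [← terminal.comp_from (X ↘ Spec (CommRingCat.of k))]; infer_instance⟩
  haveI := LocFreeLib.isQCoh_of_isFinLocFreeOfRank hE
  obtain ⟨A, -, hA⟩ := exists_ample_of_dim_le_one k hdim
  obtain ⟨m, hm, a, hZa, -, haff⟩ := exists_affine_glocus_finite (U := (⊤ : X.Opens)) hA Z hZ (fun z _ => trivial)
  obtain ⟨U, hZU, -, hU, ⟨ε⟩⟩ := LocFreeLib.exists_iso_freeMod_basicOpen hE haff Z hZ hZa
  obtain ⟨m', hm', a', hZa', ha'U, haff'⟩ := exists_affine_glocus_finite (U := U) hA Z hZ hZU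
  let P := CohB1.tensorPow A m'
  have hP : PicF.IsInvertible P := isInvertible_tensorPow (isAmple_iff_affGlocus.1 hA).1 m'
  obtain ⟨β⟩ := Props12.exists_basis_sections ε ha'U
  choose d t ht using fun i => exists_extend E a' hP (β i)
  let N := Finset.univ.sup d
  have hB := isInvertible_tensorPow hP N
  haveI := AmpleLib.isQCoh_of_isInvertible hB
  have hpad : ∀ i, ∃ T : Γ(CohB1.tensorMod E (CohB1.tensorPow P N), ⊤),
      resM _ (le_top : glocus P a' ≤ ⊤) T = tmul (β i) (powSec (resM P le_top a') N) := by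
    intro i
    obtain ⟨e, hNe⟩ := Nat.exists_eq_add_of_le (Finset.le_sup (f := d) (Finset.mem_univ i))
    change N = d i + e at hNe
    obtain ⟨α, -, hα⟩ := exists_assocIso_val E (isInvertible_tensorPow hP (d i)) (isInvertible_tensorPow hP e)
    obtain ⟨π, hπ⟩ := exists_powIso hP (d i) e
    rw [hNe]
    refine ⟨(AmpleLib.tensorMap (𝟙 E) π.hom).app ⊤ (α.app ⊤ (tmul (t i) (powSec a' e))), ?_⟩
    rw [← app_resM, ← app_resM, resM_tmul, ht i, resM_powSec, hα, tensorMap_tmul, hπ]
    rfl
  choose T hT using hpad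
  refine ⟨_, hB, T, fun z hz b => ?_⟩
  haveI : Coh.IsQCoh (CohB1.tensorMod E (CohB1.tensorPow P N)) := isQCoh_tensorMod E _
  have hg := isGen_powSec (isGen_glocus a') N
  have hbij := bijective_tmul_gen (M := E) hg (glocus P a') le_rfl
  simp only [resM_self] at hbij
  let tw : Γ(E, glocus P a') ≃ₗ[Γ(X, glocus P a')] Γ(CohB1.tensorMod E (CohB1.tensorPow P N), glocus P a') :=
    LinearEquiv.ofBijective
      { toFun := fun x => tmul x (powSec (resM P le_top a') N)
        map_add' := fun x y => tmul_add_left x y _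
        map_smul' := fun r x => tmul_smul_left r x _ } hbij
  obtain ⟨b', hb'⟩ := exists_basis_stalk_of_basis _ haff' (β.map tw) (hZa' hz)
  have : (fun j => (CohB1.tensorMod E (CohB1.tensorPow P N)).presheaf.germ ⊤ z (Opens.mem_top z) (T j)) = ⇑b' := by
    funext j
    rw [hb', ← TopCat.Presheaf.germ_res_apply _ (homOfLE (le_top : glocus P a' ≤ ⊤)) z (hZa' hz) (T j)]
    exact congrArg _ (hT j)
  rw [this]
  exact b.isUnit_det b'

include k in
theorem deg_tensorPow' (hdim : topologicalKrullDim X ≤ 1) {L : X.Modules} (hL : PicF.IsInvertible L) :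
    ∀ m : ℕ, Curv2.deg k X (CohB1.tensorPow L m) 1 = m * Curv2.deg k X L 1
  | 0 => by
    show Curv2.deg k X (Coh.structureModule X) 1 = _
    rw [CurveRR24.deg_structure]; simp
  | m + 1 => by
    show Curv2.deg k X (CohB1.tensorMod (CohB1.tensorPow L m) L) 1 = _
    rw [CurveRR24.deg_tensor k hdim (isInvertible_tensorPow hL m) hL, deg_tensorPow' hdim hL m]
    push_cast; ring

include k in
/-- `deg E = deg det E`. -/
theorem deg_eq_deg_det (hdim : topologicalKrullDim X ≤ 1) {n : ℕ} {E L : X.Modules}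
    (hE : FlatMod.IsFinLocFreeOfRank n E) (hL : ExtPow.IsExtPow n E L) :
    Curv2.deg k X E n = Curv2.deg k X L 1 := by
  classical
  haveI := EulerLib.isNoetherian_of_proper k (X := X)
  haveI : X.IsSeparated := ⟨by rw [← terminal.comp_from (X ↘ Spec (CommRingCat.of k))]; infer_instance⟩
  have hLinv : PicF.IsInvertible L := Canon15.isInvertible_of_isExtPow hE hL
  haveI := LocFreeLib.isQCoh_of_isFinLocFreeOfRank hE
  haveI := AmpleLib.isQCoh_of_isInvertible hLinv
  obtain ⟨B, hB, T, hT⟩ := exists_sections_basis_at k hdim hE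
    (finite_ass (Coh.structureModule X) (isCoh_structureModule X))
  haveI := AmpleLib.isQCoh_of_isInvertible hB
  obtain ⟨w, hw⟩ := exists_det_section hE hL hLinv hB T
  choose b c hbc using hw
  have hM' : PicF.IsInvertible (CohB1.tensorMod L (CohB1.tensorPow B n)) :=
    AmpleLib.isInvertible_tensorMod hLinv (isInvertible_tensorPow hB n)
  let d : ∀ x : X, X.presheaf.stalk x := fun x =>
    (b x).det fun j => (CohB1.tensorMod E B).presheaf.germ ⊤ x (Opens.mem_top x) (T j)
  have hunit : ∀ z ∈ AssSch.Ass (Coh.structureModule X), IsUnit (d z) := fun z hz => hT z hz (b z)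
  have hnzd : ∀ x, d x ∈ nonZeroDivisors (X.presheaf.stalk x) := fun x => by
    have := mem_nonZeroDivisors_of_ass hM' w c (fun z hz => by rw [hbc]; exact hunit z hz) x
    rwa [hbc] at this
  obtain ⟨σ₁, hσ₁, hlen₁⟩ := exists_hom_of_sections (CohB1.tensorMod E B) T b hnzd
  have hdc : ∀ x, (c x).det (fun _ : Fin 1 => (CohB1.tensorMod L (CohB1.tensorPow B n)).presheaf.germ ⊤ x
      (Opens.mem_top x) w) = d x := fun x => by
    rw [Module.Basis.det_apply, Matrix.det_fin_one]
    exact hbc x
  obtain ⟨σ₂, hσ₂, hlen₂⟩ := exists_hom_of_sections (CohB1.tensorMod L (CohB1.tensorPow B n)) (fun _ : Fin 1 => w) c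
    (fun x => by rw [hdc]; exact hnzd x)
  have hEB : Coh.IsCoh (CohB1.tensorMod E B) :=
    ⟨isQCoh_tensorMod E B, isFT_tensorMod E B (CohBC.isCoh_of_isFinLocFree (isFinLocFree_of_rank hE)).2
      (PicLib.isCoh_of_isInvertible hB).2⟩
  have hLB := PicLib.isCoh_of_isInvertible hM'
  have hfree : ∀ m, Coh.IsCoh (FlatMod.freeMod X m) := fun m =>
    CohBC.isCoh_of_isFinLocFree (isFinLocFree_of_rank (isFinLocFreeOfRank_freeMod m))
  have hC₁ : Coh.IsCoh (cokernel σ₁) := isCoh_cokernel σ₁ (hfree n).1 hEB
  have hC₂ : Coh.IsCoh (cokernel σ₂) := isCoh_cokernel σ₂ (hfree 1).1 hLB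
  have hl : ∀ x, Module.length (X.presheaf.stalk x) ((cokernel σ₁).presheaf.stalk x) =
      Module.length (X.presheaf.stalk x) ((cokernel σ₂).presheaf.stalk x) := fun x => by
    rw [hlen₁ x, hlen₂ x, hdc x]
  have hcl : ∀ M : X.Modules, Coh.IsCoh M →
      (∀ x, Module.length (X.presheaf.stalk x) (M.presheaf.stalk x) = Ring.ord (X.presheaf.stalk x) (d x)) →
      topologicalKrullDim (CohB1.support M) ≤ 0 := fun M hM hlen => by
    refine dim_le_zero_of_closed_points (isClosed_support M (locallyFinGen_of_isFT M hM.2)) fun y hy => ?_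
    refine isClosed_singleton_of_notMem_ass hdim ?_ hy
    intro z x _ hx hza hzx
    subst hzx
    refine hx ?_
    rw [← Module.length_eq_zero_iff (R := X.presheaf.stalk z), hlen z, Ring.ord, Module.length_eq_zero_iff]
    exact Submodule.Quotient.subsingleton_iff.2 (Ideal.span_singleton_eq_top.2 (hunit z hza))
  have hχ := euler_eq_of_length_eq k hC₁ hC₂ (hcl _ hC₁ hlen₁) (hcl _ hC₂ fun x => by rw [hlen₂ x, hdc x]) hl
  have hadd : ∀ {m : ℕ} {M : X.Modules} (σ : FlatMod.freeMod X m ⟶ M) [Mono σ], Coh.IsCoh M →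
      Coh.IsCoh (cokernel σ) → Curv2.deg k X M m = Curv2.euler k X (cokernel σ) := fun {m M} σ _ hM hC => by
    have hS : (ShortComplex.mk σ (cokernel.π σ) (cokernel.condition σ)).ShortExact :=
      { exact := ShortComplex.exact_of_g_is_cokernel _ (cokernelIsCokernel σ) }
    have := euler_additive k X _ hS (hfree m) hM hC
    change Curv2.euler k X M = Curv2.euler k X (FlatMod.freeMod X m) + Curv2.euler k X (cokernel σ) at this
    rw [euler_freeMod k m] at this
    simp only [Curv2.deg]
    linear_combination this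
  have h1 := hadd σ₁ hEB hC₁
  have h2 := hadd σ₂ hLB hC₂
  have e1 := deg_tensor_rank k hdim hE (isFinLocFreeOfRank_one hB)
  rw [mul_one, h1] at e1
  have e2 := CurveRR24.deg_tensor k hdim hLinv (isInvertible_tensorPow hB n)
  rw [h2, deg_tensorPow' k hdim hB n, ← hχ] at e2
  push_cast at e1
  linear_combination e2 - e1

end Groth.Agent.VarietyLib
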