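import Groth.Agent.CurveRR24.Sky
import Groth.Agent.CurveRR24.Section
import Groth.Agent.EulerLib.Positive
import Groth.Agent.DimLib.Maximal
import Groth.Agent.DimLib.Components
import Groth.Agent.AbCubeLib.ExistsAmple

/-!
# Cutting Euler characteristics by effective Cartier divisors
-/

set_option autoImplicit false
set_option linter.style.haveILetI false
set_option backward.isDefEq.respectTransparency.types false

universe u

open CategoryTheory CategoryTheory.Limits AlgebraicGeometry Opposite TopologicalSpace
open Groth.Agent.Coherent Groth.Agent.PicLib Groth.Agent.AmpleLib Groth.Agent.EulerLib Groth.Agent.CurveRR24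
open Groth.Agent.DimLib

namespace Groth.Agent.VarietyLib

variable {X : Scheme.{u}}

/-- Top intersection degrees are invariant under translation. -/
theorem interDeg_translate {d : ℕ} {φ : InvCl X → ℤ} (hφ : ClDeg (d + 1) φ) (m : InvCl X)
    (c : Fin d → InvCl X) : interDeg c (fun x => φ (m * x)) = interDeg c φ := by
  have h : interDeg (Fin.cons m c : Fin (d + 1) → InvCl X) φ = 0 := interDeg_eq_zero _ hφ
  rw [interDeg_cons] at h
  have h2 := interDeg_add_fun c (fun x => φ (m * x) - φ x) φ
  rw [h, zero_add] at h2
  rw [← h2]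
  exact congrArg _ (funext fun x => (sub_add_cancel _ _).symm)

/-- A point without proper generisations avoids effective Cartier divisors. -/
theorem notMem_support_of_effCartier {D : X.IdealSheafData} (hD : BlowUp.IsEffCartierIdeal D) {z : X}
    (hmax : ∀ w : X, w ⤳ z → w = z) : z ∉ D.support := fun hz => by
  obtain ⟨U, hzU, f, hf, hI⟩ := hD z
  let P := U.2.primeIdealOf ⟨z, hzU⟩
  have hPz : U.2.fromSpec P = z := U.2.fromSpec_primeIdealOf ⟨z, hzU⟩
  have hmin : P.asIdeal ∈ minimalPrimes Γ(X, U.1) := by
    refine ⟨⟨P.isPrime, bot_le⟩, fun Q hQ hQP => ?_⟩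
    let Q' : PrimeSpectrum Γ(X, U.1) := ⟨Q, hQ.1⟩
    have hs : Q' ⤳ P := (PrimeSpectrum.le_iff_specializes Q' P).1 hQP
    have hw := hmax _ (hPz ▸ hs.map U.2.fromSpec.continuous)
    have : Q' = P := U.2.fromSpec.isOpenEmbedding.injective (hw.trans hPz.symm)
    exact (congrArg PrimeSpectrum.asIdeal this).ge
  have hfP : f ∈ P.asIdeal := by
    have h1 := (Scheme.IdealSheafData.mem_support_iff_of_mem hzU).1 hz
    rw [Scheme.mem_zeroLocus_iff] at h1
    have h2 := h1 f (by rw [hI]; exact Ideal.mem_span_singleton_self f)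
    by_contra hfP
    refine h2 ?_
    rw [← hPz]
    have h3 : P ∈ U.2.fromSpec ⁻¹ᵁ X.basicOpen f := by
      rw [U.2.fromSpec_preimage_basicOpen]; exact hfP
    exact h3
  exact (Set.disjoint_left.1 (Ideal.disjoint_nonZeroDivisors_of_mem_minimalPrimes hmin) hfP) hf

variable (k : Type u) [Field k] [X.Over (Spec (CommRingCat.of k))] [IsProper (X ↘ Spec (CommRingCat.of k))]

include k in
/-- Effective Cartier divisors drop the dimension. -/
theorem dim_support_le_of_effCartier {e : ℕ} (hX : topologicalKrullDim X ≤ ((e + 1 : ℕ) : WithBot ℕ∞))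
    {D : X.IdealSheafData} (hD : BlowUp.IsEffCartierIdeal D) :
    topologicalKrullDim (D.support : Set X) ≤ (e : WithBot ℕ∞) := by
  let p := X ↘ Spec (CommRingCat.of k)
  refine (topologicalKrullDim_closed_eq_iSup p (Z := (D.support : Set X)) D.support.isClosed).le.trans ?_
  refine iSup_le fun z => ?_
  have hle : ∀ w : X, ptDim p w ≤ e + 1 := fun w => by
    have h : topologicalKrullDim (closure ({w} : Set X)) ≤ ((e + 1 : ℕ) : WithBot ℕ∞) :=
      ((dim_mono (Set.subset_univ _)).trans
        (IsHomeomorph.topologicalKrullDim_eq _ (Homeomorph.Set.univ X).isHomeomorph).le).trans hX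
    rw [topologicalKrullDim_eq_ptDim_of_isGenericPoint p isGenericPoint_closure] at h
    exact_mod_cast h
  rcases Nat.lt_or_ge e (ptDim p z.1) with hlt | hge
  · exfalso
    refine notMem_support_of_effCartier hD (fun w hw => ?_) z.2
    by_contra hne
    have h1 := ptDim_lt_of_specializes p hw hne
    have h2 := hle w
    omega
  · exact_mod_cast hge

/-- Twisting by a divisor changes the Euler characteristics by those of the divisor. -/
theorem chiCl_effCartier_diff {D : X.IdealSheafData} {L : X.Modules} (hL : PicF.IsInvertible L)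
    (hLD : ClSub.IsInverseOf L (ClSub.idealMod D)) (x : InvCl X) :
    chiCl k (Coh.structureModule X) (InvCl.mk L hL * x) - chiCl k (Coh.structureModule X) x =
      chiCl k (ClSub.quotMod D) (InvCl.mk L hL * x) := by
  haveI := isNoetherian_of_proper (X := X) k
  obtain ⟨e⟩ := hLD
  have h := chiCl_additive k (twistSeq _ L) (twistSeq_shortExact hL (shortExact_ideal D))
    (isCoh_twist hL (isCoh_idealMod' D)) (isCoh_twist hL (isCoh_structureModule X))
    (isCoh_twist hL (isCoh_quotMod D))
  have hx : chiCl k (CohB1.tensorMod (Coh.structureModule X) L) x =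
      chiCl k (CohB1.tensorMod (ClSub.idealMod D) L) x + chiCl k (CohB1.tensorMod (ClSub.quotMod D) L) x :=
    congrFun h x
  rw [chiCl_congr k (AmpleLib.tensorComm (ClSub.idealMod D) L ≪≫ e)] at hx
  rw [chiCl_mul k (Coh.structureModule X) hL x, chiCl_mul k (ClSub.quotMod D) hL x]
  omega

end Groth.Agent.VarietyLib
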