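import Groth.Agent.EulerLib.DegClass
import Mathlib.Algebra.MvPolynomial.Funext

/-!
# Intersection numbers as coefficients of Snapper polynomials
-/

set_option autoImplicit false
set_option linter.style.haveILetI false
set_option backward.isDefEq.respectTransparency.types false

universe u

open CategoryTheory CategoryTheory.Limits AlgebraicGeometry TopologicalSpace
open Groth.Agent.Coherent Groth.Agent.PicLib Groth.Agent.AmpleLib Groth.Agent.EulerLib

namespace Groth.Agent.VarietyLib

/-- The alternating sum of a polynomial over the vertices of the cube. -/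
theorem sum_cube_eval {r : ℕ} (P : MvPolynomial (Fin r) ℚ) (hP : P.totalDegree ≤ r) :
    (-1 : ℚ) ^ r * ∑ I : Finset (Fin r), (-1 : ℚ) ^ I.card *
        MvPolynomial.eval (fun i => if i ∈ I then (1 : ℚ) else 0) P =
      MvPolynomial.coeff (Finsupp.equivFunOnFinite.symm fun _ : Fin r => 1) P := by
  classical
  have hmon : ∀ m : Fin r →₀ ℕ, ∑ I : Finset (Fin r), (-1 : ℚ) ^ I.card *
      ∏ i, (if i ∈ I then (1 : ℚ) else 0) ^ m i = ∏ i, ((-1 : ℚ) + 0 ^ m i) := by
    intro m
    rw [Finset.prod_add]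
    refine Finset.sum_bij' (fun I _ => I) (fun I _ => I) (by simp) (by simp) (by simp) (by simp) fun I _ => ?_
    rw [← Finset.prod_sdiff (Finset.subset_univ I)]
    have h1 : ∏ i ∈ I, (if i ∈ I then (1 : ℚ) else 0) ^ m i = 1 :=
      Finset.prod_eq_one fun i hi => by rw [if_pos hi, one_pow]
    have h2 : ∏ i ∈ Finset.univ \ I, (if i ∈ I then (1 : ℚ) else 0) ^ m i = ∏ i ∈ Finset.univ \ I, (0 : ℚ) ^ m i :=
      Finset.prod_congr rfl fun i hi => by rw [if_neg (Finset.mem_sdiff.1 hi).2]
    rw [h1, h2, mul_one, Finset.prod_const]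
  simp only [MvPolynomial.eval_eq', Finset.mul_sum]
  rw [Finset.sum_comm]
  have hterm : ∀ m ∈ P.support, (∑ I : Finset (Fin r), (-1 : ℚ) ^ r * ((-1 : ℚ) ^ I.card *
      (MvPolynomial.coeff m P * ∏ i, (if i ∈ I then (1 : ℚ) else 0) ^ m i))) =
      if m = Finsupp.equivFunOnFinite.symm (fun _ : Fin r => 1) then MvPolynomial.coeff m P else 0 := by
    intro m hm
    have e : (∑ I : Finset (Fin r), (-1 : ℚ) ^ r * ((-1 : ℚ) ^ I.card *
        (MvPolynomial.coeff m P * ∏ i, (if i ∈ I then (1 : ℚ) else 0) ^ m i))) =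
        (-1 : ℚ) ^ r * MvPolynomial.coeff m P * ∏ i, ((-1 : ℚ) + 0 ^ m i) := by
      rw [← hmon m, Finset.mul_sum]
      exact Finset.sum_congr rfl fun I _ => by ring
    rw [e]
    by_cases hall : ∀ i, 1 ≤ m i
    · have hsum : ∑ i, m i ≤ r := by
        refine le_trans (le_of_eq ?_) ((MvPolynomial.le_totalDegree hm).trans hP)
        rw [Finsupp.sum_fintype _ _ (fun _ => rfl)]
      have hone : ∀ i, m i = 1 := by
        intro i
        by_contra hne
        have h2 : ∑ _j : Fin r, 1 < ∑ j, m j :=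
          Finset.sum_lt_sum (fun j _ => hall j) ⟨i, Finset.mem_univ i, by have := hall i; omega⟩
        simp at h2
        omega
      have hm1 : m = Finsupp.equivFunOnFinite.symm (fun _ : Fin r => 1) := Finsupp.ext fun i => by simp [hone i]
      rw [if_pos hm1]
      have hprod : ∏ i, ((-1 : ℚ) + 0 ^ m i) = (-1) ^ r := by
        have : ∀ i, (-1 : ℚ) + 0 ^ m i = -1 := fun i => by rw [hone i]; norm_num
        simp only [this]
        rw [Finset.prod_const, Finset.card_univ, Fintype.card_fin]
      rw [hprod, mul_right_comm, ← pow_add, Even.neg_one_pow ⟨r, rfl⟩, one_mul]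
    · push Not at hall
      obtain ⟨i, hi⟩ := hall
      rw [if_neg fun h => by rw [h] at hi; simp at hi]
      have : ∏ i, ((-1 : ℚ) + 0 ^ m i) = 0 :=
        Finset.prod_eq_zero (Finset.mem_univ i) (by rw [show m i = 0 by omega]; norm_num)
      rw [this, mul_zero]
  rw [Finset.sum_congr rfl hterm, Finset.sum_ite_eq']
  split_ifs with h
  · rfl
  · exact (MvPolynomial.notMem_support_iff.1 h).symm

/-- Two polynomials agreeing on natural points are equal. -/
theorem eq_of_eval_nat {r : ℕ} {P Q : MvPolynomial (Fin r) ℚ}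
    (h : ∀ n : Fin r → ℕ, MvPolynomial.eval (fun i => (n i : ℚ)) P = MvPolynomial.eval (fun i => (n i : ℚ)) Q) :
    P = Q := by
  refine MvPolynomial.funext_set (fun _ => Set.range ((↑) : ℕ → ℚ))
    (fun _ => Set.infinite_range_of_injective Nat.cast_injective) fun x hx => ?_
  have hx' : ∀ i, ∃ n : ℕ, (n : ℚ) = x i := fun i => hx i (Set.mem_univ i)
  choose n hn using hx'
  have := h n
  simpa only [hn] using this

variable (k : Type u) [Field k] {X : Scheme.{u}} [X.Over (Spec (CommRingCat.of k))]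
  [IsProper (X ↘ Spec (CommRingCat.of k))]

/-- The intersection number as a coefficient. -/
theorem coeff_eq_interDeg {F : X.Modules} (hF : Coh.IsCoh F) {r : ℕ}
    (hr : topologicalKrullDim (CohB1.support F) ≤ r) (L : Fin r → X.Modules) (hL : ∀ i, PicF.IsInvertible (L i))
    (P : MvPolynomial (Fin r) ℚ)
    (hP : ∀ n : Fin r → ℕ, (Curv2.euler k X (Curv2.tensorPows F r L n) : ℚ) =
      MvPolynomial.eval (fun i => (n i : ℚ)) P) :
    MvPolynomial.coeff (Finsupp.equivFunOnFinite.symm fun _ : Fin r => 1) P =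
      (interDeg (fun i => InvCl.mk (L i) (hL i)) (chiCl k F) : ℚ) := by
  classical
  let c := fun i => InvCl.mk (L i) (hL i)
  obtain ⟨Q, hQd, hQ⟩ := snapper k hF hr c
  have hPQ : P = Q := eq_of_eval_nat fun n => by
    rw [← hP, ← hQ]
    obtain ⟨N, hN, hcl, ⟨e⟩⟩ := exists_tensorPows_rep F r L hL n
    rw [euler_congr k X e, ← chiCl_mk k F hN, hcl]
  subst hPQ
  rw [← sum_cube_eval P hQd, interDeg, altSum]
  push_cast
  congr 1
  refine Finset.sum_congr rfl fun I _ => ?_
  congr 1
  have := hQ fun i => if i ∈ I then 1 else 0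
  have e1 : ∏ i, c i ^ (if i ∈ I then 1 else 0 : ℕ) = ∏ i ∈ I, c i := by
    rw [← Finset.prod_subset (Finset.subset_univ I) (fun i _ hi => by rw [if_neg hi, pow_zero])]
    exact Finset.prod_congr rfl fun i hi => by rw [if_pos hi, pow_one]
  rw [e1] at this
  rw [this]
  congr 2
  funext i
  split_ifs <;> simp

end Groth.Agent.VarietyLib
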