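import Groth.Agent.VarietyLib.SupportAdditive
import Groth.Agent.Coherent.DevissageMain
import Groth.Agent.EulerLib.ClosurePoint
import Groth.Agent.EulerLib.Degree
import Groth.Agent.CycLib28.Support

/-!
# Additive functions of dimension `d` are sums over components with multiplicities
-/

set_option autoImplicit false
set_option linter.style.haveILetI false

universe u v

open CategoryTheory CategoryTheory.Limits AlgebraicGeometry Opposite TopologicalSpace
open Groth.Agent.ModStalk Groth.Agent.AssSch12 Groth.Agent.Coherent Groth.Agent.EulerLib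

namespace Groth.Agent.VarietyLib

variable {X : Scheme.{u}}

local notation "St" => DerSch.stalkFunctor X

/-- Points of `d`-dimensional closure in a closed set of dimension at most `d` are finitely many. -/
theorem finite_top_points [IsNoetherian X] {T : Set X} (hT : IsClosed T) {d : ℕ}
    (hd : topologicalKrullDim T ≤ d) :
    {ξ | ξ ∈ T ∧ topologicalKrullDim (closure ({ξ} : Set X)) = (d : WithBot ℕ∞)}.Finite := by
  obtain ⟨S, hS, hScl, hSirr, hTeq⟩ := NoetherianSpace.exists_finite_set_isClosed_irreducible hT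
  classical
  refine Set.Finite.subset (hS.biUnion (t := fun C => if h : IsIrreducible C then {h.genericPoint} else ∅)
    fun C hC => by rw [dif_pos (hSirr C hC)]; exact Set.finite_singleton _) ?_
  rintro ξ ⟨hξT, hξ⟩
  obtain ⟨C, hC, hξC⟩ := Set.mem_sUnion.1 (hTeq ▸ hξT)
  refine Set.mem_biUnion hC ?_
  rw [dif_pos (hSirr C hC), Set.mem_singleton_iff]
  by_contra hne
  have hg := (hSirr C hC).isGenericPoint_genericPoint (hScl C hC)
  have hnmem : (hSirr C hC).genericPoint ∉ closure ({ξ} : Set X) := fun h =>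
    hne ((hg.specializes hξC).antisymm (specializes_iff_mem_closure.2 h)).eq.symm
  have hlt := dim_lt_of_notMem isClosed_closure
    ((hScl C hC).closure_subset_iff.2 (Set.singleton_subset_iff.2 hξC)) (hScl C hC) hg.def hnmem
    ((dim_mono (hTeq ▸ Set.subset_sUnion_of_mem hC)).trans hd)
  rw [hξ] at hlt
  exact lt_irrefl _ hlt

theorem dim_empty_lt' (r : ℕ) : topologicalKrullDim (∅ : Set X) < r := by
  haveI : IsEmpty (TopologicalSpace.IrreducibleCloseds (∅ : Set X)) :=
    ⟨fun A => A.2.1.elim fun a _ => a.2⟩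
  show Order.krullDim _ < _
  rw [Order.krullDim_eq_bot]
  exact WithBot.bot_lt_coe _

/-- The multiplicity of a module at a point. -/
noncomputable def mult (M : X.Modules) (ξ : X) : ℕ :=
  (Module.length (X.presheaf.stalk ξ) (M.presheaf.stalk ξ)).toNat

theorem mult_eq_zero {M : X.Modules} {ξ : X} (h : ξ ∉ CohB1.support M) : mult M ξ = 0 := by
  haveI : Subsingleton (M.presheaf.stalk ξ) := not_not.1 h
  rw [mult, Module.length_eq_zero]
  rfl

theorem length_ne_top_of_dim [IsLocallyNoetherian X] {M : X.Modules} (hM : Coh.IsCoh M) {T : Set X}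
    (hT : IsClosed T) (hMT : CohB1.support M ⊆ T) {d : ℕ} (hd : topologicalKrullDim T ≤ d) {ξ : X}
    (hξ : topologicalKrullDim (closure ({ξ} : Set X)) = (d : WithBot ℕ∞)) :
    Module.length (X.presheaf.stalk ξ) (M.presheaf.stalk ξ) ≠ ⊤ := by
  refine CycLib28.length_stalk_ne_top hM ξ fun z hz hzξ => ?_
  by_contra hne
  have hzT : z ∈ T := hMT fun h => not_subsingleton _ h
  have hnmem : z ∉ closure ({ξ} : Set X) := fun h =>
    hne (hzξ.antisymm (specializes_iff_mem_closure.2 h)).eq
  have hlt := dim_lt_of_notMem isClosed_closure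
    (closure_minimal (Set.singleton_subset_iff.2 (specializes_iff_mem_closure.1 hzξ)) isClosed_closure)
    isClosed_closure rfl hnmem ((dim_mono (hT.closure_subset_iff.2 (Set.singleton_subset_iff.2 hzT))).trans hd)
  rw [hξ] at hlt
  exact lt_irrefl _ hlt

theorem mult_add [IsLocallyNoetherian X] {S : ShortComplex X.Modules} (hS : S.ShortExact)
    (h₂ : Coh.IsCoh S.X₂) {T : Set X} (hT : IsClosed T) (hST : CohB1.support S.X₂ ⊆ T) {d : ℕ}
    (hd : topologicalKrullDim T ≤ d) {ξ : X}
    (hξ : topologicalKrullDim (closure ({ξ} : Set X)) = (d : WithBot ℕ∞)) :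
    mult S.X₂ ξ = mult S.X₁ ξ + mult S.X₃ ξ := by
  have hex := hS.map_of_exact (St ξ)
  have hadd : Module.length (X.presheaf.stalk ξ) (S.X₂.presheaf.stalk ξ) =
      Module.length (X.presheaf.stalk ξ) (S.X₁.presheaf.stalk ξ) +
        Module.length (X.presheaf.stalk ξ) (S.X₃.presheaf.stalk ξ) :=
    Module.length_eq_add_of_exact (S.map (St ξ)).f.hom (S.map (St ξ)).g.hom
      ((ModuleCat.mono_iff_injective _).mp hex.mono_f) ((ModuleCat.epi_iff_surjective _).mp hex.epi_g)
      ((ShortComplex.ShortExact.moduleCat_exact_iff_function_exact _).mp hex.exact)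
  have hne := length_ne_top_of_dim h₂ hT hST hd hξ
  rw [hadd] at hne
  simp only [mult, hadd]
  exact ENat.toNat_add (ne_top_of_le_ne_top hne le_self_add) (ne_top_of_le_ne_top hne le_add_self)

/-- An additive function vanishing below dimension `d` is a sum over `d`-dimensional components. -/
theorem eq_sum_mult [IsNoetherian X] {A : Type v} [AddCommGroup A] {ψ : X.Modules → A} {d : ℕ}
    (hiso : ∀ {M N : X.Modules}, (M ≅ N) → ψ M = ψ N)
    (hadd : ∀ S : ShortComplex X.Modules, S.ShortExact → Coh.IsCoh S.X₁ → Coh.IsCoh S.X₂ → Coh.IsCoh S.X₃ →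
      ψ S.X₂ = ψ S.X₁ + ψ S.X₃)
    (hsmall : ∀ M, Coh.IsCoh M → topologicalKrullDim (CohB1.support M) < (d : WithBot ℕ∞) → ψ M = 0)
    {F : X.Modules} (hF : Coh.IsCoh F) (hd : topologicalKrullDim (CohB1.support F) ≤ (d : WithBot ℕ∞))
    (s : Finset X) (hs : ∀ ξ, ξ ∈ CohB1.support F →
      topologicalKrullDim (closure ({ξ} : Set X)) = (d : WithBot ℕ∞) → ξ ∈ s)
    (hs' : ∀ ξ ∈ s, topologicalKrullDim (closure ({ξ} : Set X)) = (d : WithBot ℕ∞)) :
    ψ F = ∑ ξ ∈ s, mult F ξ • ψ (clM ξ) := by
  classical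
  have hT : IsClosed (CohB1.support F) := isClosed_support F (locallyFinGen_of_isFT F hF.2)
  generalize hTdef : CohB1.support F = T at hT hd hs
  have hFT : CohB1.support F ⊆ T := hTdef.le
  clear hTdef
  let R : X.Modules → A := fun M => ∑ ξ ∈ s, mult M ξ • ψ (clM ξ)
  let K : X.Modules → Prop := fun M => CohB1.support M ⊆ T → ψ M = R M
  have hR0 : ∀ M, (∀ ξ ∈ s, ξ ∉ CohB1.support M) → R M = 0 := fun M h =>
    Finset.sum_eq_zero fun ξ hξ => by rw [mult_eq_zero (h ξ hξ), zero_smul]
  have hRadd : ∀ S : ShortComplex X.Modules, S.ShortExact → Coh.IsCoh S.X₂ → CohB1.support S.X₂ ⊆ T →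
      R S.X₂ = R S.X₁ + R S.X₃ := fun S hS h₂ hS2 => by
    simp only [R, ← Finset.sum_add_distrib]
    exact Finset.sum_congr rfl fun ξ hξ => by rw [mult_add hS h₂ hT hS2 hd (hs' ξ hξ), add_smul]
  have hRiso : ∀ {M N : X.Modules}, (M ≅ N) → R M = R N := fun {M N} e => by
    refine Finset.sum_congr rfl fun ξ _ => ?_
    rw [mult, mult]
    exact congrArg (fun l => ENat.toNat l • ψ (clM ξ)) (((St ξ).mapIso e).toLinearEquiv.length_eq)
  have hK : ExtClass K :=
    { iso := fun {M N} e hM hN => by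
        rw [← hiso e, ← hRiso e]
        exact hM ((support_subset_of_mono e.hom).trans hN)
      zero := fun M hM _ => by
        have he : CohB1.support M = ∅ := Set.subset_empty_iff.1 (support_of_isZero hM ∅)
        rw [hsmall M (isCoh_of_isZero hM) (by rw [he]; exact dim_empty_lt' d),
          hR0 M fun ξ _ => by rw [he]; exact Set.notMem_empty ξ]
      ext := fun S hS h₁ h₂ h₃ k₁ k₃ hS2 => by
        haveI := hS.mono_f
        haveI := hS.epi_g
        rw [hadd S hS h₁ h₂ h₃, hRadd S hS h₂ hS2, k₁ ((support_subset_of_mono S.f).trans hS2),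
          k₃ ((support_subset_of_epi S.g).trans hS2)] }
  refine mem_of_support hK T (fun Z hZ hZi hZT y hy Z₀ hZ₀ hsm C hC hCZ he hCT => ?_)
    ⟨T, hT⟩ subset_rfl F hF hFT hFT
  obtain ⟨e⟩ := he
  -- compare with the structure sheaf of the closure of `y`
  have hclT : CohB1.support (clM y) ⊆ Z₀ ∩ T :=
    (support_clM_subset y).trans (hy.le.trans (Set.subset_inter hZ₀ hZT))
  have hsimple : IsSimpleModule (X.presheaf.stalk y) ((clM y).presheaf.stalk y) :=
    Module.length_eq_one_iff.1 (length_stalk_clM y)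
  obtain ⟨I, hI, ⟨eG⟩⟩ := isSimpleModule_iff_quot_maximal.1 hsimple
  obtain rfl := IsLocalRing.eq_maximalIdeal hI
  let eG' : (St y).obj (clM y) ≅ resMod y := eG.toModuleIso
  have hkey := eq_of_stalk_iso' (ψ := fun M => ψ M - R M) (y := y) (Z := Z₀ ∩ T)
    (fun S hS h₁ h₂ h₃ hS2 => by
      rw [hadd S hS h₁ h₂ h₃, hRadd S hS h₂ (hS2.trans Set.inter_subset_right)]
      abel)
    (fun M hM hMZ hyM => sub_eq_zero.2
      (hsm M hM (hMZ.trans Set.inter_subset_left) hyM (hMZ.trans Set.inter_subset_right)))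
    hC (isCoh_clM y) (Set.subset_inter hCZ hCT) hclT (e ≪≫ eG'.symm) (k := 1) (killed_clM y)
  suffices hy0 : ψ (clM y) = R (clM y) from sub_eq_zero.1 (hkey.trans (sub_eq_zero.2 hy0))
  have hsupp := support_clM_subset y
  have hyd : topologicalKrullDim (closure ({y} : Set X)) ≤ (d : WithBot ℕ∞) :=
    (dim_mono (hy.le.trans hZT)).trans hd
  have honly : ∀ ξ ∈ s, ξ ∈ CohB1.support (clM y) → ξ = y := fun ξ hξ hξy => by
    by_contra hne
    have hnmem : y ∉ closure ({ξ} : Set X) := fun h =>
      hne ((specializes_iff_mem_closure.2 h).antisymm (specializes_iff_mem_closure.2 (hsupp hξy))).eq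
    have hlt := dim_lt_of_notMem isClosed_closure
      (closure_minimal (Set.singleton_subset_iff.2 (hsupp hξy)) isClosed_closure) isClosed_closure rfl hnmem hyd
    rw [hs' ξ hξ] at hlt
    exact lt_irrefl _ hlt
  rcases lt_or_eq_of_le hyd with hlt | heq
  · rw [hsmall _ (isCoh_clM y) ((dim_mono hsupp).trans_lt hlt), hR0 _ fun ξ hξ hξy => by
      have := honly ξ hξ hξy
      subst this
      exact absurd (hs' ξ hξ) hlt.ne]
  · have hys : y ∈ s := hs y (hZT (hy ▸ subset_closure rfl)) heq
    show _ = ∑ ξ ∈ s, _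
    rw [Finset.sum_eq_single_of_mem y hys fun ξ hξ hne => by
      rw [mult_eq_zero fun h => hne (honly ξ hξ h), zero_smul], mult, length_stalk_clM]
    simp

end Groth.Agent.VarietyLib
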