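import Groth.Agent.VarietyLib.PushEuler
import Groth.Agent.VarietyLib.MultFormula
import Groth.Agent.VarietyLib.InterCoeff
import Groth.Agent.CycLib28.PushFinite
import Groth.Agent.CycLib28.PushZero
import Groth.Agent.H8Lim.ChowPn
import Groth.Agent.RelVALib.PnImm
import Groth.Agent.RelVALib.AffineProj
import Groth.Agent.DimLib.Components
import Groth.Agent.DimLib.Morphism
import Groth.Agent.VarietyLib.DivisorCut
import Groth.Agent.VarietyLib.AmpleComponents
import Groth.Agent.AmpleLib.Power

/-!
# The degree formula for intersection numbers of pulled back modules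
-/

set_option autoImplicit false
set_option linter.style.haveILetI false
set_option backward.isDefEq.respectTransparency.types false

universe u

open CategoryTheory CategoryTheory.Limits AlgebraicGeometry Opposite TopologicalSpace
open Groth.Agent.Coherent Groth.Agent.PicLib Groth.Agent.AmpleLib Groth.Agent.EulerLib Groth.Agent.AssSch12
open Groth.Agent.DimLib

namespace Groth.Agent.VarietyLib

variable {X Y : Scheme.{u}}

/-- The generic point of the reduced closure of a point. -/
theorem clI_genericPoint {T : Scheme.{u}} (x : T) [IsIntegral (clI x).subscheme] :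
    (clI x).subschemeι (genericPoint (clI x).subscheme) = x := by
  have h : (clI x).subschemeι (genericPoint (clI x).subscheme) ∈ closure ({x} : Set T) :=
    (range_clι x).le ⟨_, rfl⟩
  obtain ⟨w, hw⟩ : x ∈ Set.range (clI x).subschemeι := (range_clι x).ge (subset_closure rfl)
  have h2 := ((genericPoint_spec (clI x).subscheme).specializes (Set.mem_univ w)).map (clI x).subschemeι.continuous
  rw [hw] at h2
  exact ((specializes_iff_mem_closure.2 h).antisymm h2).eq.symm

variable (k : Type u) [Field k] [X.Over (Spec (CommRingCat.of k))] [IsProper (X ↘ Spec (CommRingCat.of k))]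

/-- On a module living on an integral subscheme the degree is the multiplicity times that of the subscheme. -/
theorem interDeg_eq_mult_mul {F : X.Modules} (hF : Coh.IsCoh F) {ξ : X}
    (hsupp : CohB1.support F ⊆ closure {ξ}) {d : ℕ}
    (hd : topologicalKrullDim (closure ({ξ} : Set X)) = (d : WithBot ℕ∞)) (c : Fin d → InvCl X) :
    interDeg c (chiCl k F) = (mult F ξ : ℤ) * interDeg c (chiCl k (clM ξ)) := by
  classical
  haveI := isNoetherian_of_proper (X := X) k
  have h := eq_sum_mult (ψ := fun M => interDeg c (chiCl k M)) (d := d)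
    (fun {M N} e => by rw [chiCl_congr k e])
    (fun T hT h₁ h₂ h₃ => by rw [chiCl_additive k T hT h₁ h₂ h₃, interDeg_add_fun])
    (fun M hM hlt => interDeg_eq_zero _ (finDeg_chiCl k hM hlt))
    hF ((dim_mono hsupp).trans hd.le) {ξ}
    (fun z hz hzd => Finset.mem_singleton.2 (by
      by_contra hne
      have hnm : ξ ∉ closure ({z} : Set X) := fun h =>
        hne ((specializes_iff_mem_closure.2 (hsupp hz)).antisymm (specializes_iff_mem_closure.2 h)).eq.symm
      have hlt := dim_lt_of_notMem isClosed_closure
        (closure_minimal (Set.singleton_subset_iff.2 (hsupp hz)) isClosed_closure) isClosed_closure rfl hnm hd.le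
      exact hlt.ne hzd))
    (fun z hz => by rw [Finset.mem_singleton.1 hz, hd])
  rw [h, Finset.sum_singleton, nsmul_eq_mul]

omit [X.Over (Spec (CommRingCat.of k))] [IsProper (X ↘ Spec (CommRingCat.of k))] in
/-- Invertible modules have multiplicity one at a generic point. -/
theorem mult_invertible_genericPoint [IsIntegral X] {L : X.Modules} (hL : PicF.IsInvertible L) :
    mult L (genericPoint X) = 1 := by
  obtain ⟨U, hxU, e, he⟩ := exists_isGen hL (genericPoint X)
  have hb := gen_germ_bijective he hxU
  let l : X.presheaf.stalk (genericPoint X) →ₗ[X.presheaf.stalk (genericPoint X)]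
      L.presheaf.stalk (genericPoint X) := LinearMap.toSpanSingleton _ _ (L.presheaf.germ U _ hxU e)
  letI : Field (X.presheaf.stalk (genericPoint X)) := inferInstanceAs (Field X.functionField)
  rw [mult, ← (LinearEquiv.ofBijective l hb).length_eq,
    show Module.length (X.presheaf.stalk (genericPoint X)) (X.presheaf.stalk (genericPoint X)) = 1 from
      Module.length_eq_one_iff.2 inferInstance]
  rfl

variable [Y.Over (Spec (CommRingCat.of k))] [IsProper (Y ↘ Spec (CommRingCat.of k))]

/-- The multiplicity of a pushed invertible module at the image of the generic point. -/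
theorem mult_push_invertible [IsIntegral Y] (f : Y ⟶ X) [IsProper f]
    (hf : f ≫ (X ↘ Spec (CommRingCat.of k)) = Y ↘ Spec (CommRingCat.of k)) {M : Y.Modules}
    (hM : PicF.IsInvertible M) {d : ℕ} (hdim : topologicalKrullDim Y = (d : WithBot ℕ∞))
    (heq : ptDim (X ↘ Spec (CommRingCat.of k)) (f (genericPoint Y)) = d) :
    mult ((Coh.push f).obj M) (f (genericPoint Y)) = f.residueDegree (genericPoint Y) := by
  let η := genericPoint Y
  let ξ := f η
  let p := X ↘ Spec (CommRingCat.of k)
  haveI : LocallyOfFiniteType (f ≫ p) := by rw [hf]; infer_instance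
  have hη : ptDim (f ≫ p) η = d := by
    have h := topologicalKrullDim_eq_ptDim_of_isGenericPoint (f ≫ p) (genericPoint_spec Y)
    rw [IsHomeomorph.topologicalKrullDim_eq _ (Homeomorph.Set.univ Y).isHomeomorph, hdim] at h
    exact_mod_cast h.symm
  have huniq : ∀ z : Y, f z = ξ → z = η := fun z hz => by
    by_contra hne
    have h3 := ptDim_lt_of_specializes (f ≫ p) ((genericPoint_spec Y).specializes (Set.mem_univ z)) (Ne.symm hne)
    have h4 := ptDim_apply_le p f z
    rw [hz, heq] at h4
    have h3' : ptDim (f ≫ p) z < d := lt_of_lt_of_le h3 hη.le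
    omega
  have hbij := CycLib28.pushGerm_bijective f f.isClosedMap M Set.univ isClosed_univ
    (fun z hz => absurd (Set.mem_univ z) hz) ξ {η}
    (fun z => ⟨fun hz => ⟨trivial, by rw [Finset.mem_singleton.1 hz]⟩,
      fun hz => Finset.mem_singleton.2 (huniq z hz.2)⟩)
    (fun _ => ⊤) (fun _ _ => trivial)
    (fun a ha b hb hab => absurd ((Finset.mem_singleton.1 ha).trans (Finset.mem_singleton.1 hb).symm) hab)
  letI := Module.compHom (M.presheaf.stalk η) (CycLib28.stalkTo f ξ η rfl)
  let l : ((Coh.push f).obj M).presheaf.stalk ξ →ₗ[X.presheaf.stalk ξ] M.presheaf.stalk η :=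
    { toFun := fun m => CycLib28.pushGerm f M ξ η rfl m
      map_add' := fun a b => map_add _ a b
      map_smul' := fun r m => CycLib28.pushGerm_smul f M ξ η rfl r m }
  have hl : Function.Bijective l := by
    refine ⟨fun a b hab => hbij.1 (funext fun z => ?_), fun v => ?_⟩
    · obtain ⟨z, hz⟩ := z
      obtain rfl := Finset.mem_singleton.1 hz
      exact hab
    · obtain ⟨m, hm⟩ := hbij.2 fun z => (Finset.mem_singleton.1 z.2).symm ▸ v
      exact ⟨m, congrFun hm ⟨η, Finset.mem_singleton_self η⟩⟩
  show mult _ ξ = _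
  rw [mult, (LinearEquiv.ofBijective l hl).length_eq, CycLib28.length_stalkTo f M ξ η rfl]
  have h1' := mult_invertible_genericPoint hM
  rw [mult] at h1'
  rw [h1', one_mul]

/-- The degree formula for a morphism from a projective integral scheme. -/
theorem interDeg_pull_of_ample [IsIntegral Y] (f : Y ⟶ X) [IsProper f]
    (hf : f ≫ (X ↘ Spec (CommRingCat.of k)) = Y ↘ Spec (CommRingCat.of k)) {H : Y.Modules}
    (hH : CohB1.IsAmple H) {d : ℕ} (hdim : topologicalKrullDim Y = (d : WithBot ℕ∞)) (c : Fin d → InvCl X) :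
    interDeg (fun i => pullHom f (c i)) (chiCl k (Coh.structureModule Y)) =
      (f.residueDegree (genericPoint Y) : ℤ) * interDeg c (chiCl k (clM (f (genericPoint Y)))) := by
  classical
  haveI := isNoetherian_of_proper (X := X) k
  haveI := isNoetherian_of_proper (X := Y) k
  let η := genericPoint Y
  let ξ := f η
  obtain ⟨n, hn⟩ := exists_pow_chiCl_push f k hf hH (Finset.univ.image fun I : Finset (Fin d) => ∏ i ∈ I, c i)
  let M := CohB1.tensorPow H n
  have hM : PicF.IsInvertible M := isInvertible_tensorPow hH.1 n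
  have hMc : Coh.IsCoh M := PicLib.isCoh_of_isInvertible hM
  have hdimO : topologicalKrullDim (CohB1.support (Coh.structureModule Y)) ≤ (d : WithBot ℕ∞) :=
    ((dim_mono (Set.subset_univ _)).trans
      (IsHomeomorph.topologicalKrullDim_eq _ (Homeomorph.Set.univ Y).isHomeomorph).le).trans hdim.le
  -- twisting does not change the top degree
  have h1 : interDeg (fun i => pullHom f (c i)) (chiCl k M) =
      interDeg (fun i => pullHom f (c i)) (chiCl k (Coh.structureModule Y)) := by
    have hfun : chiCl k M = fun x => chiCl k (Coh.structureModule Y) (InvCl.mk M hM * x) :=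
      funext fun x => (congrFun (chiCl_congr k (unitTensorIso M).symm) x).trans (chiCl_mul k _ hM x).symm
    rw [hfun]
    exact interDeg_translate (clDeg_chiCl k (isCoh_structureModule Y) hdimO) _ _
  have h2 : interDeg c (chiCl k ((Coh.push f).obj M)) = interDeg (fun i => pullHom f (c i)) (chiCl k M) := by
    rw [interDeg_monoidHom]
    simp only [interDeg, altSum]
    exact congrArg _ (Finset.sum_congr rfl fun I _ => by
      rw [hn _ (Finset.mem_image.2 ⟨I, Finset.mem_univ _, rfl⟩)])
  rw [← h1, ← h2]
  -- the image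
  have hP : Coh.IsCoh ((Coh.push f).obj M) := isCoh_push_proper f hMc
  have hrange : ∀ z : Y, f z ∈ closure ({ξ} : Set X) := fun z =>
    specializes_iff_mem_closure.1 (((genericPoint_spec Y).specializes trivial).map f.continuous)
  have hsupp : CohB1.support ((Coh.push f).obj M) ⊆ closure {ξ} := fun x hx => by
    obtain ⟨z, -, rfl⟩ := CycLib28.support_push_subset_image f f.isClosedMap M
      (isClosed_support M (locallyFinGen_of_isFT M hMc.2)) hx
    exact hrange z
  let p := X ↘ Spec (CommRingCat.of k)
  haveI : LocallyOfFiniteType (f ≫ p) := by rw [hf]; infer_instance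
  have hη : ptDim (f ≫ p) η = d := by
    have h := topologicalKrullDim_eq_ptDim_of_isGenericPoint (f ≫ p) (genericPoint_spec Y)
    rw [IsHomeomorph.topologicalKrullDim_eq _ (Homeomorph.Set.univ Y).isHomeomorph, hdim] at h
    exact_mod_cast h.symm
  have hξ : topologicalKrullDim (closure ({ξ} : Set X)) = (ptDim p ξ : WithBot ℕ∞) :=
    topologicalKrullDim_eq_ptDim_of_isGenericPoint p isGenericPoint_closure
  rcases lt_or_eq_of_le ((ptDim_apply_le p f η).trans hη.le) with hlt | heq
  · have hlt' : topologicalKrullDim (closure ({ξ} : Set X)) < (d : WithBot ℕ∞) := by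
      rw [hξ]; exact_mod_cast hlt
    rw [interDeg_eq_zero c (finDeg_chiCl k hP ((dim_mono hsupp).trans_lt hlt')),
      interDeg_eq_zero c (finDeg_chiCl k (isCoh_clM ξ) ((dim_mono (support_clM_subset ξ)).trans_lt hlt')),
      mul_zero]
  · have hξd : topologicalKrullDim (closure ({ξ} : Set X)) = (d : WithBot ℕ∞) := by
      rw [hξ]; exact_mod_cast heq
    rw [interDeg_eq_mult_mul k hP hsupp hξd c]
    rw [mult_push_invertible k f hf hM hdim heq]

omit [X.Over (Spec (CommRingCat.of k))] [IsProper (X ↘ Spec (CommRingCat.of k))] in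
/-- An integral scheme with an ample module mapping birationally onto a proper integral scheme. -/
theorem exists_chow_integral [IsIntegral Y] {d : ℕ} (hdim : topologicalKrullDim Y = (d : WithBot ℕ∞)) :
    ∃ (Z : Scheme.{u}) (_ : Z.Over (Spec (CommRingCat.of k))) (_ : IsProper (Z ↘ Spec (CommRingCat.of k)))
      (_ : IsIntegral Z) (π : Z ⟶ Y) (_ : IsProper π) (H : Z.Modules), CohB1.IsAmple H ∧
      π ≫ (Y ↘ Spec (CommRingCat.of k)) = Z ↘ Spec (CommRingCat.of k) ∧
      π (genericPoint Z) = genericPoint Y ∧ π.residueDegree (genericPoint Z) = 1 ∧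
      topologicalKrullDim Z = (d : WithBot ℕ∞) := by
  classical
  haveI := isNoetherian_of_proper (X := Y) k
  let q := Y ↘ Spec (CommRingCat.of k)
  obtain ⟨N, Y₁, π, j, hj, hjq, hπ, hπs, U, hU, hUiso⟩ :=
    H8Lim.ChowPn.exists_chow_pn_dense (f := q) NoetherianSpace.finite_irreducibleComponents
  let η := genericPoint Y
  have hηU : η ∈ U := ((genericPoint_spec Y).mem_open_set_iff U.2).2
    (by simpa [Set.top_eq_univ] using hU.nonempty)
  obtain ⟨z, hz⟩ : ∃ z : Y₁, π z = η := hπs.surj η
  have hzU : z ∈ π ⁻¹ᵁ U := show π z ∈ U from hz ▸ hηU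
  let i := (clI z).subschemeι
  let Z := (clI z).subscheme
  haveI : IsIntegral Z := isIntegral_vanishingIdeal _ isIrreducible_singleton.closure
  let π' : Z ⟶ Y := i ≫ π
  letI : Z.Over (Spec (CommRingCat.of k)) := ⟨π' ≫ q⟩
  haveI hZp : IsProper (Z ↘ Spec (CommRingCat.of k)) := inferInstanceAs (IsProper ((i ≫ π) ≫ q))
  have hgenZ : i (genericPoint Z) = z := clI_genericPoint z
  have hπ'η : π' (genericPoint Z) = η := by rw [Scheme.Hom.comp_apply, hgenZ, hz]
  have hπ'deg : π'.residueDegree (genericPoint Z) = 1 := by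
    rw [CycLib28.residueDegree_comp, CycLib28.residueDegree_preimmersion i, mul_one, hgenZ]
    have h := CycLib28.residueDegree_comp (f := (π ⁻¹ᵁ U).ι) (g := π) ⟨z, hzU⟩
    rw [CycLib28.residueDegree_preimmersion (π ⁻¹ᵁ U).ι, mul_one,
      show ((π ⁻¹ᵁ U).ι ≫ π) = (π ∣_ U) ≫ U.ι from (morphismRestrict_ι π U).symm,
      CycLib28.residueDegree_comp, CycLib28.residueDegree_preimmersion U.ι,
      CycLib28.residueDegree_preimmersion (π ∣_ U), mul_one] at h
    exact h.symm
  -- an ample module on `Z`
  have hjp : IsProper (j ≫ CohB1.ProjSpaceOver.toBase N (Spec (CommRingCat.of k))) := by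
    rw [hjq]; infer_instance
  haveI : IsImmersion (i ≫ j) := inferInstance
  obtain ⟨-, -, H, hH⟩ := RelVALib.isQuasiProjective_of_immersion_pn (f := Z ↘ Spec (CommRingCat.of k))
    (i ≫ j) (by rw [Category.assoc, hjq]; exact (Category.assoc i π q).symm)
  have hHa : CohB1.IsAmple H := RelVALib.isAmple_of_isRelAmple_of_isAffine _ hH
  -- dimension
  have hdimZ : topologicalKrullDim Z = (d : WithBot ℕ∞) := by
    have h1 := topologicalKrullDim_eq_ptDim_of_isGenericPoint (π' ≫ q) (genericPoint_spec Z)
    have h2 := topologicalKrullDim_eq_ptDim_of_isGenericPoint q (genericPoint_spec Y)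
    rw [IsHomeomorph.topologicalKrullDim_eq _ (Homeomorph.Set.univ _).isHomeomorph] at h1 h2
    haveI : IsIso (π'.residueFieldMap (genericPoint Z)) := by
      letI := (π'.residueFieldMap (genericPoint Z)).hom.toAlgebra
      have hfr : Module.finrank (Y.residueField (π' (genericPoint Z))) (Z.residueField (genericPoint Z)) = 1 :=
        hπ'deg
      have htop := Subalgebra.bot_eq_top_of_finrank_eq_one hfr
      refine (ConcreteCategory.isIso_iff_bijective _).2 ⟨(π'.residueFieldMap _).hom.injective, fun v => ?_⟩
      exact Algebra.mem_bot.1 (htop.symm ▸ (trivial : v ∈ (⊤ : Subalgebra (Y.residueField (π' (genericPoint Z))) (Z.residueField (genericPoint Z)))))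
    rw [h1, ptDim_of_isIso q π', hπ'η, ← h2, hdim]
  exact ⟨Z, inferInstance, hZp, inferInstance, π', inferInstanceAs (IsProper (i ≫ π)), H, hHa, rfl, hπ'η, hπ'deg, hdimZ⟩

/-- The degree formula for intersection numbers. -/
theorem interDeg_pull [IsIntegral Y] (g : Y ⟶ X)
    (hg : g ≫ (X ↘ Spec (CommRingCat.of k)) = Y ↘ Spec (CommRingCat.of k))
    {d : ℕ} (hdim : topologicalKrullDim Y = (d : WithBot ℕ∞)) (c : Fin d → InvCl X) :
    interDeg (fun i => pullHom g (c i)) (chiCl k (Coh.structureModule Y)) =
      (g.residueDegree (genericPoint Y) : ℤ) * interDeg c (chiCl k (clM (g (genericPoint Y)))) := by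
  classical
  haveI := isNoetherian_of_proper (X := Y) k
  let q := Y ↘ Spec (CommRingCat.of k)
  let η := genericPoint Y
  obtain ⟨Z, _, _, _, π', hπ'p, H, hHa, hπ'q, hπ'η, hπ'deg, hdimZ⟩ := exists_chow_integral k (Y := Y) hdim
  haveI := hπ'p
  have hA := interDeg_pull_of_ample k π' hπ'q hHa hdimZ (fun l => pullHom g (c l))
  haveI : IsProper g := by
    haveI : IsProper (g ≫ (X ↘ Spec (CommRingCat.of k))) := by rw [hg]; infer_instance
    exact IsProper.of_comp g (X ↘ Spec (CommRingCat.of k))
  have hB := interDeg_pull_of_ample k (π' ≫ g) (by rw [Category.assoc, hg, hπ'q]) hHa hdimZ c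
  rw [CycLib28.residueDegree_comp, hπ'deg, mul_one, Scheme.Hom.comp_apply, hπ'η] at hB
  rw [hπ'deg, hπ'η, Nat.cast_one, one_mul] at hA
  have hcomp : ∀ x : InvCl X, pullHom π' (pullHom g x) = pullHom (π' ≫ g) x := fun x => by
    obtain ⟨L, hL, rfl⟩ := InvCl.exists_rep x
    exact Quotient.sound ⟨(Scheme.Modules.pullbackComp π' g).app L⟩
  simp only [hcomp] at hA
  rw [← hB, hA]
  -- the structure sheaf of `Y` against the closure of its generic point
  have hsupp : CohB1.support (Coh.structureModule Y) ⊆ closure {η} := fun y _ =>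
    (genericPoint_closure Y).ge (Set.mem_univ y)
  have hd : topologicalKrullDim (closure ({η} : Set Y)) = (d : WithBot ℕ∞) := by
    rw [genericPoint_closure Y, IsHomeomorph.topologicalKrullDim_eq _ (Homeomorph.Set.univ Y).isHomeomorph, hdim]
  rw [interDeg_eq_mult_mul k (isCoh_structureModule Y) hsupp hd,
    mult_invertible_genericPoint (AmpleLib.isInvertible_structureModule (X := Y)), Nat.cast_one, one_mul]

end Groth.Agent.VarietyLib
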