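import Groth.Prelude.Def_RDerDelta
import Groth.Agent.SpecSeq.RightDerivedPlus
import Groth.Agent.SpecSeq.Grothendieck
import Groth.Agent.Coherent.RpushVanish
import Groth.Agent.Coherent.RpushLeray
import Groth.Agent.VarietyLib.PullDegree
import Groth.Agent.EulerLib.SupportVanishing

/-!
# Euler characteristics and higher direct images
-/

set_option autoImplicit false
set_option linter.style.haveILetI false
set_option backward.isDefEq.respectTransparency.types false

universe w w' v v' u u'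

open CategoryTheory CategoryTheory.Limits CategoryTheory.Pretriangulated AlgebraicGeometry

namespace Groth.Agent.VarietyLib

section Abstract

variable {D : Type u} [Category.{v} D] [Abelian D]

/-- The short exact sequence cut out at the middle term of an exact sequence. -/
theorem shortExact_cut {A B C : D} {a : A ⟶ B} {b : B ⟶ C} {w : a ≫ b = 0}
    (h : (ShortComplex.mk a b w).Exact) :
    (ShortComplex.mk (kernel.ι a) (kernel.lift b a w) (by
      rw [← cancel_mono (kernel.ι b), Category.assoc, kernel.lift_ι, kernel.condition, zero_comp])).ShortExact := by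
  have he : Epi (kernel.lift b a w) := by
    have := (ShortComplex.exact_iff_epi_kernel_lift (ShortComplex.mk a b w)).1 h
    exact this
  exact
    { exact := ShortComplex.exact_of_f_is_kernel _ (KernelFork.IsLimit.ofι _ _
        (fun {W} g hg => kernel.lift a g (by
          have := congrArg (· ≫ kernel.ι b) hg
          simpa using this))
        (fun {W} g hg => kernel.lift_ι _ _ _)
        (fun {W} g hg m hm => by rw [← cancel_mono (kernel.ι a)]; simpa using hm)) }

/-- Alternating sums of an additive function along a long exact sequence. -/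
theorem altSum_additive {P : D → Prop} {χ : D → ℤ}
    (hker : ∀ {A B : D} (φ : A ⟶ B), P A → P B → P (kernel φ))
    (hadd : ∀ S : ShortComplex D, S.ShortExact → P S.X₁ → P S.X₂ → P S.X₃ → χ S.X₂ = χ S.X₁ + χ S.X₃)
    (hzero : ∀ {A : D}, IsZero A → χ A = 0)
    (A B C : ℕ → D) (a : ∀ n, A n ⟶ B n) (b : ∀ n, B n ⟶ C n) (c : ∀ n, C n ⟶ A (n + 1))
    (hA : ∀ n, P (A n)) (hB : ∀ n, P (B n)) (hC : ∀ n, P (C n)) (h0 : Mono (a 0))
    (hab : ∀ n, ∃ w : a n ≫ b n = 0, (ShortComplex.mk (a n) (b n) w).Exact)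
    (hbc : ∀ n, ∃ w : b n ≫ c n = 0, (ShortComplex.mk (b n) (c n) w).Exact)
    (hca : ∀ n, ∃ w : c n ≫ a (n + 1) = 0, (ShortComplex.mk (c n) (a (n + 1)) w).Exact)
    (N : ℕ) (hN : IsZero (A N)) :
    ∑ n ∈ Finset.range N, (-1 : ℤ) ^ n * χ (B n) =
      ∑ n ∈ Finset.range N, (-1 : ℤ) ^ n * χ (A n) + ∑ n ∈ Finset.range N, (-1 : ℤ) ^ n * χ (C n) := by
  have hka : ∀ n, P (kernel (a n)) := fun n => hker _ (hA n) (hB n)
  have hkb : ∀ n, P (kernel (b n)) := fun n => hker _ (hB n) (hC n)
  have hkc : ∀ n, P (kernel (c n)) := fun n => hker _ (hC n) (hA (n + 1))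
  have e1 : ∀ n, χ (A n) = χ (kernel (a n)) + χ (kernel (b n)) := fun n => by
    obtain ⟨w, hw⟩ := hab n
    exact hadd _ (shortExact_cut hw) (hka n) (hA n) (hkb n)
  have e2 : ∀ n, χ (B n) = χ (kernel (b n)) + χ (kernel (c n)) := fun n => by
    obtain ⟨w, hw⟩ := hbc n
    exact hadd _ (shortExact_cut hw) (hkb n) (hB n) (hkc n)
  have e3 : ∀ n, χ (C n) = χ (kernel (c n)) + χ (kernel (a (n + 1))) := fun n => by
    obtain ⟨w, hw⟩ := hca n
    exact hadd _ (shortExact_cut hw) (hkc n) (hC n) (hka (n + 1))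
  have ha0 : χ (kernel (a 0)) = 0 := hzero (isZero_kernel_of_mono (a 0))
  have haN : χ (kernel (a N)) = 0 := hzero (IsZero.of_mono (kernel.ι (a N)) hN)
  have key : ∀ m : ℕ, ∑ n ∈ Finset.range m, (-1 : ℤ) ^ n * χ (A n) + ∑ n ∈ Finset.range m, (-1 : ℤ) ^ n * χ (C n) -
      ∑ n ∈ Finset.range m, (-1 : ℤ) ^ n * χ (B n) = χ (kernel (a 0)) - (-1 : ℤ) ^ m * χ (kernel (a m)) := by
    intro m
    induction m with
    | zero => simp
    | succ m ih =>
      rw [Finset.sum_range_succ, Finset.sum_range_succ, Finset.sum_range_succ, e1 m, e2 m, e3 m, pow_succ]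
      linear_combination ih
  have h := key N
  rw [ha0, haN, mul_zero, sub_zero] at h
  linarith
where
  isZero_kernel_of_mono {A B : D} (φ : A ⟶ B) [Mono φ] : IsZero (kernel φ) :=
    (isZero_zero D).of_iso (kernel.ofMono φ)

end Abstract

section Derived

variable {C : Type u} [Category.{v} C] [Abelian C] [EnoughInjectives C] [HasInjectiveResolutions C]
  [HasDerivedCategory.{w} C] {D : Type u'} [Category.{v'} D] [Abelian D] [HasDerivedCategory.{w'} D]
  (F : C ⥤ D) [F.Additive]

/-- The long exact sequence of the derived functors on the values of `rdSingle`. -/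
theorem exists_les_rdSingle {S : ShortComplex C} (hS : S.ShortExact) :
    ∃ (a : ∀ n : ℕ, SpecSeq.rdSingle F n S.X₁ ⟶ SpecSeq.rdSingle F n S.X₂)
      (b : ∀ n : ℕ, SpecSeq.rdSingle F n S.X₂ ⟶ SpecSeq.rdSingle F n S.X₃)
      (c : ∀ n : ℕ, SpecSeq.rdSingle F n S.X₃ ⟶ SpecSeq.rdSingle F (n + 1 : ℕ) S.X₁),
      Mono (a 0) ∧
      (∀ n, ∃ w : a n ≫ b n = 0, (ShortComplex.mk (a n) (b n) w).Exact) ∧
      (∀ n, ∃ w : b n ≫ c n = 0, (ShortComplex.mk (b n) (c n) w).Exact) ∧
      (∀ n, ∃ w : c n ≫ a (n + 1) = 0, (ShortComplex.mk (c n) (a (n + 1)) w).Exact) := by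
  obtain ⟨δ, hT⟩ := SpecSeq.exists_plus_singleTriangle hS
  let T : Triangle (DerivedCategory.Plus C) := Triangle.mk
    ((DerivedCategory.Plus.singleFunctor C 0).map S.f)
    ((DerivedCategory.Plus.singleFunctor C 0).map S.g) δ
  let H := SpecSeq.rdH F
  refine ⟨fun n => (H.shift (n : ℤ)).map T.mor₁, fun n => (H.shift (n : ℤ)).map T.mor₂,
    fun n => H.homologySequenceδ T (n : ℤ) ((n + 1 : ℕ) : ℤ) (by push_cast; rfl), ?_, fun n => ?_, fun n => ?_,
    fun n => ?_⟩
  · have h := H.homologySequence_exact₁ T hT (-1) 0 (by norm_num)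
    exact h.mono_g ((SpecSeq.isZero_rdSingle_of_neg F S.X₃ (-1) (by norm_num)).eq_of_src _ _)
  · exact ⟨_, H.homologySequence_exact₂ T hT (n : ℤ)⟩
  · exact ⟨_, H.homologySequence_exact₃ T hT (n : ℤ) ((n + 1 : ℕ) : ℤ) (by push_cast; rfl)⟩
  · exact ⟨_, H.homologySequence_exact₁ T hT (n : ℤ) ((n + 1 : ℕ) : ℤ) (by push_cast; rfl)⟩

end Derived

section Scheme

open Groth.Agent.Coherent Groth.Agent.EulerLib TopologicalSpace

attribute [local instance] HasDerivedCategory.standard

variable {X Y : Scheme.{u}} (k : Type u) [Field k]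
  [X.Over (Spec (CommRingCat.of k))] [IsProper (X ↘ Spec (CommRingCat.of k))]
  [Y.Over (Spec (CommRingCat.of k))] [IsProper (Y ↘ Spec (CommRingCat.of k))] (f : Y ⟶ X)

/-- Higher direct images vanish uniformly from some degree on. -/
theorem exists_bound_isZero_rpush [QuasiCompact f] [QuasiSeparated f] [CompactSpace X]
    [HasInjectiveResolutions Y.Modules] :
    ∃ N : ℕ, ∀ (M : Y.Modules), Coh.IsQCoh M → ∀ p : ℕ, N ≤ p → IsZero ((Coh.Rpush f p).obj M) := by
  obtain ⟨N, hN⟩ := exists_bound_isZero_rpushAb f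
  refine ⟨N, fun M hM p hp => (IsZero.iff_id_eq_zero _).2 ((toAbFunctor X).map_injective ?_)⟩
  exact ((hN M hM p hp).of_iso (toAbRpushIso f M p)).eq_of_src _ _

/-- The alternating sum of the Euler characteristics of higher direct images. -/
noncomputable def rhoEuler [HasInjectiveResolutions Y.Modules] (N : ℕ) (G : Y.Modules) : ℤ :=
  ∑ i ∈ Finset.range N, (-1 : ℤ) ^ i * Curv2.euler k X ((Coh.Rpush f i).obj G)

theorem rhoEuler_additive [HasInjectiveResolutions Y.Modules] [IsProper f] {N : ℕ}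
    (hN : ∀ (M : Y.Modules), Coh.IsQCoh M → IsZero ((Coh.Rpush f N).obj M))
    (S : ShortComplex Y.Modules) (hS : S.ShortExact) (h₁ : Coh.IsCoh S.X₁) (h₂ : Coh.IsCoh S.X₂)
    (h₃ : Coh.IsCoh S.X₃) : rhoEuler k f N S.X₂ = rhoEuler k f N S.X₁ + rhoEuler k f N S.X₃ := by
  haveI := isNoetherian_of_proper (X := X) k
  haveI : EnoughInjectives Y.Modules := SpecSeq.enoughInjectives_of_hasInjectiveResolutions _
  obtain ⟨a, b, c, h0, hab, hbc, hca⟩ := exists_les_rdSingle (Coh.push f) hS
  have e : ∀ (M : Y.Modules) (n : ℕ), Nonempty (SpecSeq.rdSingle (Coh.push f) (n : ℤ) M ≅ (Coh.Rpush f n).obj M) :=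
    fun M n => SpecSeq.nonempty_rdSingle_iso (Coh.push f) M n
  have hcoh : ∀ (M : Y.Modules), Coh.IsCoh M → ∀ n : ℕ, Coh.IsCoh (SpecSeq.rdSingle (Coh.push f) (n : ℤ) M) :=
    fun M hM n => isCoh_of_iso (e M n).some.symm (isCoh_rpush f hM n)
  have key := altSum_additive (P := Coh.IsCoh) (χ := fun M => Curv2.euler k X M)
    (fun φ hA hB => isCoh_kernel φ hA hB.1) (fun T hT x y z => euler_additive k X T hT x y z)
    (fun hz => euler_of_isZero k X hz) _ _ _ a b c (hcoh _ h₁) (hcoh _ h₂) (hcoh _ h₃) h0 hab hbc hca N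
    ((hN _ h₁.1).of_iso (e S.X₁ N).some)
  have hsum : ∀ M : Y.Modules, rhoEuler k f N M =
      ∑ n ∈ Finset.range N, (-1 : ℤ) ^ n * Curv2.euler k X (SpecSeq.rdSingle (Coh.push f) (n : ℤ) M) := fun M =>
    Finset.sum_congr rfl fun n _ => by rw [euler_congr k X (e M n).some]
  rw [hsum, hsum, hsum]
  exact key

theorem rhoEuler_eq_of_isZero [HasInjectiveResolutions Y.Modules] {N : ℕ} (hN : 0 < N) (G : Y.Modules)
    (hz : ∀ p : ℕ, 0 < p → IsZero ((Coh.Rpush f p).obj G)) :
    rhoEuler k f N G = Curv2.euler k X ((Coh.push f).obj G) := by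
  haveI : PreservesFiniteLimits (Coh.push f) :=
    have : (Coh.push f).IsRightAdjoint :=
      (Scheme.Modules.pullbackPushforwardAdjunction f).isRightAdjoint
    ⟨fun _ _ _ => inferInstance⟩
  rw [rhoEuler, Finset.sum_eq_single_of_mem 0 (Finset.mem_range.2 hN) fun i _ hi => by
    rw [euler_of_isZero k X (hz i (Nat.pos_of_ne_zero hi)), mul_zero]]
  rw [pow_zero, one_mul]
  exact euler_congr k X ((Coh.push f).rightDerivedZeroIsoSelf.app G)

/-- A coherent module at `ξ` for which the formula holds. -/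
theorem exists_test_module [IsProper f] [HasInjectiveResolutions Y.Modules]
    (hf : f ≫ (X ↘ Spec (CommRingCat.of k)) = Y ↘ Spec (CommRingCat.of k)) {N : ℕ} (hN : 0 < N)
    {d : ℕ} {ξ : Y} (hξ : topologicalKrullDim (closure ({ξ} : Set Y)) = (d : WithBot ℕ∞)) :
    ∃ T : Y.Modules, Coh.IsCoh T ∧ CohB1.support T ⊆ closure {ξ} ∧ mult T ξ = 1 ∧
      Curv2.euler k Y T = rhoEuler k f N T := by
  haveI := isNoetherian_of_proper (X := X) k
  haveI := isNoetherian_of_proper (X := Y) k
  let ι := (AssSch12.clI ξ).subschemeι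
  let W := (AssSch12.clI ξ).subscheme
  haveI : IsIntegral W := isIntegral_vanishingIdeal _ isIrreducible_singleton.closure
  letI : W.Over (Spec (CommRingCat.of k)) := ⟨ι ≫ (Y ↘ Spec (CommRingCat.of k))⟩
  haveI : IsProper (W ↘ Spec (CommRingCat.of k)) :=
    inferInstanceAs (IsProper (ι ≫ (Y ↘ Spec (CommRingCat.of k))))
  have hWdim : topologicalKrullDim W = (d : WithBot ℕ∞) := by
    rw [← hξ, ← range_clι ξ]
    exact IsHomeomorph.topologicalKrullDim_eq _ ι.isClosedEmbedding.isEmbedding.toHomeomorph.isHomeomorph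
  obtain ⟨Z, _, _, _, π, hπp, H, hH, hπq, hπη, hπdeg, hZdim⟩ := exists_chow_integral k (Y := W) hWdim
  haveI := hπp
  let p := π ≫ ι
  haveI : IsProper p := inferInstanceAs (IsProper (π ≫ ι))
  have hp : p ≫ (Y ↘ Spec (CommRingCat.of k)) = Z ↘ Spec (CommRingCat.of k) := by
    rw [Category.assoc]; exact hπq
  haveI := isNoetherian_of_proper (X := Z) k
  have hιη : ι (genericPoint W) = ξ := clI_genericPoint ξ
  have hpη : p (genericPoint Z) = ξ := by rw [Scheme.Hom.comp_apply, hπη, hιη]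
  have hHi := hH.1
  have ha : ∀ {S : Scheme.{u}} (g : Z ⟶ S) [IsProper g], ∀ W' : S.Opens, IsAffineOpen W' →
      CohB1.IsAmple (H.restrict (g ⁻¹ᵁ W').ι) := fun g _ W' hW' => by
    haveI : CompactSpace (g ⁻¹ᵁ W' : Scheme.{u}) := isCompact_iff_compactSpace.1 (g.isCompact_preimage hW'.isCompact)
    exact AmpleLib.isAmple_of_iso (AmpleLib.restrictIsoPullback _ H).symm
      (AmpleLib.isAmple_pullback_of_isEmbedding _ (g ⁻¹ᵁ W').ι.isOpenEmbedding.isEmbedding hH)
  obtain ⟨n₁, hn₁⟩ := Groth.Agent.S0055.result p H hHi (ha p) (Coh.structureModule Z) (isCoh_structureModule Z)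
  obtain ⟨n₂, hn₂⟩ := Groth.Agent.S0055.result (p ≫ f) H hHi (ha (p ≫ f)) (Coh.structureModule Z) (isCoh_structureModule Z)
  let M := CohB1.tensorPow H (max n₁ n₂)
  have hM : PicF.IsInvertible M := AmpleLib.isInvertible_tensorPow hHi _
  have hMc : Coh.IsCoh M := PicLib.isCoh_of_isInvertible hM
  haveI := hMc.1
  have h1 : ∀ q : ℕ, 0 < q → IsZero ((Coh.RpushAb p q).obj (Coh.toAb M)) := fun q hq =>
    (hn₁ _ (le_max_left _ _) q hq).of_iso ((Coh.RpushAb p q).mapIso ((toAbFunctor Z).mapIso (AmpleLib.unitTensorIso M).symm))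
  have h2 : ∀ q : ℕ, 0 < q → IsZero ((Coh.RpushAb (p ≫ f) q).obj (Coh.toAb M)) := fun q hq =>
    (hn₂ _ (le_max_right _ _) q hq).of_iso ((Coh.RpushAb (p ≫ f) q).mapIso ((toAbFunctor Z).mapIso (AmpleLib.unitTensorIso M).symm))
  let T := (Coh.push p).obj M
  have hT : Coh.IsCoh T := isCoh_push_proper p hMc
  haveI := hT.1
  have hsupp : CohB1.support T ⊆ closure {ξ} := fun x hx => by
    obtain ⟨z, -, rfl⟩ := CycLib28.support_push_subset_image p p.isClosedMap M
      (isClosed_support M (locallyFinGen_of_isFT M hMc.2)) hx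
    rw [← hpη]
    exact specializes_iff_mem_closure.1 (((genericPoint_spec Z).specializes trivial).map p.continuous)
  have hmult : mult T ξ = 1 := by
    have heq : DimLib.ptDim (Y ↘ Spec (CommRingCat.of k)) (p (genericPoint Z)) = d := by
      have h := DimLib.topologicalKrullDim_eq_ptDim_of_isGenericPoint (Y ↘ Spec (CommRingCat.of k))
        (isGenericPoint_closure (x := ξ))
      rw [hξ] at h
      rw [hpη]
      exact_mod_cast h.symm
    have h := mult_push_invertible k p hp hM hZdim heq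
    rw [CycLib28.residueDegree_comp, hπdeg, CycLib28.residueDegree_preimmersion, hpη] at h
    exact h
  refine ⟨T, hT, hsupp, hmult, ?_⟩
  have hfz : ∀ q : ℕ, 0 < q → IsZero ((Coh.RpushAb f q).obj (Coh.toAb T)) := fun q hq => by
    obtain ⟨q, rfl⟩ := Nat.exists_eq_succ_of_ne_zero hq.ne'
    refine isZero_rpushAb_of_basis f {V | IsAffineOpen V} X.isBasis_affineOpens _ _ fun V hV => ?_
    have hs := subsingleton_H'_preimage_of_isZero (p ≫ f) M (q + 1) (h2 _ q.succ_pos) hV
    exact @Equiv.subsingleton _ _ (H'PushEquiv (X := Z.toTopCat) (Y := Y.toTopCat) (f := p.base) Y.isBasis_affineOpens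
      (Coh.toAb M) (acyclicOverBasis_of_isZero p M h1) (f ⁻¹ᵁ V) (q + 1)).symm.toEquiv hs
  rw [rhoEuler_eq_of_isZero k f hN T fun q hq =>
      (IsZero.iff_id_eq_zero _).2 ((toAbFunctor X).map_injective
        (((hfz q hq).of_iso (toAbRpushIso f T q)).eq_of_src _ _)),
    ← euler_push_of_acyclic p k hp M (acyclicOverBasis_of_isZero p M h1),
    euler_push_of_acyclic (p ≫ f) k (by rw [Category.assoc, hf, hp]) M (acyclicOverBasis_of_isZero (p ≫ f) M h2)]
  exact euler_congr k X ((Scheme.Modules.pushforwardComp p f).app M).symm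

/-- The Euler characteristic is the alternating sum over the higher direct images. -/
theorem euler_eq_rhoEuler [IsProper f] [HasInjectiveResolutions Y.Modules]
    (hf : f ≫ (X ↘ Spec (CommRingCat.of k)) = Y ↘ Spec (CommRingCat.of k)) {N : ℕ} (hN0 : 0 < N)
    (hN : ∀ (M : Y.Modules), Coh.IsQCoh M → IsZero ((Coh.Rpush f N).obj M)) :
    ∀ (d : ℕ) (F : Y.Modules), Coh.IsCoh F → topologicalKrullDim (CohB1.support F) < (d : WithBot ℕ∞) →
      Curv2.euler k Y F = rhoEuler k f N F := by
  classical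
  haveI := isNoetherian_of_proper (X := X) k
  haveI := isNoetherian_of_proper (X := Y) k
  let ψ : Y.Modules → ℤ := fun M => Curv2.euler k Y M - rhoEuler k f N M
  have hiso : ∀ {M M' : Y.Modules}, (M ≅ M') → ψ M = ψ M' := fun {M M'} e => by
    show _ - _ = _ - _
    rw [euler_congr k Y e]
    exact congrArg _ (Finset.sum_congr rfl fun i _ => by rw [euler_congr k X ((Coh.Rpush f i).mapIso e)])
  have hadd : ∀ S : ShortComplex Y.Modules, S.ShortExact → Coh.IsCoh S.X₁ → Coh.IsCoh S.X₂ → Coh.IsCoh S.X₃ →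
      ψ S.X₂ = ψ S.X₁ + ψ S.X₃ := fun S hS h₁ h₂ h₃ => by
    show _ - _ = (_ - _) + (_ - _)
    rw [euler_additive k Y S hS h₁ h₂ h₃, rhoEuler_additive k f hN S hS h₁ h₂ h₃]
    ring
  suffices h : ∀ (d : ℕ) (F : Y.Modules), Coh.IsCoh F →
      topologicalKrullDim (CohB1.support F) < (d : WithBot ℕ∞) → ψ F = 0 from
    fun d F hF hd => sub_eq_zero.1 (h d F hF hd)
  intro d
  induction d with
  | zero =>
    intro F hF hd
    have he : CohB1.support F = ∅ := by
      by_contra hne
      obtain ⟨x, hx⟩ := Set.nonempty_iff_ne_empty.2 hne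
      haveI : Nonempty (IrreducibleCloseds (CohB1.support F)) :=
        ⟨⟨closure {⟨x, hx⟩}, isIrreducible_singleton.closure, isClosed_closure⟩⟩
      have h0 : (0 : WithBot ℕ∞) ≤ topologicalKrullDim (CohB1.support F) := Order.krullDim_nonneg
      rw [Nat.cast_zero] at hd
      exact absurd (h0.trans_lt hd) (lt_irrefl _)
    have hz := isZero_of_support_eq_empty he
    show _ - _ = 0
    rw [euler_of_isZero k Y hz, rhoEuler, Finset.sum_eq_zero fun i _ => by
      rw [euler_of_isZero k X ((Coh.Rpush f i).map_isZero hz), mul_zero], sub_zero]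
  | succ d ih =>
    intro F hF hd
    have hd' : topologicalKrullDim (CohB1.support F) ≤ (d : WithBot ℕ∞) := by
      generalize topologicalKrullDim (CohB1.support F) = a at hd
      match a with
      | ⊥ => exact bot_le
      | (a : ℕ∞) =>
        rw [Nat.cast_succ] at hd
        exact WithBot.coe_le_coe.2 (ENat.lt_natCast_add_one_iff.1 (WithBot.coe_lt_coe.1 hd))
    have hclM : ∀ ξ : Y, topologicalKrullDim (closure ({ξ} : Set Y)) = (d : WithBot ℕ∞) → ψ (AssSch12.clM ξ) = 0 := by
      intro ξ hξ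
      obtain ⟨T, hT, hTs, hTm, hTe⟩ := exists_test_module k f hf hN0 hξ
      have h := eq_sum_mult (ψ := ψ) (d := d) hiso hadd ih hT ((dim_mono hTs).trans hξ.le) {ξ}
        (fun z hz hzd => Finset.mem_singleton.2 (by
          by_contra hne
          have hnm : ξ ∉ closure ({z} : Set Y) := fun h =>
            hne ((specializes_iff_mem_closure.2 (hTs hz)).antisymm (specializes_iff_mem_closure.2 h)).eq.symm
          exact (dim_lt_of_notMem isClosed_closure
            (closure_minimal (Set.singleton_subset_iff.2 (hTs hz)) isClosed_closure) isClosed_closure rfl hnm hξ.le).ne hzd))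
        (fun z hz => by rw [Finset.mem_singleton.1 hz, hξ])
      rw [Finset.sum_singleton, hTm, one_smul] at h
      rw [← h]
      exact sub_eq_zero.2 hTe
    rw [eq_sum_mult (ψ := ψ) (d := d) hiso hadd ih hF hd'
      (finite_top_points (isClosed_support F (locallyFinGen_of_isFT F hF.2)) hd').toFinset
      (fun ξ hξ h => (Set.Finite.mem_toFinset _).2 ⟨hξ, h⟩) (fun ξ hξ => ((Set.Finite.mem_toFinset _).1 hξ).2)]
    exact Finset.sum_eq_zero fun ξ hξ => by rw [hclM ξ ((Set.Finite.mem_toFinset _).1 hξ).2, smul_zero]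

end Scheme

end Groth.Agent.VarietyLib
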