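import Groth.Agent.VarietyLib.TensorExact
import Groth.Agent.VarietyLib.MultFormula
import Groth.Agent.VarietyLib.DegBasic
import Groth.Agent.VarietyLib.AmpleComponents
import Groth.Agent.EulerLib.NumEquivDeg
import Groth.Agent.Coherent.TensorQcoh
import Groth.Agent.CycLib28.PushFinite
import Groth.Agent.CurveRR24.Sky

/-!
# The degree of a locally free module, seen on the components
-/

set_option autoImplicit false
set_option linter.style.haveILetI false
set_option backward.isDefEq.respectTransparency.types false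

universe u

open CategoryTheory CategoryTheory.Limits AlgebraicGeometry Opposite TopologicalSpace
open Groth.Agent.Coherent Groth.Agent.PicLib Groth.Agent.AmpleLib Groth.Agent.EulerLib Groth.Agent.AssSch12
  Groth.Agent.AbCubeLib

namespace Groth.Agent.VarietyLib

/-- Pullback of a locally free module of rank `n`. -/
theorem isFinLocFreeOfRank_pullback {X Y : Scheme.{u}} (f : Y ⟶ X) {n : ℕ} {M : X.Modules}
    (h : FlatMod.IsFinLocFreeOfRank n M) :
    FlatMod.IsFinLocFreeOfRank n ((Scheme.Modules.pullback f).obj M) := fun y => by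
  obtain ⟨U, hx, ⟨e⟩⟩ := h (f y)
  refine ⟨f ⁻¹ᵁ U, hx, ⟨?_⟩⟩
  exact (Scheme.Modules.restrictFunctorIsoPullback (f ⁻¹ᵁ U).ι).app _ ≪≫
    ((Scheme.Modules.pullbackComp (f ⁻¹ᵁ U).ι f) ≪≫
      Scheme.Modules.pullbackCongr (morphismRestrict_ι f U).symm ≪≫
      (Scheme.Modules.pullbackComp (f ∣_ U) U.ι).symm).app M ≪≫
    (Scheme.Modules.pullback (f ∣_ U)).mapIso
      (((Scheme.Modules.restrictFunctorIsoPullback U.ι).app M).symm ≪≫ e) ≪≫
    PreservesCoproduct.iso (Scheme.Modules.pullback (f ∣_ U)) (fun _ : Fin n => Coh.structureModule _) ≪≫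
    Sigma.mapIso fun _ => PicLoc.pullbackStructureIso (f ∣_ U)

theorem isCoh_tensor' {X : Scheme.{u}} [IsLocallyNoetherian X] {F G : X.Modules} (hF : Coh.IsCoh F) (hG : Coh.IsCoh G) :
    Coh.IsCoh (CohB1.tensorMod F G) := by
  haveI : Coh.IsQCoh F := hF.1
  haveI : Coh.IsQCoh G := hG.1
  exact ⟨isQCoh_tensorMod F G, isFT_tensorMod F G hF.2 hG.2⟩

variable (k : Type u) [Field k] {X Y : Scheme.{u}} [X.Over (Spec (CommRingCat.of k))]
  [IsProper (X ↘ Spec (CommRingCat.of k))]

/-- Locally free modules on a one-point scheme have degree zero. -/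
theorem deg_eq_zero_of_subsingleton [Subsingleton X] {n : ℕ} {E : X.Modules}
    (hE : FlatMod.IsFinLocFreeOfRank n E) : Curv2.deg k X E n = 0 := by
  haveI := isNoetherian_of_proper (X := X) k
  haveI := isSeparated_of_proper (X := X) k
  rcases isEmpty_or_nonempty X with hX | ⟨⟨x⟩⟩
  · have hz : ∀ M : X.Modules, Curv2.euler k X M = 0 := fun M =>
      euler_of_isZero k X (isZero_of_support_eq_empty (Set.eq_empty_of_isEmpty _))
    simp [Curv2.deg, hz]
  obtain ⟨U, hxU, ⟨e⟩⟩ := hE x
  have hU : U = ⊤ := top_le_iff.1 fun y _ => Subsingleton.elim x y ▸ hxU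
  obtain ⟨b⟩ := Props12.exists_basis_sections e (W := (⊤ : X.Opens)) hU.ge
  have hd : topologicalKrullDim X ≤ ((0 : ℕ) : WithBot ℕ∞) := by
    exact_mod_cast topologicalKrullDim_zero_of_discreteTopology X
  have hE' := LocFreeLib.isQCoh_of_isFinLocFreeOfRank hE
  haveI := hE'
  haveI : Coh.IsQCoh (Coh.structureModule X) := (isCoh_structureModule X).1
  have he : ∀ (M : X.Modules) [Coh.IsQCoh M],
      Curv2.euler k X M = (Module.finrank k (GA (baseHom k X) M) : ℤ) := fun M _ => by
    rw [euler_eq_sum k X M 0 fun q hq => subsingleton_HH_of_dim M hd hq,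
      Finset.sum_range_one, pow_zero, one_mul, (CurveRR24.hhZero k M).finrank_eq]
  haveI : Module.Finite k (GA (baseHom k X) (Coh.structureModule X)) :=
    haveI : Module.Finite k (Coh.HH X (Coh.structureModule X) 0) :=
      (finite_HH_iff k _ 0).2 (finCoh_of_isProper (X ↘ Spec (CommRingCat.of k)) _ (isCoh_structureModule X) 0)
    Module.Finite.equiv (CurveRR24.hhZero k (Coh.structureModule X))
  let φ : GA (baseHom k X) E ≃ₗ[k] (Fin n → GA (baseHom k X) (Coh.structureModule X)) :=
    { toFun := fun s i => b.equivFun (show Γ(E, (⊤ : X.Opens)) from s) i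
      invFun := fun v => b.equivFun.symm fun i => (show Γ(X, ⊤) from v i)
      left_inv := fun s => b.equivFun.symm_apply_apply _
      right_inv := fun v => b.equivFun.apply_symm_apply _
      map_add' := fun s t => funext fun i => congrFun (map_add b.equivFun _ _) i
      map_smul' := fun c s => funext fun i => congrFun (b.equivFun.map_smul (baseHom k X c) _) i }
  rw [Curv2.deg, he E, he (Coh.structureModule X), φ.finrank_eq, Module.finrank_pi_fintype]
  simp

/-- `M ↦ χ(M ⊗ E) - n χ(M)`. -/
noncomputable def degFun (n : ℕ) (E M : X.Modules) : ℤ :=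
  Curv2.euler k X (CohB1.tensorMod M E) - n * Curv2.euler k X M

theorem degFun_iso {n : ℕ} {E : X.Modules} {M N : X.Modules} (e : M ≅ N) :
    degFun k n E M = degFun k n E N := by
  rw [degFun, degFun, euler_congr k X e, euler_congr k X (AmpleLib.tensorIso e (Iso.refl E))]

theorem degFun_add [IsLocallyNoetherian X] {n : ℕ} {E : X.Modules} (hE : FlatMod.IsFinLocFreeOfRank n E)
    (S : ShortComplex X.Modules) (hS : S.ShortExact) (h₁ : Coh.IsCoh S.X₁) (h₂ : Coh.IsCoh S.X₂)
    (h₃ : Coh.IsCoh S.X₃) :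
    degFun k n E S.X₂ = degFun k n E S.X₁ + degFun k n E S.X₃ := by
  obtain ⟨T, hT, e₁, e₂, e₃⟩ := exists_tensorSeq hS E (flat_stalk_of_rank hE)
  have hEc : Coh.IsCoh E := CohBC.isCoh_of_isFinLocFree (isFinLocFree_of_rank hE)
  have c₁ : Coh.IsCoh T.X₁ := e₁ ▸ isCoh_tensor' h₁ hEc
  have c₂ : Coh.IsCoh T.X₂ := e₂ ▸ isCoh_tensor' h₂ hEc
  have c₃ : Coh.IsCoh T.X₃ := e₃ ▸ isCoh_tensor' h₃ hEc
  have h := euler_additive k X T hT c₁ c₂ c₃
  rw [e₁, e₂, e₃] at h
  simp only [degFun, h, euler_additive k X S hS h₁ h₂ h₃]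
  ring

theorem eq_empty_of_dim_lt_zero {T : Set X} (h : topologicalKrullDim T < ((0 : ℕ) : WithBot ℕ∞)) : T = ∅ := by
  by_contra hne
  obtain ⟨x, hx⟩ := Set.nonempty_iff_ne_empty.2 hne
  haveI : Nonempty (IrreducibleCloseds T) := ⟨⟨closure {⟨x, hx⟩}, isIrreducible_singleton.closure, isClosed_closure⟩⟩
  exact absurd h (not_lt.2 (by exact_mod_cast Order.krullDim_nonneg (α := IrreducibleCloseds T)))

omit [IsProper (X ↘ Spec (CommRingCat.of k))] in
theorem degFun_of_support_empty {n : ℕ} {E M : X.Modules} (h : CohB1.support M = ∅) :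
    degFun k n E M = 0 := by
  have hz : ∀ x, ∀ v : (DerSch.stalkFunctor X x).obj (CohB1.tensorMod M E), v = 0 := fun x v => by
    haveI : Subsingleton ((DerSch.stalkFunctor X x).obj M) :=
      not_not.1 fun hn => Set.notMem_empty x (h ▸ (show x ∈ CohB1.support M from hn))
    haveI : Subsingleton (TensorProduct (X.presheaf.stalk x) ((DerSch.stalkFunctor X x).obj M)
        ((DerSch.stalkFunctor X x).obj E)) :=
      subsingleton_of_forall_eq 0 fun t => by
        induction t using TensorProduct.induction_on with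
        | zero => rfl
        | tmul a b => rw [Subsingleton.elim a 0, TensorProduct.zero_tmul]
        | add a b ha hb => rw [ha, hb, add_zero]
    exact (ModStalk.stalkTensorIso x M E).toLinearEquiv.injective (Subsingleton.elim _ _)
  have h' : CohB1.support (CohB1.tensorMod M E) = ∅ :=
    Set.eq_empty_iff_forall_notMem.2 fun x hx => hx (subsingleton_of_forall_eq 0 (hz x))
  rw [degFun, euler_of_isZero k X (isZero_of_support_eq_empty h), euler_of_isZero k X (isZero_of_support_eq_empty h')]
  simp

variable [Y.Over (Spec (CommRingCat.of k))] [IsProper (Y ↘ Spec (CommRingCat.of k))]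

/-- The projection formula for Euler characteristics along a finite morphism. -/
theorem degFun_push (g : Y ⟶ X) [IsFinite g]
    (hg : g ≫ (X ↘ Spec (CommRingCat.of k)) = Y ↘ Spec (CommRingCat.of k)) {n : ℕ} {E : X.Modules}
    (hE : FlatMod.IsFinLocFreeOfRank n E) :
    degFun k n E ((Coh.push g).obj (Coh.structureModule Y)) =
      Curv2.deg k Y ((Scheme.Modules.pullback g).obj E) n := by
  haveI := isNoetherian_of_proper (X := X) k
  haveI := isNoetherian_of_proper (X := Y) k
  haveI := isSeparated_of_proper (X := X) k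
  have hO : Coh.IsCoh (Coh.structureModule Y) := isCoh_structureModule _
  haveI := hO.1
  have hp : Coh.IsCoh (CohB1.tensorMod ((Scheme.Modules.pullback g).obj E) (Coh.structureModule Y)) :=
    isCoh_tensor'
      (CohBC.isCoh_of_isFinLocFree (isFinLocFree_of_rank (isFinLocFreeOfRank_pullback g hE))) hO
  haveI := hp.1
  rw [degFun, Curv2.deg, euler_push k g hg (Coh.structureModule Y),
    euler_congr k X (AmpleLib.tensorComm _ _ ≪≫ (projIso (f := g) (isFinLocFree_of_rank hE)).app (Coh.structureModule Y)),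
    ← euler_congr k Y (AmpleLib.tensorComm _ _ ≪≫ AmpleLib.unitTensorIso ((Scheme.Modules.pullback g).obj E))]
  exact congrArg (fun t => t - (n : ℤ) * Curv2.euler k X ((Coh.push g).obj (Coh.structureModule Y)))
    (euler_push k g hg (CohB1.tensorMod ((Scheme.Modules.pullback g).obj E) (Coh.structureModule Y))).symm

omit [Y.Over (Spec (CommRingCat.of k))] [IsProper (Y ↘ Spec (CommRingCat.of k))] in
/-- The degree functional vanishes in dimension zero. -/
theorem degFun_of_dim_lt_one {n : ℕ} {E : X.Modules} (hE : FlatMod.IsFinLocFreeOfRank n E) {M : X.Modules}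
    (hM : Coh.IsCoh M) (h : topologicalKrullDim (CohB1.support M) < ((1 : ℕ) : WithBot ℕ∞)) :
    degFun k n E M = 0 := by
  haveI := isNoetherian_of_proper (X := X) k
  have h0 : topologicalKrullDim (CohB1.support M) ≤ ((0 : ℕ) : WithBot ℕ∞) := by
    revert h
    generalize topologicalKrullDim (CohB1.support M) = t
    intro h
    match t with
    | ⊥ => exact bot_le
    | (t : ℕ∞) =>
      have h' : t < ((1 : ℕ) : ℕ∞) := WithBot.coe_lt_coe.1 h
      exact WithBot.coe_le_coe.2 (ENat.lt_natCast_add_one_iff.1 (by simpa using h'))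
  have hT := isClosed_support M (locallyFinGen_of_isFT M hM.2)
  let S := (finite_top_points hT h0).toFinset
  rw [eq_sum_mult (ψ := degFun k n E) (d := 0) (fun e => degFun_iso k e) (fun T hT => degFun_add k hE T hT)
    (fun N _ hN => degFun_of_support_empty k (eq_empty_of_dim_lt_zero hN)) hM h0 S
    (fun ξ hξ h => (Set.Finite.mem_toFinset _).2 ⟨hξ, h⟩) (fun ξ hξ => ((Set.Finite.mem_toFinset _).1 hξ).2)]
  refine Finset.sum_eq_zero fun y hy => ?_
  have hyd := ((Set.Finite.mem_toFinset _).1 hy).2
  letI : (clI y).subscheme.Over (Spec (CommRingCat.of k)) := ⟨(clI y).subschemeι ≫ (X ↘ Spec (CommRingCat.of k))⟩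
  haveI : IsProper ((clI y).subscheme ↘ Spec (CommRingCat.of k)) :=
    inferInstanceAs (IsProper ((clI y).subschemeι ≫ (X ↘ Spec (CommRingCat.of k))))
  haveI : Subsingleton (clI y).subscheme := by
    refine ⟨fun a b => (clI y).subschemeι.isClosedEmbedding.injective ?_⟩
    have key : ∀ z ∈ closure ({y} : Set X), z = y := fun z hz => by
      by_contra hne
      have hnmem : y ∉ closure ({z} : Set X) := fun h' =>
        hne ((specializes_iff_mem_closure.2 h').antisymm (specializes_iff_mem_closure.2 hz)).eq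
      have hlt := dim_lt_of_notMem isClosed_closure
        (closure_minimal (Set.singleton_subset_iff.2 hz) isClosed_closure) isClosed_closure rfl hnmem hyd.le
      exact (Set.singleton_nonempty z).closure.ne_empty (eq_empty_of_dim_lt_zero hlt)
    rw [key _ ((range_clι y).le ⟨a, rfl⟩), key _ ((range_clι y).le ⟨b, rfl⟩)]
  have := degFun_push k (clI y).subschemeι rfl hE
  rw [deg_eq_zero_of_subsingleton k (isFinLocFreeOfRank_pullback _ hE)] at this
  rw [show degFun k n E (clM y) = 0 from this, smul_zero]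

omit [Y.Over (Spec (CommRingCat.of k))] [IsProper (Y ↘ Spec (CommRingCat.of k))] in
/-- The degree functional as a sum over the one-dimensional components. -/
theorem degFun_eq_sum (hdim : topologicalKrullDim X ≤ 1) {n : ℕ} {E : X.Modules}
    (hE : FlatMod.IsFinLocFreeOfRank n E) :
    ∃ S : Finset X, (∀ ξ, topologicalKrullDim (closure ({ξ} : Set X)) = ((1 : ℕ) : WithBot ℕ∞) → ξ ∈ S) ∧
      (∀ ξ ∈ S, topologicalKrullDim (closure ({ξ} : Set X)) = ((1 : ℕ) : WithBot ℕ∞)) ∧
      ∀ M : X.Modules, Coh.IsCoh M → degFun k n E M = ∑ ξ ∈ S, mult M ξ • degFun k n E (clM ξ) := by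
  haveI := isNoetherian_of_proper (X := X) k
  have hd : topologicalKrullDim (Set.univ : Set X) ≤ ((1 : ℕ) : WithBot ℕ∞) :=
    ((Homeomorph.Set.univ X).isInducing.topologicalKrullDim_le).trans hdim
  refine ⟨(finite_top_points isClosed_univ hd).toFinset,
    fun ξ h => (Set.Finite.mem_toFinset _).2 ⟨trivial, h⟩, fun ξ hξ => ((Set.Finite.mem_toFinset _).1 hξ).2,
    fun M hM => eq_sum_mult (ψ := degFun k n E) (d := 1) (fun e => degFun_iso k e)
      (fun T hT => degFun_add k hE T hT) (fun N hN hlt => degFun_of_dim_lt_one k hE hN hlt) hM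
      ((dim_mono (Set.subset_univ _)).trans hd) _ (fun ξ _ h => (Set.Finite.mem_toFinset _).2 ⟨trivial, h⟩)
      fun ξ hξ => ((Set.Finite.mem_toFinset _).1 hξ).2⟩

omit [Y.Over (Spec (CommRingCat.of k))] [IsProper (Y ↘ Spec (CommRingCat.of k))] in
theorem degFun_structure {n : ℕ} (E : X.Modules) :
    degFun k n E (Coh.structureModule X) = Curv2.deg k X E n := by
  rw [degFun, Curv2.deg, euler_congr k X (AmpleLib.unitTensorIso E)]

end Groth.Agent.VarietyLib
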