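import Groth.Agent.VarietyLib.StarGlue
import Groth.Agent.AmpleLib.Ample
import Groth.Agent.CurvesLib24.Basic

/-!
# Sections cutting out the complement of an open in dimension one
-/

set_option autoImplicit false
set_option linter.style.haveILetI false
set_option backward.isDefEq.respectTransparency.types false

universe u

open CategoryTheory CategoryTheory.Limits AlgebraicGeometry Opposite TopologicalSpace
open Groth.Agent.Coherent Groth.Agent.PicLib Groth.Agent.AmpleLib

namespace Groth.Agent.VarietyLib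

variable {X : Scheme.{u}}

/-- In dimension at most one a point with a proper generalization is closed. -/
theorem isClosed_of_specializes_ne (hdim : topologicalKrullDim X ≤ 1) {x y : X} (h : y ⤳ x) (hne : y ≠ x) :
    IsClosed ({x} : Set X) := by
  by_contra hncl
  obtain ⟨z, hz, hzx⟩ : ∃ z ∈ closure ({x} : Set X), z ≠ x := by
    by_contra h'
    push Not at h'
    exact hncl (closure_subset_iff_isClosed.mp fun z hz ↦ h' z hz)
  have hxz : x ⤳ z := specializes_iff_mem_closure.mpr hz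
  have h1' : z < x := lt_of_le_not_ge hxz fun h'' ↦ hzx (Specializes.antisymm h'' hxz).eq
  have h2' : x < y := lt_of_le_not_ge h fun h'' ↦ hne (Specializes.antisymm h h'').eq
  have h3 := Order.coheight_add_one_le h2'
  have h4 := Order.coheight_add_one_le h1'
  have h5 := (CurvesLib24.stalk_dim_le_topologicalKrullDim z).trans hdim
  rw [ringKrullDim_stalk_eq_coheight] at h5
  have h5' : Order.coheight z ≤ ((1 : ℕ) : ℕ∞) := by exact_mod_cast h5
  have h6 : (2 : ℕ∞) ≤ Order.coheight z := by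
    calc (2 : ℕ∞) = 0 + 1 + 1 := by norm_num
      _ ≤ Order.coheight y + 1 + 1 := by gcongr; exact zero_le
      _ ≤ Order.coheight x + 1 := by gcongr
      _ ≤ Order.coheight z := h4
  exact absurd (h6.trans h5') (by norm_num)

/-- A closed set of a Noetherian scheme whose points are closed is finite. -/
theorem finite_of_forall_isClosed [IsNoetherian X] {T : Set X} (hT : IsClosed T)
    (h : ∀ x ∈ T, IsClosed ({x} : Set X)) : T.Finite := by
  obtain ⟨S, hS, hScl, hSirr, rfl⟩ := NoetherianSpace.exists_finite_set_isClosed_irreducible hT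
  refine hS.sUnion fun C hC => Set.Subsingleton.finite ?_
  have hg := (hSirr C hC).isGenericPoint_genericPoint (hScl C hC)
  intro a ha b hb
  have key : ∀ c ∈ C, c = (hSirr C hC).genericPoint := fun c hc =>
    (hg.specializes hc).mem_closed (h _ (Set.mem_sUnion.2 ⟨C, hC, hg.mem⟩)) rfl
  rw [key a ha, key b hb]

/-- Near a closed non-maximal point there is a function vanishing only there. -/
theorem exists_vanishing_only [IsNoetherian X] (hdim : topologicalKrullDim X ≤ 1) {z : X}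
    (hz : ∃ y, y ⤳ z ∧ y ≠ z) {O : X.Opens} (hzO : z ∈ O) :
    ∃ (W : X.Opens), IsAffineOpen W ∧ z ∈ W ∧ W ≤ O ∧ ∃ f : Γ(X, W),
      (W : Set X) \ X.basicOpen f = {z} := by
  classical
  obtain ⟨V, hV, hzV, hVO⟩ := exists_isAffineOpen_mem_and_subset (x := z) (U := O) hzO
  haveI : IsNoetherianRing Γ(X, V) := IsLocallyNoetherian.component_noetherian ⟨V, hV⟩
  let p := hV.primeIdealOf ⟨z, hzV⟩
  have hspec : ∀ (q : PrimeSpectrum Γ(X, V)) (q' : PrimeSpectrum Γ(X, V)),
      q.asIdeal ≤ q'.asIdeal → hV.fromSpec q ⤳ hV.fromSpec q' := fun q q' hle =>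
    Specializes.map ((PrimeSpectrum.le_iff_specializes _ _).1 hle) hV.fromSpec.continuous
  have hinj : Function.Injective hV.fromSpec := hV.fromSpec.isOpenEmbedding.injective
  have hpmin : p.asIdeal ∉ minimalPrimes Γ(X, V) := by
    intro hmin
    obtain ⟨y, hy, hne⟩ := hz
    have hyV : y ∈ V := hy.mem_open V.2 hzV
    have h1 : (hV.primeIdealOf ⟨y, hyV⟩) ⤳ p := by
      refine hV.fromSpec.isOpenEmbedding.isInducing.specializes_iff.1 ?_
      rw [hV.fromSpec_primeIdealOf ⟨y, hyV⟩, hV.fromSpec_primeIdealOf ⟨z, hzV⟩]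
      exact hy
    have h2 : (hV.primeIdealOf ⟨y, hyV⟩).asIdeal ≤ p.asIdeal := (PrimeSpectrum.le_iff_specializes _ _).2 h1
    have h3 := hmin.2 ⟨(hV.primeIdealOf ⟨y, hyV⟩).isPrime, bot_le⟩ h2
    have h4 : hV.primeIdealOf ⟨y, hyV⟩ = p := PrimeSpectrum.ext (le_antisymm h2 h3)
    exact hne ((hV.fromSpec_primeIdealOf ⟨y, hyV⟩).symm.trans
      ((congrArg hV.fromSpec h4).trans (hV.fromSpec_primeIdealOf ⟨z, hzV⟩)))
  obtain ⟨f, hfp, hfmin⟩ : ∃ f ∈ p.asIdeal, ∀ q ∈ minimalPrimes Γ(X, V), f ∉ q := by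
    by_contra h
    push Not at h
    have hfin := minimalPrimes.finite_of_isNoetherianRing (R := Γ(X, V))
    have hsub : (p.asIdeal : Set Γ(X, V)) ⊆ ⋃ q ∈ (hfin.toFinset : Set (Ideal Γ(X, V))), (q : Set Γ(X, V)) :=
      fun a ha => by
        obtain ⟨q, hq, haq⟩ := h a ha
        exact Set.mem_biUnion (hfin.mem_toFinset.2 hq) haq
    obtain ⟨q, hq, hle⟩ := (Ideal.subset_union_prime (f := fun q : Ideal Γ(X, V) => q) ⊥ ⊥
      fun q hq _ _ => (hfin.mem_toFinset.1 hq).1.1).1 hsub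
    have hq' := hfin.mem_toFinset.1 hq
    exact hpmin (le_antisymm hle (hq'.2 ⟨p.isPrime, bot_le⟩ hle) ▸ hq')
  -- the zeros of `f` are finitely many closed points
  let Z : Set X := (V : Set X) \ X.basicOpen f
  have hZ : ∀ q : PrimeSpectrum Γ(X, V), hV.fromSpec q ∈ Z ↔ f ∈ q.asIdeal := fun q => by
    have h3 : hV.fromSpec q ∈ X.basicOpen f ↔ f ∉ q.asIdeal := by
      show q ∈ hV.fromSpec ⁻¹ᵁ X.basicOpen f ↔ _
      rw [hV.fromSpec_preimage_basicOpen f]; rfl
    exact ⟨fun h => by_contra fun hn => h.2 (h3.2 hn),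
      fun h => ⟨hV.range_fromSpec.subset ⟨q, rfl⟩, fun hb => h3.1 hb h⟩⟩
  have hclosed : ∀ q : PrimeSpectrum Γ(X, V), f ∈ q.asIdeal → IsClosed ({hV.fromSpec q} : Set X) := by
    intro q hq
    obtain ⟨r, hr, hrq⟩ := Ideal.exists_minimalPrimes_le (bot_le (a := q.asIdeal))
    refine isClosed_of_specializes_ne hdim (hspec ⟨r, hr.1.1⟩ q hrq) fun e => hfmin r hr ?_
    have he : (⟨r, hr.1.1⟩ : PrimeSpectrum Γ(X, V)) = q := hinj e
    rw [← he] at hq
    exact hq
  have hfin : Z.Finite := by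
    have hsub : Z ⊆ hV.fromSpec '' {q : PrimeSpectrum Γ(X, V) | q.asIdeal ∈ (Ideal.span {f}).minimalPrimes} := by
      rintro x ⟨hxV, hxf⟩
      obtain ⟨q, rfl⟩ := hV.range_fromSpec.superset hxV
      have hq := (hZ q).1 ⟨hxV, hxf⟩
      obtain ⟨r, hr, hrq⟩ := Ideal.exists_minimalPrimes_le ((Ideal.span_singleton_le_iff_mem _).2 hq)
      refine ⟨q, ?_, rfl⟩
      let r' : PrimeSpectrum Γ(X, V) := ⟨r, hr.1.1⟩
      have he : hV.fromSpec q = hV.fromSpec r' :=
        (hspec r' q hrq).mem_closed (hclosed r' (hr.1.2 (Ideal.mem_span_singleton_self f))) rfl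
      rw [hinj he]
      exact hr
    refine (Set.Finite.image _ ?_).subset hsub
    exact (Ideal.finite_minimalPrimes_of_isNoetherianRing Γ(X, V) (Ideal.span {f})).preimage
      (Set.injOn_of_injective fun a b e => PrimeSpectrum.ext e)
  have hzZ : z ∈ Z := by
    have h : hV.fromSpec p = z := hV.fromSpec_primeIdealOf ⟨z, hzV⟩
    exact h ▸ (hZ p).2 hfp
  have hcl : ∀ x ∈ Z, IsClosed ({x} : Set X) := by
    intro x hx
    obtain ⟨q, rfl⟩ := hV.range_fromSpec.superset hx.1
    exact hclosed q ((hZ q).1 hx)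
  have hCc : IsClosed (Z \ {z}) := by
    rw [← Set.biUnion_of_singleton (Z \ {z})]
    exact hfin.sdiff.isClosed_biUnion fun y hy => hcl y hy.1
  obtain ⟨W, hW, hzW, hWU⟩ := exists_isAffineOpen_mem_and_subset (x := z)
    (U := V ⊓ ⟨(Z \ {z})ᶜ, hCc.isOpen_compl⟩) ⟨hzV, fun h => h.2 rfl⟩
  have hWV : W ≤ V := fun x hx => (hWU hx).1
  refine ⟨W, hW, hzW, hWV.trans hVO, res hWV f, ?_⟩
  have hb : X.basicOpen (res hWV f) = W ⊓ X.basicOpen f := Scheme.basicOpen_res _ _ _
  rw [hb]
  refine Set.Subset.antisymm (fun x hx => ?_) ?_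
  · by_contra hne
    exact (hWU hx.1).2 ⟨⟨hWV hx.1, fun h => hx.2 ⟨hx.1, h⟩⟩, hne⟩
  · intro x hx
    rw [Set.mem_singleton_iff] at hx
    subst x
    exact ⟨hzW, fun h => hzZ.2 h.2⟩

/-- An open missing no maximal point of a Noetherian scheme of dimension at most one is the locus of a section
of an invertible module. -/
theorem exists_section_glocus_eq [IsNoetherian X] (hdim : topologicalKrullDim X ≤ 1) (D : X.Opens)
    (hD : ∀ x, x ∉ D → ∃ y, y ⤳ x ∧ y ≠ x) :
    ∃ (L : X.Modules) (s : Γ(L, ⊤)), PicF.IsInvertible L ∧ glocus L s = D := by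
  classical
  have hTc : ∀ x, x ∉ D → IsClosed ({x} : Set X) := fun x hx => by
    obtain ⟨y, hy, hne⟩ := hD x hx
    exact isClosed_of_specializes_ne hdim hy hne
  have hTfin : ((D : Set X)ᶜ).Finite := finite_of_forall_isClosed D.2.isClosed_compl hTc
  have hO : ∀ z : ((D : Set X)ᶜ : Set X), ∃ O : X.Opens, z.1 ∈ O ∧ ∀ x ∈ O, x ∉ D → x = z.1 := fun z => by
    have hc : IsClosed ((D : Set X)ᶜ \ {z.1}) := by
      rw [← Set.biUnion_of_singleton ((D : Set X)ᶜ \ {z.1})]
      exact hTfin.sdiff.isClosed_biUnion fun y hy => hTc y hy.1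
    exact ⟨⟨_, hc.isOpen_compl⟩, fun h => h.2 rfl, fun x hx hxD => by_contra fun hne => hx ⟨hxD, hne⟩⟩
  choose O hzO hO using hO
  choose W hW hzW hWO f hf using fun z : ((D : Set X)ᶜ : Set X) =>
    exists_vanishing_only hdim (hD z.1 z.2) (hzO z)
  have hWD : ∀ z, W z ⊓ D ≤ X.basicOpen (f z) := fun z x hx => by_contra fun h => by
    have : x = z.1 := (hf z).subset ⟨hx.1, h⟩
    exact z.2 (this ▸ hx.2)
  have hunit : ∀ z, IsUnit (res (inf_le_left : W z ⊓ D ≤ W z) (f z)) := fun z => by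
    have h1 := RingedSpace.isUnit_res_basicOpen X.toRingedSpace (f z)
    have h2 := h1.map (X.presheaf.map (homOfLE (hWD z)).op).hom
    convert h2 using 1
    exact (ConcreteCategory.congr_hom (X.presheaf.map_comp _ _) (f z)).trans rfl
  let 𝒟 : StarGlue.Data X :=
    { N := Coh.structureModule X
      D := D
      ι := ((D : Set X)ᶜ : Set X)
      U := W
      e := fun z => ((hunit z).unit⁻¹ : Γ(X, W z ⊓ D)ˣ).1 • oneSec (W z ⊓ D)
      gen := fun z => (isGen_oneSec (W z ⊓ D)).smul_unit _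
      meet := fun a b hab x hx => by_contra fun hxD =>
        hab (Subtype.ext ((hO a x (hWO a hx.1) hxD).symm.trans (hO b x (hWO b hx.2) hxD)))
      cover := fun x => (em (x ∈ D)).imp_right fun h => ⟨⟨x, h⟩, hzW ⟨x, h⟩⟩ }
  have hM : PicF.IsInvertible (StarGlue.glue 𝒟) :=
    StarGlue.isInvertible_glue 𝒟 fun x hx => ⟨D, hx, oneSec D, isGen_oneSec D⟩
  -- the section
  let sD := StarGlue.secD 𝒟 (le_refl D) (oneSec D)
  let sW := fun z => f z • StarGlue.chart 𝒟 z
  have hagree : ∀ z, resM (StarGlue.glue 𝒟) (inf_le_left : W z ⊓ D ≤ W z) (sW z) =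
      resM (StarGlue.glue 𝒟) (inf_le_right : W z ⊓ D ≤ D) sD := fun z => by
    refine (resM_smul _ _ _ _).trans ((congrArg _ (StarGlue.resM_chart 𝒟 z)).trans ?_)
    rw [StarGlue.resM_secD]
    refine (StarGlue.secD_smul 𝒟 _ _ _).symm.trans (congrArg _ ?_)
    show res _ (f z) • (((hunit z).unit⁻¹ : Γ(X, W z ⊓ D)ˣ).1 • oneSec (W z ⊓ D)) = _
    rw [smul_smul, IsUnit.mul_val_inv, one_smul, resM_oneSec]
  let cov : Option ((D : Set X)ᶜ : Set X) → X.Opens := fun o => o.elim D W
  let loc : ∀ o, Γ(StarGlue.glue 𝒟, cov o) := fun o => match o with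
    | none => sD
    | some z => sW z
  obtain ⟨s, hs, -⟩ := TopCat.Sheaf.existsUnique_gluing'
    (⟨(StarGlue.glue 𝒟).presheaf, (StarGlue.glue 𝒟).isSheaf⟩ : TopCat.Sheaf Ab X)
    cov ⊤ (fun o => homOfLE le_top) (fun x _ => Opens.mem_iSup.2
      ((em (x ∈ D)).elim (fun h => ⟨none, h⟩) fun h => ⟨some ⟨x, h⟩, hzW ⟨x, h⟩⟩)) loc (fun a b => by
      match a, b with
      | none, none => rfl
      | none, some z =>
        show resM _ (inf_le_left : D ⊓ W z ≤ D) sD = resM _ (inf_le_right : D ⊓ W z ≤ W z) (sW z)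
        have h := congrArg (resM (StarGlue.glue 𝒟) (le_inf inf_le_right inf_le_left : D ⊓ W z ≤ W z ⊓ D))
          (hagree z)
        rw [resM_resM, resM_resM] at h
        exact h.symm
      | some z, none => exact hagree z
      | some a, some b =>
        show resM _ (inf_le_left : W a ⊓ W b ≤ W a) (sW a) = resM _ (inf_le_right : W a ⊓ W b ≤ W b) (sW b)
        by_cases hab : a = b
        · subst hab; rfl
        · have hD' : W a ⊓ W b ≤ D := 𝒟.meet a b hab
          have h1 := congrArg (resM (StarGlue.glue 𝒟) (le_inf inf_le_left hD' : W a ⊓ W b ≤ W a ⊓ D)) (hagree a)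
          have h2 := congrArg (resM (StarGlue.glue 𝒟) (le_inf inf_le_right hD' : W a ⊓ W b ≤ W b ⊓ D)) (hagree b)
          rw [resM_resM, resM_resM] at h1 h2
          exact h1.trans h2.symm)
  refine ⟨StarGlue.glue 𝒟, s, hM, le_antisymm (fun x hx => by_contra fun hxD => ?_) ?_⟩
  · let z : ((D : Set X)ᶜ : Set X) := ⟨x, hxD⟩
    have hgz : IsGen (StarGlue.glue 𝒟) (W z) (StarGlue.chart 𝒟 z) := StarGlue.isGen_chart 𝒟 z
    have h := (glocus_inf s hgz).le ⟨hx, hzW z⟩
    rw [show hgz.coef le_rfl (resM _ le_top s) = f z from hgz.coef_eq le_rfl (by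
      rw [resM_self]; exact (hs (some z)).symm)] at h
    exact ((hf z).ge rfl).2 h
  · rw [le_glocus_iff, show resM (StarGlue.glue 𝒟) le_top s = sD from hs none]
    exact StarGlue.isGen_secD 𝒟 le_rfl (isGen_oneSec D)

end Groth.Agent.VarietyLib
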