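import Groth.Agent.EulerLib.DegClass
import Groth.Agent.DCat.PullTensor
import Groth.Agent.AmpleLib.Relative

/-!
# Pullback of classes of invertible modules, and functions of bounded degree
-/

set_option autoImplicit false
set_option backward.isDefEq.respectTransparency.types false

universe u

open CategoryTheory CategoryTheory.Limits AlgebraicGeometry
open Groth.Agent.PicLib Groth.Agent.AmpleLib Groth.Agent.EulerLib
open fwdDiff

namespace Groth.Agent.VarietyLib

variable {X Y : Scheme.{u}}

/-- Pullback of classes of invertible modules. -/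
noncomputable def pullHom (g : Y ⟶ X) : InvCl X →* InvCl Y where
  toFun := Quotient.map (fun L => (⟨(Scheme.Modules.pullback g).obj L.1, PicLoc.isInvertible_pullback g L.2⟩ : EulerLib.Inv Y))
    fun _ _ ⟨e⟩ => ⟨(Scheme.Modules.pullback g).mapIso e⟩
  map_one' := by
    obtain ⟨e⟩ := exists_pullStructureIso g
    exact Quotient.sound ⟨e⟩
  map_mul' a b := Quotient.inductionOn₂ a b fun L N => Quotient.sound ⟨DCat.PullTensor.pullTensorIso g L.1 N.1⟩

theorem pullHom_mk (g : Y ⟶ X) {L : X.Modules} (hL : PicF.IsInvertible L) :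
    pullHom g (InvCl.mk L hL) = InvCl.mk ((Scheme.Modules.pullback g).obj L) (PicLoc.isInvertible_pullback g hL) :=
  rfl

theorem finDeg_add {ι M : Type*} [AddCommMonoid M] {e : ι → M} :
    ∀ {r : ℕ} {f g : M → ℤ}, FinDeg e r f → FinDeg e r g → FinDeg e r (f + g)
  | 0, f, g, hf, hg => by rw [show f = 0 from hf, show g = 0 from hg, add_zero]; rfl
  | r + 1, f, g, hf, hg => fun i => by
    rw [show Δ_[e i] (f + g) = Δ_[e i] f + Δ_[e i] g from funext fun x => by
      show f (x + e i) + g (x + e i) - (f x + g x) = (f (x + e i) - f x) + (g (x + e i) - g x)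
      ring]
    exact finDeg_add (hf i) (hg i)

theorem finDeg_neg {ι M : Type*} [AddCommMonoid M] {e : ι → M} :
    ∀ {r : ℕ} {f : M → ℤ}, FinDeg e r f → FinDeg e r (-f)
  | 0, f, hf => by rw [show f = 0 from hf, neg_zero]; rfl
  | r + 1, f, hf => fun i => by
    rw [show Δ_[e i] (-f) = -Δ_[e i] f from funext fun x => by
      show -f (x + e i) - -f x = -(f (x + e i) - f x)
      ring]
    exact finDeg_neg (hf i)

/-- Functions of degree `< r` on classes form a subgroup. -/
def clDegSubgroup (X : Scheme.{u}) (r : ℕ) : AddSubgroup (InvCl X → ℤ) where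
  carrier := {φ | ClDeg r φ}
  zero_mem' := FinDeg.zero r
  add_mem' := finDeg_add
  neg_mem' := finDeg_neg

end Groth.Agent.VarietyLib
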