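import Groth.Agent.VarietyLib.MultFormula
import Groth.Agent.VarietyLib.PullClass
import Groth.Agent.EulerLib.Positive
import Groth.Agent.EulerLib.NumEquivDeg
import Groth.Agent.AmpleLib.Tensor
import Groth.Agent.Coherent.ProjFormula
import Groth.Agent.Coherent.FinitePres
import Groth.Agent.AbCubeLib.FiniteDegree

/-!
# Positivity of self-intersections on integral subschemes, and its inheritance
-/

set_option autoImplicit false
set_option linter.style.haveILetI false
set_option backward.isDefEq.respectTransparency.types false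

universe u

open CategoryTheory CategoryTheory.Limits AlgebraicGeometry Opposite TopologicalSpace
open Groth.Agent.Coherent Groth.Agent.PicLib Groth.Agent.AmpleLib Groth.Agent.AssSch12
open Groth.Agent.EulerLib Groth.Agent.AbCubeLib

namespace Groth.Agent.VarietyLib

variable (k : Type u) [Field k] {X : Scheme.{u}} [X.Over (Spec (CommRingCat.of k))]
  [IsProper (X ↘ Spec (CommRingCat.of k))]

/-- `L` has positive top self-intersection on every positive dimensional integral subscheme. -/
def PosInt (a : InvCl X) : Prop :=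
  ∀ (z : X) (r : ℕ), 0 < r → topologicalKrullDim (closure ({z} : Set X)) = (r : WithBot ℕ∞) →
    0 < interDeg (fun _ : Fin r => a) (chiCl k (clM z))

theorem interDeg_monoidHom {Y : Scheme.{u}} (h : InvCl X →* InvCl Y) {r : ℕ} (c : Fin r → InvCl X)
    (φ : InvCl Y → ℤ) : interDeg (fun i => h (c i)) φ = interDeg c fun x => φ (h x) := by
  simp only [interDeg, altSum, map_prod]

omit [X.Over (Spec (CommRingCat.of k))] [IsProper (X ↘ Spec (CommRingCat.of k))] in
theorem mult_pos_of_mem [IsLocallyNoetherian X] {M : X.Modules} (hM : Coh.IsCoh M) {r : ℕ}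
    (hd : topologicalKrullDim (CohB1.support M) ≤ (r : WithBot ℕ∞)) {ξ : X} (hξ : ξ ∈ CohB1.support M)
    (hr : topologicalKrullDim (closure ({ξ} : Set X)) = (r : WithBot ℕ∞)) : 1 ≤ mult M ξ := by
  have hne := length_ne_top_of_dim hM (isClosed_support M (locallyFinGen_of_isFT M hM.2)) subset_rfl hd hr
  haveI : Nontrivial (M.presheaf.stalk ξ) := not_subsingleton_iff_nontrivial.1 hξ
  have hpos := Module.length_pos (R := X.presheaf.stalk ξ) (M := M.presheaf.stalk ξ)
  rw [mult]
  exact Nat.one_le_iff_ne_zero.2 fun h0 =>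
    (ENat.toNat_eq_zero.1 h0).elim (fun h => hpos.ne' h) hne

/-- Positivity on a coherent module whose support has top dimension. -/
theorem PosInt.interDeg_pos {a : InvCl X} (hP : PosInt k a) {M : X.Modules} (hM : Coh.IsCoh M) {r : ℕ}
    (hr0 : 0 < r) (hd : topologicalKrullDim (CohB1.support M) ≤ (r : WithBot ℕ∞)) {ξ : X}
    (hξ : ξ ∈ CohB1.support M) (hr : topologicalKrullDim (closure ({ξ} : Set X)) = (r : WithBot ℕ∞)) :
    0 < interDeg (fun _ : Fin r => a) (chiCl k M) := by
  classical
  haveI := isNoetherian_of_proper (X := X) k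
  let c := fun _ : Fin r => a
  have hT := isClosed_support M (locallyFinGen_of_isFT M hM.2)
  let S := (finite_top_points hT hd).toFinset
  rw [eq_sum_mult (ψ := fun N => interDeg c (chiCl k N)) (d := r)
    (fun {N N'} e => by rw [chiCl_congr k e])
    (fun T hT h₁ h₂ h₃ => by rw [chiCl_additive k T hT h₁ h₂ h₃, interDeg_add_fun])
    (fun N hN hlt => interDeg_eq_zero c (finDeg_chiCl k hN hlt))
    hM hd S (fun z hz h => (Set.Finite.mem_toFinset _).2 ⟨hz, h⟩)
    (fun z hz => ((Set.Finite.mem_toFinset _).1 hz).2)]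
  refine Finset.sum_pos' (fun z hz => nsmul_nonneg
    (hP z r hr0 ((Set.Finite.mem_toFinset _).1 hz).2).le _) ⟨ξ, (Set.Finite.mem_toFinset _).2 ⟨hξ, hr⟩, ?_⟩
  rw [nsmul_eq_mul]
  exact mul_pos (by exact_mod_cast mult_pos_of_mem hM hd hξ hr) (hP ξ r hr0 hr)

variable {Y : Scheme.{u}} [Y.Over (Spec (CommRingCat.of k))] [IsProper (Y ↘ Spec (CommRingCat.of k))]

/-- The projection formula for Euler characteristics. -/
theorem chiCl_push (g : Y ⟶ X) [IsFinite g]
    (hg : g ≫ (X ↘ Spec (CommRingCat.of k)) = Y ↘ Spec (CommRingCat.of k)) {F : Y.Modules}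
    (hF : Coh.IsCoh F) (c : InvCl X) :
    chiCl k ((Coh.push g).obj F) c = chiCl k F (pullHom g c) := by
  obtain ⟨L, hL, rfl⟩ := InvCl.exists_rep c
  haveI := isNoetherian_of_proper (X := X) k
  haveI := isNoetherian_of_proper (X := Y) k
  haveI := isSeparated_of_proper (X := X) k
  have hLY := PicLoc.isInvertible_pullback g hL
  have hLF : FlatMod.IsFinLocFree L := fun x =>
    let ⟨U, hx, e⟩ := isFinLocFreeOfRank_one hL x; ⟨U, 1, hx, e⟩
  haveI := hF.1
  haveI : Coh.IsQCoh (CohB1.tensorMod ((Scheme.Modules.pullback g).obj L) F) :=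
    (isCoh_iso (AmpleLib.tensorComm _ _) (isCoh_twist hLY hF)).1
  rw [pullHom_mk, chiCl_mk, chiCl_mk,
    euler_congr k X (AmpleLib.tensorComm _ _ ≪≫ (projIso (f := g) hLF).app F),
    euler_congr k Y (AmpleLib.tensorComm F ((Scheme.Modules.pullback g).obj L))]
  exact (euler_push k g hg (CohB1.tensorMod ((Scheme.Modules.pullback g).obj L) F)).symm

omit [X.Over (Spec (CommRingCat.of k))] [IsProper (X ↘ Spec (CommRingCat.of k))]
  [Y.Over (Spec (CommRingCat.of k))] [IsProper (Y ↘ Spec (CommRingCat.of k))] in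
theorem mem_support_push_clM (g : Y ⟶ X) [IsClosedImmersion g] (z : Y) :
    g z ∈ CohB1.support ((Coh.push g).obj (clM z)) := by
  intro hsub
  have h0 : ((Coh.push g).obj (clM z)).presheaf.germ (⊤ : X.Opens) (g z) trivial (clOne z ⊤) = 0 :=
    hsub.elim _ _
  obtain ⟨W, hW, i₁, i₂, e₁⟩ := TopCat.Presheaf.germ_eq _ (g z) (U := (⊤ : X.Opens)) (V := (⊤ : X.Opens))
    trivial trivial _ _
    (h0.trans (map_zero (((Coh.push g).obj (clM z)).presheaf.germ (⊤ : X.Opens) (g z) trivial).hom).symm)
  rw [map_zero] at e₁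
  have e₂ : (clM z).presheaf.map ((Opens.map g.base).map i₁).op (clOne z ⊤) = 0 := e₁
  refine germ_clOne_ne_zero z ?_
  have := TopCat.Presheaf.germ_res_apply (clM z).presheaf ((Opens.map g.base).map i₁) z hW (clOne z ⊤)
  rw [e₂, map_zero] at this
  exact this.symm

/-- Positivity passes to closed subschemes. -/
theorem PosInt.pullHom (g : Y ⟶ X) [IsClosedImmersion g]
    (hg : g ≫ (X ↘ Spec (CommRingCat.of k)) = Y ↘ Spec (CommRingCat.of k)) {a : InvCl X} (hP : PosInt k a) :
    PosInt k (VarietyLib.pullHom g a) := by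
  intro z r hr0 hr
  haveI := isNoetherian_of_proper (X := X) k
  haveI := isNoetherian_of_proper (X := Y) k
  have hc := isCoh_clM z
  haveI := hc.1
  have e : interDeg (fun _ : Fin r => VarietyLib.pullHom g a) (chiCl k (clM z)) =
      interDeg (fun _ : Fin r => a) (chiCl k ((Coh.push g).obj (clM z))) := by
    rw [interDeg_monoidHom (VarietyLib.pullHom g) (fun _ : Fin r => a)]
    exact congrArg (interDeg _) (funext fun c => (chiCl_push k g hg hc c).symm)
  rw [e]
  have himg : closure ({g z} : Set X) = g '' closure ({z} : Set Y) := by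
    rw [← g.isClosedEmbedding.closure_image_eq, Set.image_singleton]
  have hdim : topologicalKrullDim (closure ({g z} : Set X)) = (r : WithBot ℕ∞) := by
    rw [himg, ← hr]
    exact ((g.isClosedEmbedding.isEmbedding.homeomorphImage (closure ({z} : Set Y))).isHomeomorph.topologicalKrullDim_eq).symm
  have hM : Coh.IsCoh ((Coh.push g).obj (clM z)) := isCoh_push_finite g hc
  have hsup : CohB1.support ((Coh.push g).obj (clM z)) ⊆ closure ({g z} : Set X) := by
    refine (support_push_subset ((clI z).subschemeι ≫ g) (Coh.structureModule _)).trans ?_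
    rw [himg, ← range_clι z]
    rintro _ ⟨w, rfl⟩
    exact ⟨_, ⟨w, rfl⟩, rfl⟩
  exact hP.interDeg_pos k hM hr0 ((dim_mono hsup).trans hdim.le) (mem_support_push_clM g z) hdim

end Groth.Agent.VarietyLib
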