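import Groth.Agent.VarietyLib.NakaiVanish
import Groth.Agent.VarietyLib.NakaiTransfer
import Groth.Agent.VarietyLib.AmpleComponents
import Groth.Agent.EulerLib.HilbPoly
import Groth.Agent.EulerLib.CohSub
import Groth.Agent.CurveRR24.Section
import Groth.Agent.S1530
import Mathlib.Analysis.Polynomial.Basic

/-!
# The criterion of Nakai and Moishezon on proper schemes over a field
-/

set_option autoImplicit false
set_option linter.style.haveILetI false
set_option backward.isDefEq.respectTransparency.types false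

universe u

open CategoryTheory CategoryTheory.Limits AlgebraicGeometry Opposite TopologicalSpace
open Groth.Agent.Coherent Groth.Agent.PicLib Groth.Agent.AmpleLib Groth.Agent.AssSch12
open Groth.Agent.EulerLib Groth.Agent.ModStalk Groth.Agent.Coherent.Serre

namespace Groth.Agent.VarietyLib

variable {X : Scheme.{u}}

local notation "St" => DerSch.stalkFunctor X

/-- Two modules with isomorphic stalks at `y` receive maps from a third, bijective there. -/
theorem exists_roof [IsLocallyNoetherian X] {y : X} {F G : X.Modules} (hF : Coh.IsCoh F) (hG : Coh.IsCoh G)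
    (e : (St y).obj F ≅ (St y).obj G) {k : ℕ} (hk : Killed y k G) :
    ∃ (E : X.Modules) (a : E ⟶ F) (b : E ⟶ G), Coh.IsCoh E ∧ Function.Bijective ((St y).map a) ∧
      Function.Bijective ((St y).map b) := by
  have := hF.1
  have := hG.1
  have hA : Coh.IsQCoh ((sky y).obj ((St y).obj G)) := isQCoh_sky_of_killed y k hk
  let a := skyMap y e.hom
  let b := skyMap y (𝟙 ((St y).obj G))
  let S : ShortComplex X.Modules := ShortComplex.mk (biprod.inl : F ⟶ F ⊞ G) biprod.snd (by simp)
  have hS := (ShortComplex.Splitting.ofHasBinaryBiproduct F G).shortExact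
  have hP : Coh.IsCoh (F ⊞ G) := isCoh_X₂ hS hF hG
  let d : F ⊞ G ⟶ (sky y).obj ((St y).obj G) := biprod.desc a (-b)
  have := hP.1
  have hq : Coh.IsQCoh (kernel d) := isQCoh_kernel d
  have hE : Coh.IsCoh (kernel d) := isCoh_of_mono (kernel.ι d) hP hq
  let T : ShortComplex X.Modules := ShortComplex.mk (kernel.ι d) d (kernel.condition d)
  have hT : T.Exact := ShortComplex.exact_kernel d
  have hTy := (ShortComplex.ShortExact.moduleCat_exact_iff_function_exact _).1 (hT.map (St y))
  have hdec : ∀ p : (St y).obj (F ⊞ G), (St y).map d p =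
      (St y).map a ((St y).map biprod.fst p) - (St y).map b ((St y).map biprod.snd p) := fun p => by
    have : d = biprod.fst ≫ a - biprod.snd ≫ b := by
      apply biprod.hom_ext' <;> simp [d]
    rw [this, Functor.map_sub, Functor.map_comp, Functor.map_comp]
    rfl
  have hpair : ∀ (u : (St y).obj F) (v : (St y).obj G), e.hom u = v →
      ∃ w, (St y).map (kernel.ι d ≫ biprod.fst) w = u ∧
        (St y).map (kernel.ι d ≫ biprod.snd) w = v := fun u v huv => by
    let p := (St y).map (biprod.inl : F ⟶ F ⊞ G) u + (St y).map (biprod.inr : G ⟶ F ⊞ G) v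
    have h1 : (St y).map (biprod.fst : F ⊞ G ⟶ F) p = u := by
      simp only [p, map_add]
      rw [stalk_comp_apply, stalk_comp_apply, biprod.inl_fst, biprod.inr_fst, stalk_id_apply,
        stalk_zero_apply, add_zero]
    have h2 : (St y).map (biprod.snd : F ⊞ G ⟶ G) p = v := by
      simp only [p, map_add]
      rw [stalk_comp_apply, stalk_comp_apply, biprod.inl_snd, biprod.inr_snd, stalk_id_apply,
        stalk_zero_apply, zero_add]
    obtain ⟨w, hw⟩ := (hTy p).1 (by
      refine (hdec p).trans ?_
      rw [h1, h2]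
      exact sub_eq_zero.2 ((stalk_skyMap_eq_iff y e.hom (𝟙 _) u v).2 huv))
    exact ⟨w, by rw [Functor.map_comp]; exact (congrArg _ hw).trans h1,
      by rw [Functor.map_comp]; exact (congrArg _ hw).trans h2⟩
  have hsplit : ∀ w : (St y).obj (kernel d),
      e.hom ((St y).map (kernel.ι d ≫ biprod.fst) w) =
        (St y).map (kernel.ι d ≫ biprod.snd) w := fun w => by
    refine (stalk_skyMap_eq_iff y e.hom (𝟙 _) _ _).1 (sub_eq_zero.1 ?_)
    rw [Functor.map_comp, Functor.map_comp]
    exact (hdec _).symm.trans (hTy.apply_apply_eq_zero w)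
  have hzero : ∀ w : (St y).obj (kernel d), (St y).map (kernel.ι d ≫ biprod.fst) w = 0 →
      w = 0 := fun w h => by
    have h' : (St y).map (kernel.ι d ≫ biprod.snd) w = 0 := by rw [← hsplit, h, map_zero]
    rw [Functor.map_comp] at h h'
    apply (ModuleCat.mono_iff_injective ((St y).map (kernel.ι d))).1 inferInstance
    rw [map_zero]
    have htot : biprod.fst ≫ biprod.inl + biprod.snd ≫ biprod.inr = 𝟙 (F ⊞ G) := biprod.total
    set p := (St y).map (kernel.ι d) w
    rw [← stalk_id_apply _ p, ← htot, stalk_add_apply, ← stalk_comp_apply, ← stalk_comp_apply]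
    have h1 : (St y).map (biprod.fst : F ⊞ G ⟶ F) p = 0 := h
    have h2 : (St y).map (biprod.snd : F ⊞ G ⟶ G) p = 0 := h'
    rw [h1, h2, map_zero, map_zero, add_zero]
  have hf : Function.Bijective ((St y).map (kernel.ι d ≫ biprod.fst)) :=
    ⟨(injective_iff_map_eq_zero _).2 hzero, fun u => (hpair u _ rfl).imp fun _ h => h.1⟩
  have hg : Function.Bijective ((St y).map (kernel.ι d ≫ biprod.snd)) :=
    ⟨(injective_iff_map_eq_zero _).2 fun w h => hzero w (e.toLinearEquiv.injective (by
      exact ((hsplit w).trans h).trans (map_zero _).symm)),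
      fun v => (hpair (e.inv v) v (by simp)).imp fun _ h => h.2⟩
  exact ⟨kernel d, _, _, hE, hf, hg⟩

variable (k : Type u) [Field k] [X.Over (Spec (CommRingCat.of k))]

local notation "φk" => baseHom k X

/-- Dimensions of twisted cohomology. -/
noncomputable def hCoh (F : X.Modules) (L : X.Modules) (q n : ℕ) : ℕ :=
  Module.finrank k (HA φk (CohB1.tensorMod F (CohB1.tensorPow L n)) (⊤ : X.Opens) q)

theorem finrank_HH_eq_HA (M : X.Modules) (q : ℕ) :
    Module.finrank k (Coh.HH X M q) = Module.finrank k (HA φk M (⊤ : X.Opens) q) :=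
  (HHA (A := k) M q).finrank_eq

variable [IsProper (X ↘ Spec (CommRingCat.of k))]

/-- Higher twisted cohomology of the structure sheaf stabilises. -/
theorem hdim_eventually_const [IsIntegral X] {L : X.Modules} (hL : PicF.IsInvertible L)
    (hsm : SmallVanish L (genericPoint X)) (q : ℕ) :
    ∃ N, ∀ n, N ≤ n → hCoh k (Coh.structureModule X) L (q + 2) n = hCoh k (Coh.structureModule X) L (q + 2) N := by
  haveI := isNoetherian_of_proper (X := X) k
  let η := genericPoint X
  let O := Coh.structureModule X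
  have hO : Coh.IsCoh O := isCoh_structureModule X
  have hOL : Coh.IsCoh (CohB1.tensorMod O L) := isCoh_twist hL hO
  obtain ⟨W, hηW, g, hg⟩ := exists_isGen hL η
  have hm : IsLocalRing.maximalIdeal (X.presheaf.stalk η) = ⊥ :=
    IsLocalRing.isField_iff_maximalIdeal_eq.1 (Field.toIsField X.functionField)
  have hk : Killed η 1 (CohB1.tensorMod O L) := fun r hr a => by
    rw [pow_one, hm, Ideal.mem_bot] at hr
    subst hr
    exact zero_smul _ a
  obtain ⟨E, a, b, hE, ha, hb⟩ := exists_roof hO hOL (twistStalkIso hηW hg O) hk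
  obtain ⟨N₁, h₁⟩ := eventually_surjective k hL hsm a hE hO ha (q + 1)
  obtain ⟨N₂, h₂⟩ := eventually_surjective k hL hsm b hE hOL hb (q + 1)
  obtain ⟨N₃, h₃⟩ := eventually_surjective k hL hsm a hE hO ha q
  obtain ⟨N₄, h₄⟩ := eventually_surjective k hL hsm b hE hOL hb q
  refine ⟨max (max N₁ N₂) (max N₃ N₄), fun n hn => ?_⟩
  induction n, hn using Nat.le_induction with
  | base => rfl
  | succ n hn ih =>
    rw [← ih]
    obtain ⟨γ, hγ, -⟩ := exists_shiftIso O hL n
    let ea := LinearEquiv.ofBijective (postA φk (tensorMap a (𝟙 (CohB1.tensorPow L n))) ⊤ (q + 2))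
      ⟨(h₃ n (by omega)).2, (h₁ n (by omega)).1⟩
    let eb := LinearEquiv.ofBijective (postA φk (tensorMap b (𝟙 (CohB1.tensorPow L n))) ⊤ (q + 2))
      ⟨(h₄ n (by omega)).2, (h₂ n (by omega)).1⟩
    exact (((ea.symm.trans eb).trans (isoA φk (asIso γ) ⊤ (q + 2))).finrank_eq).symm

/-- Sections of the powers grow without bound. -/
theorem exists_many_sections [IsIntegral X] {L : X.Modules} (hL : PicF.IsInvertible L) {r : ℕ}
    (hr0 : 0 < r) (hdim : topologicalKrullDim X = (r : WithBot ℕ∞)) (hP : PosInt k (InvCl.mk L hL))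
    (hsm : SmallVanish L (genericPoint X)) (C N : ℕ) :
    ∃ n, N ≤ n ∧ C < Module.finrank k (GA φk (CohB1.tensorPow L n)) := by
  haveI := isNoetherian_of_proper (X := X) k
  haveI := isSeparated_of_proper (X := X) k
  let η := genericPoint X
  let O := Coh.structureModule X
  have hO : Coh.IsCoh O := isCoh_structureModule X
  have hsupp : CohB1.support O = Set.univ := S1530.support_structureModule_eq X
  have hη : topologicalKrullDim (closure ({η} : Set X)) = (r : WithBot ℕ∞) := by
    rw [genericPoint_closure, (Homeomorph.Set.univ (X : Type u)).isHomeomorph.topologicalKrullDim_eq, hdim]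
  have hsd : topologicalKrullDim (CohB1.support O) ≤ (r : WithBot ℕ∞) := by
    rw [hsupp, (Homeomorph.Set.univ (X : Type u)).isHomeomorph.topologicalKrullDim_eq, hdim]
  have hpos := hP.interDeg_pos k hO hr0 hsd (ξ := η) (by rw [hsupp]; trivial) hη
  obtain ⟨Q, hQ⟩ := exists_isHilbPoly k hL hO hsd
  obtain ⟨hQd, hQa⟩ := alpha_eq_interDeg k hL hO hQ hsd
  have hcoeff : 0 < Q.coeff r := by
    have hpos' : (0 : ℚ) < StabCat.alpha r Q := by rw [hQa]; exact_mod_cast hpos
    exact (mul_pos_iff_of_pos_left (by exact_mod_cast r.factorial_pos)).1 hpos'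
  have hdeg : Q.natDegree = r := le_antisymm hQd (Polynomial.le_natDegree_of_ne_zero hcoeff.ne')
  have hlim : Filter.Tendsto (fun n : ℕ => Q.eval (n : ℚ)) Filter.atTop Filter.atTop :=
    ((Polynomial.tendsto_atTop_iff_leadingCoeff_nonneg Q).2
      ⟨Polynomial.natDegree_pos_iff_degree_pos.1 (by omega),
        by rw [Polynomial.leadingCoeff, hdeg]; exact hcoeff.le⟩).comp tendsto_natCast_atTop_atTop
  choose M hM using fun q => hdim_eventually_const k hL hsm q
  let N₀ := (Finset.range r).sup M
  let K : ℤ := ∑ q ∈ Finset.range r, (-1 : ℤ) ^ q * (hCoh k O L (q + 2) (M q) : ℤ)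
  obtain ⟨n, hnN, hn⟩ : ∃ n, max N N₀ ≤ n ∧ ((C : ℤ) + K : ℚ) < Q.eval (n : ℚ) :=
    ((Filter.eventually_ge_atTop _).and (hlim.eventually_gt_atTop _)).exists
  refine ⟨n, le_of_max_le_left hnN, ?_⟩
  have hqc : Coh.IsQCoh (CohB1.tensorMod O (CohB1.tensorPow L n)) :=
    (isCoh_twist (isInvertible_tensorPow hL n) hO).1
  have heul : Curv2.euler k X (ShStab.twist X L O n) =
      (hCoh k O L 0 n : ℤ) - (hCoh k O L 1 n : ℤ) + K := by
    rw [euler_eq_sum k X _ (r + 1) fun q hq => ?_]
    · refine (Finset.sum_congr rfl fun q _ => congrArg (fun d : ℕ => (-1 : ℤ) ^ q * (d : ℤ))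
        (finrank_HH_eq_HA k (ShStab.twist X L O n) q)).trans ?_
      show ∑ q ∈ Finset.range (r + 1 + 1), (-1 : ℤ) ^ q * (hCoh k O L q n : ℤ) = _
      rw [Finset.sum_range_succ', Finset.sum_range_succ', Finset.sum_congr rfl fun q hq => ?_]
      · ring
      · rw [show hCoh k O L (q + 1 + 1) n = hCoh k O L (q + 2) (M q) from
          hM q n ((Finset.le_sup hq).trans (le_of_max_le_right hnN)), pow_succ, pow_succ]
        ring
    · haveI : Coh.IsQCoh (ShStab.twist X L O n) := hqc
      exact subsingleton_HH_of_dim _ hdim.le (by omega)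
  have h0 : (C : ℤ) < (hCoh k O L 0 n : ℤ) := by
    have h1 : ((C : ℤ) + K : ℚ) < ((Curv2.euler k X (ShStab.twist X L O n) : ℤ) : ℚ) := by rw [hQ n]; exact hn
    rw [heul] at h1
    have h2 : (C : ℤ) + K < (hCoh k O L 0 n : ℤ) - (hCoh k O L 1 n : ℤ) + K := by exact_mod_cast h1
    have := Int.natCast_nonneg (hCoh k O L 1 n)
    omega
  have he : hCoh k O L 0 n = Module.finrank k (GA φk (CohB1.tensorPow L n)) :=
    ((isoA φk (AmpleLib.unitTensorIso (CohB1.tensorPow L n)) ⊤ 0).trans (secA φk _)).finrank_eq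
  rw [he] at h0
  exact_mod_cast h0

omit [X.Over (Spec (CommRingCat.of k))] [IsProper (X ↘ Spec (CommRingCat.of k))] in
theorem interDeg_pow_const (a : InvCl X) (n : ℕ) : ∀ {d : ℕ} {φ : InvCl X → ℤ}, ClDeg (d + 1) φ →
    interDeg (fun _ : Fin d => a ^ n) φ = (n : ℤ) ^ d * interDeg (fun _ : Fin d => a) φ
  | 0, φ, _ => by rw [interDeg_zero, interDeg_zero, pow_zero, one_mul]
  | d + 1, φ, h => by
    have hc : ∀ b : InvCl X, (fun _ : Fin (d + 1) => b) = Fin.cons b (fun _ : Fin d => b) := fun b => by
      funext i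
      induction i using Fin.cases <;> rfl
    rw [hc, interDeg_pow a _ h n, interDeg_cons, interDeg_pow_const a n (h.diff a), hc a, interDeg_cons,
      pow_succ]
    ring

/-- On an integral scheme whose smaller pieces are settled, twisted ideals lose `H^1`. -/
theorem isAmple_of_smallVanish [IsIntegral X] {L : X.Modules} (hL : PicF.IsInvertible L) {r : ℕ}
    (hr0 : 0 < r) (hdim : topologicalKrullDim X = (r : WithBot ℕ∞)) (hP : PosInt k (InvCl.mk L hL))
    (hsm : SmallVanish L (genericPoint X)) : CohB1.IsAmple L := by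
  haveI := isNoetherian_of_proper (X := X) k
  let η := genericPoint X
  obtain ⟨a, ha1, ha⟩ := exists_many_sections k hL hr0 hdim hP hsm 0 1
  have hLa := isInvertible_tensorPow hL a
  obtain ⟨s, hs⟩ : ∃ s : GA φk (CohB1.tensorPow L a), s ≠ 0 := by
    haveI := Module.nontrivial_of_finrank_pos ha
    exact exists_ne 0
  refine (AmpleLib.isAmple_pow_iff hL a ha1).1 (isAmple_of_H1_twisted_ideals hLa fun I i _ hI => ?_)
  have hIc : Coh.IsCoh I := isCoh_of_mono i (isCoh_structureModule X) hI
  let A := CohB1.tensorPow L a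
  let sA : Γ(A, ⊤) := s
  have hsη : η ∈ glocus A sA := CurveRR24.genericPoint_mem_glocus hLa hs
  haveI := fun n => finite_HA k (isCoh_twist (isInvertible_tensorPow hLa n) hIc) 1
  obtain ⟨N, hN⟩ := eventually_surjective_twistMul k hLa (hsm.pow hL ha1) hIc hsη
  let C := hCoh k I A 1 N
  have hC : ∀ n, N ≤ n → hCoh k I A 1 n ≤ C := by
    intro n hn
    induction n, hn using Nat.le_induction with
    | base => exact le_rfl
    | succ n hn ih => exact (LinearMap.finrank_le_finrank_of_surjective (hN n hn)).trans ih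
  obtain ⟨q, hq1, hq⟩ : ∃ q, 1 ≤ q ∧ C * C < Module.finrank k (GA φk (CohB1.tensorPow A q)) := by
    have hA' : SmallVanish A η := hsm.pow hL ha1
    have hPA : PosInt k (InvCl.mk A hLa) := fun z d hd0 hd => by
      rw [InvCl.mk_tensorPow hL a, interDeg_pow_const _ a (finDeg_chiCl k (isCoh_clM z)
        ((dim_mono (support_clM_subset z)).trans_lt (by rw [hd]; exact_mod_cast Nat.lt_succ_self d)))]
      exact mul_pos (by positivity) (hP z d hd0 hd)
    exact exists_many_sections k hLa hr0 hdim hPA hA' (C * C) 1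
  let P := CohB1.tensorPow A q
  have hPi : PicF.IsInvertible P := isInvertible_tensorPow hLa q
  obtain ⟨N', hN'⟩ : EvVanish P 1 I := by
    refine evVanish_of_many_sections k hPi ((hsm.pow hL ha1).pow hLa hq1) hIc
      (s := powSec sA q) ?_ (fun w hw => CurveRR24.genericPoint_mem_glocus hPi hw) (N₀ := N) (fun n hn => ?_) hq
    · obtain ⟨q', rfl⟩ := Nat.exists_eq_add_one_of_ne_zero (by omega : q ≠ 0)
      rw [glocus_powSec hLa sA q']
      exact hsη
    · obtain ⟨e, -⟩ := exists_powPowIso hLa q n
      rw [(isoA φk (AmpleLib.tensorIso (Iso.refl I) e) ⊤ 1).finrank_eq]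
      exact hC (q * n) (hn.trans (Nat.le_mul_of_pos_left n hq1))
  obtain ⟨e, -⟩ := exists_powPowIso hLa q (N' + 1)
  obtain ⟨m, hm⟩ : ∃ m, q * (N' + 1) = m + 1 := ⟨q * (N' + 1) - 1, by
    have : 1 ≤ q * (N' + 1) := Nat.mul_pos hq1 (Nat.succ_pos _)
    omega⟩
  refine ⟨m, (subsingleton_H'_top_iff _ 1).1 ?_⟩
  rw [← hm]
  exact subsingleton_H'_of_iso (AmpleLib.tensorIso (Iso.refl I) e) 1 ⊤ (hN' _ N'.le_succ)

theorem isAmple_of_posInt_integral : ∀ (r : ℕ) (X : Scheme.{u}) [X.Over (Spec (CommRingCat.of k))]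
    [IsProper (X ↘ Spec (CommRingCat.of k))] [IsIntegral X] (L : X.Modules) (hL : PicF.IsInvertible L),
    topologicalKrullDim X ≤ (r : WithBot ℕ∞) → PosInt k (InvCl.mk L hL) → CohB1.IsAmple L := by
  intro r
  induction r with
  | zero =>
    intro X _ _ _ L hL hdim _
    haveI := isAffine_of_dim_le_zero k (X ↘ Spec (CommRingCat.of k)) hdim
    exact isAmple_of_isQuasiAffine hL
  | succ r ih =>
    intro X _ _ _ L hL hdim hP
    haveI := isNoetherian_of_proper (X := X) k
    rcases lt_or_eq_of_le hdim with hlt | heq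
    · refine ih X L hL ?_ hP
      revert hlt
      generalize topologicalKrullDim X = t
      intro hlt
      match t with
      | ⊥ => exact bot_le
      | (t : ℕ∞) =>
        refine WithBot.coe_le_coe.2 (ENat.lt_natCast_add_one_iff.1 ?_)
        have := WithBot.coe_lt_coe.1 hlt
        exact this
    · refine isAmple_of_smallVanish k hL r.succ_pos heq hP ?_
      intro M hM hη p hp
      refine mem_of_ideals (extClass_evVanish hL p) (CohB1.support M) (fun y hy I ι hι hI _ => ?_) M hM subset_rfl
      haveI := hι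
      let g := (clI y).subschemeι
      letI : (clI y).subscheme.Over (Spec (CommRingCat.of k)) := ⟨g ≫ (X ↘ Spec (CommRingCat.of k))⟩
      haveI : IsProper ((clI y).subscheme ↘ Spec (CommRingCat.of k)) :=
        inferInstanceAs (IsProper (g ≫ (X ↘ Spec (CommRingCat.of k))))
      haveI := isNoetherian_of_proper (X := (clI y).subscheme) k
      haveI : IsIntegral (clI y).subscheme :=
        isIntegral_vanishingIdeal _ (isIrreducible_singleton.closure)
      have hyη : genericPoint X ∉ closure ({y} : Set X) := fun h => hη (hy h)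
      have hdimy : topologicalKrullDim (clI y).subscheme ≤ (r : WithBot ℕ∞) := by
        have hlt := dim_lt_of_notMem (isClosed_closure (s := ({y} : Set X))) (Set.subset_univ _)
          isClosed_univ (genericPoint_closure (α := X)) hyη
          (le_of_eq ((Homeomorph.Set.univ (X : Type u)).isHomeomorph.topologicalKrullDim_eq.trans heq))
        rw [topologicalKrullDim_vanishingIdeal]
        revert hlt
        generalize topologicalKrullDim (closure ({y} : Set X)) = t
        intro hlt
        match t with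
        | ⊥ => exact bot_le
        | (t : ℕ∞) =>
          refine WithBot.coe_le_coe.2 (ENat.lt_natCast_add_one_iff.1 ?_)
          exact WithBot.coe_lt_coe.1 hlt
      have hA : CohB1.IsAmple ((Scheme.Modules.pullback g).obj L) :=
        ih _ _ (PicLoc.isInvertible_pullback g hL) hdimy (hP.pullHom k g rfl)
      exact evVanish_push k (X ↘ Spec (CommRingCat.of k)) g hL hA I
        (isCoh_of_mono ι (isCoh_structureModule _) hI) p hp

/-- The criterion of Nakai and Moishezon. -/
theorem isAmple_of_posInt {L : X.Modules} (hL : PicF.IsInvertible L) (hP : PosInt k (InvCl.mk L hL)) :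
    CohB1.IsAmple L := by
  refine isAmple_of_closurePieces k (X ↘ Spec (CommRingCat.of k)) hL fun y => ?_
  let g := (closurePiece y).subschemeι
  letI : (closurePiece y).subscheme.Over (Spec (CommRingCat.of k)) := ⟨g ≫ (X ↘ Spec (CommRingCat.of k))⟩
  haveI : IsProper ((closurePiece y).subscheme ↘ Spec (CommRingCat.of k)) :=
    inferInstanceAs (IsProper (g ≫ (X ↘ Spec (CommRingCat.of k))))
  haveI : IsIntegral (closurePiece y).subscheme :=
    isIntegral_vanishingIdeal _ (isIrreducible_singleton.closure)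
  obtain ⟨r, hr⟩ := exists_dim_le k (Set.univ : Set (closurePiece y).subscheme)
  exact isAmple_of_posInt_integral k r _ _ (PicLoc.isInvertible_pullback g hL)
    (((Homeomorph.Set.univ _).isHomeomorph.topologicalKrullDim_eq).symm.le.trans hr) (hP.pullHom k g rfl)

end Groth.Agent.VarietyLib
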