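import Groth.Agent.CurveRR24.Section
import Groth.Agent.EulerLib.Positive
import Groth.Agent.AmpleLib.Ample

/-!
# Nonzero maps of invertible modules on proper integral curves
-/

set_option autoImplicit false
set_option linter.style.haveILetI false
set_option backward.isDefEq.respectTransparency.types false

universe u

open CategoryTheory CategoryTheory.Limits AlgebraicGeometry Opposite TopologicalSpace
open Groth.Agent.Coherent Groth.Agent.PicLib Groth.Agent.AmpleLib Groth.Agent.AssSch12
open Groth.Agent.EulerLib Groth.Agent.ModStalk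

namespace Groth.Agent.VarietyLib

variable {X : Scheme.{u}} [IsIntegral X] {N L : X.Modules}

local notation "St" => DerSch.stalkFunctor X

theorem genericPoint_mem_opens {U : X.Opens} {y : X} (hy : y ∈ U) : genericPoint X ∈ U :=
  ((genericPoint_spec X).mem_open_set_iff U.2).2 ⟨y, trivial, hy⟩

/-- A map of invertible modules killing a generator is zero. -/
theorem eq_zero_of_app_gen (hN : PicF.IsInvertible N) (hL : PicF.IsInvertible L) (φ : N ⟶ L) {W : X.Opens}
    {y : X} (hy : y ∈ W) {e : Γ(N, W)} (he : IsGen N W e) (h : φ.app W e = 0) : φ = 0 := by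
  choose V hV f hf using exists_isGen hN
  choose U hU g hg using exists_isGen hL
  refine hom_ext_gen (fun z => V z ⊓ U z)
    (top_le_iff.1 fun z _ => Opens.mem_iSup.2 ⟨z, hV z, hU z⟩)
    (fun z => resM N inf_le_left (f z)) (fun z => (hf z).restrict inf_le_left) φ 0 fun z => ?_
  show φ.app (V z ⊓ U z) (resM N inf_le_left (f z)) = 0
  obtain ⟨c, hc⟩ := ((hg z).restrict (inf_le_right : V z ⊓ U z ≤ U z) _ le_rfl).2
    (φ.app (V z ⊓ U z) (resM N inf_le_left (f z)))
  beta_reduce at hc
  rw [resM_self] at hc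
  rw [← hc]
  let O : X.Opens := (V z ⊓ U z) ⊓ W
  haveI : Nonempty O := ⟨⟨genericPoint X, ⟨genericPoint_mem_opens (hV z), genericPoint_mem_opens (hU z)⟩,
    genericPoint_mem_opens hy⟩⟩
  obtain ⟨d, hd⟩ := (he O inf_le_right).2 (resM N (inf_le_left : O ≤ V z ⊓ U z) (resM N inf_le_left (f z)))
  beta_reduce at hd
  have h0 : φ.app O (resM N (inf_le_left : O ≤ V z ⊓ U z) (resM N inf_le_left (f z))) = 0 := by
    rw [← hd, Scheme.Modules.Hom.app_smul, app_resM, h, map_zero, smul_zero]
  rw [app_resM, ← hc, resM_smul, resM_resM] at h0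
  have h1 : X.presheaf.map (homOfLE (inf_le_left : O ≤ V z ⊓ U z)).op c = 0 :=
    (hg z O (inf_le_left.trans inf_le_right)).1 (a₂ := 0) (h0.trans (zero_smul _ _).symm)
  have hc0 : c = 0 :=
    map_injective_of_isIntegral X (homOfLE (inf_le_left : O ≤ V z ⊓ U z)) (h1.trans (map_zero _).symm)
  rw [hc0, zero_smul]

/-- A nonzero map of invertible modules is injective. -/
theorem mono_of_ne_zero_invertible (hN : PicF.IsInvertible N) (hL : PicF.IsInvertible L) (φ : N ⟶ L)
    (hφ : φ ≠ 0) : Mono φ := by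
  refine Preadditive.mono_of_isZero_kernel _ (CurveRR24.isZero_of_sections fun V a => ?_)
  refine ModStalk.app_injective_of_mono (kernel.ι φ) V ?_
  rw [map_zero]
  let s : Γ(N, V) := (kernel.ι φ).app V a
  have hs : φ.app V s = 0 := kernel_ι_app_zero φ V a
  refine sec_ext N s 0 fun y hy => ?_
  obtain ⟨U, hyU, e, he⟩ := exists_isGen hN y
  obtain ⟨U', hyU', g, hg⟩ := exists_isGen hL y
  refine ⟨V ⊓ U ⊓ U', inf_le_left.trans inf_le_left, ⟨⟨hy, hyU⟩, hyU'⟩, ?_⟩
  let W : X.Opens := V ⊓ U ⊓ U'
  have hWU : W ≤ U := inf_le_left.trans inf_le_right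
  have hWV : W ≤ V := inf_le_left.trans inf_le_left
  haveI : Nonempty W := ⟨⟨y, ⟨hy, hyU⟩, hyU'⟩⟩
  obtain ⟨c, hc⟩ := (he W hWU).2 (resM N hWV s)
  beta_reduce at hc
  obtain ⟨f, hf⟩ := (hg W inf_le_right).2 (φ.app W (resM N hWU e))
  beta_reduce at hf
  have hf0 : f ≠ 0 := fun h0 => hφ (eq_zero_of_app_gen hN hL φ (W := W) (y := y) ⟨⟨hy, hyU⟩, hyU'⟩
    (he.restrict hWU) (by rw [← hf, h0, zero_smul]))
  have h1 : (c * f) • resM L (inf_le_right : W ≤ U') g = (0 : Γ(X, W)) • resM L (inf_le_right : W ≤ U') g := by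
    rw [zero_smul, mul_smul, hf, ← Scheme.Modules.Hom.app_smul, hc, app_resM, hs, map_zero]
  have h2 := (hg W inf_le_right).1 h1
  rw [map_zero]
  show resM N hWV s = 0
  rw [← hc, (mul_eq_zero.1 h2).resolve_right hf0, zero_smul]

/-- A nonzero map of invertible modules is surjective at the generic point. -/
theorem genericPoint_notMem_support_cokernel (hN : PicF.IsInvertible N) (hL : PicF.IsInvertible L)
    (φ : N ⟶ L) (hφ : φ ≠ 0) : genericPoint X ∉ CohB1.support (cokernel φ) := by
  let η := genericPoint X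
  obtain ⟨U, hU, e, he⟩ := exists_isGen hN η
  obtain ⟨U', hU', g, hg⟩ := exists_isGen hL η
  let W : X.Opens := U ⊓ U'
  obtain ⟨f, hf⟩ := (hg W inf_le_right).2 (φ.app W (resM N inf_le_left e))
  beta_reduce at hf
  have hf0 : f ≠ 0 := fun h0 => hφ (eq_zero_of_app_gen hN hL φ (W := W) (y := η) ⟨hU, hU'⟩
    (he.restrict inf_le_left) (by rw [← hf, h0, zero_smul]))
  obtain ⟨y, hy⟩ := (X.basicOpen f).ne_bot_iff_nonempty.1 fun h => hf0 ((basicOpen_eq_bot_iff f).1 h)
  have hb : η ∈ X.basicOpen f := genericPoint_mem_opens hy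
  intro hsupp
  refine hsupp (subsingleton_of_forall_eq 0 fun t => ?_)
  obtain ⟨w, rfl⟩ := (ModuleCat.epi_iff_surjective ((St η).map (cokernel.π φ))).1 inferInstance t
  obtain ⟨V, hV, s, rfl⟩ := TopCat.Presheaf.exists_germ_eq L.presheaf w
  let O : X.Opens := V ⊓ X.basicOpen f
  have hOW : O ≤ W := inf_le_right.trans (X.basicOpen_le f)
  have hu : IsUnit (X.presheaf.map (homOfLE hOW).op f) :=
    by
      have h0 := (X.toRingedSpace.isUnit_res_basicOpen f).map
        (X.presheaf.map (homOfLE (inf_le_right : O ≤ X.basicOpen f)).op).hom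
      rw [← show _ = X.presheaf.map (homOfLE hOW).op f from
        (ConcreteCategory.congr_hom (X.presheaf.map_comp (homOfLE (X.basicOpen_le f)).op
          (homOfLE (inf_le_right : O ≤ X.basicOpen f)).op) f).symm]
      exact h0
  obtain ⟨d, hd⟩ := (hg O (hOW.trans inf_le_right)).2 (resM L inf_le_left s)
  beta_reduce at hd
  have himg : φ.app O ((d * ↑hu.unit⁻¹) • resM N hOW (resM N inf_le_left e)) = resM L inf_le_left s := by
    rw [Scheme.Modules.Hom.app_smul, app_resM, ← hf, resM_smul, resM_resM, smul_smul, mul_assoc,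
      IsUnit.val_inv_mul hu, mul_one, hd]
  rw [stalk_map_germ]
  have h1 : (cokernel.π φ).app O (resM L inf_le_left s) = 0 := by
    rw [← himg]
    exact sections_zero (S := ShortComplex.mk φ (cokernel.π _) (cokernel.condition _)) _ _
  rw [app_resM] at h1
  refine ((TopCat.Presheaf.germ_res_apply (cokernel φ).presheaf
    (homOfLE (inf_le_left : O ≤ V)) η ⟨hV, hb⟩ _).symm.trans ?_)
  exact (congrArg ((cokernel φ).presheaf.germ O η ⟨hV, hb⟩) h1).trans (map_zero _)

variable (k : Type u) [Field k] [X.Over (Spec (CommRingCat.of k))]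
  [IsProper (X ↘ Spec (CommRingCat.of k))]

include k in
/-- Degrees along a nonzero map of invertible modules on a proper curve. -/
theorem deg_hom (hdim : topologicalKrullDim X ≤ 1) (hN : PicF.IsInvertible N) (hL : PicF.IsInvertible L)
    (φ : N ⟶ L) (hφ : φ ≠ 0) :
    Curv2.deg k X N 1 ≤ Curv2.deg k X L 1 ∧ (Curv2.deg k X N 1 = Curv2.deg k X L 1 → IsIso φ) := by
  haveI := EulerLib.isNoetherian_of_proper (X := X) k
  haveI := EulerLib.isSeparated_of_proper (X := X) k
  have hLc := CurveRR24.isCoh_of_isInvertible k hL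
  have hNc := CurveRR24.isCoh_of_isInvertible k hN
  haveI := mono_of_ne_zero_invertible hN hL φ hφ
  have hQ : Coh.IsCoh (cokernel φ) := isCoh_cokernel φ hNc.1 hLc
  let T := CohB1.support (cokernel φ)
  have hT : IsClosed T := isClosed_support _ (locallyFinGen_of_isFT _ hQ.2)
  have hηT := genericPoint_notMem_support_cokernel hN hL φ hφ
  have hdimT : topologicalKrullDim T < (1 : ℕ) :=
    dim_lt_of_notMem hT (Set.subset_univ _) isClosed_univ (genericPoint_spec X) hηT
      ((Topology.IsInducing.subtypeVal.topologicalKrullDim_le).trans (by exact_mod_cast hdim))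
  have hTc : ∀ t ∈ T, IsClosed ({t} : Set X) := fun t ht =>
    ((CurvesLib24.eq_genericPoint_or_isClosed hdim t).resolve_left fun h => hηT (h ▸ ht))
  have hTf : T.Finite := by
    obtain ⟨S, hSf, hSc, hSi, hTS⟩ := NoetherianSpace.exists_finite_set_isClosed_irreducible hT
    rw [hTS]
    refine hSf.sUnion fun C hC => ?_
    have hsub : C ⊆ T := hTS ▸ Set.subset_sUnion_of_mem hC
    obtain ⟨c, hc⟩ := QuasiSober.sober (hSi C hC) (hSc C hC)
    have hcC : c ∈ C := by rw [← hc]; exact subset_closure rfl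
    rw [← hc, (hTc c (hsub hcC)).closure_eq]
    exact Set.finite_singleton c
  have hvan : ∀ q, 0 < q → Subsingleton (Coh.HH X (cokernel φ) q) := fun q hq =>
    subsingleton_HH_of_support (X := X) ⟨T, hT⟩ _ hQ.1 subset_rfl q
      (lt_of_lt_of_le hdimT (by exact_mod_cast hq))
  have he := euler_additive k X (ShortComplex.mk φ (cokernel.π φ) (cokernel.condition φ))
    { exact := ShortComplex.exact_cokernel φ } hNc hLc hQ
  rw [euler_eq_sum k X (cokernel φ) 0 (fun q hq => hvan q hq)] at he
  simp at he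
  have hdiff : Curv2.deg k X L 1 =
      Curv2.deg k X N 1 + (Module.finrank k (Coh.HH X (cokernel φ) 0) : ℤ) := by
    simp only [Curv2.deg, Nat.cast_one, one_mul]
    linarith
  refine ⟨by omega, fun heq => ?_⟩
  have h0 : Module.finrank k (Coh.HH X (cokernel φ) 0) = 0 := by omega
  have hz : IsZero (cokernel φ) := by
    refine CurveRR24.isZero_of_finite_support hTf hTc subset_rfl fun t => ?_
    haveI := CurveRR24.finite_HH_of_isCoh k hQ 0
    haveI : Subsingleton (Coh.HH X (cokernel φ) 0) := Module.finrank_zero_iff.1 h0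
    haveI : Subsingleton (GA (baseHom k X) (cokernel φ)) :=
      (CurveRR24.hhZero k _).symm.toEquiv.subsingleton
    exact Subsingleton.elim (α := GA (baseHom k X) (cokernel φ)) t 0
  haveI : Epi φ := Preadditive.epi_of_isZero_cokernel φ hz
  exact isIso_of_mono_of_epi φ

omit [IsProper (X ↘ Spec (CommRingCat.of k))] [IsIntegral X] in
theorem deg_structureModule : Curv2.deg k X (Coh.structureModule X) 1 = 0 := by
  simp [Curv2.deg]

end Groth.Agent.VarietyLib
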