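import Groth.Agent.VarietyLib.GeomReducedPt
import Groth.Agent.CommAlg6.FieldTensor
import Groth.Agent.FlatMor12.CMMor

/-!
# Cohen–Macaulayness and base change of fields
-/

set_option autoImplicit false
set_option backward.isDefEq.respectTransparency.types false

universe u

open CategoryTheory CategoryTheory.Limits AlgebraicGeometry TensorProduct

namespace Groth.Agent.VarietyLib

attribute [local instance] Curv2.stalkAlgebra

variable (k : Type u) [Field k] (X : Scheme.{u}) [X.Over (Spec (CommRingCat.of k))]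
  (K : Type u) [Field K] [Algebra k K]

theorem isCM_stalk_bc_iff (y : Curv2.bc k X K)
    [IsNoetherianRing (X.presheaf.stalk (Curv2.bcFst k X K y))]
    [IsNoetherianRing (X.presheaf.stalk (Curv2.bcFst k X K y) ⊗[k] K)] :
    LocCoh.IsCohenMacaulayLocalRing (X.presheaf.stalk (Curv2.bcFst k X K y)) ↔
      LocCoh.IsCohenMacaulayLocalRing ((Curv2.bc k X K).presheaf.stalk y) := by
  obtain ⟨P, hP⟩ := exists_bcLoc_eq k X K (Curv2.bcFst k X K y) y specializes_rfl
  obtain ⟨e⟩ := nonempty_stalk_bcLoc_equiv k X K (Curv2.bcFst k X K y) P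
  rw [show (Curv2.bc k X K).presheaf.stalk y = (Curv2.bc k X K).presheaf.stalk (bcLoc k X K (Curv2.bcFst k X K y) P)
    from congrArg _ hP.symm]
  set T := X.presheaf.stalk (Curv2.bcFst k X K y) with hT
  have hm : P.asIdeal.comap (algebraMap T (T ⊗[k] K)) = IsLocalRing.maximalIdeal T := by
    have h1 := bcFst_bcLoc k X K (Curv2.bcFst k X K y) P
    rw [hP] at h1
    exact congrArg PrimeSpectrum.asIdeal
      ((X.fromSpecStalk (Curv2.bcFst k X K y)).isEmbedding.injective
        (h1.symm.trans Scheme.fromSpecStalk_closedPoint.symm))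
  have h := CommAlg6.codepth_eq_of_cm_fibres (A := T) (B := T ⊗[k] K)
    (fun p _ => CommAlg6.isCM_fiber_tensor_field k T K p) P.asIdeal
  haveI : (P.asIdeal.comap (algebraMap T (T ⊗[k] K))).IsPrime := inferInstance
  haveI hloc : IsLocalization.AtPrime T (P.asIdeal.comap (algebraMap T (T ⊗[k] K))) := by
    rw [IsLocalization.AtPrime]
    refine IsLocalization.self fun s hs => ?_
    by_contra hu
    exact hs (hm ▸ (IsLocalRing.mem_maximalIdeal s).2 hu)
  let e₀ : T ≃+* Localization.AtPrime (P.asIdeal.comap (algebraMap T (T ⊗[k] K))) :=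
    (IsLocalization.algEquiv (P.asIdeal.comap (algebraMap T (T ⊗[k] K))).primeCompl T _).toRingEquiv
  have key : LocCoh.IsCohenMacaulayLocalRing (Localization.AtPrime (P.asIdeal.comap (algebraMap T (T ⊗[k] K)))) ↔
      LocCoh.IsCohenMacaulayLocalRing (Localization.AtPrime P.asIdeal) := by
    rw [CAlgH3.isCohenMacaulayLocalRing_iff_depth, CAlgH3.isCohenMacaulayLocalRing_iff_depth]
    revert h
    obtain ⟨a, ha⟩ := CommAlg6.exists_dim_eq (Localization.AtPrime (P.asIdeal.comap (algebraMap T (T ⊗[k] K))))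
    obtain ⟨b, hb⟩ := CommAlg6.exists_dim_eq (Localization.AtPrime P.asIdeal)
    obtain ⟨c, hc⟩ := CAlgH3.exists_depth_eq_natCast
      (R := Localization.AtPrime (P.asIdeal.comap (algebraMap T (T ⊗[k] K))))
      (M := Localization.AtPrime (P.asIdeal.comap (algebraMap T (T ⊗[k] K))))
    obtain ⟨d, hd⟩ := CAlgH3.exists_depth_eq_natCast (R := Localization.AtPrime P.asIdeal)
      (M := Localization.AtPrime P.asIdeal)
    rw [ha, hb, hc, hd]
    intro h
    norm_cast at h ⊢
    induction a using ENat.recTopCoe <;> induction b using ENat.recTopCoe <;>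
      first
        | (norm_cast at h ⊢; omega)
        | simp_all [← Nat.cast_add]
  exact ⟨fun hA => FlatMor12.isCM_ringEquiv e.symm (key.1 (FlatMor12.isCM_ringEquiv e₀ hA)),
    fun hB => FlatMor12.isCM_ringEquiv e₀.symm (key.2 (FlatMor12.isCM_ringEquiv e hB))⟩

end Groth.Agent.VarietyLib
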