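import Groth.Prelude.Def_Pi1
import Groth.Agent.VarietyLib.GeomReducedPt
import Groth.Agent.CommAlg6.NormalTensorField

/-!
# Normality and base change
-/

set_option autoImplicit false
set_option backward.isDefEq.respectTransparency.types false

universe u

open CategoryTheory CategoryTheory.Limits AlgebraicGeometry TensorProduct

namespace Groth.Agent.VarietyLib

attribute [local instance] Curv2.stalkAlgebra

theorem isNormalRing_of_artinian_reduced (R : Type u) [CommRing R] [IsArtinianRing R] [_root_.IsReduced R] :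
    EGA4.IsNormalRing R := by
  intro p _
  haveI : IsArtinianRing (Localization.AtPrime p) := IsArtinianRing.localization_artinian p.primeCompl _
  haveI : _root_.IsReduced (Localization.AtPrime p) :=
    isReduced_localizationPreserves p.primeCompl _ inferInstance
  letI : Field (Localization.AtPrime p) := (IsArtinianRing.isField_of_isReduced_of_isLocalRing _).toField
  exact ⟨inferInstance, inferInstance⟩

theorem isReduced_of_geometricallyReduced (k K : Type u) [Field k] [Field K] [Algebra k K]
    [GeometricallyReduced (Spec.map (CommRingCat.ofHom (algebraMap k K)))] (L : Type u) [Field L] [Algebra k L] :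
    _root_.IsReduced (L ⊗[k] K) := by
  haveI : IsReduced (Spec (CommRingCat.of (L ⊗[k] K))) :=
    GeometricallyReduced.geometrically_isReduced (f := Spec.map (CommRingCat.ofHom (algebraMap k K)))
      (Spec.map (CommRingCat.ofHom (algebraMap k L))) _ _
      ((isPullback_SpecMap_of_isPushout _ _ _ _ (CommRingCat.isPushout_tensorProduct k L K)).flip)
  exact (affine_isReduced_iff (CommRingCat.of (L ⊗[k] K))).1 inferInstance

/-- A separable extension field is geometrically normal. -/
theorem isGeomNormal_field (k K : Type u) [Field k] [Field K] [Algebra k K]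
    [GeometricallyReduced (Spec.map (CommRingCat.ofHom (algebraMap k K)))] : EGA4.IsGeomNormal k K := by
  intro L _ _ hL
  haveI := isReduced_of_geometricallyReduced k K L
  haveI : IsArtinianRing (K ⊗[k] L) := IsArtinianRing.of_finite K _
  haveI : IsArtinianRing (L ⊗[k] K) :=
    (Algebra.TensorProduct.comm k K L).toRingEquiv.isArtinianRing
  exact isNormalRing_of_artinian_reduced _

variable (k : Type u) [Field k] (X : Scheme.{u}) [X.Over (Spec (CommRingCat.of k))] (K : Type u) [Field K] [Algebra k K]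

theorem isNormal_stalk_bc (x : X) (h : EGA4.IsNormalRing (X.presheaf.stalk x ⊗[k] K)) (z : Curv2.bc k X K)
    (hz : Curv2.bcFst k X K z ⤳ x) :
    IsDomain ((Curv2.bc k X K).presheaf.stalk z) ∧ IsIntegrallyClosed ((Curv2.bc k X K).presheaf.stalk z) := by
  obtain ⟨P, rfl⟩ := exists_bcLoc_eq k X K x z hz
  obtain ⟨e⟩ := nonempty_stalk_bcLoc_equiv k X K x P
  obtain ⟨h1, h2⟩ := h P.asIdeal
  haveI := h1
  haveI := h2
  exact ⟨e.injective.isDomain, IsIntegrallyClosed.of_equiv e.symm⟩

/-- Normality of the base change gives normality of `O_x ⊗ K`. -/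
theorem isNormalRing_tensor_of_stalks (x : X)
    (h : ∀ z : Curv2.bc k X K, Curv2.bcFst k X K z ⤳ x →
      IsDomain ((Curv2.bc k X K).presheaf.stalk z) ∧ IsIntegrallyClosed ((Curv2.bc k X K).presheaf.stalk z)) :
    EGA4.IsNormalRing (X.presheaf.stalk x ⊗[k] K) := by
  intro p hp
  let P : PrimeSpectrum (X.presheaf.stalk x ⊗[k] K) := ⟨p, hp⟩
  have hz : Curv2.bcFst k X K (bcLoc k X K x P) ⤳ x := by
    rw [bcFst_bcLoc]
    exact Scheme.range_fromSpecStalk.le ⟨_, rfl⟩
  obtain ⟨h1, h2⟩ := h _ hz
  obtain ⟨e⟩ := nonempty_stalk_bcLoc_equiv k X K x P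
  haveI := h1
  haveI := h2
  exact ⟨e.symm.injective.isDomain, IsIntegrallyClosed.of_equiv e⟩

/-- The stalks of a normal scheme are normal rings. -/
theorem isNormalRing_stalk {Y : Scheme.{u}} (hY : Pi1.IsNormalScheme Y) (y : Y) :
    EGA4.IsNormalRing (Y.presheaf.stalk y) := by
  intro p _
  haveI := (hY y).1
  haveI := (hY y).2
  exact ⟨IsLocalization.isDomain_localization p.primeCompl_le_nonZeroDivisors,
    isIntegrallyClosed_of_isLocalization _ p.primeCompl p.primeCompl_le_nonZeroDivisors⟩

theorem isNormalRing_of_maximal' {R : Type u} [CommRing R]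
    (h : ∀ (M : Ideal R) [M.IsMaximal],
      IsDomain (Localization.AtPrime M) ∧ IsIntegrallyClosed (Localization.AtPrime M)) : EGA4.IsNormalRing R := by
  intro p hp
  obtain ⟨M, hM, hpM⟩ := Ideal.exists_le_maximal p hp.ne_top
  obtain ⟨h1, h2⟩ := h M
  haveI := h1
  haveI := h2
  have hN : EGA4.IsNormalRing (Localization.AtPrime M) := fun q _ =>
    ⟨IsLocalization.isDomain_localization q.primeCompl_le_nonZeroDivisors,
      isIntegrallyClosed_of_isLocalization _ q.primeCompl q.primeCompl_le_nonZeroDivisors⟩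
  have hle : M.primeCompl ≤ p.primeCompl := fun a ha hap => ha (hpM hap)
  letI : Algebra (Localization.AtPrime M) (Localization.AtPrime p) :=
    IsLocalization.localizationAlgebraOfSubmonoidLe _ (Localization.AtPrime p) M.primeCompl p.primeCompl hle
  haveI := IsLocalization.localization_isScalarTower_of_submonoid_le (Localization.AtPrime M) (Localization.AtPrime p)
    M.primeCompl p.primeCompl hle
  haveI := IsLocalization.isLocalization_of_submonoid_le (Localization.AtPrime M) (Localization.AtPrime p)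
    M.primeCompl p.primeCompl hle
  exact CommAlg6.NormalTensor.isDomain_of_local (CommAlg6.NormalTensor.isNormalRing_localization
    (S := Localization.AtPrime p) (p.primeCompl.map (algebraMap R (Localization.AtPrime M))) hN)

/-- For algebraic `K`, normality of `O_x ⊗ K` is seen on the points over `x`. -/
theorem isNormalRing_tensor_of_points [Algebra.IsIntegral k K] (x : X)
    (h : ∀ z : Curv2.bc k X K, Curv2.bcFst k X K z = x →
      IsDomain ((Curv2.bc k X K).presheaf.stalk z) ∧ IsIntegrallyClosed ((Curv2.bc k X K).presheaf.stalk z)) :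
    EGA4.IsNormalRing (X.presheaf.stalk x ⊗[k] K) := by
  refine isNormalRing_of_maximal' fun M hM => ?_
  let P : PrimeSpectrum (X.presheaf.stalk x ⊗[k] K) := ⟨M, hM.isPrime⟩
  haveI : Algebra.IsIntegral (X.presheaf.stalk x) (X.presheaf.stalk x ⊗[k] K) := inferInstance
  haveI : (M.comap (algebraMap (X.presheaf.stalk x) (X.presheaf.stalk x ⊗[k] K))).IsMaximal :=
    Ideal.isMaximal_comap_of_isIntegral_of_isMaximal M
  have hc := IsLocalRing.eq_maximalIdeal (show (P.asIdeal.comap
    (algebraMap (X.presheaf.stalk x) (X.presheaf.stalk x ⊗[k] K))).IsMaximal from this)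
  obtain ⟨h1, h2⟩ := h _ (bcFst_bcLoc_eq k X K x P hc)
  obtain ⟨e⟩ := nonempty_stalk_bcLoc_equiv k X K x P
  haveI := h1
  haveI := h2
  exact ⟨e.symm.injective.isDomain, IsIntegrallyClosed.of_equiv e⟩

section prod

variable (Y : Scheme.{u}) [Y.Over (Spec (CommRingCat.of k))]

/-- The map induced on products by `Spec O_x ⟶ X`, `Spec O_y ⟶ Y`. -/
noncomputable def pMap (x : X) (y : Y) :
    pullback (X.fromSpecStalk x ≫ (X ↘ Spec (CommRingCat.of k))) (Y.fromSpecStalk y ≫ (Y ↘ Spec (CommRingCat.of k))) ⟶
      pullback (X ↘ Spec (CommRingCat.of k)) (Y ↘ Spec (CommRingCat.of k)) :=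
  pullback.map (X.fromSpecStalk x ≫ (X ↘ Spec (CommRingCat.of k))) (Y.fromSpecStalk y ≫ (Y ↘ Spec (CommRingCat.of k)))
    (X ↘ Spec (CommRingCat.of k)) (Y ↘ Spec (CommRingCat.of k)) (X.fromSpecStalk x) (Y.fromSpecStalk y)
    (𝟙 _) (Category.comp_id _) (Category.comp_id _)

/-- The map from `Spec (O_x ⊗ O_y)` to the product. -/
noncomputable def prodLoc (x : X) (y : Y) :
    Spec (CommRingCat.of (X.presheaf.stalk x ⊗[k] Y.presheaf.stalk y)) ⟶
      pullback (X ↘ Spec (CommRingCat.of k)) (Y ↘ Spec (CommRingCat.of k)) :=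
  (pullbackSpecIso k (X.presheaf.stalk x) (Y.presheaf.stalk y)).inv ≫
    (pullback.congrHom (specMap_stalkAlgebra k X x) (specMap_stalkAlgebra k Y y)).hom ≫
    pMap k X Y x y

theorem flat_prodLoc (x : X) (y : Y) : Flat (prodLoc k X Y x y) := by
  haveI : Flat (X.fromSpecStalk x) := flat_fromSpecStalk' x
  haveI : Flat (Y.fromSpecStalk y) := flat_fromSpecStalk' y
  haveI : Flat (pMap k X Y x y) :=
    MorphismProperty.pullbackMap (P := @Flat) inferInstance inferInstance rfl rfl
  unfold prodLoc; infer_instance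

theorem isPreimmersion_prodLoc (x : X) (y : Y) : IsPreimmersion (prodLoc k X Y x y) := by
  haveI : IsPreimmersion (pMap k X Y x y) :=
    MorphismProperty.pullbackMap (P := @IsPreimmersion) inferInstance inferInstance rfl rfl
  unfold prodLoc; infer_instance

/-- Every point of the product comes from `Spec (O_x ⊗ O_y)` and its stalk is a localisation. -/
theorem exists_stalk_prod_equiv (z : ↥(pullback (X ↘ Spec (CommRingCat.of k)) (Y ↘ Spec (CommRingCat.of k)))) :
    ∃ P : PrimeSpectrum (X.presheaf.stalk (pullback.fst (X ↘ Spec (CommRingCat.of k)) (Y ↘ Spec (CommRingCat.of k)) z) ⊗[k]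
        Y.presheaf.stalk (pullback.snd (X ↘ Spec (CommRingCat.of k)) (Y ↘ Spec (CommRingCat.of k)) z)),
      Nonempty ((pullback (X ↘ Spec (CommRingCat.of k)) (Y ↘ Spec (CommRingCat.of k))).presheaf.stalk z ≃+*
        Localization.AtPrime P.asIdeal) := by
  let x := pullback.fst (X ↘ Spec (CommRingCat.of k)) (Y ↘ Spec (CommRingCat.of k)) z
  let y := pullback.snd (X ↘ Spec (CommRingCat.of k)) (Y ↘ Spec (CommRingCat.of k)) z
  obtain ⟨w, hw⟩ : z ∈ Set.range (pMap k X Y x y) := by
    rw [pMap, Scheme.Pullback.range_map]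
    exact ⟨⟨_, Scheme.fromSpecStalk_closedPoint⟩, ⟨_, Scheme.fromSpecStalk_closedPoint⟩⟩
  let a := (pullbackSpecIso k (X.presheaf.stalk x) (Y.presheaf.stalk y)).inv ≫
    (pullback.congrHom (specMap_stalkAlgebra k X x) (specMap_stalkAlgebra k Y y)).hom
  haveI : IsIso a := inferInstance
  obtain ⟨P, rfl⟩ := a.surjective w
  refine ⟨P, ?_⟩
  have hP : prodLoc k X Y x y P = z := by
    rw [← hw, ← Scheme.Hom.comp_apply]
    rfl
  haveI := flat_prodLoc k X Y x y
  haveI := isPreimmersion_prodLoc k X Y x y
  have h := isIso_stalkMap_of_flat_of_isPreimmersion (prodLoc k X Y x y) P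
  letI : Algebra (X.presheaf.stalk x ⊗[k] Y.presheaf.stalk y)
      ((Spec (CommRingCat.of (X.presheaf.stalk x ⊗[k] Y.presheaf.stalk y))).presheaf.stalk P) :=
    (StructureSheaf.toStalk (CommRingCat.of (X.presheaf.stalk x ⊗[k] Y.presheaf.stalk y)) P).hom.toAlgebra
  haveI : IsLocalization.AtPrime ((Spec (CommRingCat.of (X.presheaf.stalk x ⊗[k] Y.presheaf.stalk y))).presheaf.stalk P) P.asIdeal :=
    StructureSheaf.IsLocalization.to_stalk _ P
  exact ⟨(((pullback (X ↘ Spec (CommRingCat.of k)) (Y ↘ Spec (CommRingCat.of k))).presheaf.stalkCongr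
    (Inseparable.of_eq hP.symm)).commRingCatIsoToRingEquiv.trans (@asIso _ _ _ _ _ h).commRingCatIsoToRingEquiv).trans
    (IsLocalization.algEquiv P.asIdeal.primeCompl _ (Localization.AtPrime P.asIdeal)).toRingEquiv⟩

end prod

end Groth.Agent.VarietyLib
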