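import Groth.Agent.VarietyLib.FiniteClosedCover
import Groth.Agent.S7661

/-!
# Merging affine neighbourhoods on two closed subsets
-/

set_option autoImplicit false
set_option backward.isDefEq.respectTransparency.types false

universe u

open CategoryTheory Limits AlgebraicGeometry TopologicalSpace Opposite

namespace Groth.Agent.VarietyLib

open CCLift

variable {X Y Z : Scheme.{u}}

/-- Functions on a closed subscheme lift with prescribed nonvanishing at finitely many points outside. -/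
theorem exists_lift_avoid (g : Z ⟶ Y) [IsClosedImmersion g] {V : Y.Opens} (hV : IsAffineOpen V)
    (h : Γ(Z, g ⁻¹ᵁ V)) (F : Finset Y) (hF : ∀ y ∈ F, y ∈ V)
    (hFh : ∀ z : Z, g z ∈ F → z ∈ Z.basicOpen h) :
    ∃ c : Γ(Y, V), g.app V c = h ∧ ∀ y ∈ F, y ∈ Y.basicOpen c := by
  classical
  let G := F.filter fun y => y ∉ Set.range g
  let 𝔭 : {y // y ∈ G} → Ideal Γ(Y, V) := fun y =>
    (IsLocalRing.maximalIdeal (Y.presheaf.stalk y.1)).comap
      (Y.presheaf.germ V y.1 (hF _ (Finset.mem_filter.1 y.2).1)).hom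
  have hmem : ∀ (y : {y // y ∈ G}) (c : Γ(Y, V)), y.1 ∈ Y.basicOpen c ↔ c ∉ 𝔭 y := fun y c => by
    rw [Y.mem_basicOpen c y.1 (hF _ (Finset.mem_filter.1 y.2).1)]
    simp [𝔭]
  obtain ⟨c₀, hc₀⟩ := g.app_surjective V hV h
  obtain ⟨c, hc, hcp⟩ := Groth.Agent.S7661.result Γ(Y, V) (RingHom.ker (g.app V).hom)
    (Finset.univ.image 𝔭) (fun p hp => by
      obtain ⟨y, -, rfl⟩ := Finset.mem_image.1 hp
      exact Ideal.IsPrime.comap _)
    (fun p hp hle => by
      obtain ⟨y, -, rfl⟩ := Finset.mem_image.1 hp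
      obtain ⟨hyF, hyg⟩ := Finset.mem_filter.1 y.2
      let off : Y.Opens := ⟨(Set.range g)ᶜ, g.isClosedEmbedding.isClosed_range.isOpen_compl⟩
      obtain ⟨d, hd, hyd⟩ := hV.exists_basicOpen_le (V := off) ⟨y.1, hyg⟩ (hF _ hyF)
      have h0 : Z.basicOpen (g.app V d) = ⊥ := eq_bot_iff.2 fun z hz => by
        have hz' : z ∈ g ⁻¹ᵁ Y.basicOpen d := by rw [Scheme.preimage_basicOpen]; exact hz
        exact absurd ⟨z, rfl⟩ (hd hz')
      obtain ⟨n, hn⟩ := (Scheme.isNilpotent_iff_basicOpen_eq_bot_of_isCompact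
        (hV.preimage g).isCompact _).2 h0
      have := hle (show d ^ n ∈ RingHom.ker (g.app V).hom from (map_pow _ _ _).trans hn)
      exact (hmem y d).1 hyd ((Ideal.IsPrime.comap _).mem_of_pow_mem n this))
    (Ideal.Quotient.mk _ c₀)
  have hc' : g.app V c = h := by
    rw [← hc₀, ← sub_eq_zero, ← map_sub]
    exact Ideal.Quotient.eq.1 hc
  refine ⟨c, hc', fun y hy => ?_⟩
  by_cases hyg : y ∈ Set.range g
  · obtain ⟨z, rfl⟩ := hyg
    have hz : z ∈ g ⁻¹ᵁ Y.basicOpen c := by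
      rw [Scheme.preimage_basicOpen, hc']
      exact hFh z hy
    exact hz
  · exact (hmem ⟨y, Finset.mem_filter.2 ⟨hy, hyg⟩⟩ c).2
      (hcp _ (Finset.mem_image_of_mem _ (Finset.mem_univ _)))

/-- A basic open of an affine open containing finitely many points. -/
theorem exists_basicOpen_finset {V : Y.Opens} (hV : IsAffineOpen V) {O : Y.Opens} (hO : O ≤ V)
    (F : Finset Y) (hF : ∀ y ∈ F, y ∈ O) :
    ∃ c : Γ(Y, V), Y.basicOpen c ≤ O ∧ ∀ y ∈ F, y ∈ Y.basicOpen c := by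
  let I := Scheme.IdealSheafData.vanishingIdeal (⟨(O : Set Y)ᶜ, O.2.isClosed_compl⟩ : Closeds Y)
  have hr : Set.range I.subschemeι = (O : Set Y)ᶜ := by
    rw [Scheme.IdealSheafData.range_subschemeι, Scheme.IdealSheafData.coe_support_vanishingIdeal]
    rfl
  obtain ⟨c, hc, hcF⟩ := exists_lift_avoid I.subschemeι hV 0 F (fun y hy => hO (hF y hy))
    (fun z hz => absurd (hF _ hz) (hr.le ⟨z, rfl⟩))
  refine ⟨c, fun y hy => ?_, hcF⟩
  by_contra hyO
  obtain ⟨z, rfl⟩ := hr.ge hyO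
  exact notMem_basicOpen_of_app_eq_zero I.subschemeι hc z hy

/-- The reduced closed subscheme of a closed set. -/
noncomputable abbrev csub (A : Closeds X) : Scheme.{u} :=
  (Scheme.IdealSheafData.vanishingIdeal A).subscheme

/-- Its inclusion. -/
noncomputable abbrev cι (A : Closeds X) : csub A ⟶ X :=
  (Scheme.IdealSheafData.vanishingIdeal A).subschemeι

theorem range_cι (A : Closeds X) : Set.range (cι A) = (A : Set X) := by
  rw [Scheme.IdealSheafData.range_subschemeι, Scheme.IdealSheafData.coe_support_vanishingIdeal]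

theorem exists_cι_le {A B : Closeds X} (h : A ≤ B) : ∃ g : csub A ⟶ csub B, g ≫ cι B = cι A :=
  ⟨Scheme.IdealSheafData.inclusion (Scheme.IdealSheafData.vanishingIdeal_antimono h),
    Scheme.IdealSheafData.inclusion_subschemeι _⟩

/-- The property that a closed set admits an affine trace through the points of `T`. -/
def HasAffineNhd (T : Finset X) (A : Closeds X) : Prop :=
  ∃ U : X.Opens, IsAffineOpen (cι A ⁻¹ᵁ U) ∧ ∀ t ∈ T, t ∈ A → t ∈ U

theorem HasAffineNhd.sup {T : Finset X} {A B : Closeds X} (hA : HasAffineNhd T A)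
    (hB : HasAffineNhd T B) : HasAffineNhd T (A ⊔ B) := by
  classical
  obtain ⟨U, hU, hUT⟩ := hA
  obtain ⟨V, hV, hVT⟩ := hB
  obtain ⟨gA, hgA⟩ := exists_cι_le (show A ⊓ B ≤ A from inf_le_left)
  obtain ⟨gB, hgB⟩ := exists_cι_le (show A ⊓ B ≤ B from inf_le_right)
  have : IsClosedImmersion (gA ≫ cι A) := hgA ▸ inferInstance
  have : IsClosedImmersion (gB ≫ cι B) := hgB ▸ inferInstance
  have : IsClosedImmersion gA := IsClosedImmersion.of_comp gA (cι A)
  have : IsClosedImmersion gB := IsClosedImmersion.of_comp gB (cι B)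
  have mA : ∀ a : csub A, cι A a ∈ (A : Set X) := fun a => (range_cι A).le ⟨a, rfl⟩
  have mB : ∀ a : csub B, cι B a ∈ (B : Set X) := fun a => (range_cι B).le ⟨a, rfl⟩
  have pA : ∀ c, cι A (gA c) = cι (A ⊓ B) c := fun c => by rw [← Scheme.Hom.comp_apply, hgA]
  have pB : ∀ c, cι B (gB c) = cι (A ⊓ B) c := fun c => by rw [← Scheme.Hom.comp_apply, hgB]
  let TA : Finset (csub A) := T.preimage (cι A) (cι A).isClosedEmbedding.injective.injOn
  let TB : Finset (csub B) := T.preimage (cι B) (cι B).isClosedEmbedding.injective.injOn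
  -- shrink on `A`
  let O : X.Opens := U ⊓ ⟨((B : Set X) ∩ (V : Set X)ᶜ)ᶜ, (B.2.inter V.2.isClosed_compl).isOpen_compl⟩
  obtain ⟨f, hfO, hfT⟩ := exists_basicOpen_finset hU (O := cι A ⁻¹ᵁ O) (fun a ha => ha.1) TA
    (fun a ha => ⟨hUT _ (Finset.mem_preimage.1 ha) (mA a),
      fun h => h.2 (hVT _ (Finset.mem_preimage.1 ha) h.1)⟩)
  have hA' : IsAffineOpen ((csub A).basicOpen f) := hU.basicOpen f
  let UA := (csub A).basicOpen f
  -- the compatible functions
  have hCB : IsAffineOpen (gB ⁻¹ᵁ (cι B ⁻¹ᵁ V)) := hV.preimage gB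
  have hle : gA ⁻¹ᵁ UA ≤ gB ⁻¹ᵁ (cι B ⁻¹ᵁ V) := fun c hc => by
    show cι B (gB c) ∈ V
    rw [pB]
    by_contra h
    have h1 := (hfO hc : gA c ∈ cι A ⁻¹ᵁ O).2
    refine h1 ⟨?_, ?_⟩
    · rw [pA, ← pB]; exact mB _
    · rw [pA]; exact h
  let TC : Finset (csub (A ⊓ B)) :=
    T.preimage (cι (A ⊓ B)) (cι (A ⊓ B)).isClosedEmbedding.injective.injOn
  obtain ⟨h, hh, hhT⟩ := exists_basicOpen_finset hCB hle TC (fun c hc => by
    show gA c ∈ UA
    refine hfT _ (Finset.mem_preimage.2 ?_)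
    rw [pA]; exact Finset.mem_preimage.1 hc)
  obtain ⟨b, hb, hbT⟩ := exists_lift_avoid gB hV h TB
    (fun y hy => hVT _ (Finset.mem_preimage.1 hy) (mB y))
    (fun c hc => hhT c (Finset.mem_preimage.2 (by rw [← pB]; exact Finset.mem_preimage.1 hc)))
  obtain ⟨a, ha, haT⟩ := exists_lift_avoid gA hA' (rs hle h) TA hfT
    (fun c hc => by
      rw [Scheme.basicOpen_res]
      refine ⟨?_, hhT c (Finset.mem_preimage.2 (by rw [← pA]; exact Finset.mem_preimage.1 hc))⟩
      exact hfT _ hc)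
  let DA := (csub A).basicOpen a
  let DB := (csub B).basicOpen b
  have hDA : IsAffineOpen DA := hA'.basicOpen a
  have hDB : IsAffineOpen DB := hV.basicOpen b
  have hagree : ∀ c, gA c ∈ DA ↔ gB c ∈ DB := fun c => by
    show c ∈ gA ⁻¹ᵁ DA ↔ c ∈ gB ⁻¹ᵁ DB
    rw [show gA ⁻¹ᵁ DA = _ from Scheme.preimage_basicOpen gA a,
      show gB ⁻¹ᵁ DB = _ from Scheme.preimage_basicOpen gB b, ha, hb, Scheme.basicOpen_res]
    exact ⟨fun hc => hc.2, fun hc => ⟨hh hc, hc⟩⟩
  let W : X.Opens := ⟨(cι A '' (DA : Set (csub A))ᶜ ∪ cι B '' (DB : Set (csub B))ᶜ)ᶜ,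
    (((cι A).isClosedEmbedding.isClosedMap _ DA.2.isClosed_compl).union
      ((cι B).isClosedEmbedding.isClosedMap _ DB.2.isClosed_compl)).isOpen_compl⟩
  have hC : ∀ x : X, x ∈ (A : Set X) → x ∈ (B : Set X) → ∃ c, cι (A ⊓ B) c = x := fun x hxA hxB =>
    (range_cι (A ⊓ B)).ge ⟨hxA, hxB⟩
  have hWA : cι A ⁻¹ᵁ W = DA := by
    ext y
    refine ⟨fun hy => by_contra fun hn => hy (Or.inl ⟨y, hn, rfl⟩), fun hy hy' => ?_⟩
    rcases hy' with ⟨y', hy', he⟩ | ⟨y', hy', he⟩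
    · exact hy' ((cι A).isClosedEmbedding.injective he ▸ hy)
    · obtain ⟨c, hc⟩ := hC (cι A y) (mA y) (he ▸ mB y')
      have e1 : gA c = y := (cι A).isClosedEmbedding.injective ((pA c).trans hc)
      have e2 : gB c = y' := (cι B).isClosedEmbedding.injective ((pB c).trans (hc.trans he.symm))
      exact hy' (e2 ▸ (hagree c).1 (e1.symm ▸ hy))
  have hWB : cι B ⁻¹ᵁ W = DB := by
    ext y
    refine ⟨fun hy => by_contra fun hn => hy (Or.inr ⟨y, hn, rfl⟩), fun hy hy' => ?_⟩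
    rcases hy' with ⟨y', hy', he⟩ | ⟨y', hy', he⟩
    · obtain ⟨c, hc⟩ := hC (cι B y) (he ▸ mA y') (mB y)
      have e1 : gB c = y := (cι B).isClosedEmbedding.injective ((pB c).trans hc)
      have e2 : gA c = y' := (cι A).isClosedEmbedding.injective ((pA c).trans (hc.trans he.symm))
      exact hy' (e2 ▸ (hagree c).2 (e1.symm ▸ hy))
    · exact hy' ((cι B).isClosedEmbedding.injective he ▸ hy)
  refine ⟨W, ?_, fun t ht htAB => ?_⟩
  · obtain ⟨iA, hiA⟩ := exists_cι_le (show A ≤ A ⊔ B from le_sup_left)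
    obtain ⟨iB, hiB⟩ := exists_cι_le (show B ≤ A ⊔ B from le_sup_right)
    have : IsClosedImmersion (iA ≫ cι (A ⊔ B)) := hiA ▸ inferInstance
    have : IsClosedImmersion (iB ≫ cι (A ⊔ B)) := hiB ▸ inferInstance
    have : IsClosedImmersion iA := IsClosedImmersion.of_comp iA (cι (A ⊔ B))
    have : IsClosedImmersion iB := IsClosedImmersion.of_comp iB (cι (A ⊔ B))
    let P := cι (A ⊔ B) ⁻¹ᵁ W
    have hPA : IsAffineOpen (iA ⁻¹ᵁ P) := by
      rw [← Scheme.Hom.comp_preimage, hiA, hWA]; exact hDA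
    have hPB : IsAffineOpen (iB ⁻¹ᵁ P) := by
      rw [← Scheme.Hom.comp_preimage, hiB, hWB]; exact hDB
    have : IsAffine (iA ⁻¹ᵁ P).toScheme := hPA
    have : IsAffine (iB ⁻¹ᵁ P).toScheme := hPB
    let Zs : Bool → Scheme.{u} := fun b => bif b then (iA ⁻¹ᵁ P).toScheme else (iB ⁻¹ᵁ P).toScheme
    let ιs : ∀ b, Zs b ⟶ P.toScheme := fun b => match b with
      | true => iA ∣_ P
      | false => iB ∣_ P
    have h1 : ∀ b, IsClosedImmersion (ιs b) := fun b => by
      cases b <;> exact IsZariskiLocalAtTarget.restrict ‹_› _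
    have h2 : ∀ b, IsAffine (Zs b) := fun b => by cases b <;> assumption
    refine isAffine_of_closed_cover Zs ιs fun p => ?_
    have hp : cι (A ⊔ B) p.1 ∈ (A : Set X) ∪ (B : Set X) := (range_cι (A ⊔ B)).le ⟨p.1, rfl⟩
    rcases hp with hp | hp
    · obtain ⟨y, hy⟩ := (range_cι A).ge hp
      have e : iA y = p.1 := (cι (A ⊔ B)).isClosedEmbedding.injective
        (by rw [← Scheme.Hom.comp_apply, hiA]; exact hy)
      exact ⟨true, ⟨y, show iA y ∈ P from e ▸ p.2⟩,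
        Subtype.ext (Eq.trans (morphismRestrict_base_coe iA P _) e)⟩
    · obtain ⟨y, hy⟩ := (range_cι B).ge hp
      have e : iB y = p.1 := (cι (A ⊔ B)).isClosedEmbedding.injective
        (by rw [← Scheme.Hom.comp_apply, hiB]; exact hy)
      exact ⟨false, ⟨y, show iB y ∈ P from e ▸ p.2⟩,
        Subtype.ext (Eq.trans (morphismRestrict_base_coe iB P _) e)⟩
  · rcases (htAB : t ∈ (A : Set X) ∪ (B : Set X)) with htA | htB
    · obtain ⟨y, rfl⟩ := (range_cι A).ge htA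
      exact hWA.ge (haT y (Finset.mem_preimage.2 ht))
    · obtain ⟨y, rfl⟩ := (range_cι B).ge htB
      exact hWB.ge (hbT y (Finset.mem_preimage.2 ht))

theorem hasAffineNhd_bot (T : Finset X) : HasAffineNhd T (⊥ : Closeds X) :=
  ⟨⊥, isAffineOpen_bot _, fun _ _ h => absurd h (Set.notMem_empty _)⟩

theorem hasAffineNhd_of_opens {T : Finset X} {A : Closeds X} {V : (csub A).Opens}
    (hV : IsAffineOpen V) (h : ∀ t ∈ T, t ∈ A → t ∈ cι A '' (V : Set (csub A))) :
    HasAffineNhd T A := by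
  obtain ⟨O, hO, hOV⟩ := (cι A).isEmbedding.isInducing.isOpen_iff.1 V.2
  have he : cι A ⁻¹ᵁ (⟨O, hO⟩ : X.Opens) = V := Opens.ext hOV
  refine ⟨⟨O, hO⟩, he ▸ hV, fun t ht htA => ?_⟩
  obtain ⟨y, hy, rfl⟩ := h t ht htA
  exact hOV.ge hy

theorem exists_affineOpen_of_hasAffineNhd {T : Finset X} {A : Closeds X} (hA : (A : Set X) = Set.univ)
    (h : HasAffineNhd T A) : ∃ U : X.Opens, IsAffineOpen U ∧ ∀ t ∈ T, t ∈ U := by
  obtain ⟨U, hU, hUT⟩ := h
  refine ⟨U, ?_, fun t ht => hUT t ht (show t ∈ (A : Set X) by rw [hA]; trivial)⟩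
  have : IsAffine (cι A ⁻¹ᵁ U).toScheme := hU
  have : IsClosedImmersion (cι A ∣_ U) := IsZariskiLocalAtTarget.restrict (P := @IsClosedImmersion) (f := cι A) inferInstance _
  refine isAffine_of_surjective_closedImmersion (cι A ∣_ U) fun p => ?_
  obtain ⟨y, hy⟩ := (range_cι A).ge (show p.1 ∈ (A : Set X) by rw [hA]; trivial)
  exact ⟨⟨y, show cι A y ∈ U from hy ▸ p.2⟩, Subtype.ext (Eq.trans (morphismRestrict_base_coe _ _ _) hy)⟩

end Groth.Agent.VarietyLib
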