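import Groth.Agent.DVRDom.Basic
import Mathlib

/-! Subrings of a field which are noetherian of dimension one (semilocal). -/

set_option autoImplicit false
universe u

noncomputable section

namespace Groth.Agent.VarietyLib.DimOne

open IsLocalRing

variable {K : Type u} [Field K]

theorem exists_div (B : Subring K) [IsFractionRing B K] (z : K) :
    ∃ a b : B, b ≠ 0 ∧ z = (a : K) / b := by
  obtain ⟨a, b, hb, h⟩ := IsFractionRing.div_surjective B z
  exact ⟨a, b, nonZeroDivisors.ne_zero hb, h.symm⟩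

theorem eq_top_of_isField (B : Subring K) [IsFractionRing B K] (R : Subring K) (hBR : B ≤ R)
    (h : IsField R) : R = ⊤ := by
  refine eq_top_iff.2 fun z _ => ?_
  obtain ⟨a, b, hb, rfl⟩ := exists_div B z
  obtain ⟨c, hc⟩ := h.mul_inv_cancel (a := (⟨b, hBR b.2⟩ : R))
    (fun h0 => hb (Subtype.ext (congrArg (Subtype.val (p := (· ∈ R))) h0)))
  have hc : (b : K) * c = 1 := congrArg Subtype.val hc
  rw [div_eq_mul_inv, inv_eq_of_mul_eq_one_right hc]
  exact R.mul_mem (hBR a.2) c.2

theorem isFractionRing_of_le (B : Subring K) [IsFractionRing B K] (R : Subring K) (hBR : B ≤ R) :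
    IsFractionRing R K := by
  refine IsFractionRing.of_field R K fun z => ?_
  obtain ⟨a, b, _, rfl⟩ := exists_div B z
  exact ⟨⟨a, hBR a.2⟩, ⟨b, hBR b.2⟩, rfl⟩

section DimOne

variable (B : Subring K) [IsFractionRing B K] [IsNoetherianRing B]

theorem not_isField (hdim : ringKrullDim B = 1) : ¬ IsField B := fun h => by
  rw [ringKrullDim_eq_zero_of_isField h] at hdim
  exact zero_ne_one hdim

theorem dimLEOne (hdim : ringKrullDim B = 1) : Ring.DimensionLEOne B := by
  have : Ring.KrullDimLE 1 B := by rw [Ring.krullDimLE_iff, hdim]; rfl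
  exact ⟨fun {p} hp0 hp => by
    rcases Ring.krullDimLE_one_iff.mp inferInstance p hp with h | h
    · rw [IsDomain.minimalPrimes_eq_singleton_bot, Set.mem_singleton_iff] at h
      exact absurd h hp0
    · exact h⟩

/-- Krull–Akizuki. -/
theorem isNoetherianRing_of_le (hdim : ringKrullDim B = 1) (R : Subring K) (hBR : B ≤ R) :
    IsNoetherianRing R := by
  have : Ring.KrullDimLE 1 B := by rw [Ring.krullDimLE_iff, hdim]; rfl
  letI : Algebra B R := (Subring.inclusion hBR).toAlgebra
  refine (isNoetherianRing_iff_ideal_fg _).mpr fun I => ?_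
  rcases eq_or_ne I ⊥ with rfl | hI
  · exact Submodule.fg_bot
  obtain ⟨w, hwI, hw0⟩ := Submodule.exists_mem_ne_zero_of_ne_bot hI
  obtain ⟨x, b, hb, hxb⟩ := exists_div B (w : K)
  have hbK : (b : K) ≠ 0 := fun h => hb (Subtype.ext h)
  have hx : (x : K) = (b : K) * w := by rw [hxb, mul_div_cancel₀ _ hbK]
  have hx0 : x ≠ 0 := fun h => by
    rw [h, ZeroMemClass.coe_zero, zero_eq_mul] at hx
    exact hw0 (Subtype.ext (hx.resolve_left hbK))
  have hxI : algebraMap B R x ∈ I := by
    have : algebraMap B R x = algebraMap B R b * w := Subtype.ext hx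
    rw [this]; exact I.mul_mem_left _ hwI
  let φ : R →ₗ[B] (Fin 1 → K) := LinearMap.pi fun _ =>
    { toFun := fun r => (r : K)
      map_add' := fun _ _ => rfl
      map_smul' := fun _ _ => rfl }
  have hφ : Function.Injective φ := fun a b hab => Subtype.ext (congrFun hab 0)
  have hfin := Groth.Agent.CAlgH.length_quot_ne_top (K := K) (r := 1) hx0 R φ hφ
  let xW : Submodule B R := Ideal.span {x} • ⊤
  have : IsNoetherian B (R ⧸ xW) := by
    have h := (Module.length_ne_top_iff (R := B) (M := R ⧸ xW)).mp hfin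
    exact (isFiniteLength_iff_isNoetherian_isArtinian.mp h).1
  let IB : Submodule B R := I.restrictScalars B
  obtain ⟨s, hs⟩ : (IB.map xW.mkQ).FG := IsNoetherian.noetherian _
  classical
  have hsI : ∀ q ∈ s, ∃ v ∈ I, xW.mkQ v = q := fun q hq => by
    have : q ∈ IB.map xW.mkQ := hs ▸ Submodule.subset_span hq
    obtain ⟨v, hv, rfl⟩ := this
    exact ⟨v, hv, rfl⟩
  choose g hg hgq using hsI
  refine ⟨insert (algebraMap B R x) (s.attach.image fun q => g q.1 q.2), le_antisymm ?_ fun v hv => ?_⟩
  · rw [Submodule.span_le]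
    intro z hz
    simp only [Finset.coe_insert, Finset.coe_image, Set.mem_insert_iff, Set.mem_image] at hz
    rcases hz with rfl | ⟨q, -, rfl⟩
    · exact hxI
    · exact hg _ _
  · set G := insert (algebraMap B R x) (s.attach.image fun q => g q.1 q.2)
    let J : Ideal R := Ideal.span (G : Set R)
    change v ∈ J
    have hq : xW.mkQ v ∈ (J.restrictScalars B).map xW.mkQ := by
      have hmem : xW.mkQ v ∈ Submodule.span B (s : Set (R ⧸ xW)) := hs ▸ ⟨v, hv, rfl⟩
      refine (Submodule.span_le (p := (J.restrictScalars B).map xW.mkQ)).mpr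
        (fun q hq => ⟨g q hq, Ideal.subset_span ?_, hgq q hq⟩) hmem
      exact Finset.mem_insert_of_mem (Finset.mem_image.mpr ⟨⟨q, hq⟩, Finset.mem_attach _ _, rfl⟩)
    obtain ⟨j, hj, hjv⟩ := hq
    have hd : j - v ∈ xW := (Submodule.Quotient.eq xW).mp hjv
    simp only [xW, Submodule.ideal_span_singleton_smul] at hd
    obtain ⟨y, -, hy⟩ := (Submodule.mem_smul_pointwise_iff_exists _ _ _).mp hd
    have hv' : v = j - algebraMap B R x * y := by
      rw [← Algebra.smul_def, hy]; abel
    rw [hv']
    exact J.sub_mem hj (J.mul_mem_right y (Ideal.subset_span (Finset.mem_insert_self _ _)))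

theorem isDVR_of_le (hdim : ringKrullDim B = 1) (O : ValuationSubring K) (hBO : B ≤ O.toSubring)
    (hO : O ≠ ⊤) : IsDiscreteValuationRing O := by
  have : IsNoetherianRing O := isNoetherianRing_of_le B hdim O.toSubring hBO
  have hf : ¬ IsField O := fun h =>
    hO (ValuationSubring.toSubring_injective (eq_top_of_isField B O.toSubring hBO h))
  exact ((IsDiscreteValuationRing.TFAE O hf).out 1 0 (a := ValuationRing O)
    (b := IsDiscreteValuationRing O) rfl rfl).1 inferInstance

theorem integral_mem (O : ValuationSubring K) (hBO : B ≤ O.toSubring) {z : K} (hz : IsIntegral B z) :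
    z ∈ O := by
  letI : Algebra B O.toSubring := (Subring.inclusion hBO).toAlgebra
  have : IsScalarTower B O.toSubring K := .of_algebraMap_eq fun _ => rfl
  exact LocalSubring.mem_of_isMax_of_isIntegral O.isMax_toLocalSubring
    (hz.tower_top (A := O.toSubring) : IsIntegral O.toLocalSubring.toSubring z)

theorem mem_integralClosure_iff (z : K) :
    z ∈ integralClosure B K ↔ ∀ O : ValuationSubring K, B ≤ O.toSubring → z ∈ O := by
  refine ⟨fun h O hO => integral_mem B O hO h, fun h => ?_⟩
  by_contra hz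
  obtain ⟨V, hV, hzV⟩ := Subring.exists_le_valuationSubring_of_isIntegrallyClosedIn
    (R := (integralClosure B K).toSubring) hz
  exact hzV (h V fun b hb => hV ((integralClosure B K).algebraMap_mem ⟨b, hb⟩))

theorem exists_valuationSubring_of_isPrime (P : Ideal B) [P.IsPrime] :
    ∃ O : ValuationSubring K, B ≤ O.toSubring ∧ ∀ b : B, (b : K) ∈ O.nonunits ↔ b ∈ P := by
  obtain ⟨O, hO⟩ := (LocalSubring.ofPrime B P).exists_le_valuationSubring
  refine ⟨O, (LocalSubring.le_ofPrime B P).trans hO.1, fun b => ?_⟩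
  let R := LocalSubring.ofPrime B P
  let b' : R.toSubring := ⟨b, LocalSubring.le_ofPrime B P b.2⟩
  have h1 : (b : K) ∈ O.nonunits ↔ ¬ IsUnit b' := by
    rw [ValuationSubring.mem_nonunits_iff_exists_mem_maximalIdeal]
    constructor
    · rintro ⟨h, hb⟩ hu
      exact (mem_maximalIdeal _).1 hb (hu.map (Subring.inclusion hO.1))
    · intro hu
      exact ⟨hO.1 b'.2, (mem_maximalIdeal _).2 fun h => hu (hO.2.1 b' h)⟩
  rw [h1, ← mem_nonunits_iff, ← mem_maximalIdeal]
  exact IsLocalization.AtPrime.to_map_mem_maximal_iff (R := B) R.toSubring P b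

theorem ne_top_of_nonunit {O : ValuationSubring K} {z : K} (hz : z ∈ O.nonunits) (hz0 : z ≠ 0) :
    O ≠ ⊤ := by
  rintro rfl
  exact ((ValuationSubring.inv_mem_nonunits_iff _).1 (by rw [inv_inv]; exact hz)).resolve_left
    (inv_ne_zero hz0) (ValuationSubring.mem_top _)

theorem exists_nonzero_center (O : ValuationSubring K) (hBO : B ≤ O.toSubring) (hO : O ≠ ⊤) :
    ∃ b : B, b ≠ 0 ∧ (b : K) ∈ O.nonunits := by
  by_contra h
  push Not at h
  apply hO
  refine eq_top_iff.2 fun z _ => ?_
  obtain ⟨a, b, hb, rfl⟩ := exists_div B z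
  rw [div_eq_mul_inv]
  refine O.mul_mem _ _ (hBO a.2) (by_contra fun hi => h b hb ?_)
  simpa using (ValuationSubring.inv_mem_nonunits_iff _).2 (Or.inr hi)

/-- `z` lies in the Jacobson radical of the integral closure, in terms of valuation rings. -/
def InJac (z : K) : Prop :=
  ∀ O : ValuationSubring K, B ≤ O.toSubring → O ≠ ⊤ → z ∈ O.nonunits

theorem InJac.mem_integralClosure {z : K} (h : InJac B z) : z ∈ integralClosure B K := by
  rw [mem_integralClosure_iff]
  intro O hO
  by_cases ht : O = ⊤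
  · rw [ht]; trivial
  · exact O.nonunits_subset (h O hO ht)

theorem inJac_of_mem_jacobson (hdim : ringKrullDim B = 1) (b : B)
    (hb : b ∈ (⊥ : Ideal B).jacobson) : InJac B (b : K) := by
  intro O hBO hO
  have := dimLEOne B hdim
  let P : Ideal B := (maximalIdeal O).comap (Subring.inclusion hBO)
  have hP : P ≠ ⊥ := fun h => by
    obtain ⟨c, hc0, hc⟩ := exists_nonzero_center B O hBO hO
    obtain ⟨hcO, hcm⟩ := ValuationSubring.mem_nonunits_iff_exists_mem_maximalIdeal.1 hc
    have hcP : c ∈ P := hcm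
    rw [h, Submodule.mem_bot] at hcP
    exact hc0 hcP
  have hPm : P.IsMaximal := Ring.DimensionLEOne.maximalOfPrime hP (Ideal.comap_isPrime _ _)
  have : b ∈ P := (Ideal.mem_sInf.1 hb) ⟨bot_le, hPm⟩
  exact ValuationSubring.mem_nonunits_iff_exists_mem_maximalIdeal.2 ⟨hBO b.2, this⟩

theorem jacobson_of_inJac (hdim : ringKrullDim B = 1) (b : B) (h : InJac B (b : K)) :
    b ∈ (⊥ : Ideal B).jacobson := by
  rw [Ideal.jacobson, Ideal.mem_sInf]
  rintro P ⟨-, hP⟩
  obtain ⟨O, hBO, hOP⟩ := exists_valuationSubring_of_isPrime B P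
  have hP0 : P ≠ ⊥ := fun h0 => not_isField B hdim
    (Ring.isField_iff_maximal_bot.2 (h0 ▸ hP))
  obtain ⟨c, hc, hc0⟩ := Submodule.exists_mem_ne_zero_of_ne_bot hP0
  exact (hOP b).1 (h O hBO (ne_top_of_nonunit ((hOP c).2 hc) fun h => hc0 (Subtype.ext h)))

/-- A high power of an element of the Jacobson radical of the integral closure lies in every
nonzero ideal of every intermediate ring. -/
theorem exists_pow_mem (hdim : ringKrullDim B = 1) {x : K} (hx : InJac B x) (z : K) :
    ∃ N : ℕ, ∀ n ≥ N, x ^ n * z ∈ B := by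
  have hxi : IsIntegral B x := InJac.mem_integralClosure B hx
  let B' := Algebra.adjoin B ({x} : Set K)
  have : Module.Finite B B' := Module.Finite.iff_fg.2 hxi.fg_adjoin_singleton
  obtain ⟨s, hs⟩ := (inferInstance : Module.Finite B B').fg_top
  classical
  obtain ⟨⟨c, hc⟩, hcs⟩ := IsLocalization.exist_integer_multiples_of_finset (nonZeroDivisors B)
    (insert z (s.image (fun v : B' => (v : K) * z)))
  have hc0 : c ≠ 0 := nonZeroDivisors.ne_zero hc
  let J : Ideal B' :=
    { carrier := {v | ∀ w : B', ((v : K) * w) * z ∈ B}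
      add_mem' := fun {a b} ha hb w => by
        rw [Subalgebra.coe_add, add_mul, add_mul]; exact B.add_mem (ha w) (hb w)
      zero_mem' := fun w => by simp [B.zero_mem]
      smul_mem' := fun a v hv w => by
        rw [smul_eq_mul, Subalgebra.coe_mul, mul_comm (a : K), mul_assoc (v : K)]
        exact hv (a * w) }
  have hcJ : algebraMap B B' c ∈ J := by
    intro w
    change ((c : K) * w) * z ∈ B
    have hw : w ∈ Submodule.span B (s : Set B') := hs ▸ Submodule.mem_top
    induction hw using Submodule.span_induction with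
    | mem v hv =>
      obtain ⟨y, hy⟩ := hcs ((v : K) * z) (Finset.mem_insert_of_mem (Finset.mem_image_of_mem _ hv))
      have hy : (y : K) = (c : K) * ((v : K) * z) := hy
      rw [mul_assoc, ← hy]; exact y.2
    | zero => simp [B.zero_mem]
    | add a b _ _ ha hb => rw [Subalgebra.coe_add, mul_add, add_mul]; exact B.add_mem ha hb
    | smul r a _ ha =>
      have : (c : K) * ((r • a : B') : K) * z = (r : K) * ((c : K) * a * z) := by
        change (c : K) * ((r : K) * (a : K)) * z = _
        ring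
      rw [this]; exact B.mul_mem r.2 ha
  let x' : B' := ⟨x, Algebra.self_mem_adjoin_singleton _ _⟩
  have hxJ : x' ∈ J.radical := by
    rw [Ideal.radical_eq_sInf, Ideal.mem_sInf]
    rintro P ⟨hJP, hP⟩
    have hBB : B ≤ B'.toSubring := fun b hb => B'.algebraMap_mem ⟨b, hb⟩
    have : IsFractionRing B'.toSubring K := isFractionRing_of_le B _ hBB
    have : IsNoetherianRing B'.toSubring := isNoetherianRing_of_le B hdim _ hBB
    obtain ⟨O, hBO, hOP⟩ := exists_valuationSubring_of_isPrime B'.toSubring P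
    have hcn : (c : K) ∈ O.nonunits := (hOP (algebraMap B B' c)).2 (hJP hcJ)
    exact (hOP x').1 (hx O (hBB.trans hBO) (ne_top_of_nonunit hcn fun h => hc0 (Subtype.ext h)))
  obtain ⟨N, hN⟩ := hxJ
  refine ⟨N, fun n hn => ?_⟩
  have := hN (x' ^ (n - N))
  simp only [SubmonoidClass.coe_pow, x', ← pow_add] at this
  rwa [Nat.add_sub_cancel' hn] at this

theorem exists_pow_inJac (hdim : ringKrullDim B = 1) {x : K} (hx : InJac B x) :
    ∃ N : ℕ, ∀ n ≥ N, ∃ h : x ^ n ∈ B, (⟨x ^ n, h⟩ : B) ∈ (⊥ : Ideal B).jacobson := by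
  obtain ⟨N, hN⟩ := exists_pow_mem B hdim hx 1
  refine ⟨N + 1, fun n hn => ?_⟩
  have h : x ^ n ∈ B := by simpa using hN n (by omega)
  refine ⟨h, jacobson_of_inJac B hdim _ fun O hBO hO => ?_⟩
  rw [ValuationSubring.mem_nonunits_iff_exists_mem_maximalIdeal]
  obtain ⟨hxO, hxm⟩ := ValuationSubring.mem_nonunits_iff_exists_mem_maximalIdeal.1 (hx O hBO hO)
  exact ⟨hBO h, (Ideal.pow_mem_of_mem _ hxm n (by omega) : (⟨x, hxO⟩ : O) ^ n ∈ maximalIdeal O)⟩

theorem isDedekindDomain_integralClosure (hdim : ringKrullDim B = 1) :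
    IsDedekindDomain (integralClosure B K) := by
  have := dimLEOne B hdim
  have : IsNoetherianRing (integralClosure B K) :=
    isNoetherianRing_of_le B hdim (integralClosure B K).toSubring
      fun b hb => (integralClosure B K).algebraMap_mem ⟨b, hb⟩
  have : IsFractionRing (integralClosure B K) K :=
    isFractionRing_of_le B (integralClosure B K).toSubring
      fun b hb => (integralClosure B K).algebraMap_mem ⟨b, hb⟩
  have : IsIntegrallyClosed (integralClosure B K) :=
    (isIntegrallyClosed_iff_isIntegrallyClosedIn K).2 inferInstance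
  have : Ring.DimensionLEOne (integralClosure B K) := inferInstance
  exact { }

theorem exists_ne_zero_inJac (hdim : ringKrullDim B = 1) (hsl : Finite (MaximalSpectrum B)) :
    ∃ d : B, d ≠ 0 ∧ d ∈ (⊥ : Ideal B).jacobson := by
  have : Fintype (MaximalSpectrum B) := Fintype.ofFinite _
  have hne : ∀ M : MaximalSpectrum B, ∃ b : B, b ∈ M.asIdeal ∧ b ≠ 0 := fun M =>
    Submodule.exists_mem_ne_zero_of_ne_bot fun h0 => not_isField B hdim
      (Ring.isField_iff_maximal_bot.2 (h0 ▸ M.isMaximal))
  choose b hb hb0 using hne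
  refine ⟨∏ M, b M, Finset.prod_ne_zero_iff.2 fun M _ => hb0 M, ?_⟩
  rw [Ideal.jacobson, Ideal.mem_sInf]
  rintro P ⟨-, hP⟩
  exact Ideal.prod_mem (i := (⟨P, hP⟩ : MaximalSpectrum B)) P (Finset.mem_univ _) (hb ⟨P, hP⟩)

theorem finite_maximalSpectrum_integralClosure (hdim : ringKrullDim B = 1)
    (hsl : Finite (MaximalSpectrum B)) : Finite (MaximalSpectrum (integralClosure B K)) := by
  have := isDedekindDomain_integralClosure B hdim
  obtain ⟨d, hd0, hd⟩ := exists_ne_zero_inJac B hdim hsl
  let d' : integralClosure B K := algebraMap B _ d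
  have hd' : d' ≠ 0 := fun h => hd0 (Subtype.ext (congrArg (fun v : integralClosure B K => (v : K)) h))
  have hne : Ideal.span {d'} ≠ (0 : Ideal (integralClosure B K)) := by simpa using hd'
  have hfin := Ideal.finite_factors hne
  have hmem : ∀ M : MaximalSpectrum (integralClosure B K), d' ∈ M.asIdeal := fun M => by
    have := Ideal.isMaximal_comap_of_isIntegral_of_isMaximal (R := B) M.asIdeal
    exact (Ideal.mem_sInf.1 hd) ⟨bot_le, this⟩
  have := hfin.to_subtype
  refine Finite.of_injective (fun M : MaximalSpectrum (integralClosure B K) =>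
    (⟨⟨M.asIdeal, M.isMaximal.isPrime, fun h0 => hd' (Submodule.mem_bot _ |>.1 (h0 ▸ hmem M))⟩,
      Ideal.dvd_iff_le.2 ((Ideal.span_singleton_le_iff_mem _).2 (hmem M))⟩ :
        {v : IsDedekindDomain.HeightOneSpectrum (integralClosure B K) | v.asIdeal ∣ Ideal.span {d'}})) ?_
  intro M N h
  exact MaximalSpectrum.ext (congrArg (fun v => v.1.asIdeal) h)

theorem finite_valuationSubrings (hdim : ringKrullDim B = 1) (hsl : Finite (MaximalSpectrum B)) :
    {O : ValuationSubring K | B ≤ O.toSubring ∧ O ≠ ⊤}.Finite := by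
  have := isDedekindDomain_integralClosure B hdim
  have := finite_maximalSpectrum_integralClosure B hdim hsl
  let W := integralClosure B K
  have hW : ∀ O : ValuationSubring K, B ≤ O.toSubring → ∀ w : W, (w : K) ∈ O.toSubring :=
    fun O hO w => integral_mem B O hO w.2
  let Q : ∀ O : ValuationSubring K, B ≤ O.toSubring → Ideal W := fun O hO =>
    (maximalIdeal O).comap ((W.toSubring.subtype).codRestrict O.toSubring (hW O hO) : W →+* O)
  have hQ0 : ∀ O hO, O ≠ ⊤ → Q O hO ≠ ⊥ := fun O hO ht h => by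
    obtain ⟨c, hc0, hc⟩ := exists_nonzero_center B O hO ht
    obtain ⟨hcO, hcm⟩ := ValuationSubring.mem_nonunits_iff_exists_mem_maximalIdeal.1 hc
    have : algebraMap B W c ∈ Q O hO := hcm
    rw [h, Submodule.mem_bot] at this
    exact hc0 (Subtype.ext (congrArg (fun v : W => (v : K)) this))
  have hle : ∀ O O' hO hO', O ≠ ⊤ → Q O hO = Q O' hO' → O ≤ O' := by
    intro O O' hO hO' ht h z hz
    have : (Q O hO).IsPrime := Ideal.comap_isPrime _ _
    have hL := IsLocalization.AtPrime.isDiscreteValuationRing_of_dedekind_domain W (hQ0 O hO ht)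
      (Localization.AtPrime (Q O hO))
    have : IsFractionRing W K :=
      isFractionRing_of_le B W.toSubring fun b hb => W.algebraMap_mem ⟨b, hb⟩
    obtain ⟨a, b, hb, hab⟩ := IsFractionRing.div_surjective W z
    have hb : (b : K) ≠ 0 := fun h => nonZeroDivisors.ne_zero hb (Subtype.ext h)
    have hab : z = (a : K) / b := hab.symm
    have hdom : IsDomain (Localization.AtPrime (Q O hO)) :=
      IsLocalization.isDomain_localization (Q O hO).primeCompl_le_nonZeroDivisors
    have hVR : ValuationRing (Localization.AtPrime (Q O hO)) :=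
      ValuationRing.iff_local_bezout_domain.2 ⟨inferInstance, inferInstance⟩
    rcases (ValuationRing.iff_dvd_total.1 hVR).total (algebraMap W (Localization.AtPrime (Q O hO)) b)
      (algebraMap W _ a) with ⟨q, hq⟩ | ⟨q, hq⟩ <;>
    obtain ⟨⟨c, s⟩, hcs⟩ := IsLocalization.surj (Q O hO).primeCompl q
    · have he : a * (s : W) = b * c :=
        IsLocalization.injective (Localization.AtPrime (Q O hO))
          (Q O hO).primeCompl_le_nonZeroDivisors (by rw [map_mul, map_mul, hq, mul_assoc, hcs])
      have he : (a : K) * (s : W) = b * c := congrArg Subtype.val he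
      have hs : IsUnit (⟨((s : W) : K), hW O' hO' s⟩ : O') :=
        not_not.1 fun hu => s.2 ((SetLike.ext_iff.1 h _).2 ((mem_maximalIdeal _).2 hu))
      obtain ⟨v, hv⟩ := isUnit_iff_exists_inv.1 hs
      have hv : ((s : W) : K) * v = 1 := congrArg Subtype.val hv
      have : z = (c : K) * v := by
        rw [hab, div_eq_iff hb]
        linear_combination (v : K) * he - (a : K) * hv
      rw [this]; exact O'.mul_mem _ _ (hW O' hO' c) v.2
    · have he : b * (s : W) = a * c :=
        IsLocalization.injective (Localization.AtPrime (Q O hO))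
          (Q O hO).primeCompl_le_nonZeroDivisors (by rw [map_mul, map_mul, hq, mul_assoc, hcs])
      have he : (b : K) * (s : W) = a * c := congrArg Subtype.val he
      have hzc : ((s : W) : K) = z * c := by
        rw [hab, div_mul_eq_mul_div, ← he, mul_div_cancel_left₀ _ hb]
      have hc : c ∉ Q O hO := fun hc => s.2 (by
        have := (maximalIdeal O).mul_mem_left (⟨z, hz⟩ : O) hc
        change (⟨((s : W) : K), hW O hO s⟩ : O) ∈ maximalIdeal O
        convert this using 1
        exact Subtype.ext hzc)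
      have hc' : IsUnit (⟨(c : K), hW O' hO' c⟩ : O') :=
        not_not.1 fun hu => hc (by rw [h]; exact (mem_maximalIdeal _).2 hu)
      obtain ⟨v, hv⟩ := isUnit_iff_exists_inv.1 hc'
      have hv : (c : K) * v = 1 := congrArg Subtype.val hv
      have : z = ((s : W) : K) * v := by rw [hzc, mul_assoc, hv, mul_one]
      rw [this]; exact O'.mul_mem _ _ (hW O' hO' _) v.2
  rw [← Set.finite_coe_iff]
  refine Finite.of_injective (fun O : {O : ValuationSubring K | B ≤ O.toSubring ∧ O ≠ ⊤} =>
    (⟨Q O.1 O.2.1, Ring.DimensionLEOne.maximalOfPrime (hQ0 _ O.2.1 O.2.2) (Ideal.comap_isPrime _ _)⟩ :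
      MaximalSpectrum W)) ?_
  intro O O' h
  have h' : Q O.1 O.2.1 = Q O'.1 O'.2.1 := congrArg MaximalSpectrum.asIdeal h
  exact Subtype.ext (le_antisymm (hle _ _ O.2.1 O'.2.1 O.2.2 h') (hle _ _ O'.2.1 O.2.1 O'.2.2 h'.symm))

end DimOne

theorem exists_valuationSubring_of_ne_top (R : Subring K) [IsFractionRing R K] (hR : R ≠ ⊤) :
    ∃ O : ValuationSubring K, O ≠ ⊤ ∧ R ≤ O.toSubring := by
  have hf : ¬ IsField R := fun h => hR (eq_top_of_isField R R le_rfl h)
  obtain ⟨x, hx0, hxu⟩ := Ring.exists_not_isUnit_of_not_isField hf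
  obtain ⟨O, hO, hI⟩ := Ideal.image_subset_nonunits_valuationSubring (Ideal.span {x})
    (fun h => hxu (Ideal.span_singleton_eq_top.1 h))
  exact ⟨O, ne_top_of_nonunit (hI ⟨x, Ideal.mem_span_singleton_self x, rfl⟩)
    fun h => hx0 (Subtype.ext h), hO⟩

/-- A subring not contained in any of finitely many valuation rings has an element outside all. -/
theorem exists_mem_notMem (A : Subring K) (S : Finset (ValuationSubring K))
    (h : ∀ O ∈ S, ¬ A ≤ O.toSubring) : ∃ x ∈ A, x ≠ 0 ∧ ∀ O ∈ S, x ∉ O := by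
  classical
  induction S using Finset.induction_on with
  | empty => exact ⟨1, A.one_mem, one_ne_zero, by simp⟩
  | insert P S hPS ih =>
    obtain ⟨x, hxA, hx0, hx⟩ := ih fun O hO => h O (Finset.mem_insert_of_mem hO)
    by_cases hxP : x ∈ P
    · obtain ⟨y, hyA, hyP⟩ := SetLike.not_le_iff_exists.1 (h P (Finset.mem_insert_self _ _))
      have hyP : y ∉ P := hyP
      have hsub : ∀ O ∈ S, {n : ℕ | x ^ n + y ∈ O}.Subsingleton := by
        intro O hO
        suffices ∀ m n : ℕ, m < n → x ^ m + y ∈ O → x ^ n + y ∈ O → False by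
          intro m hm n hn
          by_contra hne
          rcases lt_or_gt_of_ne hne with hlt | hlt
          exacts [this m n hlt hm hn, this n m hlt hn hm]
        intro m n hmn hm hn
        have hx' : x⁻¹ ∈ O.nonunits := (ValuationSubring.inv_mem_nonunits_iff _).2 (.inr (hx O hO))
        obtain ⟨hi, him⟩ := ValuationSubring.mem_nonunits_iff_exists_mem_maximalIdeal.1 hx'
        have hd : x ^ n - x ^ m ∈ O := by
          simpa using O.toSubring.sub_mem hn hm
        have hu : IsUnit (1 - (⟨x⁻¹, hi⟩ : O) ^ (n - m)) := not_not.1 fun hu =>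
          (maximalIdeal.isMaximal O).ne_top (Ideal.eq_top_iff_one _ |>.2 (by
            have := (maximalIdeal O).add_mem ((mem_maximalIdeal _).2 hu)
              (Ideal.pow_mem_of_mem _ him (n - m) (by omega))
            simpa using this))
        obtain ⟨v, hv⟩ := isUnit_iff_exists_inv.1 hu
        have hv : (1 - x⁻¹ ^ (n - m)) * (v : K) = 1 := congrArg Subtype.val hv
        have hn' : x ^ n ∈ O := by
          have : x ^ n = (x ^ n - x ^ m) * v := by
            have e : x ^ n - x ^ m = x ^ n * (1 - x⁻¹ ^ (n - m)) := by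
              rw [mul_sub, mul_one, inv_pow, ← pow_sub₀ x hx0 (by omega),
                Nat.sub_sub_self hmn.le]
            rw [e, mul_assoc, hv, mul_one]
          rw [this]; exact O.mul_mem _ _ hd v.2
        refine hx O hO ?_
        have : x = x ^ n * x⁻¹ ^ (n - 1) := by
          rw [inv_pow, ← pow_sub₀ x hx0 (by omega), Nat.sub_sub_self (by omega), pow_one]
        rw [this]; exact O.mul_mem _ _ hn' (O.toSubring.pow_mem hi _)
      obtain ⟨n, hn⟩ := Set.Finite.exists_notMem (α := ℕ)
        (s := ⋃ O ∈ S, {n : ℕ | x ^ n + y ∈ O})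
        (S.finite_toSet.biUnion fun O hO => (hsub O hO).finite)
      have hP : x ^ n + y ∉ P := fun hc => hyP (by
        simpa using P.toSubring.sub_mem hc (P.toSubring.pow_mem hxP n))
      refine ⟨x ^ n + y, A.add_mem (A.pow_mem hxA n) hyA, fun h0 => hP (h0 ▸ P.zero_mem), ?_⟩
      intro O hO
      rcases Finset.mem_insert.1 hO with rfl | hO
      · exact hP
      · exact fun hc => hn (Set.mem_iUnion₂.2 ⟨O, hO, hc⟩)
    · exact ⟨x, hxA, hx0, fun O hO => by
        rcases Finset.mem_insert.1 hO with rfl | hO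
        exacts [hxP, hx O hO]⟩

theorem exists_inv_mem_jacobson (A : Subring K) [IsFractionRing A K] {ι : Type*} [Finite ι]
    (B : ι → Subring K) [∀ i, IsNoetherianRing (B i)] [∀ i, IsFractionRing (B i) K]
    (hdim : ∀ i, ringKrullDim (B i) = 1) (hsl : ∀ i, Finite (MaximalSpectrum (B i)))
    (hgen : ∀ i, A ⊔ B i = ⊤) :
    ∃ x : K, x ∈ A ∧ x ≠ 0 ∧
      ∀ i, ∃ hx : x⁻¹ ∈ B i, (⟨x⁻¹, hx⟩ : B i) ∈ (⊥ : Ideal (B i)).jacobson := by
  have hfin : (⋃ i, {O : ValuationSubring K | B i ≤ O.toSubring ∧ O ≠ ⊤}).Finite :=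
    Set.finite_iUnion fun i => finite_valuationSubrings (B i) (hdim i) (hsl i)
  obtain ⟨x, hxA, hx0, hx⟩ := exists_mem_notMem A hfin.toFinset fun O hO hAO => by
    obtain ⟨i, hBO, hne⟩ := Set.mem_iUnion.1 (hfin.mem_toFinset.1 hO)
    exact hne (ValuationSubring.toSubring_injective
      (top_le_iff.1 (hgen i ▸ sup_le hAO hBO)))
  have hJ : ∀ i, InJac (B i) x⁻¹ := fun i O hO ht => (ValuationSubring.inv_mem_nonunits_iff _).2
    (.inr (hx O (hfin.mem_toFinset.2 (Set.mem_iUnion.2 ⟨i, hO, ht⟩))))
  choose N hN using fun i => exists_pow_inJac (B i) (hdim i) (hJ i)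
  have : Fintype ι := Fintype.ofFinite _
  refine ⟨x ^ (∑ i, N i), A.pow_mem hxA _, pow_ne_zero _ hx0, fun i => ?_⟩
  simp only [← inv_pow]
  exact hN i _ (Finset.single_le_sum (fun j _ => Nat.zero_le (N j)) (Finset.mem_univ i))

end Groth.Agent.VarietyLib.DimOne
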