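import Groth.Prelude.Def_Curv2
import Groth.Agent.NormalizationLib.Basic

/-! Stalks of the normalization of an integral scheme: integral closures of the local rings in the function field. -/

set_option autoImplicit false
set_option backward.isDefEq.respectTransparency.types false

universe u

namespace Groth.Agent.VarietyLib.NormStalk

open CategoryTheory CategoryTheory.Limits AlgebraicGeometry TopologicalSpace IsLocalRing Opposite
open Groth.Agent.NormalizationLib

variable (X : Scheme.{u}) [AlgebraicGeometry.IsIntegral X]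
  [QuasiCompact (X.fromSpecStalk (genericPoint X))] [QuasiSeparated (X.fromSpecStalk (genericPoint X))]

local notation "gK" => (X.fromSpecStalk (genericPoint X))
local notation "N" => Curv2.normalization X
local notation "ν" => Curv2.normalizationι X
local notation "K" => X.functionField

theorem hg : gK = Spec.map (CommRingCat.ofHom (RingHom.id K)) ≫ gK := by
  rw [show CommRingCat.ofHom (RingHom.id K) = 𝟙 _ from rfl, Spec.map_id, Category.id_comp]

instance : AlgebraicGeometry.IsIntegral N := inferInstanceAs (AlgebraicGeometry.IsIntegral (gK).normalization)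
instance : IsAffineHom ν := inferInstanceAs (IsAffineHom (gK).fromNormalization)
instance : IsIntegralHom ν := inferInstanceAs (IsIntegralHom (gK).fromNormalization)

/-- The image of the generic point in the normalization. -/
noncomputable def z0 : N := (gK).toNormalization (closedPoint (X.presheaf.stalk (genericPoint X)))

theorem z0_mem (W : X.Opens) [Nonempty W] : z0 X ∈ ν ⁻¹ᵁ W :=
  toNormalization_mem (RingHom.id K) gK (hg X) W

theorem z0_specializes (x' : N) : z0 X ⤳ x' := by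
  show (gK).toNormalization (closedPoint _) ⤳ x'
  erw [toNormalization_closedPoint (gK)]
  exact genericPoint_specializes x'

/-- The function field of the normalization is that of `X`. -/
noncomputable def toFF : (N).presheaf.stalk (z0 X) →+* K :=
  (Scheme.stalkClosedPointTo (gK).toNormalization).hom

theorem toFF_injective : Function.Injective (toFF X) :=
  injective_stalkClosedPointTo (RingHom.id K) gK (hg X)

/-- Functions on the normalization over `W` as rational functions. -/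
noncomputable def sec (W : X.Opens) [Nonempty W] : Γ(N, ν ⁻¹ᵁ W) →+* K :=
  (toFF X).comp ((N).presheaf.germ (ν ⁻¹ᵁ W) (z0 X) (z0_mem X W)).hom

theorem sec_injective (W : X.Opens) [Nonempty W] : Function.Injective (sec X W) :=
  (toFF_injective X).comp (germ_injective_of_isIntegral _ _ _)

theorem sec_res {V W : X.Opens} [Nonempty V] [Nonempty W] (i : V ≤ W) (b : Γ(N, ν ⁻¹ᵁ W)) :
    sec X V ((N).presheaf.map (homOfLE ((ν).preimage_mono i)).op b) = sec X W b :=
  congrArg (toFF X) ((N).presheaf.germ_res_apply (homOfLE ((ν).preimage_mono i)) (z0 X) (z0_mem X V) b)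

theorem sec_eq_normToK {U : X.Opens} (hU : IsAffineOpen U) [Nonempty U] (b : Γ(N, ν ⁻¹ᵁ U)) :
    sec X U b = (normToK (RingHom.id K) gK (hg X) U hU).hom b :=
  ConcreteCategory.congr_hom (germ_stalkClosedPointTo_toNormalization (RingHom.id K) gK (hg X) U hU) b

theorem exists_affine_le {W : X.Opens} {x : X} (hx : x ∈ W) :
    ∃ V : X.Opens, IsAffineOpen V ∧ x ∈ V ∧ V ≤ W := by
  obtain ⟨_, ⟨V, hV, rfl⟩, hxV, hVW⟩ := X.isBasis_affineOpens.exists_subset_of_mem_open hx W.isOpen
  exact ⟨V, hV, hxV, hVW⟩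

theorem sec_app (W : X.Opens) [hW : Nonempty W] (a : Γ(X, W)) :
    sec X W ((ν).app W a) = X.germToFunctionField W a := by
  obtain ⟨⟨x, hx⟩⟩ := hW
  obtain ⟨V, hV, hxV, hVW⟩ := exists_affine_le X hx
  haveI : Nonempty W := ⟨⟨x, hx⟩⟩
  haveI : Nonempty V := ⟨⟨x, hxV⟩⟩
  rw [← sec_res X hVW, sec_eq_normToK X hV]
  have e : (N).presheaf.map (homOfLE ((ν).preimage_mono hVW)).op ((ν).app W a) =
      (ν).app V (X.presheaf.map (homOfLE hVW).op a) :=
    (ConcreteCategory.congr_hom ((ν).naturality (homOfLE hVW).op) a).symm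
  rw [e]
  refine (normToK_fromNormalization (RingHom.id K) gK (hg X) V hV _).trans ?_
  exact X.presheaf.germ_res_apply (homOfLE hVW) (genericPoint X) _ a

theorem mem_range_sec {U : X.Opens} (hU : IsAffineOpen U) [Nonempty U] (y : K) :
    y ∈ Set.range (sec X U) ↔ (X.germToFunctionField U).hom.IsIntegralElem y := by
  have := mem_range_normToK (RingHom.id K) gK (hg X) U hU y
  refine Iff.trans ?_ this
  exact ⟨fun ⟨b, h⟩ => ⟨b, (sec_eq_normToK X hU b).symm.trans h⟩,
    fun ⟨b, h⟩ => ⟨b, (sec_eq_normToK X hU b).trans h⟩⟩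

theorem algebraMap_germ {W : X.Opens} (x : X) (hx : x ∈ W) [Nonempty W] (a : Γ(X, W)) :
    algebraMap (X.presheaf.stalk x) K (X.presheaf.germ W x hx a) = X.germToFunctionField W a :=
  X.presheaf.germ_stalkSpecializes_apply hx _ a

/-- The integral closure of the local ring in the function field. -/
noncomputable abbrev clo (x : X) : Subalgebra (X.presheaf.stalk x) K := integralClosure (X.presheaf.stalk x) K

variable {X}

theorem sec_mem_clo (x : X) {W : X.Opens} (hW : IsAffineOpen W) (hx : x ∈ W) [Nonempty W]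
    (b : Γ(N, ν ⁻¹ᵁ W)) : sec X W b ∈ clo X x := by
  obtain ⟨q, hq, hqb⟩ := (mem_range_sec X hW _).1 ⟨b, rfl⟩
  refine ⟨q.map (X.presheaf.germ W x hx).hom, hq.map _, ?_⟩
  rw [Polynomial.eval₂_map]
  convert hqb using 2
  exact RingHom.ext fun a => algebraMap_germ X x hx a

theorem exists_sec_of_mem_clo (x : X) {y : K} (hy : y ∈ clo X x) :
    ∃ (W : X.Opens) (hW : IsAffineOpen W) (hx : x ∈ W) (b : Γ(N, ν ⁻¹ᵁ W)),
      haveI : Nonempty W := ⟨⟨x, hx⟩⟩
      sec X W b = y := by
  obtain ⟨U, hU, hxU, -⟩ := exists_affine_le X (Opens.mem_top x)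
  haveI : Nonempty U := ⟨⟨x, hxU⟩⟩
  letI := (X.presheaf.germ U x hxU).hom.toAlgebra
  haveI := hU.isLocalization_stalk ⟨x, hxU⟩
  letI : Algebra Γ(X, U) K := (X.germToFunctionField U).hom.toAlgebra
  haveI : IsScalarTower Γ(X, U) (X.presheaf.stalk x) K :=
    IsScalarTower.of_algebraMap_eq fun a => (algebraMap_germ X x hxU a).symm
  obtain ⟨⟨s, hs⟩, q, hq, hqy⟩ := IsIntegral.exists_multiple_integral_of_isLocalization
    (hU.primeIdealOf ⟨x, hxU⟩).asIdeal.primeCompl y hy
  have hsu : IsUnit (X.presheaf.germ U x hxU s) :=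
    IsLocalization.map_units (X.presheaf.stalk x)
      (⟨s, hs⟩ : (hU.primeIdealOf ⟨x, hxU⟩).asIdeal.primeCompl)
  let W := X.basicOpen s
  have hW : IsAffineOpen W := hU.basicOpen s
  have hxW : x ∈ W := (X.mem_basicOpen s x hxU).2 hsu
  haveI : Nonempty W := ⟨⟨x, hxW⟩⟩
  have hres : ∀ a, X.germToFunctionField W (X.presheaf.map (homOfLE (X.basicOpen_le s)).op a) =
      X.germToFunctionField U a := fun a =>
    X.presheaf.germ_res_apply (homOfLE (X.basicOpen_le s)) (genericPoint X) _ a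
  obtain ⟨i, hi⟩ := isUnit_iff_exists_inv.1
    (RingedSpace.isUnit_res_basicOpen _ s : IsUnit (X.presheaf.map (homOfLE (X.basicOpen_le s)).op s))
  have h1 : (X.germToFunctionField W).hom.IsIntegralElem ((⟨s, hs⟩ :
      (hU.primeIdealOf ⟨x, hxU⟩).asIdeal.primeCompl) • y) := by
    refine ⟨q.map (X.presheaf.map (homOfLE (X.basicOpen_le s)).op).hom, hq.map _, ?_⟩
    rw [Polynomial.eval₂_map]
    convert hqy using 2
    exact RingHom.ext hres
  have h2 : (X.germToFunctionField W).hom.IsIntegralElem y := by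
    have h3 := h1.mul _ ((X.germToFunctionField W).hom.isIntegralElem_map (x := i))
    have e : ((⟨s, hs⟩ : (hU.primeIdealOf ⟨x, hxU⟩).asIdeal.primeCompl) • y) *
        (X.germToFunctionField W).hom i = y := by
      show algebraMap Γ(X, U) K s * y * (X.germToFunctionField W).hom i = y
      rw [mul_right_comm, show algebraMap Γ(X, U) K s = X.germToFunctionField U s from rfl, ← hres s]
      erw [← map_mul, hi, map_one, one_mul]
    exact e ▸ h3
  obtain ⟨b, hb⟩ := (mem_range_sec X hW _).2 h2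
  exact ⟨W, hW, hxW, b, hb⟩

variable (X) in
/-- A stalk of the normalization inside the function field. -/
noncomputable def stalkToFF (x' : N) : (N).presheaf.stalk x' →+* K :=
  (toFF X).comp ((N).presheaf.stalkSpecializes (z0_specializes X x')).hom

theorem stalkToFF_germ (x' : N) {W : X.Opens} [Nonempty W] (h : x' ∈ ν ⁻¹ᵁ W) (b : Γ(N, ν ⁻¹ᵁ W)) :
    stalkToFF X x' ((N).presheaf.germ (ν ⁻¹ᵁ W) x' h b) = sec X W b :=
  congrArg (toFF X) ((N).presheaf.germ_stalkSpecializes_apply h (z0_specializes X x') b)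

theorem stalkToFF_injective (x' : N) : Function.Injective (stalkToFF X x') := by
  refine (toFF_injective X).comp fun s t h => ?_
  obtain ⟨U, hxU, a, rfl⟩ := (N).presheaf.exists_germ_eq s
  obtain ⟨V, hxV, b, rfl⟩ := (N).presheaf.exists_germ_eq t
  have hz : z0 X ∈ U ⊓ V := (z0_specializes X x').mem_open (U ⊓ V).isOpen ⟨hxU, hxV⟩
  erw [TopCat.Presheaf.germ_stalkSpecializes_apply, TopCat.Presheaf.germ_stalkSpecializes_apply] at h
  rw [← (N).presheaf.germ_res_apply (homOfLE (inf_le_left : U ⊓ V ≤ U)) x' ⟨hxU, hxV⟩,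
    ← (N).presheaf.germ_res_apply (homOfLE (inf_le_right : U ⊓ V ≤ V)) x' ⟨hxU, hxV⟩]
  rw [← (N).presheaf.germ_res_apply (homOfLE (inf_le_left : U ⊓ V ≤ U)) (z0 X) hz,
    ← (N).presheaf.germ_res_apply (homOfLE (inf_le_right : U ⊓ V ≤ V)) (z0 X) hz] at h
  exact congrArg _ (germ_injective_of_isIntegral _ _ _ h)

section Point

variable (x : X) (x' : ↥(Curv2.normalization X)) (hx' : (Curv2.normalizationι X) x' = x)

include hx' in
theorem mem_range_stalkToFF {y : K} (hy : y ∈ clo X x) : y ∈ (stalkToFF X x').range := by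
  obtain ⟨W, hW, hxW, b, rfl⟩ := exists_sec_of_mem_clo x hy
  haveI : Nonempty W := ⟨⟨x, hxW⟩⟩
  have hb : x' ∈ ν ⁻¹ᵁ W := by show (ν) x' ∈ W; rw [hx']; exact hxW
  exact ⟨_, stalkToFF_germ x' hb b⟩

variable (X) in
/-- The stalk as a subring of the function field. -/
noncomputable def rangeEquiv (z : ↥(Curv2.normalization X)) :
    (Curv2.normalization X).presheaf.stalk z ≃+* (stalkToFF X z).range :=
  RingEquiv.ofBijective (stalkToFF X z).rangeRestrict
    ⟨fun _ _ h => stalkToFF_injective z (congrArg Subtype.val h),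
      (stalkToFF X z).rangeRestrict_surjective⟩

/-- The integral closure maps to every stalk over the point. -/
noncomputable def lam : clo X x →+* (Curv2.normalization X).presheaf.stalk x' :=
  (rangeEquiv X x').symm.toRingHom.comp
    ((clo X x).val.toRingHom.codRestrict (stalkToFF X x').range fun y => mem_range_stalkToFF x x' hx' y.2)

theorem stalkToFF_lam (c : clo X x) : stalkToFF X x' (lam x x' hx' c) = c :=
  congrArg Subtype.val ((rangeEquiv X x').apply_symm_apply ⟨(c : K), mem_range_stalkToFF x x' hx' c.2⟩)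

theorem lam_sec {W : X.Opens} (hW : IsAffineOpen W) (hx : x ∈ W) [Nonempty W] (h : x' ∈ ν ⁻¹ᵁ W)
    (b : Γ(N, ν ⁻¹ᵁ W)) :
    lam x x' hx' ⟨sec X W b, sec_mem_clo x hW hx b⟩ = (N).presheaf.germ (ν ⁻¹ᵁ W) x' h b :=
  stalkToFF_injective x' ((stalkToFF_lam x x' hx' _).trans (stalkToFF_germ x' h b).symm)

theorem lam_algebraMap {W : X.Opens} (hx : x ∈ W) (h : x' ∈ ν ⁻¹ᵁ W) (a : Γ(X, W)) :
    lam x x' hx' (algebraMap (X.presheaf.stalk x) (clo X x) (X.presheaf.germ W x hx a)) =
      (N).presheaf.germ (ν ⁻¹ᵁ W) x' h ((ν).app W a) := by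
  haveI : Nonempty W := ⟨⟨x, hx⟩⟩
  apply stalkToFF_injective x'
  rw [stalkToFF_lam, stalkToFF_germ, sec_app]
  exact algebraMap_germ X x hx a

/-- Evaluation of the integral closure at a point over `x`. -/
noncomputable def theta : clo X x →+* (N).residueField x' :=
  ((N).residue x').hom.comp (lam x x' hx')

theorem theta_apply_eq_zero_iff (c : clo X x) :
    theta x x' hx' c = 0 ↔ ¬ IsUnit (lam x x' hx' c) := by
  show IsLocalRing.residue _ _ = 0 ↔ _
  rw [IsLocalRing.residue_eq_zero_iff, IsLocalRing.mem_maximalIdeal]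
  rfl

theorem isUnit_lam_algebraMap_iff (o : X.presheaf.stalk x) :
    IsUnit (lam x x' hx' (algebraMap (X.presheaf.stalk x) (clo X x) o)) ↔ IsUnit o := by
  obtain ⟨W, hxW, a, rfl⟩ := X.presheaf.exists_germ_eq o
  have h : x' ∈ ν ⁻¹ᵁ W := by show (ν) x' ∈ W; rw [hx']; exact hxW
  rw [lam_algebraMap x x' hx' hxW h, ← (N).mem_basicOpen _ x' h, ← X.mem_basicOpen _ x hxW,
    ← Scheme.preimage_basicOpen]
  show (ν) x' ∈ X.basicOpen a ↔ _
  rw [hx']

theorem comap_ker_theta :
    (RingHom.ker (theta x x' hx')).comap (algebraMap (X.presheaf.stalk x) (clo X x)) =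
      IsLocalRing.maximalIdeal (X.presheaf.stalk x) := by
  ext o
  rw [Ideal.mem_comap, RingHom.mem_ker, theta_apply_eq_zero_iff, isUnit_lam_algebraMap_iff,
    IsLocalRing.mem_maximalIdeal]
  rfl

theorem isMaximal_ker_theta : (RingHom.ker (theta x x' hx')).IsMaximal := by
  haveI := RingHom.ker_isPrime (theta x x' hx')
  refine Ideal.isMaximal_of_isIntegral_of_isMaximal_comap (R := X.presheaf.stalk x) _ ?_
  rw [comap_ker_theta]
  infer_instance

theorem theta_surjective : Function.Surjective (theta x x' hx') := by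
  intro r
  obtain ⟨t, rfl⟩ := (N).residue_surjective x' r
  obtain ⟨U, hU, hxU, -⟩ := exists_affine_le X (Opens.mem_top x)
  haveI : Nonempty U := ⟨⟨x, hxU⟩⟩
  have h : x' ∈ ν ⁻¹ᵁ U := by show (ν) x' ∈ U; rw [hx']; exact hxU
  have hV : IsAffineOpen (ν ⁻¹ᵁ U) := hU.preimage _
  letI := ((N).presheaf.germ (ν ⁻¹ᵁ U) x' h).hom.toAlgebra
  haveI := hV.isLocalization_stalk ⟨x', h⟩
  obtain ⟨⟨b, s⟩, hbs⟩ := IsLocalization.surj (hV.primeIdealOf ⟨x', h⟩).asIdeal.primeCompl t
  let c (b : Γ(N, ν ⁻¹ᵁ U)) : clo X x := ⟨sec X U b, sec_mem_clo x hU hxU b⟩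
  have hc : ∀ b, theta x x' hx' (c b) = (N).residue x' ((N).presheaf.germ (ν ⁻¹ᵁ U) x' h b) :=
    fun b => congrArg _ (lam_sec x x' hx' hU hxU h b)
  have hs : c s.1 ∉ RingHom.ker (theta x x' hx') := by
    rw [RingHom.mem_ker, theta_apply_eq_zero_iff, not_not, lam_sec x x' hx' hU hxU h]
    exact IsLocalization.map_units ((N).presheaf.stalk x') s
  obtain ⟨d, i, hi, hdi⟩ := (isMaximal_ker_theta x x' hx').exists_inv hs
  refine ⟨c b * d, ?_⟩
  have h1 := congrArg (theta x x' hx') hdi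
  rw [map_add, RingHom.mem_ker.1 hi, add_zero, map_mul, map_one, hc, mul_comm] at h1
  rw [map_mul, hc]
  have h2 := congrArg ((N).residue x') hbs
  rw [map_mul] at h2
  erw [← h2, mul_assoc, h1, mul_one]

end Point

theorem mem_basicOpen_iff_notMem {Z : Scheme.{u}} {V : Z.Opens} (hV : IsAffineOpen V) {z : Z} (hz : z ∈ V)
    (f : Γ(Z, V)) : z ∈ Z.basicOpen f ↔ f ∉ (hV.primeIdealOf ⟨z, hz⟩).asIdeal := by
  have e := hV.fromSpec_primeIdealOf ⟨z, hz⟩
  have h2 : hV.primeIdealOf ⟨z, hz⟩ ∈ hV.fromSpec ⁻¹ᵁ Z.basicOpen f ↔ z ∈ Z.basicOpen f := by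
    show hV.fromSpec _ ∈ Z.basicOpen f ↔ _
    rw [e]
  rw [← h2, hV.fromSpec_preimage_basicOpen]
  rfl

variable (X) in
/-- The points over `x` as maximal ideals of the integral closure of the local ring. -/
noncomputable def fibreToMax (x : X) (p : {x' : N // (ν) x' = x}) : MaximalSpectrum (clo X x) :=
  ⟨RingHom.ker (theta x p.1 p.2), isMaximal_ker_theta x p.1 p.2⟩

theorem mem_basicOpen_iff_notMem_ker (x : X) {U : X.Opens} (hU : IsAffineOpen U) (hx : x ∈ U) [Nonempty U]
    (x' : N) (hx' : (ν) x' = x) (b : Γ(N, ν ⁻¹ᵁ U)) :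
    x' ∈ (N).basicOpen b ↔ (⟨sec X U b, sec_mem_clo x hU hx b⟩ : clo X x) ∉ RingHom.ker (theta x x' hx') := by
  have h : x' ∈ ν ⁻¹ᵁ U := by show (ν) x' ∈ U; rw [hx']; exact hx
  rw [RingHom.mem_ker, theta_apply_eq_zero_iff, not_not, lam_sec x x' hx' hU hx h, (N).mem_basicOpen b x' h]

theorem fibreToMax_bijective (x : X) : Function.Bijective (fibreToMax X x) := by
  classical
  obtain ⟨U, hU, hxU, -⟩ := exists_affine_le X (Opens.mem_top x)
  haveI : Nonempty U := ⟨⟨x, hxU⟩⟩
  have hV : IsAffineOpen (ν ⁻¹ᵁ U) := hU.preimage _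
  let c : Γ(N, ν ⁻¹ᵁ U) →+* clo X x := (sec X U).codRestrict (clo X x) fun b => sec_mem_clo x hU hxU b
  have mem : ∀ (p : {x' : N // (ν) x' = x}), p.1 ∈ ν ⁻¹ᵁ U := fun p => by
    show (ν) p.1 ∈ U; rw [p.2]; exact hxU
  have key : ∀ (p : {x' : N // (ν) x' = x}) (b : Γ(N, ν ⁻¹ᵁ U)),
      b ∈ (hV.primeIdealOf ⟨p.1, mem p⟩).asIdeal ↔ c b ∈ (fibreToMax X x p).asIdeal := fun p b => by
    have h1 := mem_basicOpen_iff_notMem hV (mem p) b
    rw [mem_basicOpen_iff_notMem_ker x hU hxU p.1 p.2] at h1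
    exact (not_iff_not.1 h1).symm
  refine ⟨fun p q hpq => Subtype.ext ?_, fun m => ?_⟩
  · have he : hV.primeIdealOf ⟨p.1, mem p⟩ = hV.primeIdealOf ⟨q.1, mem q⟩ :=
      PrimeSpectrum.ext (Ideal.ext fun b => by rw [key, key, hpq])
    have := congrArg hV.fromSpec he
    rwa [hV.fromSpec_primeIdealOf, hV.fromSpec_primeIdealOf] at this
  · haveI := m.isMaximal
    let Q : PrimeSpectrum Γ(N, ν ⁻¹ᵁ U) := ⟨m.asIdeal.comap c, inferInstance⟩
    let z : N := hV.fromSpec Q
    have hzU : z ∈ ν ⁻¹ᵁ U := hV.range_fromSpec.le ⟨Q, rfl⟩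
    have hQ : hV.primeIdealOf ⟨z, hzU⟩ = Q :=
      hV.fromSpec.isOpenEmbedding.injective (hV.fromSpec_primeIdealOf _)
    have hmo : m.asIdeal.comap (algebraMap (X.presheaf.stalk x) (clo X x)) =
        IsLocalRing.maximalIdeal (X.presheaf.stalk x) :=
      IsLocalRing.eq_maximalIdeal (Ideal.isMaximal_comap_of_isIntegral_of_isMaximal m.asIdeal)
    have hca : ∀ a, c ((ν).app U a) = algebraMap (X.presheaf.stalk x) (clo X x) (X.presheaf.germ U x hxU a) :=
      fun a => Subtype.ext ((sec_app X U a).trans (algebraMap_germ X x hxU a).symm)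
    have hz : (ν) z = x := by
      have e : hU.primeIdealOf ⟨(ν) z, hzU⟩ = hU.primeIdealOf ⟨x, hxU⟩ := by
        refine PrimeSpectrum.ext (Ideal.ext fun a => not_iff_not.1 ?_)
        rw [← mem_basicOpen_iff_notMem hU hzU, ← mem_basicOpen_iff_notMem hU hxU, X.mem_basicOpen a x hxU]
        show z ∈ ν ⁻¹ᵁ X.basicOpen a ↔ _
        rw [Scheme.preimage_basicOpen, mem_basicOpen_iff_notMem hV hzU, hQ]
        show c ((ν).app U a) ∉ m.asIdeal ↔ _
        rw [hca, ← Ideal.mem_comap, hmo, IsLocalRing.mem_maximalIdeal, mem_nonunits_iff, not_not]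
      have := congrArg hU.fromSpec e
      rwa [hU.fromSpec_primeIdealOf, hU.fromSpec_primeIdealOf] at this
    refine ⟨⟨z, hz⟩, MaximalSpectrum.ext (Eq.symm ?_)⟩
    refine (isMaximal_ker_theta x z hz |> fun hk => Ideal.IsMaximal.eq_of_le inferInstance hk.ne_top ?_)
    intro y hy
    obtain ⟨W, hW, hxW, b, hb⟩ := exists_sec_of_mem_clo x y.2
    letI := (X.presheaf.germ U x hxU).hom.toAlgebra
    haveI := hU.isLocalization_stalk ⟨x, hxU⟩
    letI : Algebra Γ(X, U) K := (X.germToFunctionField U).hom.toAlgebra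
    haveI : IsScalarTower Γ(X, U) (X.presheaf.stalk x) K :=
      IsScalarTower.of_algebraMap_eq fun a => (algebraMap_germ X x hxU a).symm
    obtain ⟨s, hs⟩ := IsIntegral.exists_multiple_integral_of_isLocalization
      (hU.primeIdealOf ⟨x, hxU⟩).asIdeal.primeCompl (y : K) y.2
    obtain ⟨b', hb'⟩ := (mem_range_sec X hU _).2 hs
    let u : clo X x := algebraMap (X.presheaf.stalk x) (clo X x) (X.presheaf.germ U x hxU s.1)
    have hu : IsUnit u := (IsLocalization.map_units (X.presheaf.stalk x) s).map _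
    have huy : c b' = u * y := by
      apply Subtype.ext
      show sec X U b' = _
      rw [hb', Submonoid.smul_def, Algebra.smul_def]
      exact congrArg (· * (y : K)) (algebraMap_germ X x hxU s.1).symm
    have h1 : b' ∈ Q.asIdeal := by
      show c b' ∈ m.asIdeal
      rw [huy]; exact m.asIdeal.mul_mem_left u hy
    rw [← hQ, key ⟨z, hz⟩ b', huy] at h1
    exact ((Ideal.unit_mul_mem_iff_mem _ hu).1 h1)

end Groth.Agent.VarietyLib.NormStalk
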