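import Groth.Agent.VarietyLib.HilbClosed
import Groth.Agent.Coherent.CohBC.TwistStrata
import Groth.Agent.EGA43.InjFibre.FlatLimitGlobal
import Groth.Agent.EGA43.FlatModelDescent

/-!
# The stratum of a Hilbert polynomial over a Noetherian base

The universal property is proved for test schemes which are arbitrary, by descending flatness to
finitely generated subalgebras.
-/

set_option autoImplicit false
set_option maxHeartbeats 1000000
set_option linter.style.haveILetI false
set_option backward.isDefEq.respectTransparency.types false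

universe u

open CategoryTheory CategoryTheory.Limits AlgebraicGeometry Opposite
open Groth.Agent Groth.Agent.Coherent Groth.Agent.EulerLib Groth.Agent.AmpleLib

namespace Groth.Agent.VarietyLib

/-! ### A ring as the colimit of its subalgebras of finite type -/

section RelDiagram

variable (A B : Type u) [CommRing A] [CommRing B] [Algebra A B]

/-- The diagram of subalgebras of finite type. -/
noncomputable def relSubDiagram : Finset B ⥤ CommRingCat.{u} where
  obj s := CommRingCat.of (Algebra.adjoin A (s : Set B))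
  map {s t} h := CommRingCat.ofHom (Subalgebra.inclusion
    (Algebra.adjoin_mono (R := A) (Finset.coe_subset.mpr (leOfHom h)))).toRingHom
  map_id _ := by ext x; rfl
  map_comp _ _ := by ext x; rfl

/-- The cocone with point the whole ring. -/
noncomputable def relSubCocone : Cocone (relSubDiagram A B) where
  pt := CommRingCat.of B
  ι := { app := fun s ↦ CommRingCat.ofHom (Algebra.adjoin A (s : Set B)).val.toRingHom
         naturality := fun _ _ _ ↦ by ext x; rfl }

/-- The ring is the colimit of its subalgebras of finite type. -/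
noncomputable def isColimitRelSubCocone : IsColimit (relSubCocone A B) := by
  classical
  have : ReflectsColimit (relSubDiagram A B) (forget CommRingCat.{u}) :=
    reflectsColimit_of_reflectsIsomorphisms _ _
  refine isColimitOfReflects (forget CommRingCat.{u}) (Types.FilteredColimit.isColimitOf _ _ ?_ ?_)
  · intro x
    exact ⟨{x}, ⟨x, Algebra.subset_adjoin (Finset.mem_coe.mpr (Finset.mem_singleton_self x))⟩, rfl⟩
  · intro i j xi xj h
    exact ⟨i ∪ j, homOfLE Finset.subset_union_left, homOfLE Finset.subset_union_right, Subtype.ext h⟩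

/-- The diagram of spectra. -/
noncomputable def relSpecDiagram : (Finset B)ᵒᵖ ⥤ Scheme.{u} := (relSubDiagram A B).op ⋙ Scheme.Spec

/-- The cone with point the spectrum of the whole ring. -/
noncomputable def relSpecCone : Cone (relSpecDiagram A B) := Scheme.Spec.mapCone (relSubCocone A B).op

/-- The spectrum of the whole ring is the limit. -/
noncomputable def isLimitRelSpecCone : IsLimit (relSpecCone A B) :=
  isLimitOfPreserves Scheme.Spec (isColimitRelSubCocone A B).op

instance {i j : (Finset B)ᵒᵖ} (f : i ⟶ j) : IsAffineHom ((relSpecDiagram A B).map f) :=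
  inferInstanceAs (IsAffineHom (Spec.map _))

instance [IsNoetherianRing A] (s : (Finset B)ᵒᵖ) : IsNoetherian ((relSpecDiagram A B).obj s) :=
  haveI : IsNoetherianRing (Algebra.adjoin A ((s.unop : Finset B) : Set B)) :=
    Algebra.FiniteType.isNoetherianRing A _ (h := .adjoin_of_finite s.unop.finite_toSet)
  inferInstanceAs (IsNoetherian (Spec (CommRingCat.of (Algebra.adjoin A ((s.unop : Finset B) : Set B)))))

end RelDiagram

variable {X S : Scheme.{u}}

/-- The points at which the Hilbert polynomial of the fibre is `Φ`. -/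
def hilbLocus (f : X ⟶ S) (L F : X.Modules) (Φ : Polynomial ℚ) : Set S :=
  {s | ∀ n : ℕ, (PerfAux.eulerChar f (CohB1.tensorMod F (CohB1.tensorPow L n)) s : ℚ) = Φ.eval (n : ℚ)}

/-- The pullback is flat with Hilbert polynomial `Φ`. -/
def HilbFlat (f : X ⟶ S) (L F : X.Modules) (Φ : Polynomial ℚ) {T : Scheme.{u}} (g : T ⟶ S) : Prop :=
  FlatMod.IsFlatOver (pullback.snd f g) ((Scheme.Modules.pullback (pullback.fst f g)).obj F) ∧
    ∀ t : T, g t ∈ hilbLocus f L F Φ

/-- Flatness passes to a base change in terms of arbitrary cartesian squares. -/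
theorem isFlatOver_square {f : X ⟶ S} {F : X.Modules} [Coh.IsQCoh F] {T T' XT XT' : Scheme.{u}} {g : T ⟶ S}
    {g' : T' ⟶ S} (w : T' ⟶ T) (hw : w ≫ g = g') {q : XT ⟶ X} {p : XT ⟶ T} {q' : XT' ⟶ X} {p' : XT' ⟶ T'}
    (H : IsPullback q p f g) (H' : IsPullback q' p' f g')
    (h : FlatMod.IsFlatOver p ((Scheme.Modules.pullback q).obj F)) :
    FlatMod.IsFlatOver p' ((Scheme.Modules.pullback q').obj F) := by
  subst hw
  let v := H.lift q' (p' ≫ w) (by rw [Category.assoc]; exact H'.w)
  have hv : v ≫ q = q' := H.lift_fst _ _ _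
  have hsq : IsPullback v p' p w :=
    IsPullback.of_right (by rw [hv]; exact H') (H.lift_snd _ _ _) H
  exact fun x => EGA43.InjFibre.isFlatOverAt_comp_baseChange hsq hv F x (h _)

theorem HilbFlat.comp {f : X ⟶ S} {L F : X.Modules} [Coh.IsQCoh F] {Φ : Polynomial ℚ} {T T' : Scheme.{u}}
    {g : T ⟶ S} (h : HilbFlat f L F Φ g) (w : T' ⟶ T) : HilbFlat f L F Φ (w ≫ g) :=
  ⟨isFlatOver_square w rfl (IsPullback.of_hasPullback f g) (IsPullback.of_hasPullback f (w ≫ g)) h.1,
    fun t => h.2 (w t)⟩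

theorem hilbFlat_of_openCover {f : X ⟶ S} {L F : X.Modules} [Coh.IsQCoh F] {Φ : Polynomial ℚ} {T : Scheme.{u}}
    {g : T ⟶ S} (𝒰 : T.OpenCover) (h : ∀ i, HilbFlat f L F Φ (𝒰.f i ≫ g)) : HilbFlat f L F Φ g := by
  refine ⟨fun x => ?_, fun t => ?_⟩
  · obtain ⟨i, y, hy⟩ := 𝒰.exists_eq (pullback.snd f g x)
    let p := pullback.snd (pullback.snd f g) (𝒰.f i)
    let a := pullback.fst (pullback.snd f g) (𝒰.f i)
    obtain ⟨x', hx'⟩ : x ∈ Set.range a := by
      rw [Scheme.Pullback.range_fst]; exact ⟨y, hy⟩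
    haveI := EGA43.InjFibre.isQCoh_pullback (pullback.fst f g) F
    have H' : IsPullback (a ≫ pullback.fst f g) p f (𝒰.f i ≫ g) :=
      (IsPullback.of_hasPullback (pullback.snd f g) (𝒰.f i)).paste_horiz (IsPullback.of_hasPullback f g)
    have h1 := isFlatOver_square (𝟙 _) (Category.id_comp _) (IsPullback.of_hasPullback f (𝒰.f i ≫ g)) H' (h i).1
    rw [← hx']
    refine (Coherent.CohBC.isFlatOverAt_restrict_iff (π := pullback.snd f g) (a := a) (π' := p) (j := 𝒰.f i)
      pullback.condition _ x').1 ?_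
    haveI := EGA43.InjFibre.isQCoh_pullback (a ≫ pullback.fst f g) F
    exact EGA43.DvrCrit.isFlatOverAt_of_iso p ((Scheme.Modules.pullbackComp a (pullback.fst f g)).app F).symm x' (h1 x')
  · obtain ⟨i, y, rfl⟩ := 𝒰.exists_eq t
    exact (h i).2 y

theorem hilbLocus_of_isPullback {f : X ⟶ S} [IsProper f] {L F : X.Modules} (hL : PicF.IsInvertible L)
    (hF : CohB1.IsFP F) (Φ : Polynomial ℚ) {X' S' : Scheme.{u}} {q : X' ⟶ X} {u : X' ⟶ S'} {r : S' ⟶ S}
    (H : IsPullback q u f r) {L' F' : X'.Modules} (eL : L' ≅ (Scheme.Modules.pullback q).obj L)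
    (eF : F' ≅ (Scheme.Modules.pullback q).obj F) : hilbLocus u L' F' Φ = r ⁻¹' hilbLocus f L F Φ := by
  haveI : IsProper u := MorphismProperty.of_isPullback H inferInstance
  have key : ∀ (n : ℕ) (z : S'), PerfAux.eulerChar u (CohB1.tensorMod F' (CohB1.tensorPow L' n)) z =
      PerfAux.eulerChar f (CohB1.tensorMod F (CohB1.tensorPow L n)) (r z) := by
    intro n z
    refine Eq.trans ?_ (eulerChar_tensorPows_pullback H hF (t := 1) (fun _ => L) (fun _ => hL) (fun _ => n) z)
    exact eulerChar_congr u (AmpleLib.tensorIso eF (powIsoOfIso eL n)) z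
  ext z
  simp only [hilbLocus, Set.mem_setOf_eq, Set.mem_preimage, key]

theorem hilbFlat_iff_of_isPullback {f : X ⟶ S} [IsProper f] {L F : X.Modules} (hL : PicF.IsInvertible L)
    (hF : CohB1.IsFP F) (Φ : Polynomial ℚ) {X' S' : Scheme.{u}} {q : X' ⟶ X} {u : X' ⟶ S'} {r : S' ⟶ S}
    (H : IsPullback q u f r) {L' F' : X'.Modules} (eL : L' ≅ (Scheme.Modules.pullback q).obj L)
    (eF : F' ≅ (Scheme.Modules.pullback q).obj F) {T : Scheme.{u}} (g : T ⟶ S') :
    HilbFlat u L' F' Φ g ↔ HilbFlat f L F Φ (g ≫ r) := by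
  haveI : Coh.IsQCoh F := qcoh_of_isFP hF
  have hloc := hilbLocus_of_isPullback hL hF Φ H eL eF
  let q' := pullback.fst u g ≫ q
  have H' : IsPullback q' (pullback.snd u g) f (g ≫ r) := (IsPullback.of_hasPullback u g).paste_horiz H
  let e : (Scheme.Modules.pullback (pullback.fst u g)).obj F' ≅ (Scheme.Modules.pullback q').obj F :=
    (Scheme.Modules.pullback (pullback.fst u g)).mapIso eF ≪≫ (Scheme.Modules.pullbackComp _ q).app F
  haveI := EGA43.InjFibre.isQCoh_pullback q' F
  haveI : Coh.IsQCoh F' := @Coherent.isQCoh_of_iso _ _ _ eF.symm (EGA43.InjFibre.isQCoh_pullback q F)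
  haveI := EGA43.InjFibre.isQCoh_pullback (pullback.fst u g) F'
  constructor
  · rintro ⟨h1, h2⟩
    refine ⟨isFlatOver_square (𝟙 T) (Category.id_comp _) H' (IsPullback.of_hasPullback f (g ≫ r))
      fun x => EGA43.DvrCrit.isFlatOverAt_of_iso _ e x (h1 x), fun t => ?_⟩
    have h3 := h2 t
    rw [hloc] at h3
    exact h3
  · rintro ⟨h1, h2⟩
    refine ⟨fun x => EGA43.DvrCrit.isFlatOverAt_of_iso _ e.symm x
      (isFlatOver_square (𝟙 T) (Category.id_comp _) (IsPullback.of_hasPullback f (g ≫ r)) H' h1 x), fun t => ?_⟩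
    rw [hloc]
    exact h2 t

/-- A morphism lifts along a monomorphism if it does locally. -/
theorem exists_lift_of_local {W T : Scheme.{u}} (e : W ⟶ S) [Mono e] (g : T ⟶ S) (𝒰 : T.OpenCover)
    (h : ∀ i, ∃ a, a ≫ e = 𝒰.f i ≫ g) : ∃ a, a ≫ e = g := by
  choose a ha using h
  refine ⟨𝒰.glueMorphisms a fun i j => (cancel_mono e).1 ?_, ?_⟩
  · rw [Category.assoc, Category.assoc, ha, ha, pullback.condition_assoc]
  · refine Scheme.Cover.hom_ext 𝒰 _ _ fun i => ?_
    rw [Scheme.Cover.ι_glueMorphisms_assoc, ha]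

/-- Flatness over an affine test scheme is induced from a test scheme of finite type. -/
theorem exists_flat_stage (f : X ⟶ S) [IsProper f] [LocallyOfFinitePresentation f] {F : X.Modules}
    (hF : CohB1.IsFP F) (A : Type u) [CommRing A] [IsNoetherianRing A] (j : Spec (CommRingCat.of A) ⟶ S)
    (B : Type u) [CommRing B] [Algebra A B]
    (h : FlatMod.IsFlatOver (pullback.snd f (Spec.map (CommRingCat.ofHom (algebraMap A B)) ≫ j))
      ((Scheme.Modules.pullback (pullback.fst f (Spec.map (CommRingCat.ofHom (algebraMap A B)) ≫ j))).obj F)) :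
    ∃ (T₀ XT : Scheme.{u}) (_ : IsLocallyNoetherian T₀) (π : Spec (CommRingCat.of B) ⟶ T₀) (φ : T₀ ⟶ S)
      (πT : XT ⟶ T₀) (q : XT ⟶ X), π ≫ φ = Spec.map (CommRingCat.ofHom (algebraMap A B)) ≫ j ∧
      IsPullback q πT f φ ∧ FlatMod.IsFlatOver πT ((Scheme.Modules.pullback q).obj F) := by
  classical
  haveI : Coh.IsQCoh F := qcoh_of_isFP hF
  let D := relSpecDiagram A B
  let c := relSpecCone A B
  let i₀ : (Finset B)ᵒᵖ := op ∅
  let ρ : D.obj i₀ ⟶ S :=
    Spec.map (CommRingCat.ofHom (algebraMap A (Algebra.adjoin A ((∅ : Finset B) : Set B)))) ≫ j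
  have hρ : c.π.app i₀ ≫ ρ = Spec.map (CommRingCat.ofHom (algebraMap A B)) ≫ j := by
    show Spec.map _ ≫ Spec.map _ ≫ j = _
    rw [← Category.assoc, ← Spec.map_comp]
    rfl
  let g₁ := Spec.map (CommRingCat.ofHom (algebraMap A B)) ≫ j
  let f₀ := pullback.snd f ρ
  let qX : pullback f g₁ ⟶ pullback f ρ :=
    pullback.lift (pullback.fst f g₁) (pullback.snd f g₁ ≫ c.π.app i₀)
      (by rw [Category.assoc]; erw [hρ]; exact pullback.condition)
  have hqX : qX ≫ pullback.fst f ρ = pullback.fst f g₁ := pullback.lift_fst _ _ _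
  have hX : IsPullback qX (pullback.snd f g₁) f₀ (c.π.app i₀) :=
    IsPullback.of_right (by rw [hqX]; erw [hρ]; exact IsPullback.of_hasPullback f g₁)
      (pullback.lift_snd _ _ _) (IsPullback.of_hasPullback f ρ)
  let F₀ := (Scheme.Modules.pullback (pullback.fst f ρ)).obj F
  haveI : Coh.IsQCoh F₀ := EGA43.InjFibre.isQCoh_pullback _ F
  have hF₀ : CohB1.IsFP F₀ := Desc19b.ModStFib.isFP_pullback _ F hF
  have hflat : FlatMod.IsFlatOver (pullback.snd f g₁) ((Scheme.Modules.pullback qX).obj F₀) := fun x => by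
    haveI := EGA43.InjFibre.isQCoh_pullback (pullback.fst f g₁) F
    exact EGA43.DvrCrit.isFlatOverAt_of_iso _
      (((Scheme.Modules.pullbackComp qX (pullback.fst f ρ)).app F ≪≫
        (Scheme.Modules.pullbackCongr hqX).app F).symm) x (h x)
  haveI : LocallyOfFinitePresentation f₀ :=
    MorphismProperty.pullback_snd (P := @LocallyOfFinitePresentation) _ _ inferInstance
  haveI : IsProper f₀ := MorphismProperty.pullback_snd (P := @IsProper) _ _ inferInstance
  haveI : QuasiCompact (f₀ ≫ 𝟙 (D.obj i₀)) := by rw [Category.comp_id]; infer_instance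
  haveI : ∀ (i k : (Finset B)ᵒᵖ) (φ : i ⟶ k), IsAffineHom (D.map φ) := fun _ _ _ => inferInstance
  obtain ⟨i, φi, Xi, Yi, fi, gi, pY, pX, hY, hXi, hfl⟩ :=
    (EGA43.InjFibre.isFlatOver_iff_exists_stage (g₀ := 𝟙 (D.obj i₀)) (f₀ := f₀) (isLimitRelSpecCone A B)
      F₀ hF₀ (pullback.snd f g₁) (𝟙 c.pt) (c.π.app i₀) qX IsPullback.of_id_snd hX).1 hflat
  haveI : IsIso gi := hY.isIso_snd_of_isIso
  have hsq : IsPullback (pX ≫ pullback.fst f ρ) (fi ≫ gi) f (D.map φi ≫ ρ) := by
    have h1 : IsPullback pX (fi ≫ gi) f₀ (D.map φi) := by simpa using hXi.paste_vert hY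
    exact h1.paste_horiz (IsPullback.of_hasPullback f ρ)
  refine ⟨D.obj i, Xi, inferInstance, c.π.app i, D.map φi ≫ ρ, fi ≫ gi, pX ≫ pullback.fst f ρ, ?_, hsq,
    fun x => ?_⟩
  · rw [← Category.assoc]; erw [c.w, hρ]
  · haveI := EGA43.InjFibre.isQCoh_pullback pX F₀
    haveI := EGA43.InjFibre.isQCoh_pullback (pX ≫ pullback.fst f ρ) F
    exact EGA43.DvrCrit.isFlatOverAt_of_iso _
      (show (Scheme.Modules.pullback pX).obj F₀ ≅ _ from (Scheme.Modules.pullbackComp pX (pullback.fst f ρ)).app F) x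
      (EGA43.FlatModelDescent.isFlatOverAt_comp_iso fi gi _ x (hfl x))

end Groth.Agent.VarietyLib
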