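import Groth.Agent.SerreDual.PushEquiv
import Groth.Agent.VarietyLib.NakaiTransfer
import Groth.Agent.Coherent.RpushStalk
import Groth.Agent.Coherent.RpushCoh
import Groth.Agent.S0055
import Groth.Agent.PicLib.FormalGen

/-!
# Euler characteristics along proper morphisms for twists without higher direct images
-/

set_option autoImplicit false
set_option linter.style.haveILetI false
set_option backward.isDefEq.respectTransparency.types false

universe u

open CategoryTheory CategoryTheory.Abelian CategoryTheory.Limits AlgebraicGeometry Opposite TopologicalSpace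
open Groth.Agent.Coherent Groth.Agent.PicLib Groth.Agent.AmpleLib Groth.Agent.EulerLib

namespace Groth.Agent.VarietyLib

variable {X Y : Scheme.{u}} (f : Y ⟶ X)

/-- No cohomology over preimages of affine opens when the higher direct image is zero. -/
theorem subsingleton_H'_preimage_of_isZero [QuasiCompact f] [QuasiSeparated f] (M : Y.Modules) [Coh.IsQCoh M]
    (p : ℕ) (hz : IsZero ((Coh.RpushAb f p).obj (Coh.toAb M))) {V : X.Opens} (hV : IsAffineOpen V) :
    Subsingleton (Sheaf.H' (Coh.toAb M) p (f ⁻¹ᵁ V)) := by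
  haveI := hasInjectiveResolutions_modules Y
  obtain ⟨ψ⟩ := exists_rpush_sections_equiv f hV M p
  have hs : Subsingleton Γ((Coh.Rpush f p).obj M, V) := by
    refine subsingleton_of_forall_eq 0 fun z => ?_
    have h1 : IsZero (Coh.toAb ((Coh.Rpush f p).obj M)) := hz.of_iso (toAbRpushIso f M p)
    have h2 : 𝟙 ((Coh.Rpush f p).obj M) = 0 := (toAbFunctor X).map_injective (h1.eq_of_src _ _)
    exact congrArg (fun φ => Scheme.Modules.Hom.app φ V z) h2
  haveI : Subsingleton (Coh.HH (f ⁻¹ᵁ V).toScheme (M.restrict (f ⁻¹ᵁ V).ι) p) :=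
    @Equiv.subsingleton _ _ ψ.toEquiv hs
  exact (HHonEquiv M (f ⁻¹ᵁ V) p).symm.toEquiv.subsingleton

theorem acyclicOverBasis_of_isZero [QuasiCompact f] [QuasiSeparated f] (M : Y.Modules) [Coh.IsQCoh M]
    (hz : ∀ p : ℕ, 0 < p → IsZero ((Coh.RpushAb f p).obj (Coh.toAb M))) :
    AcyclicOverBasis (X := Y.toTopCat) (Y := X.toTopCat) f.base {V : X.Opens | IsAffineOpen V} (Coh.toAb M) :=
  fun _ hV n => subsingleton_H'_preimage_of_isZero f M (n + 1) (hz _ n.succ_pos) hV

variable (k : Type u) [Field k] [X.Over (Spec (CommRingCat.of k))] [Y.Over (Spec (CommRingCat.of k))]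

/-- Euler characteristics along a morphism without higher direct images. -/
theorem euler_push_of_acyclic [QuasiCompact f] [QuasiSeparated f]
    (hf : f ≫ (X ↘ Spec (CommRingCat.of k)) = Y ↘ Spec (CommRingCat.of k)) (M : Y.Modules)
    (hM : AcyclicOverBasis (X := Y.toTopCat) (Y := X.toTopCat) f.base {V : X.Opens | IsAffineOpen V} (Coh.toAb M)) :
    Curv2.euler k Y M = Curv2.euler k X ((Coh.push f).obj M) := by
  refine finsum_congr fun q => ?_
  let N := (Coh.push f).obj M
  let e : Coh.HH Y M q ≃+ Coh.HH X N q :=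
    ((HHTopEquiv M q).trans (H'PushEquiv (X := Y.toTopCat) (Y := X.toTopCat) (f := f.base) X.isBasis_affineOpens
      (Coh.toAb M) hM ⊤ q)).trans (HHTopEquiv N q).symm
  have hsm : ∀ (c : k) (x : Coh.HH Y M q), e (c • x) = c • e x := by
    intro c x
    let φ := Coh.smulAb M (Coh.toGlobal (Y ↘ Spec (CommRingCat.of k)) c)
    let ψ := Coh.smulAb N (Coh.toGlobal (X ↘ Spec (CommRingCat.of k)) c)
    have hψ : (pushSh (X := Y.toTopCat) (Y := X.toTopCat) f.base).map φ = ψ := by
      ext V m
      show (show Γ(Y, f ⁻¹ᵁ V.unop) from Y.presheaf.map (homOfLE (le_top : f ⁻¹ᵁ V.unop ≤ ⊤)).op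
          (Coh.toGlobal (Y ↘ Spec (CommRingCat.of k)) c)) • (show Γ(M, f ⁻¹ᵁ V.unop) from m) =
        (show Γ(Y, f ⁻¹ᵁ V.unop) from f.app V.unop (X.presheaf.map (homOfLE (le_top : V.unop ≤ ⊤)).op
          (Coh.toGlobal (X ↘ Spec (CommRingCat.of k)) c))) • (show Γ(M, f ⁻¹ᵁ V.unop) from m)
      congr 1
      show _ = (X.presheaf.map (homOfLE (le_top : V.unop ≤ ⊤)).op ≫ f.app V.unop) _
      rw [Scheme.Hom.naturality]
      show _ = Y.presheaf.map _ (f.appTop ((X ↘ Spec (CommRingCat.of k)).appTop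
        ((Scheme.ΓSpecIso (CommRingCat.of k)).inv c)))
      rw [← hf]
      rfl
    show e (Sheaf.H.map φ q x) = Sheaf.H.map ψ q (e x)
    rw [← hψ]
    apply (HHTopEquiv N q).injective
    refine Eq.trans ?_ (SerreDual.hhTopEquiv_natural _ q _).symm
    show HHTopEquiv N q ((HHTopEquiv N q).symm _) = _
    rw [AddEquiv.apply_symm_apply]
    show H'PushEquiv (X := Y.toTopCat) (Y := X.toTopCat) (f := f.base) X.isBasis_affineOpens (Coh.toAb M) hM ⊤ q
      (HHTopEquiv M q (Sheaf.H.map φ q x)) = _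
    rw [SerreDual.hhTopEquiv_natural φ q x]
    refine (H'PushEquiv_naturality (X := Y.toTopCat) (Y := X.toTopCat) (f := f.base) X.isBasis_affineOpens
      hM hM φ ⊤ q (HHTopEquiv M q x)).trans ?_
    refine congrArg _ ?_
    exact ((HHTopEquiv N q).apply_symm_apply _).symm
  let eₗ : Coh.HH Y M q ≃ₗ[k] Coh.HH X N q := { e with map_smul' := hsm }
  rw [eₗ.finrank_eq]

theorem isCoh_push_proper [IsProper f] [IsLocallyNoetherian X] {M : Y.Modules} (hM : Coh.IsCoh M) :
    Coh.IsCoh ((Coh.push f).obj M) := by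
  haveI := hasInjectiveResolutions_modules Y
  haveI : PreservesFiniteLimits (Coh.push f) :=
    have : (Coh.push f).IsRightAdjoint :=
      (Scheme.Modules.pullbackPushforwardAdjunction f).isRightAdjoint
    ⟨fun _ _ _ => inferInstance⟩
  exact isCoh_of_iso ((Coh.push f).rightDerivedZeroIsoSelf.app M) (isCoh_rpush f hM 0)

variable [IsProper (X ↘ Spec (CommRingCat.of k))] [IsProper (Y ↘ Spec (CommRingCat.of k))]

/-- The projection formula for a module all whose twists from below lose higher direct images. -/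
theorem chiCl_push_of_isZero [IsProper f]
    (hf : f ≫ (X ↘ Spec (CommRingCat.of k)) = Y ↘ Spec (CommRingCat.of k)) {M : Y.Modules} (hM : Coh.IsCoh M)
    {L : X.Modules} (hL : PicF.IsInvertible L)
    (hz : ∀ p : ℕ, 0 < p → IsZero ((Coh.RpushAb f p).obj
      (Coh.toAb (CohB1.tensorMod ((Scheme.Modules.pullback f).obj L) M)))) :
    chiCl k ((Coh.push f).obj M) (InvCl.mk L hL) = chiCl k M (pullHom f (InvCl.mk L hL)) := by
  haveI := isNoetherian_of_proper (X := X) k
  haveI := isNoetherian_of_proper (X := Y) k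
  have hLY := PicLoc.isInvertible_pullback f hL
  have hLF : FlatMod.IsFinLocFree L := fun x =>
    let ⟨U, hx, e⟩ := isFinLocFreeOfRank_one hL x; ⟨U, 1, hx, e⟩
  haveI := hM.1
  haveI : Coh.IsQCoh (CohB1.tensorMod ((Scheme.Modules.pullback f).obj L) M) :=
    (isCoh_iso (AmpleLib.tensorComm _ _) (isCoh_twist hLY hM)).1
  rw [pullHom_mk, chiCl_mk, chiCl_mk,
    euler_congr k X (AmpleLib.tensorComm _ _ ≪≫ (projIso (f := f) hLF).app M),
    euler_congr k Y (AmpleLib.tensorComm M ((Scheme.Modules.pullback f).obj L))]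
  exact (euler_push_of_acyclic f k hf _ (acyclicOverBasis_of_isZero f _ hz)).symm

/-- High powers of an ample module satisfy the projection formula at finitely many classes. -/
theorem exists_pow_chiCl_push [IsProper f]
    (hf : f ≫ (X ↘ Spec (CommRingCat.of k)) = Y ↘ Spec (CommRingCat.of k)) {H : Y.Modules}
    (hH : CohB1.IsAmple H) (s : Finset (InvCl X)) :
    ∃ n : ℕ, ∀ x ∈ s, chiCl k ((Coh.push f).obj (CohB1.tensorPow H n)) x =
      chiCl k (CohB1.tensorPow H n) (pullHom f x) := by
  classical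
  haveI := isNoetherian_of_proper (X := X) k
  haveI := isNoetherian_of_proper (X := Y) k
  have hHi := hH.1
  have ha : ∀ W : X.Opens, IsAffineOpen W → CohB1.IsAmple (H.restrict (f ⁻¹ᵁ W).ι) := fun W hW => by
    haveI : CompactSpace (f ⁻¹ᵁ W : Scheme.{u}) := isCompact_iff_compactSpace.1 (f.isCompact_preimage hW.isCompact)
    exact isAmple_of_iso (restrictIsoPullback _ H).symm
      (isAmple_pullback_of_isEmbedding _ (f ⁻¹ᵁ W).ι.isOpenEmbedding.isEmbedding hH)
  have hex : ∀ x : InvCl X, ∃ n₀ : ℕ, ∀ n : ℕ, n₀ ≤ n →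
      chiCl k ((Coh.push f).obj (CohB1.tensorPow H n)) x = chiCl k (CohB1.tensorPow H n) (pullHom f x) := by
    intro x
    obtain ⟨L, hL, rfl⟩ := InvCl.exists_rep x
    have hLY := PicLoc.isInvertible_pullback f hL
    obtain ⟨n₀, hn₀⟩ := Groth.Agent.S0055.result f H hHi ha ((Scheme.Modules.pullback f).obj L)
      (PicLib.isCoh_of_isInvertible hLY)
    exact ⟨n₀, fun n hn => chiCl_push_of_isZero f k hf
      (PicLib.isCoh_of_isInvertible (isInvertible_tensorPow hHi n)) hL (hn₀ n hn)⟩
  choose n₀ hn₀ using hex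
  exact ⟨s.sup n₀, fun x hx => hn₀ x _ (Finset.le_sup hx)⟩

end Groth.Agent.VarietyLib
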