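import Groth.Agent.VarietyLib.Dual
import Groth.Prelude.Def_MeroSh

/-!
# Invertible modules glued along a common open

`glue` extends a module `N` on the open `D` across opens `U i`, which meet each other inside `D`,
by means of generators `e i` of `N` on `U i ⊓ D`.
-/

set_option autoImplicit false
set_option backward.isDefEq.respectTransparency.types false

universe u

open CategoryTheory CategoryTheory.Limits AlgebraicGeometry Opposite TopologicalSpace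
open Groth.Agent.Coherent Groth.Agent.PicLib Groth.Agent.AmpleLib Groth.Agent.VarietyLib

namespace Groth.Agent.VarietyLib.StarGlue

variable {X : Scheme.{u}}

theorem exists_mod_of_germs (M : X.Modules) {V : X.Opens} (g : ∀ y ∈ V, M.presheaf.stalk y)
    (h : ∀ y : V, ∃ (W : X.Opens) (_ : y.1 ∈ W) (hWV : W ≤ V) (n : Γ(M, W)),
      ∀ z (hz : z ∈ W), M.presheaf.germ W z hz n = g z (hWV hz)) :
    ∃ n : Γ(M, V), ∀ z (hz : z ∈ V), M.presheaf.germ V z hz n = g z hz := by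
  choose W hW hWV n hn using h
  obtain ⟨m, hm, -⟩ := TopCat.Sheaf.existsUnique_gluing' (⟨M.presheaf, M.isSheaf⟩ : TopCat.Sheaf Ab X)
    W V (fun y => homOfLE (hWV y)) (fun y hy => Opens.mem_iSup.2 ⟨⟨y, hy⟩, hW _⟩) n (fun a b => by
      refine sec_ext_germ M fun z hz => ?_
      exact ((germ_resM M inf_le_left hz (n a)).trans (hn a z hz.1)).trans
        ((germ_resM M inf_le_right hz (n b)).trans (hn b z hz.2)).symm)
  refine ⟨m, fun z hz => ?_⟩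
  rw [← hn ⟨z, hz⟩ z (hW _), ← hm ⟨z, hz⟩]
  exact (TopCat.Presheaf.germ_res_apply M.presheaf (homOfLE (hWV ⟨z, hz⟩)) z (hW _) m).symm

theorem exists_fun_of_germs {V : X.Opens} (g : ∀ y ∈ V, X.presheaf.stalk y)
    (h : ∀ y : V, ∃ (W : X.Opens) (_ : y.1 ∈ W) (hWV : W ≤ V) (n : Γ(X, W)),
      ∀ z (hz : z ∈ W), X.presheaf.germ W z hz n = g z (hWV hz)) :
    ∃ n : Γ(X, V), ∀ z (hz : z ∈ V), X.presheaf.germ V z hz n = g z hz := by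
  choose W hW hWV n hn using h
  obtain ⟨m, hm, -⟩ := TopCat.Sheaf.existsUnique_gluing' X.sheaf
    W V (fun y => homOfLE (hWV y)) (fun y hy => Opens.mem_iSup.2 ⟨⟨y, hy⟩, hW _⟩) n (fun a b => by
      refine TopCat.Presheaf.section_ext X.sheaf _ _ _ fun z hz => ?_
      exact ((TopCat.Presheaf.germ_res_apply X.presheaf (homOfLE inf_le_left) z hz (n a)).trans (hn a z hz.1)).trans
        ((TopCat.Presheaf.germ_res_apply X.presheaf (homOfLE inf_le_right) z hz (n b)).trans (hn b z hz.2)).symm)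
  refine ⟨m, fun z hz => ?_⟩
  rw [← hn ⟨z, hz⟩ z (hW _), ← hm ⟨z, hz⟩]
  exact (TopCat.Presheaf.germ_res_apply X.presheaf (homOfLE (hWV ⟨z, hz⟩)) z (hW _) m).symm

/-- The gluing data. -/
structure Data (X : Scheme.{u}) where
  N : X.Modules
  D : X.Opens
  ι : Type u
  U : ι → X.Opens
  e : ∀ i, Γ(N, U i ⊓ D)
  gen : ∀ i, IsGen N (U i ⊓ D) (e i)
  meet : ∀ i j, i ≠ j → U i ⊓ U j ≤ D
  cover : ∀ x, x ∈ D ∨ ∃ i, x ∈ U i

variable (𝒟 : Data X)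

/-- Values of glued sections. -/
abbrev Val (x : X) : Type u := (𝒟.N.presheaf.stalk x) × (X.presheaf.stalk x)

/-- Admissible families of values. -/
def IsGlued {W : X.Opens} (f : ∀ x : W, Val 𝒟 x.1) : Prop :=
  ∃ (n : Γ(𝒟.N, W ⊓ 𝒟.D)) (r : ∀ i, Γ(X, W ⊓ 𝒟.U i)),
    (∀ i x (hW : x ∈ W) (hD : x ∈ 𝒟.D) (hU : x ∈ 𝒟.U i),
      𝒟.N.presheaf.germ (W ⊓ 𝒟.D) x ⟨hW, hD⟩ n =
        X.presheaf.germ (W ⊓ 𝒟.U i) x ⟨hW, hU⟩ (r i) • 𝒟.N.presheaf.germ (𝒟.U i ⊓ 𝒟.D) x ⟨hU, hD⟩ (𝒟.e i)) ∧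
    (∀ x (hW : x ∈ W) (hD : x ∈ 𝒟.D), f ⟨x, hW⟩ = (𝒟.N.presheaf.germ (W ⊓ 𝒟.D) x ⟨hW, hD⟩ n, 0)) ∧
    ∀ i x (hW : x ∈ W) (hU : x ∈ 𝒟.U i), x ∉ 𝒟.D →
      f ⟨x, hW⟩ = (0, X.presheaf.germ (W ⊓ 𝒟.U i) x ⟨hW, hU⟩ (r i))

theorem germ_smul' (M : X.Modules) {W : X.Opens} {p : X} (hp : p ∈ W) (r : Γ(X, W)) (m : Γ(M, W)) :
    M.presheaf.germ W p hp (r • m) = X.presheaf.germ W p hp r • M.presheaf.germ W p hp m :=
  PresheafOfModules.germ_smul M.val p W hp r m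

theorem germ_resO {V W : X.Opens} (h : V ≤ W) {x : X} (hx : x ∈ V) (r : Γ(X, W)) :
    X.presheaf.germ V x hx (PicLib.res h r) = X.presheaf.germ W x (h hx) r :=
  TopCat.Presheaf.germ_res_apply X.presheaf (homOfLE h) x hx r

/-- The predicate of glued sections. -/
def gluedLoc : TopCat.LocalPredicate (fun x : X => Val 𝒟 x) where
  pred {W} f := IsGlued 𝒟 f
  res {V W} i f h := by
    obtain ⟨n, r, h₁, h₂, h₃⟩ := h
    refine ⟨resM 𝒟.N (inf_le_inf_right 𝒟.D i.le) n, fun j => PicLib.res (inf_le_inf_right (𝒟.U j) i.le) (r j),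
      fun j x hV hD hU => ?_, fun x hV hD => ?_, fun j x hV hU hD => ?_⟩
    · rw [germ_resM, germ_resO]; exact h₁ j x (i.le hV) hD hU
    · rw [germ_resM]; exact h₂ x (i.le hV) hD
    · rw [germ_resO]; exact h₃ j x (i.le hV) hU hD
  locality {W} f h := by
    choose V hxV iV n r h₁ h₂ h₃ using h
    obtain ⟨N₀, hN₀⟩ := exists_mod_of_germs 𝒟.N (V := W ⊓ 𝒟.D) (fun y hy => (f ⟨y, hy.1⟩).1) fun y =>
      ⟨V ⟨y.1, y.2.1⟩ ⊓ 𝒟.D, ⟨hxV _, y.2.2⟩, inf_le_inf_right _ (iV _).le, n _, fun z hz =>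
        ((congrArg Prod.fst (h₂ ⟨y.1, y.2.1⟩ z hz.1 hz.2)).trans rfl).symm⟩
    classical
    have hr : ∀ i, ∃ R : Γ(X, W ⊓ 𝒟.U i), ∀ z (hz : z ∈ W ⊓ 𝒟.U i), X.presheaf.germ _ z hz R =
        (if hD : z ∈ 𝒟.D then
          Function.invFun (fun a : X.presheaf.stalk z =>
            a • 𝒟.N.presheaf.germ (𝒟.U i ⊓ 𝒟.D) z ⟨hz.2, hD⟩ (𝒟.e i)) (f ⟨z, hz.1⟩).1
        else (f ⟨z, hz.1⟩).2) := fun i =>
      exists_fun_of_germs (V := W ⊓ 𝒟.U i) _ fun y =>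
        ⟨V ⟨y.1, y.2.1⟩ ⊓ 𝒟.U i, ⟨hxV _, y.2.2⟩, inf_le_inf_right _ (iV _).le, r _ i, fun z hz => by
          split_ifs with hD
          · refine ((gen_germ_bijective (𝒟.gen i) ⟨hz.2, hD⟩).1 ?_).symm
            exact (Function.invFun_eq ((gen_germ_bijective (𝒟.gen i) ⟨hz.2, hD⟩).2 _)).trans
              ((congrArg Prod.fst (h₂ ⟨y.1, y.2.1⟩ z hz.1 hD)).trans (h₁ ⟨y.1, y.2.1⟩ i z hz.1 hD hz.2))
          · exact (congrArg Prod.snd (h₃ ⟨y.1, y.2.1⟩ i z hz.1 hz.2 hD)).symm⟩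
    choose R hR using hr
    refine ⟨N₀, R, fun i x hW hD hU => ?_, fun x hW hD => ?_, fun i x hW hU hD => ?_⟩
    · rw [hN₀, hR, dif_pos hD]
      exact (Function.invFun_eq ((gen_germ_bijective (𝒟.gen i) ⟨hU, hD⟩).2 _)).symm
    · rw [hN₀]
      refine Prod.ext rfl ?_
      have h := congrArg Prod.snd (h₂ ⟨x, hW⟩ x (hxV ⟨x, hW⟩) hD)
      exact h
    · rw [hR, dif_neg hD]
      refine Prod.ext ?_ rfl
      have h := congrArg Prod.fst (h₃ ⟨x, hW⟩ i x (hxV ⟨x, hW⟩) hU hD)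
      exact h

instance : Mero.IsModPred (gluedLoc 𝒟) where
  zero W := ⟨0, 0, fun i x hW hD hU => by
      rw [Pi.zero_apply, map_zero, map_zero, zero_smul],
    fun x hW hD => by rw [map_zero]; rfl,
    fun i x hW hU hD => (Prod.ext rfl (map_zero (X.presheaf.germ (W ⊓ 𝒟.U i) x ⟨hW, hU⟩).hom).symm)⟩
  add W f g := by
    rintro ⟨n, r, h₁, h₂, h₃⟩ ⟨n', r', h₁', h₂', h₃'⟩
    refine ⟨n + n', r + r', fun i x hW hD hU => ?_, fun x hW hD => ?_, fun i x hW hU hD => ?_⟩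
    · rw [Pi.add_apply, map_add, map_add, add_smul, h₁ i x hW hD hU, h₁' i x hW hD hU]
    · rw [Pi.add_apply, h₂ x hW hD, h₂' x hW hD, map_add, Prod.mk_add_mk, add_zero]
    · rw [Pi.add_apply, Pi.add_apply, h₃ i x hW hU hD, h₃' i x hW hU hD, map_add, Prod.mk_add_mk, add_zero]
  smul W c f := by
    rintro ⟨n, r, h₁, h₂, h₃⟩
    refine ⟨PicLib.res (inf_le_left : W ⊓ 𝒟.D ≤ W) c • n,
      fun i => PicLib.res (inf_le_left : W ⊓ 𝒟.U i ≤ W) c * r i,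
      fun i x hW hD hU => ?_, fun x hW hD => ?_, fun i x hW hU hD => ?_⟩
    · rw [germ_smul', map_mul, germ_resO, germ_resO, h₁ i x hW hD hU, smul_smul]
    · show X.presheaf.germ W x hW c • f ⟨x, hW⟩ = _
      rw [germ_smul', germ_resO, h₂ x hW hD, Prod.smul_mk, smul_zero]
    · show X.presheaf.germ W x hW c • f ⟨x, hW⟩ = _
      rw [map_mul, germ_resO, h₃ i x hW hU hD, Prod.smul_mk, smul_zero, smul_eq_mul]

/-- The glued module. -/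
noncomputable def glue : X.Modules := Mero.modOf (gluedLoc 𝒟)

theorem sec_ext' {W : X.Opens} {a b : Γ(glue 𝒟, W)} (h : ∀ x : W, a.1 x = b.1 x) : a = b :=
  Subtype.ext (funext h)

open Classical in
theorem exists_secD {W : X.Opens} (hW : W ≤ 𝒟.D) (n : Γ(𝒟.N, W)) :
    ∃ s : Γ(glue 𝒟, W), ∀ x (hx : x ∈ W), s.1 ⟨x, hx⟩ = (𝒟.N.presheaf.germ W x hx n, 0) :=
  ⟨⟨fun x => (𝒟.N.presheaf.germ W x.1 x.2 n, 0), resM 𝒟.N inf_le_left n,
    fun i => (𝒟.gen i).coef (V := W ⊓ 𝒟.U i) (le_inf inf_le_right (inf_le_left.trans hW)) (resM 𝒟.N inf_le_left n),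
    fun i x hxW hD hU => by
      rw [germ_resM]
      exact ((germ_resM 𝒟.N (inf_le_left : W ⊓ 𝒟.U i ≤ W) ⟨hxW, hU⟩ n).symm).trans
        (germ_coef_smul (𝒟.gen i) (le_inf inf_le_right (inf_le_left.trans hW))
          (resM 𝒟.N inf_le_left n) (x := x) ⟨hxW, hU⟩),
    fun x hxW hD => by rw [germ_resM],
    fun i x hxW hU hD => (hD (hW hxW)).elim⟩, fun _ _ => rfl⟩

/-- Sections of `N` inside `D` as glued sections. -/
noncomputable def secD {W : X.Opens} (hW : W ≤ 𝒟.D) (n : Γ(𝒟.N, W)) : Γ(glue 𝒟, W) :=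
  (exists_secD 𝒟 hW n).choose

theorem secD_val {W : X.Opens} (hW : W ≤ 𝒟.D) (n : Γ(𝒟.N, W)) {x : X} (hx : x ∈ W) :
    (secD 𝒟 hW n).1 ⟨x, hx⟩ = (𝒟.N.presheaf.germ W x hx n, 0) :=
  (exists_secD 𝒟 hW n).choose_spec x hx

theorem secD_add {W : X.Opens} (hW : W ≤ 𝒟.D) (n m : Γ(𝒟.N, W)) :
    secD 𝒟 hW (n + m) = secD 𝒟 hW n + secD 𝒟 hW m :=
  sec_ext' 𝒟 fun x => by
    show _ = (secD 𝒟 hW n).1 x + (secD 𝒟 hW m).1 x
    rw [secD_val, secD_val, secD_val, map_add, Prod.mk_add_mk, add_zero]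

theorem secD_smul {W : X.Opens} (hW : W ≤ 𝒟.D) (c : Γ(X, W)) (n : Γ(𝒟.N, W)) :
    secD 𝒟 hW (c • n) = c • secD 𝒟 hW n :=
  sec_ext' 𝒟 fun x => by
    show _ = X.presheaf.germ W x.1 x.2 c • (secD 𝒟 hW n).1 x
    rw [secD_val, secD_val, germ_smul', Prod.smul_mk, smul_zero]

theorem resM_secD {V W : X.Opens} (h : V ≤ W) (hW : W ≤ 𝒟.D) (n : Γ(𝒟.N, W)) :
    resM (glue 𝒟) h (secD 𝒟 hW n) = secD 𝒟 (h.trans hW) (resM 𝒟.N h n) :=
  sec_ext' 𝒟 fun x => by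
    show (secD 𝒟 hW n).1 ⟨x.1, h x.2⟩ = _
    rw [secD_val, secD_val, germ_resM]

theorem secD_bijective {W : X.Opens} (hW : W ≤ 𝒟.D) : Function.Bijective (secD 𝒟 hW) := by
  constructor
  · intro n m h
    refine sec_ext_germ 𝒟.N fun x hx => ?_
    have := congrArg (fun s : Γ(glue 𝒟, W) => (s.1 ⟨x, hx⟩).1) h
    simpa only [secD_val] using this
  · rintro ⟨f, n, r, h₁, h₂, h₃⟩
    refine ⟨resM 𝒟.N (le_inf le_rfl hW) n, sec_ext' 𝒟 fun x => ?_⟩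
    rw [secD_val, germ_resM]
    exact (h₂ x.1 x.2 (hW x.2)).symm

theorem isGen_secD {W : X.Opens} (hW : W ≤ 𝒟.D) {g : Γ(𝒟.N, W)} (hg : IsGen 𝒟.N W g) :
    IsGen (glue 𝒟) W (secD 𝒟 hW g) := by
  intro V hV
  have h := (secD_bijective 𝒟 (hV.trans hW)).comp (hg V hV)
  convert h using 1
  funext r
  show r • resM _ hV (secD 𝒟 hW g) = secD 𝒟 _ (r • resM 𝒟.N hV g)
  rw [secD_smul, resM_secD]

open Classical in
theorem exists_chart (i : 𝒟.ι) : ∃ s : Γ(glue 𝒟, 𝒟.U i),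
    (∀ x (hx : x ∈ 𝒟.U i) (hD : x ∈ 𝒟.D),
      s.1 ⟨x, hx⟩ = (𝒟.N.presheaf.germ (𝒟.U i ⊓ 𝒟.D) x ⟨hx, hD⟩ (𝒟.e i), 0)) ∧
    ∀ x (hx : x ∈ 𝒟.U i), x ∉ 𝒟.D → s.1 ⟨x, hx⟩ = (0, 1) := by
  let r : ∀ j, Γ(X, 𝒟.U i ⊓ 𝒟.U j) := fun j =>
    if hij : i = j then 1 else
      (𝒟.gen j).coef (V := 𝒟.U i ⊓ 𝒟.U j) (le_inf inf_le_right (𝒟.meet i j hij))
        (resM 𝒟.N (le_inf inf_le_left (𝒟.meet i j hij)) (𝒟.e i))
  refine ⟨⟨fun x => if hD : x.1 ∈ 𝒟.D then (𝒟.N.presheaf.germ (𝒟.U i ⊓ 𝒟.D) x.1 ⟨x.2, hD⟩ (𝒟.e i), 0)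
    else (0, 1), 𝒟.e i, r, fun j x hx hD hU => ?_, fun x hx hD => dif_pos hD, fun j x hx hU hD => ?_⟩,
    fun x hx hD => dif_pos hD, fun x hx hD => dif_neg hD⟩
  · by_cases hij : i = j
    · subst hij
      simp only [r, dif_pos, map_one, one_smul]
    · simp only [r, dif_neg hij]
      exact ((germ_resM 𝒟.N (le_inf inf_le_left (𝒟.meet i j hij)) ⟨hx, hU⟩ (𝒟.e i)).symm).trans
        (germ_coef_smul (𝒟.gen j) (le_inf inf_le_right (𝒟.meet i j hij))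
          (resM 𝒟.N (le_inf inf_le_left (𝒟.meet i j hij)) (𝒟.e i)) (x := x) ⟨hx, hU⟩)
  · have hij : i = j := by_contra fun h => hD (𝒟.meet i j h ⟨hx, hU⟩)
    subst hij
    simp only [r, dif_neg hD, dif_pos, map_one]

/-- The generator on `U i`. -/
noncomputable def chart (i : 𝒟.ι) : Γ(glue 𝒟, 𝒟.U i) := (exists_chart 𝒟 i).choose

theorem resM_chart (i : 𝒟.ι) :
    resM (glue 𝒟) (inf_le_left : 𝒟.U i ⊓ 𝒟.D ≤ 𝒟.U i) (chart 𝒟 i) = secD 𝒟 inf_le_right (𝒟.e i) :=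
  sec_ext' 𝒟 fun x => by
    show (chart 𝒟 i).1 ⟨x.1, x.2.1⟩ = _
    rw [secD_val]
    exact (exists_chart 𝒟 i).choose_spec.1 x.1 x.2.1 x.2.2

theorem isGen_chart (i : 𝒟.ι) : IsGen (glue 𝒟) (𝒟.U i) (chart 𝒟 i) := by
  classical
  intro V hV
  have hval : ∀ (c : Γ(X, V)) (x : X) (hx : x ∈ V),
      (c • resM (glue 𝒟) hV (chart 𝒟 i)).1 ⟨x, hx⟩ = X.presheaf.germ V x hx c • (chart 𝒟 i).1 ⟨x, hV hx⟩ :=
    fun c x hx => rfl
  have hs := (exists_chart 𝒟 i).choose_spec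
  constructor
  · intro c c' h
    refine TopCat.Presheaf.section_ext X.sheaf V c c' fun x hx => ?_
    have h' := congrArg (fun s : Γ(glue 𝒟, V) => s.1 ⟨x, hx⟩) h
    simp only [hval] at h'
    by_cases hD : x ∈ 𝒟.D
    · rw [show (chart 𝒟 i).1 ⟨x, hV hx⟩ = _ from hs.1 x (hV hx) hD, Prod.smul_mk, Prod.smul_mk] at h'
      exact (gen_germ_bijective (𝒟.gen i) ⟨hV hx, hD⟩).1 (congrArg Prod.fst h')
    · rw [show (chart 𝒟 i).1 ⟨x, hV hx⟩ = _ from hs.2 x (hV hx) hD, Prod.smul_mk, Prod.smul_mk] at h'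
      have h2 : X.presheaf.germ V x hx c = X.presheaf.germ V x hx c' := by simpa using congrArg Prod.snd h'
      exact h2
  · rintro ⟨f, n, r, h₁, h₂, h₃⟩
    refine ⟨PicLib.res (le_inf le_rfl hV) (r i), sec_ext' 𝒟 fun x => ?_⟩
    refine (hval _ x.1 x.2).trans ?_
    rw [germ_resO]
    by_cases hD : x.1 ∈ 𝒟.D
    · rw [show (chart 𝒟 i).1 ⟨x.1, hV x.2⟩ = _ from hs.1 x.1 (hV x.2) hD, Prod.smul_mk, smul_zero,
        ← h₁ i x.1 x.2 hD (hV x.2)]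
      exact (h₂ x.1 x.2 hD).symm
    · rw [show (chart 𝒟 i).1 ⟨x.1, hV x.2⟩ = _ from hs.2 x.1 (hV x.2) hD, Prod.smul_mk, smul_zero,
        smul_eq_mul, mul_one]
      exact (h₃ i x.1 x.2 (hV x.2) hD).symm

theorem isInvertible_glue (hN : ∀ x ∈ 𝒟.D, ∃ (W : X.Opens) (_ : x ∈ W) (g : Γ(𝒟.N, W)), IsGen 𝒟.N W g) :
    PicF.IsInvertible (glue 𝒟) := by
  refine isInvertible_of_gens fun x => ?_
  rcases 𝒟.cover x with hD | ⟨i, hi⟩
  · obtain ⟨W, hxW, g, hg⟩ := hN x hD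
    exact ⟨W ⊓ 𝒟.D, ⟨hxW, hD⟩, _, isGen_secD 𝒟 inf_le_right (hg.restrict inf_le_left)⟩
  · exact ⟨_, hi, _, isGen_chart 𝒟 i⟩

end Groth.Agent.VarietyLib.StarGlue

namespace Groth.Agent.VarietyLib.StarGlue

variable {X : Scheme.{u}} (𝒟 : Data X)
  (hloc : ∀ W : X.Opens, Function.Bijective (resM 𝒟.N (inf_le_left : W ⊓ 𝒟.D ≤ W)))

include hloc in
theorem existsUnique_fst {W : X.Opens} (s : Γ(glue 𝒟, W)) : ∃! n : Γ(𝒟.N, W),
    ∀ x (hW : x ∈ W), x ∈ 𝒟.D → 𝒟.N.presheaf.germ W x hW n = (s.1 ⟨x, hW⟩).1 := by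
  obtain ⟨n, r, h₁, h₂, h₃⟩ := s.2
  obtain ⟨n', hn'⟩ := (hloc W).2 n
  refine ⟨n', fun x hW hD => ?_, fun m hm => (hloc W).1 (sec_ext_germ 𝒟.N fun x hx => ?_)⟩
  · rw [h₂ x hW hD, ← germ_resM 𝒟.N (inf_le_left : W ⊓ 𝒟.D ≤ W) ⟨hW, hD⟩ n', hn']
  · rw [germ_resM, hm x hx.1 hx.2, hn', h₂ x hx.1 hx.2]

/-- The comparison with `N`. -/
noncomputable def fstSec (W : X.Opens) (s : Γ(glue 𝒟, W)) : Γ(𝒟.N, W) :=
  (existsUnique_fst 𝒟 hloc s).choose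

theorem fstSec_spec {W : X.Opens} (s : Γ(glue 𝒟, W)) (x : X) (hW : x ∈ W) (hD : x ∈ 𝒟.D) :
    𝒟.N.presheaf.germ W x hW (fstSec 𝒟 hloc W s) = (s.1 ⟨x, hW⟩).1 :=
  (existsUnique_fst 𝒟 hloc s).choose_spec.1 x hW hD

theorem eq_fstSec {W : X.Opens} (s : Γ(glue 𝒟, W)) {m : Γ(𝒟.N, W)}
    (h : ∀ x (hW : x ∈ W), x ∈ 𝒟.D → 𝒟.N.presheaf.germ W x hW m = (s.1 ⟨x, hW⟩).1) :
    m = fstSec 𝒟 hloc W s :=
  (existsUnique_fst 𝒟 hloc s).choose_spec.2 m h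

/-- The morphism to `N`, when `N` is determined by its sections on `D`. -/
noncomputable def toN : glue 𝒟 ⟶ 𝒟.N :=
  ⟨PresheafOfModules.homMk
    { app := fun W => AddCommGrpCat.ofHom (AddMonoidHom.mk' (fstSec 𝒟 hloc W.unop) fun s t =>
        (eq_fstSec 𝒟 hloc (s + t) fun x hW hD => by
          refine (map_add (𝒟.N.presheaf.germ W.unop x hW).hom _ _).trans ?_
          exact congrArg₂ (· + ·) (fstSec_spec 𝒟 hloc s x hW hD) (fstSec_spec 𝒟 hloc t x hW hD)).symm)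
      naturality := fun {V W} i => by
        ext s
        refine (eq_fstSec 𝒟 hloc (W := W.unop) _ fun x hW hD => ?_).symm
        refine (germ_resM 𝒟.N i.unop.le hW _).trans ?_
        exact (fstSec_spec 𝒟 hloc s x (i.unop.le hW) hD).trans rfl }
    (fun W r s => (eq_fstSec 𝒟 hloc _ fun x hW hD => by
      refine (germ_smul' 𝒟.N hW r (fstSec 𝒟 hloc W.unop s)).trans ?_
      exact (congrArg (X.presheaf.germ W.unop x hW r • ·) (fstSec_spec 𝒟 hloc s x hW hD)).trans rfl).symm)⟩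

theorem toN_secD {W : X.Opens} (hW : W ≤ 𝒟.D) (n : Γ(𝒟.N, W)) :
    (toN 𝒟 hloc).app W (secD 𝒟 hW n) = n :=
  (eq_fstSec 𝒟 hloc (secD 𝒟 hW n) fun x hx hD => by rw [secD_val]).symm

theorem toN_bijective {W : X.Opens} (hW : W ≤ 𝒟.D) : Function.Bijective ((toN 𝒟 hloc).app W) :=
  (Function.Bijective.of_comp_iff _ (secD_bijective 𝒟 hW)).1 (by
    convert Function.bijective_id using 1
    funext n
    exact toN_secD 𝒟 hloc hW n)

theorem isIso_restrict_of_bijective {Y : Scheme.{u}} {D : Y.Opens} {M N : Y.Modules} (φ : M ⟶ N)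
    (h : ∀ W : Y.Opens, W ≤ D → Function.Bijective (φ.app W)) :
    IsIso ((Scheme.Modules.restrictFunctor D.ι).map φ) := by
  rw [Scheme.Modules.Hom.isIso_iff_isIso_app]
  intro V
  have e : ((Scheme.Modules.restrictFunctor D.ι).map φ).app V = φ.app (D.ι ''ᵁ V) := rfl
  have hle : D.ι ''ᵁ V ≤ D := (D.ι.image_mono le_top).trans D.ι_image_top.le
  have := (ConcreteCategory.isIso_iff_bijective (φ.app (D.ι ''ᵁ V))).2 (h _ hle)
  exact e ▸ this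

theorem isIso_restrict_toN : IsIso ((Scheme.Modules.restrictFunctor 𝒟.D.ι).map (toN 𝒟 hloc)) :=
  isIso_restrict_of_bijective (D := 𝒟.D) (toN 𝒟 hloc) fun _ hW => toN_bijective 𝒟 hloc hW

end Groth.Agent.VarietyLib.StarGlue
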