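import Groth.Agent.S7679
import Groth.Agent.Coherent.CohOps
import Groth.Agent.Coherent.GradedCoh
import Groth.Agent.Coherent.FormalFunctions
import Groth.Agent.EulerLib.Twist
import Groth.Agent.CAlgH3.Depth

/-!
# Morphisms between negative powers of an invertible module, and multiplication on twists
-/

set_option autoImplicit false
set_option backward.isDefEq.respectTransparency.types false

universe u

open CategoryTheory CategoryTheory.Limits AlgebraicGeometry Opposite TopologicalSpace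
open Groth.Agent.AmpleLib Groth.Agent.PicLib Groth.Agent.Coherent
open scoped Pointwise

namespace Groth.Agent.VarietyLib.NegTwist

variable {X : Scheme.{u}}

/-- Morphisms agreeing on sections of small opens are equal. -/
theorem hom_ext_local {G H : X.Modules} {ψ ψ' : G ⟶ H}
    (h : ∀ y : X, ∃ U : X.Opens, y ∈ U ∧ ∀ V, V ≤ U → ∀ z : Γ(G, V), ψ.app V z = ψ'.app V z) : ψ = ψ' := by
  refine Scheme.Modules.hom_ext _ _ fun W => ConcreteCategory.hom_ext _ _ fun z => ?_
  refine sec_ext _ _ _ fun y hy => ?_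
  obtain ⟨U, hyU, hU⟩ := h y
  refine ⟨W ⊓ U, inf_le_left, ⟨hy, hyU⟩, ?_⟩
  rw [← app_resM, ← app_resM]
  exact hU _ inf_le_right _

/-- A morphism injective on sections of small opens is a monomorphism. -/
theorem mono_of_local {G H : X.Modules} (ψ : G ⟶ H)
    (h : ∀ y : X, ∃ U : X.Opens, y ∈ U ∧ ∀ V, V ≤ U → ∀ z : Γ(G, V), ψ.app V z = 0 → z = 0) : Mono ψ := by
  refine Preadditive.mono_of_cancel_zero _ fun {Q} q hq => hom_ext_local fun y => ?_
  obtain ⟨U, hyU, hU⟩ := h y
  refine ⟨U, hyU, fun V hV z => ?_⟩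
  have : ψ.app V (q.app V z) = 0 := by
    rw [← ConcreteCategory.comp_apply, ← Scheme.Modules.Hom.comp_app, hq]
    rfl
  exact (hU V hV _ this).trans rfl

theorem tensorMap_comp_id (F : X.Modules) {P Q R : X.Modules} (f : P ⟶ Q) (g : Q ⟶ R) :
    AmpleLib.tensorMap (𝟙 F) (f ≫ g) = AmpleLib.tensorMap (𝟙 F) f ≫ AmpleLib.tensorMap (𝟙 F) g :=
  AmpleLib.hom_ext fun U a b => by
    rw [Scheme.Modules.Hom.comp_app, ConcreteCategory.comp_apply, tensorMap_tmul, tensorMap_tmul, tensorMap_tmul]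
    rfl

theorem tensorMap_add (F : X.Modules) {P Q : X.Modules} (f g : P ⟶ Q) :
    AmpleLib.tensorMap (𝟙 F) (f + g) = AmpleLib.tensorMap (𝟙 F) f + AmpleLib.tensorMap (𝟙 F) g :=
  AmpleLib.hom_ext fun U a b => by
    rw [Scheme.Modules.Hom.add_app, tensorMap_tmul]
    show _ = (AmpleLib.tensorMap (𝟙 F) f).app U (tmul a b) + (AmpleLib.tensorMap (𝟙 F) g).app U (tmul a b)
    rw [tensorMap_tmul, tensorMap_tmul, ← tmul_add_right, Scheme.Modules.Hom.add_app]
    rfl

variable {M : X.Modules}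

/-- The value of a morphism `M^D → O` on a local section of `M`. -/
noncomputable def val {D : ℕ} (a : CohB1.tensorPow M D ⟶ Coh.structureModule X) {U : X.Opens} (g : Γ(M, U)) :
    Γ(X, U) :=
  a.app U (powSec g D)

theorem val_add {D : ℕ} (a b : CohB1.tensorPow M D ⟶ Coh.structureModule X) {U : X.Opens} (g : Γ(M, U)) :
    val (a + b) g = val a g + val b g := by
  unfold val
  rw [Scheme.Modules.Hom.add_app]
  rfl

theorem val_resM {D : ℕ} (a : CohB1.tensorPow M D ⟶ Coh.structureModule X) {U V : X.Opens} (h : V ≤ U)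
    (g : Γ(M, U)) : val a (resM M h g) = X.presheaf.map (homOfLE h).op (val a g) := by
  unfold val
  rw [← resM_powSec]
  exact app_resM a h (powSec g D)

/-- `ψ` is multiplication by `a`. -/
def IsMulBy {D l m : ℕ} (a : CohB1.tensorPow M D ⟶ Coh.structureModule X)
    (ψ : CohB1.tensorPow M l ⟶ CohB1.tensorPow M m) : Prop :=
  ∀ (U : X.Opens) (g : Γ(M, U)), ψ.app U (powSec g l) = val a g • powSec g m

theorem hom_ext_pow (hM : PicF.IsInvertible M) {G : X.Modules} {l : ℕ} {ψ ψ' : CohB1.tensorPow M l ⟶ G}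
    (h : ∀ (U : X.Opens) (g : Γ(M, U)), ψ.app U (powSec g l) = ψ'.app U (powSec g l)) : ψ = ψ' := by
  obtain ⟨W, g, hmem, hg⟩ := exists_cover hM
  exact hom_ext_gen W (top_le_iff.1 fun y _ => Opens.mem_iSup.2 ⟨y, hmem y⟩) _
    (fun y => isGen_powSec (hg y) l) _ _ fun y => h _ _

theorem exists_mulBy (hM : PicF.IsInvertible M) {D : ℕ} (a : CohB1.tensorPow M D ⟶ Coh.structureModule X)
    {l m : ℕ} (h : l = m + D) :
    ∃ ψ : CohB1.tensorPow M l ⟶ CohB1.tensorPow M m, IsMulBy a ψ := by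
  subst h
  obtain ⟨e, he⟩ := exists_powIso hM m D
  refine ⟨e.inv ≫ AmpleLib.tensorMap (𝟙 _) a ≫ (Groth.Agent.S7679.rightUnit _).hom, fun U g => ?_⟩
  have h1 : e.inv.app U (powSec g (m + D)) = tmul (powSec g m) (powSec g D) := by
    rw [← he U g, ← ConcreteCategory.comp_apply, ← Scheme.Modules.Hom.comp_app, e.hom_inv_id]
    rfl
  rw [Scheme.Modules.Hom.comp_app, Scheme.Modules.Hom.comp_app, ConcreteCategory.comp_apply,
    ConcreteCategory.comp_apply, h1, tensorMap_tmul]
  exact Groth.Agent.S7679.rightUnit_tmul _ (powSec g m) (val a g)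

theorem exists_mul (hM : PicF.IsInvertible M) {D₁ D₂ D : ℕ}
    (a : CohB1.tensorPow M D₁ ⟶ Coh.structureModule X) (b : CohB1.tensorPow M D₂ ⟶ Coh.structureModule X)
    (h : D = D₁ + D₂) :
    ∃ c : CohB1.tensorPow M D ⟶ Coh.structureModule X,
      ∀ (U : X.Opens) (g : Γ(M, U)), val c g = val a g * val b g := by
  subst h
  obtain ⟨e, he⟩ := exists_powIso hM D₁ D₂
  refine ⟨e.inv ≫ AmpleLib.tensorMap a b ≫ (Groth.Agent.S7679.rightUnit _).hom, fun U g => ?_⟩
  have h1 : e.inv.app U (powSec g (D₁ + D₂)) = tmul (powSec g D₁) (powSec g D₂) := by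
    rw [← he U g, ← ConcreteCategory.comp_apply, ← Scheme.Modules.Hom.comp_app, e.hom_inv_id]
    rfl
  show (e.inv ≫ AmpleLib.tensorMap a b ≫ (Groth.Agent.S7679.rightUnit _).hom).app U (powSec g (D₁ + D₂)) = _
  rw [Scheme.Modules.Hom.comp_app, Scheme.Modules.Hom.comp_app, ConcreteCategory.comp_apply,
    ConcreteCategory.comp_apply, h1, tensorMap_tmul]
  refine (Groth.Agent.S7679.rightUnit_tmul _ (a.app U (powSec g D₁)) (val b g)).trans ?_
  exact mul_comm (val b g) (val a g)

theorem exists_pow (hM : PicF.IsInvertible M) {d : ℕ} (a : CohB1.tensorPow M d ⟶ Coh.structureModule X) :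
    ∀ i : ℕ, ∀ D, D = i * d → ∃ c : CohB1.tensorPow M D ⟶ Coh.structureModule X,
      ∀ (U : X.Opens) (g : Γ(M, U)), val c g = val a g ^ i
  | 0, D, h => by
    obtain rfl : D = 0 := by rw [h, Nat.zero_mul]
    exact ⟨𝟙 _, fun U g => by rw [pow_zero]; rfl⟩
  | i + 1, D, h => by
    obtain ⟨c, hc⟩ := exists_pow hM a i _ rfl
    obtain ⟨c', hc'⟩ := exists_mul hM c a (h.trans (Nat.succ_mul i d))
    exact ⟨c', fun U g => by rw [hc', hc, pow_succ]⟩

/-- A global section of `L^d` as a morphism `M^d → O`, for `M` inverse to `L`. -/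
theorem exists_hom_of_glocus {L : X.Modules} (hLi : PicF.IsInvertible L) (hMi : PicF.IsInvertible M)
    (e : CohB1.tensorMod L M ≅ Coh.structureModule X) {d : ℕ} (b : Γ(CohB1.tensorPow L d, ⊤)) :
    ∃ a : CohB1.tensorPow M d ⟶ Coh.structureModule X, ∀ (U : X.Opens) (g : Γ(M, U)), IsGen M U g →
      ∀ z (hz : z ∈ U), IsUnit (X.presheaf.germ U z hz (val a g)) ↔ z ∈ glocus _ b := by
  have hLd := isInvertible_tensorPow hLi d
  obtain ⟨e₁, -⟩ := exists_powTensorIso hLi hMi d
  obtain ⟨e₂, -⟩ := exists_iso_of_gens (fun _ : PUnit.{u + 1} => (⊤ : X.Opens)) (ciSup_const)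
      (fun _ => powSec (oneSec (⊤ : X.Opens)) d) (fun _ => isGen_powSec (isGen_oneSec ⊤) d)
      (fun _ => oneSec (⊤ : X.Opens)) (fun _ => isGen_oneSec ⊤) (by
        intro i j V hi hj c hc
        rw [resM_powSec, resM_oneSec] at hc
        have := ((isGen_powSec (isGen_oneSec V) d) V le_rfl).1 (a₁ := 1) (a₂ := c) (by simpa only [resM_self, one_smul] using hc)
        rw [← this, one_smul])
  let ε := e₁.symm ≪≫ powIsoOfIso e d ≪≫ e₂
  obtain ⟨φb, hφb⟩ := Groth.Agent.S7679.exists_hom_of_sec b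
  refine ⟨toUnitTensor _ ≫ AmpleLib.tensorMap φb (𝟙 _) ≫ ε.hom, fun U g hg z hz => ?_⟩
  obtain ⟨W, hzW, h, hh⟩ := exists_isGen hLd z
  let V := U ⊓ W
  have hzV : z ∈ V := ⟨hz, hzW⟩
  let h' := resM _ (inf_le_right : V ≤ W) h
  let g' := powSec (resM M (inf_le_left : V ≤ U) g) d
  have hh' : IsGen _ V h' := hh.restrict inf_le_right
  have hg' : IsGen _ V g' := isGen_powSec (hg.restrict inf_le_left) d
  let c := hh'.coef le_rfl (resM _ le_top b)
  have hc : c • h' = resM _ (le_top : V ≤ ⊤) b := by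
    have := hh'.coef_spec le_rfl (resM _ le_top b)
    rwa [resM_self] at this
  have hgen := isGen_map_iso ε (isGen_tmul hh' hg')
  let u : Γ(X, V) := ε.hom.app V (tmul h' g')
  have hu : IsUnit u := by
    obtain ⟨r, hr⟩ := (hgen V le_rfl).2 (oneSec V)
    refine isUnit_iff_exists_inv'.2 ⟨r, ?_⟩
    simp only [resM_self] at hr
    exact hr
  have hval : val (toUnitTensor _ ≫ AmpleLib.tensorMap φb (𝟙 _) ≫ ε.hom) (resM M (inf_le_left : V ≤ U) g) = c * u := by
    show ε.hom.app V ((AmpleLib.tensorMap φb (𝟙 _)).app V (tmul (oneSec V) g')) = _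
    rw [tensorMap_tmul, hφb, ← hc]
    show ε.hom.app V (tmul (c • h') g') = _
    rw [tmul_smul_left]
    exact ε.hom.app_smul (U := V) c _
  rw [val_resM] at hval
  rw [← X.presheaf.germ_res_apply (homOfLE (inf_le_left : V ≤ U)) z hzV, hval, map_mul, IsUnit.mul_iff,
    and_iff_left (hu.map _), ← X.mem_basicOpen c z hzV, ← glocus_inf b hh']
  exact ⟨fun h => h.1, fun h => ⟨h, hzV⟩⟩

section Coh

variable {A : Type u} [CommRing A] (φ : A →+* Γ(X, ⊤)) (F : X.Modules)

/-- The action on cohomology of a morphism of powers. -/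
noncomputable def act {l m : ℕ} (ψ : CohB1.tensorPow M l ⟶ CohB1.tensorPow M m) (q : ℕ) :
    HA φ (CohB1.tensorMod F (CohB1.tensorPow M l)) (⊤ : X.Opens) q →ₗ[A]
      HA φ (CohB1.tensorMod F (CohB1.tensorPow M m)) (⊤ : X.Opens) q :=
  postA φ (AmpleLib.tensorMap (𝟙 F) ψ) ⊤ q

variable {φ F}

/-- Compositions of multiplications depend only on the product. -/
theorem act_comp_eq (hM : PicF.IsInvertible M) {q D₁ D₂ l n n' m : ℕ}
    {a : CohB1.tensorPow M D₁ ⟶ Coh.structureModule X} {b : CohB1.tensorPow M D₂ ⟶ Coh.structureModule X}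
    {ψa : CohB1.tensorPow M n ⟶ CohB1.tensorPow M m} {ψb : CohB1.tensorPow M l ⟶ CohB1.tensorPow M n}
    {ψa' : CohB1.tensorPow M l ⟶ CohB1.tensorPow M n'} {ψb' : CohB1.tensorPow M n' ⟶ CohB1.tensorPow M m}
    (ha : IsMulBy a ψa) (hb : IsMulBy b ψb) (ha' : IsMulBy a ψa') (hb' : IsMulBy b ψb')
    (x : HA φ (CohB1.tensorMod F (CohB1.tensorPow M l)) (⊤ : X.Opens) q) :
    act φ F ψa q (act φ F ψb q x) = act φ F ψb' q (act φ F ψa' q x) := by
  have : ψb ≫ ψa = ψa' ≫ ψb' := hom_ext_pow hM fun U g => by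
    simp only [Scheme.Modules.Hom.comp_app, ConcreteCategory.comp_apply]
    rw [hb, ha']
    refine (ψa.app_smul (U := U) _ _).trans (Eq.trans ?_ (ψb'.app_smul (U := U) _ _).symm)
    rw [ha, hb', ← mul_smul, ← mul_smul, mul_comm]
  show postA φ _ ⊤ q (postA φ _ ⊤ q x) = postA φ _ ⊤ q (postA φ _ ⊤ q x)
  rw [← postA_comp, ← postA_comp, ← tensorMap_comp_id, ← tensorMap_comp_id, this]

/-- Multiplication by a product is the composition. -/
theorem act_mul (hM : PicF.IsInvertible M) {q D₁ D₂ D l n m : ℕ}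
    {a : CohB1.tensorPow M D₁ ⟶ Coh.structureModule X} {b : CohB1.tensorPow M D₂ ⟶ Coh.structureModule X}
    {c : CohB1.tensorPow M D ⟶ Coh.structureModule X}
    (hc : ∀ (U : X.Opens) (g : Γ(M, U)), val c g = val a g * val b g)
    {ψa : CohB1.tensorPow M n ⟶ CohB1.tensorPow M m} {ψb : CohB1.tensorPow M l ⟶ CohB1.tensorPow M n}
    {ψc : CohB1.tensorPow M l ⟶ CohB1.tensorPow M m}
    (ha : IsMulBy a ψa) (hb : IsMulBy b ψb) (hc' : IsMulBy c ψc)
    (x : HA φ (CohB1.tensorMod F (CohB1.tensorPow M l)) (⊤ : X.Opens) q) :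
    act φ F ψc q x = act φ F ψa q (act φ F ψb q x) := by
  have : ψb ≫ ψa = ψc := hom_ext_pow hM fun U g => by
    simp only [Scheme.Modules.Hom.comp_app, ConcreteCategory.comp_apply]
    rw [hb]
    refine (ψa.app_smul (U := U) _ _).trans ?_
    rw [ha, hc', hc, ← mul_smul, mul_comm]
  show postA φ _ ⊤ q x = postA φ _ ⊤ q (postA φ _ ⊤ q x)
  rw [← postA_comp, ← tensorMap_comp_id, this]

theorem act_add {l m q : ℕ} (ψ ψ' : CohB1.tensorPow M l ⟶ CohB1.tensorPow M m)
    (x : HA φ (CohB1.tensorMod F (CohB1.tensorPow M l)) (⊤ : X.Opens) q) :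
    act φ F (ψ + ψ') q x = act φ F ψ q x + act φ F ψ' q x := by
  show postA φ _ ⊤ q x = _
  rw [tensorMap_add]
  exact postHM_add _ _ q ⊤ x

end Coh

section Scalar

variable {A : Type u} [CommRing A] [X.Over (Spec (CommRingCat.of A))]

theorem val_smulMod {D : ℕ} (a : CohB1.tensorPow M D ⟶ Coh.structureModule X) (c : A) {U : X.Opens} (g : Γ(M, U)) :
    val (a ≫ Formal.smulMod A _ c) g = (show Γ(X, U) from Coh.resTop X (op U) (baseHom A X c)) * val a g := rfl

theorem isMulBy_smulMod {D l m : ℕ} {a : CohB1.tensorPow M D ⟶ Coh.structureModule X}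
    {ψ : CohB1.tensorPow M l ⟶ CohB1.tensorPow M m} (h : IsMulBy a ψ) (c : A) :
    IsMulBy (a ≫ Formal.smulMod A _ c) (ψ ≫ Formal.smulMod A _ c) := fun U g => by
  rw [Scheme.Modules.Hom.comp_app, ConcreteCategory.comp_apply, h, val_smulMod, mul_smul]
  rfl

theorem isMulBy_add {D l m : ℕ} {a b : CohB1.tensorPow M D ⟶ Coh.structureModule X}
    {ψ ψ' : CohB1.tensorPow M l ⟶ CohB1.tensorPow M m} (h : IsMulBy a ψ) (h' : IsMulBy b ψ') :
    IsMulBy (a + b) (ψ + ψ') := fun U g => by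
  rw [Scheme.Modules.Hom.add_app, val_add, add_smul, ← h, ← h']
  rfl

theorem act_smulMod (F : X.Modules) {l m q : ℕ} (ψ : CohB1.tensorPow M l ⟶ CohB1.tensorPow M m) (c : A)
    (x : HA (baseHom A X) (CohB1.tensorMod F (CohB1.tensorPow M l)) (⊤ : X.Opens) q) :
    act (baseHom A X) F (ψ ≫ Formal.smulMod A _ c) q x = c • act (baseHom A X) F ψ q x := by
  have : AmpleLib.tensorMap (𝟙 F) (ψ ≫ Formal.smulMod A _ c) =
      AmpleLib.tensorMap (𝟙 F) ψ ≫ Formal.smulMod A _ c :=
    AmpleLib.hom_ext fun U a b => by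
      simp only [Scheme.Modules.Hom.comp_app, ConcreteCategory.comp_apply]
      rw [tensorMap_tmul, tensorMap_tmul]
      exact tmul_smul_right (show Γ(X, U) from Coh.resTop X (op U) (baseHom A X c)) _ _
  show postA _ _ ⊤ q x = _
  rw [this, postA_comp]
  exact postA_smulMod (A := A) _ c q _

end Scalar

section Field

variable {k : Type u} [Field k] [X.Over (Spec (CommRingCat.of k))]
  [IsProper (X ↘ (Spec (CommRingCat.of k)))] {F : X.Modules}

/-- Multiplication by an element regular on `F` is eventually injective on `H¹`. -/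
theorem act_injective {L : X.Modules} (hL : CohB1.IsAmple L) (hMi : PicF.IsInvertible M)
    (hinv : ClSub.IsInverseOf L M) (hF : Coh.IsCoh F)
    (hdepth : ∀ x : X, IsClosed ({x} : Set X) → 2 ≤ _root_.LocCoh.depth (X.presheaf.stalk x) (F.presheaf.stalk x))
    {D : ℕ} (a : CohB1.tensorPow M D ⟶ Coh.structureModule X)
    (hreg : ∀ (U : X.Opens) (g : Γ(M, U)), IsGen M U g → ∀ x (hx : x ∈ U), x ∈ AssSch.Ass F →
      IsUnit (X.presheaf.germ U x hx (val a g))) :
    ∃ m₀, ∀ m, m₀ ≤ m → ∀ {l : ℕ}, l = m + D → ∀ ψ : CohB1.tensorPow M l ⟶ CohB1.tensorPow M m,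
      IsMulBy a ψ → Function.Injective (act (baseHom k X) F ψ 1) := by
  haveI : IsLocallyNoetherian X := LocallyOfFiniteType.isLocallyNoetherian (X ↘ Spec (CommRingCat.of k))
  haveI := hF.1
  have hD := isInvertible_tensorPow hMi D
  let f := AmpleLib.tensorMap (𝟙 F) a ≫ (Groth.Agent.S7679.rightUnit F).hom
  have hf : ∀ {V : X.Opens} (x : Γ(F, V)) (g : Γ(M, V)), f.app V (tmul x (powSec g D)) = val a g • x := by
    intro V x g
    show (Groth.Agent.S7679.rightUnit F).hom.app V ((AmpleLib.tensorMap (𝟙 F) a).app V (tmul x (powSec g D))) = _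
    rw [tensorMap_tmul]
    exact Groth.Agent.S7679.rightUnit_tmul F x (val a g)
  have hloc : ∀ y : X, ∃ (U : X.Opens) (g : Γ(M, U)), y ∈ U ∧ IsAffineOpen U ∧ IsGen M U g := fun y => by
    obtain ⟨V, hV, g, hg⟩ := exists_isGen hMi y
    obtain ⟨U, hU, hyU, hle⟩ := exists_isAffineOpen_mem_and_subset (x := y) (U := V) hV
    exact ⟨U, _, hyU, hU, hg.restrict (fun z hz => hle hz)⟩
  have hcancel : ∀ {V : X.Opens} (g : Γ(M, V)), IsGen M V g → ∀ x : Γ(F, V), val a g • x = 0 → x = 0 := by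
    intro V g hg x hx
    refine sec_ext _ _ _ fun y hy => ?_
    obtain ⟨W, hW, hyW, hWV⟩ := exists_isAffineOpen_mem_and_subset (x := y) (U := V) hy
    refine ⟨W, fun z hz => hWV hz, hyW, ?_⟩
    rw [map_zero]
    refine Groth.Agent.S7679.pow_smul_cancel hF hW (val a (resM M (fun z hz => hWV hz) g))
      (fun z hz hza => hreg W _ (hg.restrict _) z hz hza) 1 ?_
    rw [pow_one, val_resM]
    exact (resM_smul F _ (val a g) x).symm.trans (by rw [hx, map_zero])
  haveI hfm : Mono f := mono_of_local f fun y => by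
    obtain ⟨U, g, hyU, -, hg⟩ := hloc y
    refine ⟨U, hyU, fun V hV z hz => ?_⟩
    obtain ⟨x, rfl⟩ := (bijective_tmul_powSec (M := F) hg D V hV).2 z
    rw [hf] at hz
    show tmul x _ = 0
    rw [hcancel _ (hg.restrict hV) x hz, tmul_zero_left]
  let S := ShortComplex.mk f (cokernel.π f) (cokernel.condition f)
  have hS : S.ShortExact := ⟨S.exact_of_g_is_cokernel (cokernelIsCokernel f)⟩
  have hG : Coh.IsCoh (cokernel f) := isCoh_cokernel f (isQCoh_tensor_invertible F hD) hF
  have hass : ∀ z : X, IsClosed ({z} : Set X) → ¬ Curv2.IsAssPoint (cokernel f) z := by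
    intro z hzc hza
    obtain ⟨U, g, hzU, -, hg⟩ := hloc z
    let c := X.presheaf.germ U z hzU (val a g)
    let P := DerSch.stalkFunctor X z
    let π' := (P.map (cokernel.π f)).hom
    have hsurj : Function.Surjective π' :=
      (ModuleCat.epi_iff_surjective (P.map (cokernel.π f))).1 inferInstance
    have hrange : LinearMap.ker π' = c • (⊤ : Submodule (X.presheaf.stalk z) (F.presheaf.stalk z)) := by
      have hex := (hS.exact.map P).moduleCat_range_eq_ker
      rw [show LinearMap.ker π' = LinearMap.range (P.map f).hom from hex.symm]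
      refine le_antisymm ?_ ?_
      · rintro _ ⟨u, rfl⟩
        obtain ⟨W, hzW, w, rfl⟩ := (CohB1.tensorMod F (CohB1.tensorPow M D)).presheaf.exists_germ_eq u
        obtain ⟨x, hx⟩ := (bijective_tmul_powSec (M := F) hg D (W ⊓ U) inf_le_right).2 (resM _ inf_le_left w)
        refine ⟨F.presheaf.germ (W ⊓ U) z ⟨hzW, hzU⟩ x, trivial, ?_⟩
        show c • _ = (P.map f) _
        rw [← TopCat.Presheaf.germ_res_apply (CohB1.tensorMod F (CohB1.tensorPow M D)).presheaf
          (homOfLE (inf_le_left : W ⊓ U ≤ W)) z ⟨hzW, hzU⟩]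
        erw [Coherent.stalk_map_germ, ← hx, hf, Groth.Agent.QCohLoc.germ_smul', val_resM,
          TopCat.Presheaf.germ_res_apply]
        rfl
      · rintro _ ⟨v, -, rfl⟩
        obtain ⟨W, hzW, x, rfl⟩ := F.presheaf.exists_germ_eq v
        refine ⟨(CohB1.tensorMod F (CohB1.tensorPow M D)).presheaf.germ (W ⊓ U) z ⟨hzW, hzU⟩
          (tmul (resM F inf_le_left x) (powSec (resM M inf_le_right g) D)), ?_⟩
        show (P.map f) _ = c • _
        erw [Coherent.stalk_map_germ, hf, Groth.Agent.QCohLoc.germ_smul', val_resM,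
          TopCat.Presheaf.germ_res_apply, TopCat.Presheaf.germ_res_apply]
        rfl
    let e : QuotSMulTop c (F.presheaf.stalk z) ≃ₗ[X.presheaf.stalk z] (cokernel f).presheaf.stalk z :=
      (Submodule.quotEquivOfEq _ _ hrange.symm).trans (π'.quotKerEquivOfSurjective hsurj)
    by_cases hsub : Subsingleton ((cokernel f).presheaf.stalk z)
    · haveI := hsub
      exact (associatedPrimes.eq_empty_of_subsingleton (R := X.presheaf.stalk z)
        (M := (cokernel f).presheaf.stalk z)).le hza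
    haveI : Nontrivial ((cokernel f).presheaf.stalk z) := not_subsingleton_iff_nontrivial.1 hsub
    haveI : Nontrivial (QuotSMulTop c (F.presheaf.stalk z)) := e.toEquiv.nontrivial
    haveI := AssSch12.finite_stalk hF z
    haveI : Module.Finite (X.presheaf.stalk z) ((cokernel f).presheaf.stalk z) := AssSch12.finite_stalk hG z
    have hcm : c ∈ IsLocalRing.maximalIdeal (X.presheaf.stalk z) := by
      rw [IsLocalRing.mem_maximalIdeal]
      intro hu
      apply hsub
      have : Subsingleton (QuotSMulTop c (F.presheaf.stalk z)) := Submodule.Quotient.subsingleton_iff.2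
        (Submodule.eq_top_iff'.2 fun v => ⟨((hu.unit⁻¹ : (X.presheaf.stalk z)ˣ) : X.presheaf.stalk z) • v, trivial,
          show c • _ = v by rw [← mul_smul, hu.mul_val_inv, one_smul]⟩)
      exact e.symm.toEquiv.subsingleton
    have hcreg : IsSMulRegular (F.presheaf.stalk z) c := by
      refine (isSMulRegular_iff_right_eq_zero_of_smul).2 fun v hv => ?_
      obtain ⟨W, hzW, x, rfl⟩ := F.presheaf.exists_germ_eq v
      have hgen := isGen_powSec (hg.restrict (inf_le_right : W ⊓ U ≤ U)) D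
      have h0 : (CohB1.tensorMod F (CohB1.tensorPow M D)).presheaf.germ (W ⊓ U) z ⟨hzW, hzU⟩
          (tmul (resM F inf_le_left x) (powSec (resM M inf_le_right g) D)) = 0 := by
        apply (ModuleCat.mono_iff_injective (P.map f)).1 inferInstance
        refine Eq.trans ?_ (map_zero (P.map f).hom).symm
        show (P.map f) _ = _
        erw [Coherent.stalk_map_germ, hf, Groth.Agent.QCohLoc.germ_smul', val_resM,
          TopCat.Presheaf.germ_res_apply, TopCat.Presheaf.germ_res_apply]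
        exact hv
      have h1 := (Groth.Agent.S7679.germ_tmul_eq_zero_iff F hgen _ ⟨hzW, hzU⟩).1 h0
      erw [TopCat.Presheaf.germ_res_apply] at h1
      exact h1
    have h1 := CAlgH3.depth_quotSMulTop_add_one hcm hcreg
    rw [CAlgH3.depth_congr e] at h1
    have h2 : 1 ≤ _root_.LocCoh.depth (X.presheaf.stalk z) ((cokernel f).presheaf.stalk z) := by
      have h3 := (hdepth z hzc).trans h1.ge
      rw [← one_add_one_eq_two] at h3
      exact (ENat.addLECancellable_of_ne_top (by simp)).add_le_add_iff_right.1 h3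
    exact CAlgH3.one_le_depth_iff.1 h2 hza
  obtain ⟨m₀, hm₀⟩ := Groth.Agent.S7679.result k X L hL M hinv (cokernel f) hG hass
  refine ⟨m₀, fun m hm l hl ψ hψ => ?_⟩
  have hPm := isInvertible_tensorPow hMi m
  have hT : (EulerLib.twistSeq S (CohB1.tensorPow M m)).ShortExact := EulerLib.twistSeq_shortExact hPm hS
  obtain ⟨α₀, hα₀⟩ := exists_assocHom F (CohB1.tensorPow M m) hD
  have key : ∀ l', l' = D + m → ∃ α : CohB1.tensorMod (CohB1.tensorMod F (CohB1.tensorPow M D)) (CohB1.tensorPow M m) ⟶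
      CohB1.tensorMod F (CohB1.tensorPow M l'),
      ∀ (V : X.Opens) (x : Γ(F, V)) (g : Γ(M, V)),
        α.app V (tmul (tmul x (powSec g D)) (powSec g m)) = tmul x (powSec g l') := by
    rintro _ rfl
    obtain ⟨e, he⟩ := exists_powIso hMi D m
    refine ⟨α₀ ≫ AmpleLib.tensorMap (𝟙 F) e.hom, fun V x g => ?_⟩
    rw [Scheme.Modules.Hom.comp_app, ConcreteCategory.comp_apply, hα₀, tensorMap_tmul, he]
    rfl
  obtain ⟨α, hα⟩ := key l (hl.trans (add_comm m D))
  have hsurj : ∀ {U : X.Opens} {g : Γ(M, U)}, IsGen M U g → ∀ (V : X.Opens) (h : V ≤ U)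
      (z : Γ(CohB1.tensorMod (CohB1.tensorMod F (CohB1.tensorPow M D)) (CohB1.tensorPow M m), V)),
      ∃ x, z = tmul (tmul x (powSec (resM M h g) D)) (powSec (resM M h g) m) := by
    intro U g hg V h z
    obtain ⟨w, rfl⟩ := (bijective_tmul_powSec (M := CohB1.tensorMod F (CohB1.tensorPow M D)) hg m V h).2 z
    obtain ⟨x, rfl⟩ := (bijective_tmul_powSec (M := F) hg D V h).2 w
    exact ⟨x, rfl⟩
  haveI : Mono α := mono_of_local α fun y => by
    obtain ⟨U, g, hyU, -, hg⟩ := hloc y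
    refine ⟨U, hyU, fun V hV z hz => ?_⟩
    obtain ⟨x, rfl⟩ := hsurj hg V hV z
    rw [hα] at hz
    rw [(bijective_tmul_powSec (M := F) hg l V hV).1 (a₁ := x) (a₂ := 0) (hz.trans (tmul_zero_left _).symm), tmul_zero_left,
      tmul_zero_left]
  haveI : Epi α := epi_of_locally_surjective α fun W b y hy => by
    obtain ⟨U, g, hyU, -, hg⟩ := hloc y
    obtain ⟨x, hx⟩ := (bijective_tmul_powSec (M := F) hg l (W ⊓ U) inf_le_right).2 (resM _ inf_le_left b)
    exact ⟨W ⊓ U, inf_le_left, ⟨hy, hyU⟩, _, (hα _ x _).trans hx⟩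
  haveI : IsIso α := isIso_of_mono_of_epi α
  have heq : (EulerLib.twistSeq S (CohB1.tensorPow M m)).f = α ≫ AmpleLib.tensorMap (𝟙 F) ψ :=
    hom_ext_local fun y => by
      obtain ⟨U, g, hyU, -, hg⟩ := hloc y
      refine ⟨U, hyU, fun V hV z => ?_⟩
      obtain ⟨x, rfl⟩ := hsurj hg V hV z
      show (AmpleLib.tensorMap f (𝟙 _)).app V _ = (AmpleLib.tensorMap (𝟙 F) ψ).app V (α.app V _)
      rw [hα, tensorMap_tmul, tensorMap_tmul, hf]
      refine Eq.trans ?_ (congrArg (tmul _) (hψ V _).symm)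
      exact (tmul_smul_left _ _ _).trans (tmul_smul_right _ _ _).symm
  haveI := hm₀ m hm
  haveI : Subsingleton (HA (baseHom k X) (CohB1.tensorMod (cokernel f) (CohB1.tensorPow M m)) (⊤ : X.Opens) 0) :=
    (HHA (A := k) (CohB1.tensorMod (cokernel f) (CohB1.tensorPow M m)) 0).symm.toEquiv.subsingleton
  refine (injective_iff_map_eq_zero (act (baseHom k X) F ψ 1)).2 fun x hx => ?_
  let x₁ : HA (baseHom k X) (EulerLib.twistSeq S (CohB1.tensorPow M m)).X₁ (⊤ : X.Opens) 1 :=
    postA (baseHom k X) (inv α) ⊤ 1 x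
  have h0 : postA (baseHom k X) (EulerLib.twistSeq S (CohB1.tensorPow M m)).f ⊤ 1 x₁ = 0 := by
    refine (postA_comp (baseHom k X) (inv α) (EulerLib.twistSeq S (CohB1.tensorPow M m)).f 1 x).symm.trans ?_
    rw [heq]
    refine Eq.trans ?_ hx
    show postA _ (inv α ≫ α ≫ AmpleLib.tensorMap (𝟙 F) ψ) ⊤ 1 x = _
    rw [IsIso.inv_hom_id_assoc]
    rfl
  obtain ⟨w, hw⟩ := (exact_deltaA_postA (baseHom k X) hT ⊤ 0 _).1 h0
  have hw0 : w = 0 := @Subsingleton.elim _ this w 0
  rw [hw0, map_zero] at hw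
  have hxx := congrArg (postA (baseHom k X) α ⊤ 1) (show x₁ = 0 from hw.symm)
  have h1 := (postA_comp (baseHom k X) (inv α) α 1 x).trans hxx
  rw [IsIso.inv_hom_id, postA_id] at h1
  exact h1.trans (map_zero (postA (baseHom k X) α ⊤ 1))

end Field

end Groth.Agent.VarietyLib.NegTwist
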