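import Groth.Prelude.Def_CAlg2
import Mathlib.RingTheory.Localization.FractionRing
import Mathlib.RingTheory.IntegralClosure.IntegrallyClosed

/-! `CAlg2.normRed` of a domain is its integral closure in any fraction field. -/

set_option autoImplicit false

universe u

namespace Groth.Agent.VarietyLib

variable (O : Type u) [CommRing O] [IsReduced O] (K : Type u) [CommRing K] [Algebra O K] [IsFractionRing O K]

/-- A domain is its own reduction. -/
noncomputable def redEquiv : O ≃+* CAlg2.red O :=
  RingEquiv.ofBijective (Ideal.Quotient.mk (nilradical O))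
    ⟨fun a b h => by
      rw [Ideal.Quotient.eq, mem_nilradical] at h
      exact sub_eq_zero.1 h.eq_zero, Ideal.Quotient.mk_surjective⟩

/-- The total ring of fractions of the reduction is the fraction field. -/
noncomputable def fracRedEquiv : FractionRing (CAlg2.red O) ≃+* K :=
  IsFractionRing.ringEquivOfRingEquiv (A := CAlg2.red O) (B := O) (redEquiv O).symm

theorem fracRedEquiv_mk (o : O) :
    fracRedEquiv O K (algebraMap (CAlg2.red O) (FractionRing (CAlg2.red O)) (Ideal.Quotient.mk _ o)) =
      algebraMap O K o := by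
  rw [fracRedEquiv, IsFractionRing.ringEquivOfRingEquiv_algebraMap]
  exact congrArg _ ((redEquiv O).symm_apply_apply o)

theorem fracRedEquiv_mem_iff (r : FractionRing (CAlg2.red O)) :
    fracRedEquiv O K r ∈ integralClosure O K ↔ r ∈ integralClosure (CAlg2.red O) (FractionRing (CAlg2.red O)) := by
  have e : (fracRedEquiv O K).toRingHom.comp ((algebraMap (CAlg2.red O) (FractionRing (CAlg2.red O))).comp
      (Ideal.Quotient.mk (nilradical O))) = algebraMap O K := RingHom.ext (fracRedEquiv_mk O K)
  constructor
  · rintro ⟨q, hq, h⟩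
    refine ⟨q.map (Ideal.Quotient.mk _), hq.map _, (fracRedEquiv O K).injective ?_⟩
    rw [Polynomial.eval₂_map, map_zero, ← h, ← e]
    exact Polynomial.hom_eval₂ q _ (fracRedEquiv O K).toRingHom r
  · rintro ⟨q, hq, h⟩
    refine ⟨q.map (redEquiv O).symm.toRingHom, hq.map _, ?_⟩
    have e2 : (algebraMap O K).comp (redEquiv O).symm.toRingHom =
        (fracRedEquiv O K).toRingHom.comp (algebraMap (CAlg2.red O) (FractionRing (CAlg2.red O))) := by
      refine RingHom.ext fun x => ?_
      obtain ⟨o, rfl⟩ := Ideal.Quotient.mk_surjective x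
      exact (congrArg _ ((redEquiv O).symm_apply_apply o)).trans (fracRedEquiv_mk O K o).symm
    rw [Polynomial.eval₂_map, e2]
    exact (Polynomial.hom_eval₂ q _ (fracRedEquiv O K).toRingHom r).symm.trans
      (by rw [h, map_zero])

/-- `normRed` of a domain. -/
noncomputable def normRedEquiv : CAlg2.normRed O ≃+* integralClosure O K where
  toFun r := ⟨fracRedEquiv O K r, (fracRedEquiv_mem_iff O K _).2 r.2⟩
  invFun y := ⟨(fracRedEquiv O K).symm y, (fracRedEquiv_mem_iff O K _).1 (by
    rw [RingEquiv.apply_symm_apply]; exact y.2)⟩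
  left_inv r := Subtype.ext ((fracRedEquiv O K).symm_apply_apply _)
  right_inv y := Subtype.ext ((fracRedEquiv O K).apply_symm_apply _)
  map_mul' _ _ := Subtype.ext (map_mul (fracRedEquiv O K) _ _)
  map_add' _ _ := Subtype.ext (map_add (fracRedEquiv O K) _ _)

theorem normRedEquiv_mk (o : O) :
    normRedEquiv O K (algebraMap (CAlg2.red O) (CAlg2.normRed O) (Ideal.Quotient.mk _ o)) =
      algebraMap O (integralClosure O K) o :=
  Subtype.ext (fracRedEquiv_mk O K o)

end Groth.Agent.VarietyLib
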