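import Groth.Agent.VarietyLib.PointComplement
import Groth.Agent.AbCubeLib.ProjEmbedding
import Groth.Agent.FlatMorAdm.Nagata
import Groth.Agent.DimLib.Morphism
import Groth.Agent.Coherent.Chow

/-!
# Proper completions of curves
-/

set_option autoImplicit false
set_option linter.style.haveILetI false
set_option backward.isDefEq.respectTransparency.types false

universe u

open CategoryTheory CategoryTheory.Limits AlgebraicGeometry Opposite TopologicalSpace
open Groth.Agent.Coherent Groth.Agent.PicLib Groth.Agent.AmpleLib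

namespace Groth.Agent.VarietyLib

variable (k : Type u) [Field k]

/-- An integral scheme, separated of finite type over a field, is a dense open of an integral proper scheme
of the same dimension. -/
theorem exists_proper_completion {X : Scheme.{u}} (f : X ⟶ Spec (CommRingCat.of k)) [IsIntegral X] [IsSeparated f]
    [LocallyOfFiniteType f] [QuasiCompact f] :
    ∃ (Y : Scheme.{u}) (j : X ⟶ Y) (p : Y ⟶ Spec (CommRingCat.of k)), IsIntegral Y ∧ IsOpenImmersion j ∧
      IsProper p ∧ IsDominant j ∧ j ≫ p = f ∧
      topologicalKrullDim Y = topologicalKrullDim X := by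
  obtain ⟨Y₀, j₀, p₀, hj, hjc, hp, hjp⟩ := FlatMorAdm.compactifiable f
  haveI := hj; haveI := hjc; haveI := hp
  haveI : IsReduced j₀.image := isReduced_image j₀
  haveI : IsOpenImmersion j₀.toImage := inferInstance
  have hirr : IrreducibleSpace j₀.image := by
    have h1 : _root_.IsPreirreducible (Set.univ : Set j₀.image) := by
      rw [← (j₀.toImage.denseRange).closure_range, ← Set.image_univ]
      exact ((IrreducibleSpace.isIrreducible_univ _).2.image j₀.toImage
        j₀.toImage.continuous.continuousOn).closure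
    exact { toPreirreducibleSpace := ⟨h1⟩, toNonempty := ⟨j₀.toImage (genericPoint X)⟩ }
  haveI : IsIntegral j₀.image := isIntegral_of_irreducibleSpace_of_isReduced _
  have hfac : j₀.toImage ≫ j₀.imageι ≫ p₀ = f := by rw [Scheme.Hom.toImage_imageι_assoc, hjp]
  refine ⟨j₀.image, j₀.toImage, j₀.imageι ≫ p₀, inferInstance, inferInstance, inferInstance, inferInstance,
    hfac, ?_⟩
  haveI : LocallyOfFiniteType (j₀.imageι ≫ p₀) := inferInstance
  rw [DimLib.topologicalKrullDim_eq_ptDim_genericPoint (f := j₀.imageι ≫ p₀),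
    DimLib.topologicalKrullDim_eq_ptDim_genericPoint (f := f)]
  conv_rhs => rw [← hfac, DimLib.ptDim_comp_preimmersion, genericPoint_eq_of_isOpenImmersion j₀.toImage]

/-- A proper integral curve is projective. -/
theorem exists_closedImmersion_projSpace_curve {X : Scheme.{u}} [X.Over (Spec (CommRingCat.of k))]
    [IsProper (X ↘ Spec (CommRingCat.of k))] [IsIntegral X] (hdim : topologicalKrullDim X = 1) :
    ∃ (d : ℕ) (c : X ⟶ CohB1.ProjSpace d k),
      IsClosedImmersion c ∧ c ≫ CohB1.ProjSpace.toSpec d k = X ↘ Spec (CommRingCat.of k) := by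
  obtain ⟨L, hLi, hL, -⟩ := SerreDual.exists_ample_curve k hdim (X := X)
  obtain ⟨n₀, hn⟩ := PnEmb.eventually_isRelVeryAmplePn (X ↘ Spec (CommRingCat.of k)) hL
    (AmpleLib.isInvertible_structureModule (X := X))
  have hv := hn n₀ le_rfl
  obtain ⟨d, c, hc, hcq, -⟩ := AbCubeLib.exists_isClosedImmersion_projSpace (X ↘ Spec (CommRingCat.of k))
    (AmpleLib.isInvertible_tensorMod (isInvertible_tensorPow hLi n₀) isInvertible_structureModule) hv
  exact ⟨d, c, hc, hcq⟩

/-- A curve is affine or projective. -/
theorem curve_affine_or_projective (X : Scheme.{u}) (f : X ⟶ Spec (CommRingCat.of k)) [IsIntegral X]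
    [IsSeparated f] [LocallyOfFiniteType f] [QuasiCompact f] (hdim : topologicalKrullDim X = 1) :
    IsAffine X ∨ ∃ (d : ℕ) (c : X ⟶ CohB1.ProjSpace d k),
      IsClosedImmersion c ∧ c ≫ CohB1.ProjSpace.toSpec d k = f := by
  obtain ⟨Y, j, p, hY, hj, hp, -, hjp, hYdim⟩ := exists_proper_completion k f
  haveI := hY; haveI := hj; haveI := hp
  letI : Y.Over (Spec (CommRingCat.of k)) := ⟨p⟩
  haveI : IsProper (Y ↘ Spec (CommRingCat.of k)) := hp
  have hdimY : topologicalKrullDim Y = 1 := hYdim.trans hdim
  by_cases hsurj : Function.Surjective j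
  · haveI : Surjective j := ⟨hsurj⟩
    haveI : IsIso j := isIso_of_isOpenImmersion_of_opensRange_eq_top j
      (Opens.ext (Set.range_eq_univ.2 hsurj))
    obtain ⟨d, c, hc, hcq⟩ := exists_closedImmersion_projSpace_curve k hdimY
    exact .inr ⟨d, j ≫ c, inferInstance, by rw [Category.assoc, hcq]; exact hjp⟩
  · left
    have hc : IsClosed (Set.range j)ᶜ := j.isOpenEmbedding.isOpen_range.isClosed_compl
    have hη : genericPoint Y ∉ (Set.range j)ᶜ := fun h =>
      h ⟨genericPoint X, genericPoint_eq_of_isOpenImmersion j⟩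
    haveI := EulerLib.isNoetherian_of_proper k (X := Y)
    obtain ⟨hfin, hpts, -⟩ := CurveRR24.closed_small k hdimY.le hc hη
    have hne : ((Set.range j)ᶜ).Nonempty := by
      rw [Set.nonempty_compl]
      exact fun h => hsurj (Set.range_eq_univ.1 h)
    have haff : IsAffineOpen j.opensRange :=
      isAffineOpen_compl_finite k hdimY hfin hne hpts j.opensRange (compl_compl _).symm
    haveI : IsAffine j.opensRange := haff
    exact .of_isIso j.isoOpensRange.hom

end Groth.Agent.VarietyLib
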