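import Groth.Prelude.Def_Curv2
import Mathlib

/-!
# Comparison of the base changes of a scheme to several field extensions

Two points of `X_{k'}` and `X_K` over the same point of `X` lift to a common point of `X_L` for a
compositum `L`, and the transition maps are flat; this is the tool for descent of local properties.
-/

set_option autoImplicit false
set_option backward.isDefEq.respectTransparency.types false

universe u

open CategoryTheory CategoryTheory.Limits AlgebraicGeometry

namespace Groth.Agent.VarietyLib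

variable (k : Type u) [Field k] (X : Scheme.{u}) [X.Over (Spec (CommRingCat.of k))]
variable {k' : Type u} [Field k'] [Algebra k k'] {L : Type u} [Field L] [Algebra k L]

/-- The transition map `X_L ⟶ X_{k'}` of a `k`-embedding `k' → L`. -/
noncomputable def bcExt (φ : k' →ₐ[k] L) : Curv2.bc k X L ⟶ Curv2.bc k X k' :=
  pullback.map _ _ _ _ (𝟙 X) (Spec.map (CommRingCat.ofHom φ.toRingHom)) (𝟙 _) (by simp)
    (by rw [Category.comp_id, ← Spec.map_comp, ← CommRingCat.ofHom_comp, AlgHom.toRingHom_eq_coe, φ.comp_algebraMap])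

theorem bcExt_fst (φ : k' →ₐ[k] L) : bcExt k X φ ≫ Curv2.bcFst k X k' = Curv2.bcFst k X L :=
  (pullback.lift_fst _ _ _).trans (Category.comp_id _)

theorem bcExt_snd (φ : k' →ₐ[k] L) :
    bcExt k X φ ≫ Curv2.bcSnd k X k' = Curv2.bcSnd k X L ≫ Spec.map (CommRingCat.ofHom φ.toRingHom) :=
  pullback.lift_snd _ _ _

theorem bcExt_fst_apply (φ : k' →ₐ[k] L) (w : Curv2.bc k X L) :
    Curv2.bcFst k X k' (bcExt k X φ w) = Curv2.bcFst k X L w := by
  rw [← Scheme.Hom.comp_apply, bcExt_fst]

theorem isPullback_bcExt (φ : k' →ₐ[k] L) :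
    IsPullback (bcExt k X φ) (Curv2.bcSnd k X L) (Curv2.bcSnd k X k')
      (Spec.map (CommRingCat.ofHom φ.toRingHom)) := by
  refine IsPullback.of_right ?_ (bcExt_snd k X φ) (IsPullback.of_hasPullback _ _)
  rw [show bcExt k X φ ≫ pullback.fst _ _ = Curv2.bcFst k X L from bcExt_fst k X φ,
    ← Spec.map_comp, ← CommRingCat.ofHom_comp, AlgHom.toRingHom_eq_coe, φ.comp_algebraMap]
  exact IsPullback.of_hasPullback _ _

instance flat_bcExt (φ : k' →ₐ[k] L) : Flat (bcExt k X φ) :=
  MorphismProperty.of_isPullback (P := @Flat) (isPullback_bcExt k X φ).flip inferInstance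

/-- The local maps of a transition map are faithfully flat. -/
theorem faithfullyFlat_stalkMap_bcExt (φ : k' →ₐ[k] L) (w : Curv2.bc k X L) :
    ((bcExt k X φ).stalkMap w).hom.FaithfullyFlat := by
  have hf : ((bcExt k X φ).stalkMap w).hom.Flat := Flat.stalkMap (bcExt k X φ) w
  algebraize [((bcExt k X φ).stalkMap w).hom]
  haveI : IsLocalHom (algebraMap ((Curv2.bc k X k').presheaf.stalk (bcExt k X φ w))
      ((Curv2.bc k X L).presheaf.stalk w)) := by
    rw [RingHom.algebraMap_toAlgebra]; infer_instance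
  exact Module.FaithfullyFlat.of_flat_of_isLocalHom

/-- An iterated base change is a base change. -/
noncomputable def bcBcIso (φ : k' →ₐ[k] L) :
    letI : (Curv2.bc k X k').Over (Spec (CommRingCat.of k')) := ⟨Curv2.bcSnd k X k'⟩
    letI := φ.toRingHom.toAlgebra
    Curv2.bc k X L ≅ Curv2.bc k' (Curv2.bc k X k') L :=
  (isPullback_bcExt k X φ).isoPullback

theorem bcBcIso_fst (φ : k' →ₐ[k] L) :
    letI : (Curv2.bc k X k').Over (Spec (CommRingCat.of k')) := ⟨Curv2.bcSnd k X k'⟩
    letI := φ.toRingHom.toAlgebra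
    (bcBcIso k X φ).hom ≫ Curv2.bcFst k' (Curv2.bc k X k') L = bcExt k X φ :=
  (isPullback_bcExt k X φ).isoPullback_hom_fst

/-- Two points over the same point of `X` lift to the base change to a compositum. -/
theorem exists_common_point (K : Type u) [Field K] [Algebra k K] (x' : Curv2.bc k X k')
    (y : Curv2.bc k X K) (h : Curv2.bcFst k X k' x' = Curv2.bcFst k X K y) :
    ∃ (L : Type u) (_ : Field L) (_ : Algebra k L) (φ : k' →ₐ[k] L) (ψ : K →ₐ[k] L)
      (w : Curv2.bc k X L), bcExt k X φ w = x' ∧ bcExt k X ψ w = y ∧ φ.fieldRange ⊔ ψ.fieldRange = ⊤ := by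
  obtain ⟨z, hz₁, hz₂⟩ := Scheme.Pullback.exists_preimage_pullback
    (f := Curv2.bcFst k X k') (g := Curv2.bcFst k X K) x' y h
  let W := pullback (Curv2.bcFst k X k') (Curv2.bcFst k X K)
  let r : Spec (W.residueField z) ⟶ W := W.fromSpecResidueField z
  obtain ⟨r₁, hr₁⟩ : ∃ r₁, r₁ = r ≫ pullback.fst (Curv2.bcFst k X k') (Curv2.bcFst k X K) := ⟨_, rfl⟩
  obtain ⟨r₂, hr₂⟩ : ∃ r₂, r₂ = r ≫ pullback.snd (Curv2.bcFst k X k') (Curv2.bcFst k X K) := ⟨_, rfl⟩
  have hr : r₁ ≫ Curv2.bcFst k X k' = r₂ ≫ Curv2.bcFst k X K := by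
    simp only [hr₁, hr₂, Category.assoc, pullback.condition]
  obtain ⟨α, hα⟩ := Spec.map_surjective (r₁ ≫ Curv2.bcSnd k X k')
  obtain ⟨β, hβ⟩ := Spec.map_surjective (r₂ ≫ Curv2.bcSnd k X K)
  letI : Algebra k (W.residueField z) := (α.hom.comp (algebraMap k k')).toAlgebra
  have hαβ : α.hom.comp (algebraMap k k') = β.hom.comp (algebraMap k K) := by
    refine congrArg CommRingCat.Hom.hom (Spec.map_injective (a₁ := CommRingCat.ofHom (algebraMap k k') ≫ α)
      (a₂ := CommRingCat.ofHom (algebraMap k K) ≫ β) ?_)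
    rw [Spec.map_comp, Spec.map_comp, hα, hβ, Category.assoc, Category.assoc]
    rw [show Curv2.bcSnd k X k' ≫ Spec.map (CommRingCat.ofHom (algebraMap k k')) =
      Curv2.bcFst k X k' ≫ (X ↘ Spec (CommRingCat.of k)) from pullback.condition.symm,
      show Curv2.bcSnd k X K ≫ Spec.map (CommRingCat.ofHom (algebraMap k K)) =
      Curv2.bcFst k X K ≫ (X ↘ Spec (CommRingCat.of k)) from pullback.condition.symm,
      reassoc_of% hr]
  let a : k' →ₐ[k] W.residueField z := { α.hom with commutes' := fun c => rfl }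
  let b : K →ₐ[k] W.residueField z := { β.hom with commutes' := fun c => (RingHom.congr_fun hαβ c).symm }
  let F : IntermediateField k (W.residueField z) := a.fieldRange ⊔ b.fieldRange
  let φ : k' →ₐ[k] F := a.codRestrict F.toSubalgebra fun c => (le_sup_left : a.fieldRange ≤ F) ⟨c, rfl⟩
  let ψ : K →ₐ[k] F := b.codRestrict F.toSubalgebra fun c => (le_sup_right : b.fieldRange ≤ F) ⟨c, rfl⟩
  have hφψ : φ.fieldRange ⊔ ψ.fieldRange = ⊤ := by
    apply IntermediateField.map_injective F.val
    rw [IntermediateField.map_sup, AlgHom.map_fieldRange, AlgHom.map_fieldRange, ← AlgHom.fieldRange_eq_map,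
      IntermediateField.fieldRange_val]
    rfl
  have hF : Spec.map (CommRingCat.ofHom F.val.toRingHom) ≫ Spec.map (CommRingCat.ofHom φ.toRingHom) =
      r₁ ≫ Curv2.bcSnd k X k' := by
    rw [← hα, ← Spec.map_comp]; rfl
  have hcond : (r₁ ≫ Curv2.bcFst k X k') ≫ (X ↘ Spec (CommRingCat.of k)) =
      Spec.map (CommRingCat.ofHom F.val.toRingHom) ≫ Spec.map (CommRingCat.ofHom (algebraMap k F)) := by
    rw [Category.assoc, show Curv2.bcFst k X k' ≫ (X ↘ Spec (CommRingCat.of k)) =
      Curv2.bcSnd k X k' ≫ Spec.map (CommRingCat.ofHom (algebraMap k k')) from pullback.condition,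
      ← Category.assoc, ← hF, Category.assoc, ← Spec.map_comp (f := CommRingCat.ofHom (algebraMap k k')),
      ← CommRingCat.ofHom_comp]
    exact congrArg (fun m => _ ≫ Spec.map (CommRingCat.ofHom m)) φ.comp_algebraMap
  let t : Spec (W.residueField z) ⟶ Curv2.bc k X F :=
    pullback.lift (r₁ ≫ Curv2.bcFst k X k') (Spec.map (CommRingCat.ofHom F.val.toRingHom)) hcond
  have ht₁ : t ≫ Curv2.bcFst k X F = r₁ ≫ Curv2.bcFst k X k' := pullback.lift_fst _ _ _
  have ht₂ : t ≫ Curv2.bcSnd k X F = Spec.map (CommRingCat.ofHom F.val.toRingHom) := pullback.lift_snd _ _ _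
  have hrz : ∀ pt, r pt = z := fun pt => Scheme.fromSpecResidueField_apply _ _
  let o : Spec (W.residueField z) := Classical.arbitrary _
  refine ⟨F, inferInstance, inferInstance, φ, ψ, t o, ?_, ?_, hφψ⟩
  · have e : t ≫ bcExt k X φ = r₁ := by
      refine pullback.hom_ext ?_ ?_
      · exact (Category.assoc _ _ _).trans ((congrArg (t ≫ ·) (bcExt_fst k X φ)).trans ht₁)
      · refine (Category.assoc _ _ _).trans ((congrArg (t ≫ ·) (bcExt_snd k X φ)).trans ?_)
        rw [reassoc_of% ht₂]; exact hF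
    rw [← Scheme.Hom.comp_apply, e, hr₁]
    show (pullback.fst (Curv2.bcFst k X k') (Curv2.bcFst k X K)) (r o) = x'
    rw [hrz o]; exact hz₁
  · have e : t ≫ bcExt k X ψ = r₂ := by
      refine pullback.hom_ext ?_ ?_
      · exact (Category.assoc _ _ _).trans ((congrArg (t ≫ ·) (bcExt_fst k X ψ)).trans (ht₁.trans hr))
      · refine (Category.assoc _ _ _).trans ((congrArg (t ≫ ·) (bcExt_snd k X ψ)).trans ?_)
        rw [reassoc_of% ht₂, ← Spec.map_comp]
        exact hβ
    rw [← Scheme.Hom.comp_apply, e, hr₂]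
    show (pullback.snd (Curv2.bcFst k X k') (Curv2.bcFst k X K)) (r o) = y
    rw [hrz o]; exact hz₂

/-- A compositum with a finitely generated extension is finitely generated. -/
theorem fg_of_compositum {K : Type u} [Field K] [Algebra k K] (φ : k' →ₐ[k] L) (ψ : K →ₐ[k] L)
    (h : φ.fieldRange ⊔ ψ.fieldRange = ⊤) (hK : (⊤ : IntermediateField k K).FG) :
    letI := φ.toRingHom.toAlgebra
    (⊤ : IntermediateField k' L).FG := by
  letI := φ.toRingHom.toAlgebra
  haveI : IsScalarTower k k' L := IsScalarTower.of_algebraMap_eq fun c => (φ.commutes c).symm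
  obtain ⟨s, hs⟩ := hK
  classical
  refine ⟨s.image ψ, top_le_iff.1 ?_⟩
  have h2 : (⊤ : IntermediateField k L) ≤ (IntermediateField.adjoin k' ((s.image ψ : Finset L) : Set L)).restrictScalars k := by
    rw [← h]
    refine sup_le ?_ ?_
    · rintro _ ⟨c, rfl⟩
      exact IntermediateField.algebraMap_mem _ c
    · rw [AlgHom.fieldRange_eq_map, ← hs, IntermediateField.adjoin_map, IntermediateField.adjoin_le_iff, Finset.coe_image]
      exact IntermediateField.subset_adjoin k' _
  exact fun x _ => h2 trivial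

end Groth.Agent.VarietyLib
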