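import Groth.Agent.VarietyLib.NakaiApps
import Groth.Agent.EulerLib.Positive

/-!
# Curve degrees as intersection numbers
-/

set_option autoImplicit false
set_option linter.style.haveILetI false

universe u

open CategoryTheory CategoryTheory.Limits AlgebraicGeometry Opposite TopologicalSpace
open Groth.Agent.Coherent Groth.Agent.PicLib Groth.Agent.AmpleLib Groth.Agent.AssSch12 Groth.Agent.EulerLib

namespace Groth.Agent.VarietyLib

variable (k : Type u) [Field k] {X : Scheme.{u}} [X.Over (Spec (CommRingCat.of k))]

theorem interDeg_one_eq {L : X.Modules} (hL : PicF.IsInvertible L) (M : X.Modules) :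
    interDeg (fun _ : Fin 1 => InvCl.mk L hL) (chiCl k M) =
      Curv2.euler k X (CohB1.tensorMod M L) - Curv2.euler k X M := by
  rw [show (fun _ : Fin 1 => InvCl.mk L hL) = Fin.cons (InvCl.mk L hL) (fun i : Fin 0 => i.elim0) from by
    funext i; fin_cases i; rfl,
    interDeg_cons, interDeg_zero]
  simp only [mul_one, chiCl_one]
  rw [chiCl_mk]

/-- The integral subscheme of a point of one-dimensional closure is a curve. -/
theorem isIntegral_clI (z : X) : IsIntegral (clI z).subscheme :=
  isIntegral_vanishingIdeal _ isIrreducible_singleton.closure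

theorem support_clI (z : X) : ((clI z).support : Set X) = closure {z} :=
  Scheme.IdealSheafData.coe_support_vanishingIdeal _

/-- A section with nonempty nonvanishing locus is nonzero. -/
theorem ne_zero_of_mem_glocus {L : X.Modules} {s : Γ(L, ⊤)} {x : X} (hx : x ∈ glocus L s) : s ≠ 0 := by
  rintro rfl
  have hg := isGen_glocus (L := L) (0 : Γ(L, ⊤)) (glocus L (0 : Γ(L, ⊤))) le_rfl
  haveI : Nonempty (glocus L (0 : Γ(L, ⊤))) := ⟨⟨x, hx⟩⟩
  refine one_ne_zero (α := Γ(X, glocus L (0 : Γ(L, ⊤)))) (hg.1 ?_)
  simp

end Groth.Agent.VarietyLib
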