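import Groth.Agent.VarietyLib.PullDegree
import Groth.Agent.VarietyLib.NakaiCurves
import Groth.Agent.Props12.KerReduced
import Groth.Agent.DimLib.Morphism
import Mathlib.FieldTheory.FinTrdeg

/-!
# Subvarieties over subvarieties, and degrees of pulled back modules on them
-/

set_option autoImplicit false
set_option linter.style.haveILetI false
set_option backward.isDefEq.respectTransparency.types false

universe u

open CategoryTheory CategoryTheory.Limits AlgebraicGeometry Opposite TopologicalSpace
open Groth.Agent.Coherent Groth.Agent.PicLib Groth.Agent.EulerLib Groth.Agent.AssSch12 Groth.Agent.DimLib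

namespace Groth.Agent.VarietyLib

variable {X Y : Scheme.{u}} (k : Type u) [Field k]

/-- An integral closed subscheme is the reduced closure of its generic point. -/
theorem eq_clI_of_isIntegral (C : X.IdealSheafData) [IsIntegral C.subscheme] :
    C = clI (C.subschemeι (genericPoint C.subscheme)) := by
  conv_lhs => rw [← C.ker_subschemeι, Props12.ker_eq_vanishingIdeal]
  refine congrArg _ (Closeds.ext ?_)
  show closure (Set.range C.subschemeι) = closure {C.subschemeι (genericPoint C.subscheme)}
  refine (closure_minimal ?_ isClosed_closure).antisymm (closure_mono (Set.singleton_subset_iff.2 ⟨_, rfl⟩))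
  rintro _ ⟨z, rfl⟩
  exact specializes_iff_mem_closure.1
    (((genericPoint_spec C.subscheme).specializes trivial).map C.subschemeι.continuous)

variable [X.Over (Spec (CommRingCat.of k))]

/-- The dimension of the closure of a point is the dimension of the point. -/
theorem dim_closure_eq_ptDim [LocallyOfFiniteType (X ↘ Spec (CommRingCat.of k))] (y : X) :
    topologicalKrullDim (closure ({y} : Set X)) = (ptDim (X ↘ Spec (CommRingCat.of k)) y : WithBot ℕ∞) :=
  topologicalKrullDim_eq_ptDim_of_isGenericPoint _ isGenericPoint_closure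

variable [Y.Over (Spec (CommRingCat.of k))]
  [IsProper (X ↘ Spec (CommRingCat.of k))] [IsProper (Y ↘ Spec (CommRingCat.of k))] (f : Y ⟶ X)

/-- The degree formula on subvarieties. -/
theorem interDeg_pull_clM (hf : f ≫ (X ↘ Spec (CommRingCat.of k)) = Y ↘ Spec (CommRingCat.of k))
    {d : ℕ} (z : Y) (hz : topologicalKrullDim (closure ({z} : Set Y)) = (d : WithBot ℕ∞)) (c : Fin d → InvCl X) :
    interDeg (fun i => pullHom f (c i)) (chiCl k (clM z)) =
      (f.residueDegree z : ℤ) * interDeg c (chiCl k (clM (f z))) := by
  haveI := isNoetherian_of_proper (X := Y) k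
  let i := (clI z).subschemeι
  let Z := (clI z).subscheme
  haveI : IsIntegral Z := isIntegral_clI z
  letI : Z.Over (Spec (CommRingCat.of k)) := ⟨i ≫ (Y ↘ Spec (CommRingCat.of k))⟩
  haveI : IsProper (Z ↘ Spec (CommRingCat.of k)) :=
    inferInstanceAs (IsProper (i ≫ (Y ↘ Spec (CommRingCat.of k))))
  have hdim : topologicalKrullDim Z = (d : WithBot ℕ∞) := by
    rw [← hz, ← range_clι z]
    exact IsHomeomorph.topologicalKrullDim_eq _ i.isClosedEmbedding.isEmbedding.toHomeomorph.isHomeomorph
  haveI := isNoetherian_of_proper (X := Z) k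
  have key := interDeg_pull k (i ≫ f) (by rw [Category.assoc, hf]; rfl) hdim c
  rw [CycLib28.residueDegree_comp, CycLib28.residueDegree_preimmersion i, mul_one, Scheme.Hom.comp_apply,
    clI_genericPoint z] at key
  have hcomp : ∀ x : InvCl X, pullHom i (pullHom f x) = pullHom (i ≫ f) x := fun x => by
    obtain ⟨M, hM, rfl⟩ := InvCl.exists_rep x
    exact Quotient.sound ⟨(Scheme.Modules.pullbackComp i f).app M⟩
  have hpush : ∀ x : InvCl Y, chiCl k (clM z) x = chiCl k (Coh.structureModule Z) (pullHom i x) := fun x =>
    chiCl_push k i rfl (isCoh_structureModule Z) x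
  rw [← key, funext hpush, ← interDeg_monoidHom]
  simp only [hcomp]
  rfl

/-- Points over a point of the same dimension. -/
theorem exists_point_over [Surjective f]
    (hf : f ≫ (X ↘ Spec (CommRingCat.of k)) = Y ↘ Spec (CommRingCat.of k)) (y : X) :
    ∃ z : Y, f z = y ∧ ptDim (Y ↘ Spec (CommRingCat.of k)) z = ptDim (X ↘ Spec (CommRingCat.of k)) y := by
  let p := X ↘ Spec (CommRingCat.of k)
  haveI : LocallyOfFiniteType (f ≫ p) := by rw [hf]; infer_instance
  haveI : LocallyOfFiniteType f := locallyOfFiniteType_of_comp f p
  haveI : LocallyOfFiniteType (f.fiberToSpecResidueField y) :=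
    MorphismProperty.of_isPullback (P := @LocallyOfFiniteType) (IsPullback.of_hasPullback f (X.fromSpecResidueField y)) ‹_›
  obtain ⟨z₀, hz₀⟩ := Surjective.surj (f := f) y
  haveI : Nonempty (f.fiber y) := by
    obtain ⟨w, -⟩ := (Scheme.Hom.range_fiberι f y).ge (show z₀ ∈ f ⁻¹' {y} from hz₀)
    exact ⟨w⟩
  obtain ⟨w, -, hw⟩ := exists_isClosed_singleton_mem (k := X.residueField y) (f.fiberToSpecResidueField y)
    (S := Set.univ) Set.univ_nonempty isClosed_univ.isLocallyClosed
  refine ⟨f.fiberι y w, (Scheme.Hom.range_fiberι f y).le ⟨w, rfl⟩, ?_⟩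
  rw [← hf, ptDim_fiberι p f y w, (ptDim_eq_zero_iff (k := X.residueField y) _ w).2 hw, add_zero]

/-- The residue extension is finite when the dimension is kept. -/
theorem residueDegree_ne_zero (hf : f ≫ (X ↘ Spec (CommRingCat.of k)) = Y ↘ Spec (CommRingCat.of k))
    {z : Y} (h : ptDim (Y ↘ Spec (CommRingCat.of k)) z = ptDim (X ↘ Spec (CommRingCat.of k)) (f z)) :
    f.residueDegree z ≠ 0 := by
  let p := X ↘ Spec (CommRingCat.of k)
  haveI : LocallyOfFiniteType (f ≫ p) := by rw [hf]; infer_instance
  haveI : LocallyOfFiniteType f := locallyOfFiniteType_of_comp f p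
  rw [← hf, ptDim_comp p f z] at h
  have ht0 : trdegHom (f.residueFieldMap z).hom = 0 := by simp only [p] at h; omega
  let n := trdegHom (f.residueFieldMap z).hom
  letI := (f.residueFieldMap z).hom.toAlgebra
  haveI : Algebra.EssFiniteType (X.residueField (f z)) (Y.residueField z) := by
    have h1 : (f.residueFieldMap z).hom.EssFiniteType := by
      refine RingHom.EssFiniteType.of_comp (f := (X.residue (f z)).hom) ?_
      rw [← CommRingCat.hom_comp, Scheme.residue_residueFieldMap, CommRingCat.hom_comp]
      exact (LocallyOfFiniteType.stalkMap f z).comp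
        (RingHom.FiniteType.essFiniteType (RingHom.FiniteType.of_surjective _ (Y.residue_surjective z)))
    exact h1
  haveI : Algebra.IsAlgebraic (X.residueField (f z)) (Y.residueField z) := by
    rw [← trdeg_eq_zero_iff]
    have hlt : Algebra.trdeg (X.residueField (f z)) (Y.residueField z) < Cardinal.aleph0 :=
      trdeg_lt_aleph0 _ _
    exact (Cardinal.toNat_eq_zero.1 ht0).resolve_right (not_le.2 hlt)
  haveI : FiniteDimensional (X.residueField (f z)) (Y.residueField z) := by
    obtain ⟨t, ht⟩ := IntermediateField.fg_top_iff.mpr (inferInstance :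
      Algebra.EssFiniteType (X.residueField (f z)) (Y.residueField z))
    haveI := IntermediateField.finiteDimensional_adjoin (K := X.residueField (f z))
      (S := (t : Set (Y.residueField z))) fun a _ => (Algebra.IsAlgebraic.isAlgebraic a).isIntegral
    rw [ht] at this
    exact LinearEquiv.finiteDimensional IntermediateField.topEquiv.toLinearEquiv
  exact Module.finrank_pos.ne'

end Groth.Agent.VarietyLib
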