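import Groth.Agent.VarietyLib.InterExpand
import Groth.Agent.VarietyLib.Nakai
import Groth.Agent.VarietyLib.CurvePull
import Groth.Agent.VarietyLib.PullDegree
import Groth.Agent.AbCubeLib.InterDegPullback
import Mathlib.Topology.Order.IntermediateValue
import Mathlib.Topology.Algebra.Polynomial

/-!
# Kleiman's theorem: nef classes have nonnegative self intersections
-/

set_option autoImplicit false
set_option linter.style.haveILetI false
set_option linter.unusedSectionVars false
set_option backward.isDefEq.respectTransparency.types false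

universe u

open CategoryTheory CategoryTheory.Limits AlgebraicGeometry TopologicalSpace Opposite
open Groth.Agent.Coherent Groth.Agent.PicLib Groth.Agent.AmpleLib Groth.Agent.EulerLib
open Groth.Agent.AssSch12 Groth.Agent.DimLib

noncomputable section

namespace Groth.Agent.VarietyLib

variable (k : Type u) [Field k] {X : Scheme.{u}} [X.Over (Spec (CommRingCat.of k))]
  [IsProper (X ↘ Spec (CommRingCat.of k))]

/-- Nonnegative degree on every integral curve. -/
def NefCl (a : InvCl X) : Prop :=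
  ∀ z : X, topologicalKrullDim (closure ({z} : Set X)) = ((1 : ℕ) : WithBot ℕ∞) →
    0 ≤ interDeg (fun _ : Fin 1 => a) (chiCl k (clM z))

/-- Monomial intersection numbers nonnegative on subvarieties are nonnegative on modules. -/
theorem mono_nonneg_of_points (a b : InvCl X) (i j : ℕ) {F : X.Modules} (hF : Coh.IsCoh F)
    (hd : topologicalKrullDim (CohB1.support F) ≤ ((i + j : ℕ) : WithBot ℕ∞))
    (hpt : ∀ z : X, topologicalKrullDim (closure ({z} : Set X)) = ((i + j : ℕ) : WithBot ℕ∞) →
      0 ≤ (dOp a ^ j * dOp b ^ i) (chiCl k (clM z)) 1) :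
    0 ≤ (dOp a ^ j * dOp b ^ i) (chiCl k F) 1 := by
  classical
  haveI := isNoetherian_of_proper (X := X) k
  have hT := isClosed_support F (locallyFinGen_of_isFT F hF.2)
  let S := (finite_top_points hT hd).toFinset
  rw [eq_sum_mult (ψ := fun N => (dOp a ^ j * dOp b ^ i) (chiCl k N) 1) (d := i + j)
    (fun {N N'} e => by rw [chiCl_congr k e])
    (fun T hT h₁ h₂ h₃ => by rw [chiCl_additive k T hT h₁ h₂ h₃, map_add, Pi.add_apply])
    (fun N hN hlt => by rw [mono_eq_zero a b i j (finDeg_chiCl k hN hlt), Pi.zero_apply])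
    hF hd S (fun z hz h => (Set.Finite.mem_toFinset _).2 ⟨hz, h⟩)
    (fun z hz => ((Set.Finite.mem_toFinset _).1 hz).2)]
  exact Finset.sum_nonneg fun z hz => nsmul_nonneg (hpt z ((Set.Finite.mem_toFinset _).1 hz).2) _

/-- Cutting by an ample class: `a^j h^i` is nonnegative as soon as `a^j` is. -/
theorem mixed_nonneg {H : X.Modules} (hH : CohB1.IsAmple H) (a : InvCl X) (j : ℕ)
    (hj : ∀ z : X, topologicalKrullDim (closure ({z} : Set X)) = (j : WithBot ℕ∞) →
      0 ≤ (dOp a ^ j) (chiCl k (clM z)) 1) :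
    ∀ (i : ℕ) (F : X.Modules), Coh.IsCoh F →
      topologicalKrullDim (CohB1.support F) ≤ ((i + j : ℕ) : WithBot ℕ∞) →
      0 ≤ (dOp a ^ j * dOp (InvCl.mk H hH.1) ^ i) (chiCl k F) 1 := by
  haveI := isNoetherian_of_proper (X := X) k
  intro i
  induction i with
  | zero =>
    intro F hF hd
    refine mono_nonneg_of_points k a _ 0 j hF hd fun z hz => ?_
    rw [pow_zero, mul_one]
    exact hj z (hz.trans (by rw [zero_add]))
  | succ i ih =>
    intro F hF hd
    refine mono_nonneg_of_points k a _ (i + 1) j hF hd fun z hz => ?_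
    obtain ⟨hH1, -, hx⟩ := isAmple_iff_affGlocus.1 hH
    obtain ⟨m, hm, b, hzb, -, -⟩ := hx z
    have hP := isInvertible_tensorPow hH1 m
    obtain ⟨Q, hQ, hQs, hfun⟩ := AbCubeLib.exists_cut k (y := z) hP b hzb
    have hzQ : z ∉ CohB1.support Q := fun h => (hQs h).2 hzb
    have hlt := dim_lt_of_notMem (isClosed_support Q (locallyFinGen_of_isFT Q hQ.2))
      (hQs.trans Set.inter_subset_left) isClosed_closure rfl hzQ hz.le
    have hdQ : topologicalKrullDim (CohB1.support Q) ≤ ((i + j : ℕ) : WithBot ℕ∞) := by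
      generalize topologicalKrullDim (CohB1.support Q) = c at hlt
      rw [show i + 1 + j = (i + j) + 1 by omega] at hlt
      match c with
      | ⊥ => exact bot_le
      | (c : ℕ∞) =>
        rw [Nat.cast_succ] at hlt
        exact WithBot.coe_le_coe.2 (ENat.lt_natCast_add_one_iff.1 (WithBot.coe_lt_coe.1 hlt))
    have h0 := ih Q hQ hdQ
    set h := InvCl.mk H hH.1
    have hdeg : ClDeg (i + j + 2) (chiCl k (clM z)) :=
      clDeg_chiCl k (isCoh_clM z) (r := i + j + 1)
        ((dim_mono (support_clM_subset z)).trans (by rw [hz, show i + 1 + j = i + j + 1 by omega]))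
    have hQe : dOp (h ^ m) (chiCl k (clM z)) = chiCl k Q := by
      rw [← hfun]
      refine funext fun x => ?_
      show chiCl k (clM z) (h ^ m * x) - _ = _
      rw [← InvCl.mk_tensorPow hH1 m]
    rw [← hQe, mono_dOp_pow a h h i j hdeg m, Pi.smul_apply, smul_eq_mul] at h0
    rw [pow_succ, ← mul_assoc, Module.End.mul_apply]
    exact (mul_nonneg_iff_of_pos_left (by exact_mod_cast hm : (0 : ℤ) < m)).1 h0

/-- Nef classes pull back to nef classes. -/
theorem NefCl.pullHom {Y : Scheme.{u}} [Y.Over (Spec (CommRingCat.of k))] [IsProper (Y ↘ Spec (CommRingCat.of k))]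
    (f : Y ⟶ X) (hf : f ≫ (X ↘ Spec (CommRingCat.of k)) = Y ↘ Spec (CommRingCat.of k)) {a : InvCl X}
    (ha : NefCl k a) : NefCl k (VarietyLib.pullHom f a) := by
  intro z hz
  haveI := isNoetherian_of_proper (X := X) k
  rw [interDeg_pull_clM k f hf z hz (fun _ => a)]
  refine mul_nonneg (Int.natCast_nonneg _) ?_
  haveI : LocallyOfFiniteType (f ≫ (X ↘ Spec (CommRingCat.of k))) := by rw [hf]; infer_instance
  have hle := ptDim_apply_le (X ↘ Spec (CommRingCat.of k)) f z
  have hzd : ptDim (f ≫ (X ↘ Spec (CommRingCat.of k))) z = 1 := by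
    rw [hf]
    rw [dim_closure_eq_ptDim k z] at hz
    exact_mod_cast hz
  rw [hzd] at hle
  have hd := dim_closure_eq_ptDim k (f z)
  rcases Nat.le_one_iff_eq_zero_or_eq_one.1 hle with h0 | h1
  · rw [h0] at hd
    exact le_of_eq (interDeg_eq_zero _ (finDeg_chiCl k (isCoh_clM (f z))
      (((dim_mono (support_clM_subset (f z))).trans hd.le).trans_lt (by norm_num)))).symm
  · rw [h1] at hd
    exact ha (f z) hd

/-- The inductive step on a projective variety. -/
theorem nef_core [IsIntegral X] {r : ℕ} (hr : 1 ≤ r) (hdim : topologicalKrullDim X = (r : WithBot ℕ∞))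
    {H : X.Modules} (hH : CohB1.IsAmple H) {a : InvCl X} (ha : NefCl k a)
    (hlow : ∀ j, j < r → ∀ z : X, topologicalKrullDim (closure ({z} : Set X)) = (j : WithBot ℕ∞) →
      0 ≤ (dOp a ^ j) (chiCl k (clM z)) 1) :
    0 ≤ (dOp a ^ r) (chiCl k (Coh.structureModule X)) 1 := by
  haveI := isNoetherian_of_proper (X := X) k
  haveI := isSeparated_of_proper (X := X) k
  set h := InvCl.mk H hH.1 with hh
  set O := Coh.structureModule X
  have hO : Coh.IsCoh O := isCoh_structureModule X
  have hsupp : CohB1.support O = Set.univ := AbCubeLib.support_structureModule_eq_univ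
  have hOd : topologicalKrullDim (CohB1.support O) = (r : WithBot ℕ∞) := by
    rw [hsupp, (Homeomorph.Set.univ (X : Type u)).isHomeomorph.topologicalKrullDim_eq, hdim]
  have hηd : topologicalKrullDim (closure ({genericPoint X} : Set X)) = (r : WithBot ℕ∞) := by
    rw [genericPoint_closure, (Homeomorph.Set.univ (X : Type u)).isHomeomorph.topologicalKrullDim_eq, hdim]
  -- mixed numbers on a module
  have hamp : ∀ (d : ℕ) (G : X.Modules), Coh.IsCoh G →
      topologicalKrullDim (CohB1.support G) = (d : WithBot ℕ∞) → 0 < (dOp h ^ d) (chiCl k G) 1 := by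
    intro d G hG hGd
    have := EulerLib.interDeg_pos k d (fun _ => H) (fun _ => hH) G hG hGd
    rwa [interDeg_const] at this
  have hmix : ∀ (d i : ℕ) (G : X.Modules), Coh.IsCoh G → i ≤ d → d - i < r →
      topologicalKrullDim (CohB1.support G) ≤ (d : WithBot ℕ∞) →
      0 ≤ (dOp a ^ (d - i) * dOp h ^ i) (chiCl k G) 1 := fun d i G hG hid hlt hGd =>
    mixed_nonneg k hH a (d - i) (hlow (d - i) hlt) i G hG (by rwa [Nat.add_sub_cancel' hid])
  set φ := chiCl k O with hφ
  set N : ℕ → ℤ := fun i => (dOp a ^ (r - i) * dOp h ^ i) φ 1 with hN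
  have hN0 : N 0 = (dOp a ^ r) φ 1 := by simp only [hN, Nat.sub_zero, pow_zero, mul_one]
  have hNnn : ∀ i ∈ Finset.Icc 1 r, 0 ≤ N i := fun i hi => by
    obtain ⟨h1, h2⟩ := Finset.mem_Icc.1 hi
    exact hmix r i O hO h2 (by omega) hOd.le
  have hNr : 0 < N r := by
    simp only [hN, Nat.sub_self, pow_zero, one_mul]
    exact hamp r O hO hOd
  by_contra hneg
  rw [not_le, ← hN0] at hneg
  -- the polynomial `s ↦ (a + s h)^r`
  let P : ℝ → ℝ := fun s => ∑ i ∈ Finset.range (r + 1), (r.choose i : ℝ) * (N i : ℝ) * s ^ i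
  have hPc : Continuous P := continuous_finsetSum _ fun i _ => continuous_const.mul (continuous_pow i)
  have hP0 : P 0 = N 0 := by
    simp only [P]
    rw [Finset.sum_eq_single 0 (fun i _ hi => by rw [zero_pow hi, mul_zero]) (fun h => absurd (Finset.mem_range.2 (Nat.succ_pos r)) h)]
    simp
  have hsplit : ∀ s, P s = (N 0 : ℝ) + ∑ i ∈ Finset.Icc 1 r, (r.choose i : ℝ) * (N i : ℝ) * s ^ i := fun s => by
    simp only [P]
    rw [Finset.range_eq_Ico, ← Finset.insert_Ico_add_one_left_eq_Ico (Nat.succ_pos r), Finset.sum_insert (by simp)]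
    simp [Finset.Ico_add_one_right_eq_Icc]
  have hterm : ∀ s : ℝ, 0 ≤ s → (N r : ℝ) * s ^ r ≤
      ∑ i ∈ Finset.Icc 1 r, (r.choose i : ℝ) * (N i : ℝ) * s ^ i := fun s hs => by
    refine le_trans (le_of_eq (by rw [Nat.choose_self, Nat.cast_one, one_mul]))
      (Finset.single_le_sum (f := fun i => (r.choose i : ℝ) * (N i : ℝ) * s ^ i) (fun i hi => ?_)
        (Finset.mem_Icc.2 ⟨hr, le_rfl⟩))
    exact mul_nonneg (mul_nonneg (Nat.cast_nonneg _) (by exact_mod_cast hNnn i hi)) (pow_nonneg hs _)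
  have hmono : ∀ s t : ℝ, 0 ≤ s → s < t → P s < P t := fun s t hs hst => by
    rw [hsplit, hsplit]
    refine add_lt_add_of_le_of_lt le_rfl (Finset.sum_lt_sum (fun i hi => ?_) ⟨r, Finset.mem_Icc.2 ⟨hr, le_rfl⟩, ?_⟩)
    · exact mul_le_mul_of_nonneg_left (pow_le_pow_left₀ hs hst.le i)
        (mul_nonneg (Nat.cast_nonneg _) (by exact_mod_cast hNnn i hi))
    · rw [Nat.choose_self, Nat.cast_one, one_mul]
      exact mul_lt_mul_of_pos_left (pow_lt_pow_left₀ hst hs (by omega)) (by exact_mod_cast hNr)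
  set M : ℝ := |(N 0 : ℝ)| + 1
  have hM1 : 1 ≤ M := le_add_of_nonneg_left (abs_nonneg _)
  have hPM : 0 ≤ P M := by
    have h1 : M ≤ M ^ r := le_self_pow₀ hM1 (by omega)
    have h2 : (1 : ℝ) ≤ N r := by exact_mod_cast hNr
    have h3 := hterm M (by linarith)
    have h4 : M ^ r ≤ (N r : ℝ) * M ^ r := le_mul_of_one_le_left (by positivity) h2
    have h5 := neg_abs_le (N 0 : ℝ)
    rw [hsplit]
    linarith [show M = |(N 0 : ℝ)| + 1 from rfl]
  obtain ⟨t₀, ⟨ht₀, -⟩, hPt₀⟩ := intermediate_value_Icc (show (0 : ℝ) ≤ M by linarith) hPc.continuousOn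
    (show (0 : ℝ) ∈ Set.Icc (P 0) (P M) from ⟨by rw [hP0]; exact_mod_cast hneg.le, hPM⟩)
  have ht₀' : 0 < t₀ := lt_of_le_of_ne ht₀ fun e => by
    rw [← e, hP0] at hPt₀
    exact hneg.ne (by exact_mod_cast hPt₀)
  -- positive rational values are bounded below
  have key : ∀ q p : ℕ, 0 < q → 0 < p → 0 < P ((p : ℝ) / q) →
      (N r : ℝ) * ((p : ℝ) / q) ^ r ≤ P ((p : ℝ) / q) := by
    intro q p hq hp hpos
    have hexp : ((linOp a h q p ^ r) φ 1 : ℝ) = (q : ℝ) ^ r * P ((p : ℝ) / q) := by
      rw [linOp_pow_apply_one, Finset.mul_sum]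
      push_cast
      refine Finset.sum_congr rfl fun i hi => ?_
      have hqi : (q : ℝ) ^ r = (q : ℝ) ^ (r - i) * (q : ℝ) ^ i := by
        rw [← pow_add, Nat.sub_add_cancel (Nat.lt_succ_iff.1 (Finset.mem_range.1 hi))]
      have hq0 : (q : ℝ) ^ i ≠ 0 := pow_ne_zero _ (by exact_mod_cast hq.ne')
      rw [hqi, div_pow]
      simp only [hN]
      field_simp
    obtain ⟨B, hB, hBe⟩ := InvCl.exists_rep (a ^ q * h ^ p)
    have hlin : ∀ (d : ℕ) (ψ : InvCl X → ℤ), ClDeg (d + 1) ψ →
        (dOp (InvCl.mk B hB) ^ d) ψ = (linOp a h q p ^ d) ψ := fun d ψ hψ => by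
      rw [hBe]; exact dOp_pow_eq_linOp a h q p d hψ
    have hclφ : ClDeg (r + 1) φ := clDeg_chiCl k hO hOd.le
    have hOη : ∀ c : InvCl X, 0 < (dOp c ^ r) φ 1 → 0 < interDeg (fun _ : Fin r => c) (chiCl k (clM (genericPoint X))) := by
      intro c hc
      rw [← interDeg_const, interDeg_eq_mult_mul k hO (ξ := genericPoint X)
        (by rw [genericPoint_closure]; exact Set.subset_univ _) hηd,
        mult_invertible_genericPoint isInvertible_structureModule, Nat.cast_one, one_mul] at hc
      exact hc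
    have hBamp : CohB1.IsAmple B := by
      refine isAmple_of_posInt k hB fun z d hd0 hzd => ?_
      by_cases hz : z = genericPoint X
      · subst hz
        obtain rfl : d = r := by rw [hzd] at hηd; exact_mod_cast hηd
        refine hOη _ ?_
        rw [hlin d φ hclφ]
        have : (0 : ℝ) < ((linOp a h q p ^ d) φ 1 : ℝ) := by
          rw [hexp]; exact mul_pos (pow_pos (by exact_mod_cast hq) _) hpos
        exact_mod_cast this
      · have hdr : d < r := by
          have hnm : genericPoint X ∉ closure ({z} : Set X) := fun hm =>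
            hz ((specializes_iff_mem_closure.2 hm).antisymm (genericPoint_specializes z)).eq
          have hlt := dim_lt_of_notMem isClosed_closure (Set.subset_univ _)
            isClosed_univ (genericPoint_closure X) hnm
            (by rw [(Homeomorph.Set.univ (X : Type u)).isHomeomorph.topologicalKrullDim_eq, hdim])
          rw [hzd] at hlt
          exact_mod_cast hlt
        have hG := isCoh_clM z
        have hGd : topologicalKrullDim (CohB1.support (clM z)) = (d : WithBot ℕ∞) := by rw [support_clM, hzd]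
        rw [interDeg_const, hlin d _ (clDeg_chiCl k hG hGd.le), linOp_pow_apply_one]
        refine Finset.sum_pos' (fun i hi => mul_nonneg (by positivity)
          (hmix d i _ hG (Nat.lt_succ_iff.1 (Finset.mem_range.1 hi)) (by omega) hGd.le))
          ⟨d, Finset.mem_range.2 (Nat.lt_succ_self d), ?_⟩
        rw [Nat.choose_self, Nat.sub_self, pow_zero, pow_zero, one_mul]
        exact mul_pos (by positivity) (hamp d _ hG hGd)
    obtain ⟨r', rfl⟩ : ∃ r', r = r' + 1 := ⟨r - 1, by omega⟩
    -- `a b^(r-1) ≥ 0`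
    have hab : 0 ≤ (linOp a h q p ^ r') (dOp a φ) 1 := by
      have h1 := mixed_nonneg k hBamp a 1 (fun z hz => by
        rw [← interDeg_const]; exact ha z hz) r' O hO hOd.le
      rw [((dOp_commute a (InvCl.mk B hB)).pow_pow 1 r').eq, Module.End.mul_apply, pow_one] at h1
      rwa [hlin r' _ (ClDeg.dOp hclφ a)] at h1
    have hhb : (p : ℤ) ^ r' * N (r' + 1) ≤ (linOp a h q p ^ r') (dOp h φ) 1 := by
      rw [linOp_pow_apply_one]
      have hNi : ∀ i ≤ r', (dOp a ^ (r' - i) * dOp h ^ i) (dOp h φ) 1 = N (i + 1) := fun i hi => by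
        simp only [hN]
        rw [← Module.End.mul_apply, mul_assoc, ← pow_succ, show r' + 1 - (i + 1) = r' - i by omega]
      refine le_trans (le_of_eq ?_) (Finset.single_le_sum (fun i hi => ?_) (Finset.mem_range.2 (Nat.lt_succ_self r')))
      · rw [Nat.choose_self, Nat.cast_one, one_mul, hNi r' le_rfl, Nat.sub_self, pow_zero, mul_one]
      · have hi' := Nat.lt_succ_iff.1 (Finset.mem_range.1 hi)
        rw [hNi i hi']
        exact mul_nonneg (by positivity) (hNnn _ (Finset.mem_Icc.2 ⟨by omega, by omega⟩))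
    have hZ : (p : ℤ) ^ (r' + 1) * N (r' + 1) ≤ (linOp a h q p ^ (r' + 1)) φ 1 := by
      rw [pow_apply_succ, linOp_apply, map_add, map_smul, map_smul, Pi.add_apply, Pi.smul_apply, Pi.smul_apply,
        smul_eq_mul, smul_eq_mul, pow_succ' (p : ℤ), mul_assoc]
      have h1 := mul_le_mul_of_nonneg_left hhb (Int.natCast_nonneg p)
      have h2 := mul_nonneg (Int.natCast_nonneg q) hab
      linarith
    have hR : ((p : ℝ) ^ (r' + 1)) * (N (r' + 1) : ℝ) ≤ (q : ℝ) ^ (r' + 1) * P ((p : ℝ) / q) := by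
      rw [← hexp]; exact_mod_cast hZ
    rw [div_pow, ← mul_div_assoc, div_le_iff₀ (pow_pos (by exact_mod_cast hq) _)]
    linarith
  -- contradiction near the root
  have hε : (0 : ℝ) < (N r : ℝ) * t₀ ^ r := mul_pos (by exact_mod_cast hNr) (pow_pos ht₀' _)
  obtain ⟨δ, hδ, hball⟩ := Metric.continuousAt_iff.1 (hPc.continuousAt (x := t₀)) _ hε
  obtain ⟨s, hs1, hs2⟩ := exists_rat_btwn (show t₀ < t₀ + δ by linarith)
  have hs0 : (0 : ℝ) < (s : ℝ) := ht₀'.trans hs1
  have hnum : 0 < s.num := Rat.num_pos.2 (by exact_mod_cast hs0)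
  have hsval : ((s.num.natAbs : ℕ) : ℝ) / (s.den : ℝ) = (s : ℝ) := by
    rw [Nat.cast_natAbs, abs_of_pos hnum, Rat.cast_def]
  have hPs : 0 < P s := hPt₀ ▸ hmono t₀ s ht₀ hs1
  have h1 := key s.den s.num.natAbs s.den_pos (Int.natAbs_pos.2 hnum.ne') (by rw [hsval]; exact hPs)
  rw [hsval] at h1
  have h2 := hball (x := (s : ℝ)) (by rw [Real.dist_eq, abs_of_pos (by linarith)]; linarith)
  rw [Real.dist_eq, hPt₀, sub_zero, abs_of_pos hPs] at h2
  have h3 : (N r : ℝ) * t₀ ^ r ≤ (N r : ℝ) * (s : ℝ) ^ r :=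
    mul_le_mul_of_nonneg_left (pow_le_pow_left₀ ht₀ hs1.le r) (by exact_mod_cast hNr.le)
  linarith

/-- **Kleiman's theorem** on integral subschemes. -/
theorem nef_interDeg_nonneg_point : ∀ (r : ℕ) (X : Scheme.{u}) [X.Over (Spec (CommRingCat.of k))]
    [IsProper (X ↘ Spec (CommRingCat.of k))] (a : InvCl X), NefCl k a → ∀ z : X,
      topologicalKrullDim (closure ({z} : Set X)) = (r : WithBot ℕ∞) →
        0 ≤ interDeg (fun _ : Fin r => a) (chiCl k (clM z)) := by
  intro r
  induction r using Nat.strong_induction_on with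
  | _ r ih =>
    intro X _ _ a ha z hz
    haveI := isNoetherian_of_proper (X := X) k
    rcases Nat.eq_zero_or_pos r with rfl | hr
    · have h := EulerLib.interDeg_pos k 0 (fun i => i.elim0) (fun i => i.elim0) _ (isCoh_clM z)
        (by rw [support_clM, hz])
      rw [interDeg_zero] at h ⊢
      exact h.le
    let i := (clI z).subschemeι
    let Y := (clI z).subscheme
    haveI : IsIntegral Y := isIntegral_vanishingIdeal _ isIrreducible_singleton.closure
    letI : Y.Over (Spec (CommRingCat.of k)) := ⟨i ≫ (X ↘ Spec (CommRingCat.of k))⟩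
    haveI : IsProper (Y ↘ Spec (CommRingCat.of k)) :=
      inferInstanceAs (IsProper (i ≫ (X ↘ Spec (CommRingCat.of k))))
    have hdimY : topologicalKrullDim Y = (r : WithBot ℕ∞) := (topologicalKrullDim_vanishingIdeal _).trans hz
    obtain ⟨Z, _, _, _, π, _, H, hH, hπ, hπη, hπdeg, hdimZ⟩ := exists_chow_integral k (Y := Y) hdimY
    haveI := isNoetherian_of_proper (X := Z) k
    have hg : (π ≫ i) ≫ (X ↘ Spec (CommRingCat.of k)) = Z ↘ Spec (CommRingCat.of k) := by
      rw [Category.assoc]; exact hπ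
    have hgen : (π ≫ i) (genericPoint Z) = z := by
      rw [Scheme.Hom.comp_apply, hπη]; exact clI_genericPoint z
    have hdeg : (π ≫ i).residueDegree (genericPoint Z) = 1 := by
      rw [CycLib28.residueDegree_comp, CycLib28.residueDegree_preimmersion i, hπdeg]
    have hpull := interDeg_pull k (π ≫ i) hg hdimZ (fun _ : Fin r => a)
    rw [hdeg, hgen, Nat.cast_one, one_mul] at hpull
    rw [← hpull, interDeg_const]
    refine nef_core k hr hdimZ hH (ha.pullHom k (π ≫ i) hg) fun j hj w hw => ?_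
    rw [← interDeg_const]
    exact ih j hj Z _ (ha.pullHom k (π ≫ i) hg) w hw

/-- **Kleiman's theorem**: `(a^r · F) ≥ 0` for nef `a`. -/
theorem nef_interDeg_nonneg {a : InvCl X} (ha : NefCl k a) {F : X.Modules} (hF : Coh.IsCoh F) {r : ℕ}
    (hd : topologicalKrullDim (CohB1.support F) ≤ (r : WithBot ℕ∞)) :
    0 ≤ interDeg (fun _ : Fin r => a) (chiCl k F) := by
  rw [interDeg_const]
  have h := mono_nonneg_of_points k a 1 0 r hF (by rwa [zero_add]) fun z hz => by
    rw [pow_zero, mul_one, ← interDeg_const]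
    exact nef_interDeg_nonneg_point k r X a ha z (hz.trans (by rw [zero_add]))
  rwa [pow_zero, mul_one] at h

end Groth.Agent.VarietyLib

end
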