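import Groth.Agent.VarietyLib.NefBig
import Groth.Agent.VarietyLib.NakaiCurves
import Groth.Agent.NumTriv23.VolPullback
import Groth.Agent.NumTriv23.Chi

/-!
# Nef classes, surjective morphisms and extensions of the base field
-/

set_option autoImplicit false
set_option linter.style.haveILetI false
set_option linter.unusedSectionVars false
set_option backward.isDefEq.respectTransparency.types false

universe u

open CategoryTheory CategoryTheory.Limits AlgebraicGeometry TopologicalSpace Opposite
open Groth.Agent.Coherent Groth.Agent.PicLib Groth.Agent.AmpleLib Groth.Agent.EulerLib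
open Groth.Agent.H0Growth23 Groth.Agent.NumTriv23 Groth.Agent.DimLib
open Groth.Agent.AssSch12 (clM clI)

noncomputable section

namespace Groth.Agent.VarietyLib

variable (k : Type u) [Field k] {X : Scheme.{u}} [X.Over (Spec (CommRingCat.of k))]
  [IsProper (X ↘ Spec (CommRingCat.of k))]

/-- Nef classes in terms of Euler characteristics on integral curves. -/
theorem nefCl_iff_euler {L : X.Modules} (hL : PicF.IsInvertible L) :
    (∀ C : X.IdealSheafData, IsIntegral C.subscheme → topologicalKrullDim (C.support : Set X) = 1 →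
      0 ≤ Curv2.euler k X (CohB1.tensorMod (ClSub.quotMod C) L) - Curv2.euler k X (ClSub.quotMod C)) ↔
    NefCl k (InvCl.mk L hL) := by
  constructor
  · intro h z hz
    rw [interDeg_one_eq k hL]
    exact h (clI z) (isIntegral_clI z) (by rw [support_clI, hz]; rfl)
  · intro h C hC hd
    haveI := hC
    obtain ⟨z, rfl⟩ : ∃ z, C = clI z := ⟨_, eq_clI_of_isIntegral C⟩
    rw [support_clI] at hd
    have h' := h z (hd.trans (by rfl))
    rwa [interDeg_one_eq k hL] at h'

/-- A class whose multiples become ample after one fixed twist is nef. -/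
theorem nefCl_of_ample_twists {a h : InvCl X}
    (hamp : ∀ ν : ℕ, 0 < ν → CohB1.IsAmple (repCl (a ^ ν * h))) : NefCl k a := by
  intro z hz
  haveI := isNoetherian_of_proper (X := X) k
  have hF := isCoh_clM z
  have hd : topologicalKrullDim (CohB1.support (clM z)) = ((1 : ℕ) : WithBot ℕ∞) := by
    rw [EulerLib.support_clM, hz]
  have hcl : ClDeg 2 (chiCl k (clM z)) := clDeg_chiCl k hF hd.le
  rw [interDeg_const, pow_one]
  by_contra hneg
  let ν : ℕ := (dOp h (chiCl k (clM z)) 1).natAbs + 1
  have hpos := interDeg_pos k 1 (fun _ => _) (fun _ => hamp ν (Nat.succ_pos _)) _ hF hd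
  rw [interDeg_const, pow_one, mk_repCl] at hpos
  have hmul := mono_dOp_mul h h (a ^ ν) h 0 0 (φ := chiCl k (clM z)) hcl
  have hpow := mono_dOp_pow h h a 0 0 (φ := chiCl k (clM z)) hcl ν
  simp only [pow_zero, mul_one, Module.End.one_apply] at hmul hpow
  rw [hmul, hpow, Pi.add_apply, Pi.smul_apply, smul_eq_mul] at hpos
  have h1 : (dOp a) (chiCl k (clM z)) 1 ≤ -1 := by omega
  have h2 := mul_le_mul_of_nonneg_left h1 (Int.natCast_nonneg ν)
  have h3 : dOp h (chiCl k (clM z)) 1 < (ν : ℤ) := by simp only [ν]; omega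
  linarith

/-- Twisting a nef class by an ample one gives ample classes. -/
theorem isAmple_twist_of_nef {H : X.Modules} (hH : CohB1.IsAmple H) {a : InvCl X} (ha : NefCl k a) (ν : ℕ) :
    CohB1.IsAmple (repCl (a ^ ν * InvCl.mk H hH.1)) :=
  isAmple_nef_mul_ample k hH ha ν one_pos (isInvertible_repCl _) (by rw [mk_repCl, pow_one])

/-- A class which becomes nef on a surjective cover is nef. -/
theorem nefCl_of_pullHom {Y : Scheme.{u}} [Y.Over (Spec (CommRingCat.of k))] [IsProper (Y ↘ Spec (CommRingCat.of k))]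
    (f : Y ⟶ X) [Surjective f] (hf : f ≫ (X ↘ Spec (CommRingCat.of k)) = Y ↘ Spec (CommRingCat.of k))
    {a : InvCl X} (h : NefCl k (pullHom f a)) : NefCl k a := by
  intro y hy
  obtain ⟨z, rfl, hzd⟩ := exists_point_over k f hf y
  have hz : topologicalKrullDim (closure ({z} : Set Y)) = ((1 : ℕ) : WithBot ℕ∞) := by
    rw [dim_closure_eq_ptDim k z, hzd, ← dim_closure_eq_ptDim k, hy]
  have h' := h z hz
  rw [interDeg_pull_clM k f hf z hz (fun _ => a)] at h'
  have hdeg : 0 < (f.residueDegree z : ℤ) := by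
    exact_mod_cast Nat.pos_of_ne_zero (residueDegree_ne_zero k f hf hzd)
  exact (mul_nonneg_iff_of_pos_left hdeg).1 h'

include k in
/-- A proper surjective cover with an ample module. -/
theorem exists_ample_cover : ∃ (Y : Scheme.{u}) (_ : Y.Over (Spec (CommRingCat.of k)))
    (_ : IsProper (Y ↘ Spec (CommRingCat.of k))) (π : Y ⟶ X) (_ : IsProper π) (_ : Surjective π) (H : Y.Modules),
    π ≫ (X ↘ Spec (CommRingCat.of k)) = Y ↘ Spec (CommRingCat.of k) ∧ CohB1.IsAmple H := by
  haveI := isNoetherian_of_proper (X := X) k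
  obtain ⟨N, Y, π, j, hj, hjq, hπ, hπs⟩ := H8Lim.ChowPn.exists_chow_pn_surjective (f := X ↘ Spec (CommRingCat.of k))
  letI : Y.Over (Spec (CommRingCat.of k)) := ⟨π ≫ (X ↘ Spec (CommRingCat.of k))⟩
  haveI hY : IsProper (Y ↘ Spec (CommRingCat.of k)) :=
    inferInstanceAs (IsProper (π ≫ (X ↘ Spec (CommRingCat.of k))))
  obtain ⟨-, -, H, hH⟩ := RelVALib.isQuasiProjective_of_immersion_pn (f := Y ↘ Spec (CommRingCat.of k)) j hjq
  exact ⟨Y, inferInstance, hY, π, hπ, hπs, H, rfl, RelVALib.isAmple_of_isRelAmple_of_isAffine _ hH⟩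

section bc

variable (K : Type u) [Field K] [Algebra k K]

attribute [local instance] overBC

theorem pullHom_comp {Y Z : Scheme.{u}} (f : Z ⟶ Y) (g : Y ⟶ X) (c : InvCl X) :
    pullHom f (pullHom g c) = pullHom (f ≫ g) c := by
  obtain ⟨L, hL, rfl⟩ := InvCl.exists_rep c
  exact Quotient.sound ⟨(Scheme.Modules.pullbackComp f g).app L⟩

/-- Nef classes stay nef over an extension of the base field. -/
theorem nefCl_bc {a : InvCl X} (ha : NefCl k a) : NefCl K (pullHom (Curv2.bcFst k X K) a) := by
  obtain ⟨Y, _, hY, π, _, _, H, hπ, hH⟩ := exists_ample_cover k (X := X)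
  let g := Curv2.bcFst k Y K
  let πK : Curv2.bc k Y K ⟶ Curv2.bc k X K :=
    pullback.lift (g ≫ π) (Curv2.bcSnd k Y K)
      (by rw [Category.assoc, hπ]; exact (isPullback_bc k Y K).w)
  have h1 : πK ≫ Curv2.bcFst k X K = g ≫ π := pullback.lift_fst _ _ _
  have h2 : πK ≫ Curv2.bcSnd k X K = Curv2.bcSnd k Y K := pullback.lift_snd _ _ _
  have sq : IsPullback g πK π (Curv2.bcFst k X K) :=
    IsPullback.of_bot (by rw [h2, hπ]; exact isPullback_bc k Y K) h1.symm (isPullback_bc k X K)
  haveI : Surjective πK := MorphismProperty.of_isPullback (P := @Surjective) sq inferInstance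
  refine nefCl_of_pullHom K πK h2 (nefCl_of_ample_twists K (h := pullHom g (InvCl.mk H hH.1)) fun ν hν => ?_)
  rw [pullHom_comp, h1, ← pullHom_comp, ← map_pow, ← map_mul]
  have hB := isAmple_twist_of_nef k hH (ha.pullHom k π hπ) ν
  obtain ⟨e⟩ := nonempty_iso_repCl _ (PicLoc.isInvertible_pullback g hB.1)
  refine isAmple_of_iso (e.symm ≪≫ eqToIso (congrArg repCl ?_)) (isAmple_bc k K hB)
  rw [← pullHom_mk g hB.1, mk_repCl]

/-- Nef classes descend along extensions of the base field. -/
theorem nefCl_of_bc {a : InvCl X} (ha : NefCl K (pullHom (Curv2.bcFst k X K) a)) : NefCl k a := by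
  intro z hz
  haveI := isNoetherian_of_proper (X := X) k
  haveI := isNoetherian_of_proper (X := Curv2.bc k X K) K
  set g := Curv2.bcFst k X K
  have hF := isCoh_clM z
  let F := (Scheme.Modules.pullback g).obj (clM z)
  have hFc : Coh.IsCoh F :=
    ⟨haveI := hF.1; EGA43.InjFibre.isQCoh_pullback g _, Coherent.isFT_pullback_qcoh g hF.1 hF.2⟩
  have hzd : ptDim (X ↘ Spec (CommRingCat.of k)) z = 1 := by
    rw [dim_closure_eq_ptDim k z] at hz
    exact_mod_cast hz
  have hle : ∀ x ∈ CohB1.support F, ptDim (Curv2.bcSnd k X K) x ≤ 1 := fun x hx => by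
    rw [support_pullback_qcoh g hF.1 hF.2] at hx
    have hs : z ⤳ g x := specializes_iff_mem_closure.2 (support_clM_subset z hx)
    exact (ptDim_bc_le (X ↘ Spec (CommRingCat.of k)) K x).trans
      ((ptDim_le_of_specializes _ hs).trans hzd.le)
  have hd : topologicalKrullDim (CohB1.support F) ≤ ((1 : ℕ) : WithBot ℕ∞) := by
    rw [topologicalKrullDim_closed_eq_iSup (Curv2.bcSnd k X K)
      (isClosed_support F (locallyFinGen_of_isFT F hFc.2))]
    exact iSup_le fun x => by exact_mod_cast hle x.1 x.2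
  have key : ∀ c, chiCl K F (pullHom g c) = chiCl k (clM z) c := fun c => by
    rw [chiCl_eq_euler, chiCl_eq_euler]
    show (∑ᶠ q : ℕ, (-1 : ℤ) ^ q * (hh K F q (pullHom g c) : ℤ)) = ∑ᶠ q : ℕ, (-1 : ℤ) ^ q * (hh k (clM z) q c : ℤ)
    exact finsum_congr fun q => by rw [hh_bc' k K hF]
  have h := nef_interDeg_nonneg K ha hFc hd
  rw [interDeg_monoidHom, funext key] at h
  exact h

/-- Nefness in terms of Euler characteristics is insensitive to the base field. -/
theorem euler_nef_bc_iff {L : X.Modules} (hL : PicF.IsInvertible L) :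
    (∀ C : X.IdealSheafData, IsIntegral C.subscheme → topologicalKrullDim (C.support : Set X) = 1 →
      0 ≤ Curv2.euler k X (CohB1.tensorMod (ClSub.quotMod C) L) - Curv2.euler k X (ClSub.quotMod C)) ↔
    (∀ C' : (Curv2.bc k X K).IdealSheafData, IsIntegral C'.subscheme →
        topologicalKrullDim (C'.support : Set (Curv2.bc k X K)) = 1 →
      0 ≤ Curv2.euler K (Curv2.bc k X K)
            (CohB1.tensorMod (ClSub.quotMod C') ((Scheme.Modules.pullback (Curv2.bcFst k X K)).obj L)) -
          Curv2.euler K (Curv2.bc k X K) (ClSub.quotMod C')) := by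
  rw [nefCl_iff_euler k hL, nefCl_iff_euler K (PicLoc.isInvertible_pullback (Curv2.bcFst k X K) hL),
    ← pullHom_mk (Curv2.bcFst k X K) hL]
  exact ⟨nefCl_bc k K, nefCl_of_bc k K⟩

end bc

end Groth.Agent.VarietyLib

end
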