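import Groth.Agent.SerreDual.CurveAmple
import Groth.Agent.AbCubeLib.CanonicalSection
import Groth.Agent.MorProj.QuasiAff
import Groth.Agent.Coherent.Serre.Vanishing

/-!
# The complement of finitely many points of a proper curve is affine
-/

set_option autoImplicit false
set_option linter.style.haveILetI false
set_option backward.isDefEq.respectTransparency.types false

universe u

open CategoryTheory CategoryTheory.Limits AlgebraicGeometry Opposite TopologicalSpace
open Groth.Agent.Coherent Groth.Agent.PicLib Groth.Agent.AmpleLib Groth.Agent.EulerLib Groth.Agent.CurveRR24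

namespace Groth.Agent.VarietyLib

variable (k : Type u) [Field k] {X : Scheme.{u}} [X.Over (Spec (CommRingCat.of k))]
  [IsProper (X ↘ Spec (CommRingCat.of k))] [IsIntegral X]

include k in
/-- A closed point of a proper curve supports an effective Cartier ideal. -/
theorem exists_effCartier_point (hdim : topologicalKrullDim X = 1) {P : X} (hP : IsClosed ({P} : Set X)) :
    ∃ I : X.IdealSheafData, BlowUp.IsEffCartierIdeal I ∧ (I.support : Set X) = {P} := by
  haveI := isNoetherian_of_proper k (X := X)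
  have hPη : P ≠ genericPoint X := fun h => CurvesLib24.not_isClosed_genericPoint hdim (h ▸ hP)
  obtain ⟨U, hU, hPU, -⟩ := exists_isAffineOpen_mem_and_subset (x := P) (U := ⊤) trivial
  have hηU : genericPoint X ∈ U :=
    (genericPoint_spec X).mem_open_set_iff U.2 |>.2 ⟨P, trivial, hPU⟩
  haveI : Nonempty U := ⟨⟨P, hPU⟩⟩
  obtain ⟨a, ha0, haP⟩ : ∃ a : Γ(X, U), a ≠ 0 ∧ P ∉ X.basicOpen a := by
    by_contra h
    push Not at h
    have hbot : ∀ b : Γ(X, U), b ∈ (hU.primeIdealOf ⟨P, hPU⟩).asIdeal → b = 0 := fun b hb => by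
      by_contra hb0
      have h1 := h b hb0
      have h2 : hU.fromSpec (hU.primeIdealOf ⟨P, hPU⟩) = P := hU.fromSpec_primeIdealOf ⟨P, hPU⟩
      rw [← h2] at h1
      have h3 : hU.primeIdealOf ⟨P, hPU⟩ ∈ PrimeSpectrum.basicOpen b := by
        rw [← hU.fromSpec_preimage_basicOpen b]; exact h1
      exact h3 hb
    have h2 : hU.fromSpec (hU.primeIdealOf ⟨P, hPU⟩) = P := hU.fromSpec_primeIdealOf ⟨P, hPU⟩
    have h3 : hU.fromSpec (hU.primeIdealOf ⟨genericPoint X, hηU⟩) = genericPoint X :=
      hU.fromSpec_primeIdealOf ⟨genericPoint X, hηU⟩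
    have hgen : P ⤳ genericPoint X := by
      rw [← h2, ← h3]
      refine Specializes.map ((PrimeSpectrum.le_iff_specializes _ _).1 ?_) hU.fromSpec.continuous
      intro b hb
      rw [hbot b hb]
      exact zero_mem _
    exact hPη (hgen.mem_closed hP rfl).symm
  -- shrink the chart
  have hηa : genericPoint X ∈ X.basicOpen a := by
    refine (genericPoint_spec X).mem_open_set_iff (X.basicOpen a).2 |>.2 ?_
    have : X.basicOpen a ≠ ⊥ := by rw [Ne, basicOpen_eq_bot_iff]; exact ha0
    obtain ⟨z, hz⟩ := Set.nonempty_iff_ne_empty.2 fun h => this (Opens.ext h)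
    exact ⟨z, trivial, hz⟩
  let C : Set X := closure ((U : Set X) \ X.basicOpen a)
  have hηC : genericPoint X ∉ C := by
    intro h
    obtain ⟨z, hz, hzU, hzn⟩ := mem_closure_iff.1 h _ (X.basicOpen a).2 hηa
    exact hzn hz
  obtain ⟨hfin, hpts, -⟩ := closed_small k hdim.le isClosed_closure hηC
  have hCc : IsClosed (C \ {P}) := by
    rw [← Set.biUnion_of_singleton (C \ {P})]
    exact hfin.sdiff.isClosed_biUnion fun y hy => hpts y hy.1
  obtain ⟨W, hW, hPW, hWU⟩ := exists_isAffineOpen_mem_and_subset (x := P)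
    (U := U ⊓ ⟨(C \ {P})ᶜ, hCc.isOpen_compl⟩) ⟨hPU, fun h => h.2 rfl⟩
  have hWU' : W ≤ U := fun z hz => (hWU hz).1
  let b : Γ(X, W) := res hWU' a
  have hbo : X.basicOpen b = W ⊓ X.basicOpen a := Scheme.basicOpen_res _ _ _
  have hWb : ∀ z ∈ W, z ∉ X.basicOpen b ↔ z = P := by
    intro z hz
    rw [hbo]
    refine ⟨fun h => ?_, fun h => ?_⟩
    · by_contra hne
      exact (hWU hz).2 ⟨subset_closure ⟨hWU' hz, fun h' => h ⟨hz, h'⟩⟩, hne⟩
    · rintro ⟨-, h'⟩
      exact haP (h ▸ h')
  haveI : Nonempty W := ⟨⟨P, hPW⟩⟩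
  have hb0 : b ≠ 0 := fun h => by
    have h1 : genericPoint X ∈ X.basicOpen b := by
      rw [hbo]
      exact ⟨(genericPoint_spec X).mem_open_set_iff W.2 |>.2 ⟨P, trivial, hPW⟩, hηa⟩
    rw [h, Scheme.basicOpen_zero] at h1
    exact h1
  let q : Γ(X, W) →+* Γ(X, W) ⧸ Ideal.span {b} := Ideal.Quotient.mk _
  let j : Spec (CommRingCat.of (Γ(X, W) ⧸ Ideal.span {b})) ⟶ Spec Γ(X, W) := Spec.map (CommRingCat.ofHom q)
  haveI : IsClosedImmersion j := IsClosedImmersion.spec_of_surjective _ Ideal.Quotient.mk_surjective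
  let ι := j ≫ hW.fromSpec
  have hrange : Set.range ι = {P} := by
    show Set.range (⇑hW.fromSpec ∘ ⇑j) = _
    rw [Set.range_comp, show Set.range (⇑j) = PrimeSpectrum.zeroLocus ({b} : Set Γ(X, W)) from by
      show Set.range (PrimeSpectrum.comap q) = _
      rw [range_comap_of_surjective _ _ Ideal.Quotient.mk_surjective, Ideal.mk_ker,
        PrimeSpectrum.zeroLocus_span]]
    have hz : ∀ p : Spec Γ(X, W), p ∈ PrimeSpectrum.zeroLocus ({b} : Set Γ(X, W)) ↔ hW.fromSpec p = P := by
      intro p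
      rw [← hWb _ (hW.range_fromSpec.subset ⟨p, rfl⟩)]
      have h3 : hW.fromSpec p ∈ X.basicOpen b ↔ b ∉ p.asIdeal := by
        show p ∈ hW.fromSpec ⁻¹ᵁ X.basicOpen b ↔ _
        rw [hW.fromSpec_preimage_basicOpen b]; rfl
      rw [h3, not_not]
      exact Set.singleton_subset_iff
    refine Set.Subset.antisymm ?_ ?_
    · rintro _ ⟨p, hp, rfl⟩; exact (hz p).1 hp
    · intro x hx
      rw [Set.mem_singleton_iff] at hx
      subst x
      exact ⟨hW.primeIdealOf ⟨P, hPW⟩, (hz _).2 (hW.fromSpec_primeIdealOf ⟨P, hPW⟩),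
        hW.fromSpec_primeIdealOf ⟨P, hPW⟩⟩
  haveI : IsClosedImmersion ι := .of_isPreimmersion _ (hrange ▸ hP)
  let I := ι.ker
  have hsupp : (I.support : Set X) = {P} := by
    rw [ι.support_ker, hrange, hP.closure_eq]
  have hgen : I.ideal ⟨W, hW⟩ = Ideal.span {b} := by
    rw [Scheme.Hom.ker_apply]
    have hpre : ι ⁻¹ᵁ W = ⊤ := Opens.ext (Set.eq_univ_of_forall fun w => hW.range_fromSpec.subset ⟨j w, rfl⟩)
    ext c
    rw [RingHom.mem_ker]
    let R := CommRingCat.of (Γ(X, W) ⧸ Ideal.span {b})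
    let e : Γ(Spec R, ι ⁻¹ᵁ W) →+* R :=
      ((Spec R).presheaf.map (eqToHom hpre.symm).op ≫ (Scheme.ΓSpecIso R).hom).hom
    have he : Function.Injective e := by
      haveI : IsIso ((Spec R).presheaf.map (eqToHom hpre.symm).op ≫ (Scheme.ΓSpecIso R).hom) := inferInstance
      exact (ConcreteCategory.bijective_of_isIso ((Spec R).presheaf.map (eqToHom hpre.symm).op ≫
        (Scheme.ΓSpecIso R).hom)).1
    have key : e (ι.app W c) = q c := by
      have h1 : ι.app W ≫ (Spec R).presheaf.map (eqToHom hpre.symm).op ≫ (Scheme.ΓSpecIso R).hom =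
          CommRingCat.ofHom q := by
        calc _ = ι.appLE W ⊤ hpre.ge ≫ (Scheme.ΓSpecIso R).hom := by rfl
          _ = CommRingCat.ofHom q := by
            show (j ≫ hW.fromSpec).appLE W ⊤ hpre.ge ≫ _ = _
            rw [Scheme.Hom.comp_appLE, hW.fromSpec_app_self, Category.assoc, Category.assoc,
              Scheme.Hom.map_appLE_assoc]
            show _ ≫ (j.app ⊤ ≫ (Spec R).presheaf.map (homOfLE (le_refl (⊤ : (Spec R).Opens))).op) ≫ _ = _
            rw [show (homOfLE (le_refl (⊤ : (Spec R).Opens))).op = 𝟙 _ from rfl]; erw [CategoryTheory.Functor.map_id, Category.comp_id]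
            show _ ≫ (Spec.map (CommRingCat.ofHom q)).appTop ≫ _ = _
            rw [Scheme.ΓSpecIso_naturality]; exact Iso.inv_hom_id_assoc (Scheme.ΓSpecIso Γ(X, W)) (CommRingCat.ofHom q)
      exact ConcreteCategory.congr_hom h1 c
    rw [← map_eq_zero_iff e he, key, Ideal.Quotient.eq_zero_iff_mem]
  refine ⟨I, fun x => ?_, hsupp⟩
  by_cases hx : x = P
  · exact ⟨⟨W, hW⟩, hx ▸ hPW, b, mem_nonZeroDivisors_of_ne_zero hb0, hgen⟩
  · obtain ⟨V, hV, hxV, hVP⟩ := exists_isAffineOpen_mem_and_subset (x := x)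
      (U := ⟨({P} : Set X)ᶜ, hP.isOpen_compl⟩) hx
    refine ⟨⟨V, hV⟩, hxV, 1, one_mem _, ?_⟩
    rw [Ideal.span_singleton_one, Scheme.Hom.ker_apply]
    have hbot : ι ⁻¹ᵁ V = ⊥ := Opens.ext (Set.eq_empty_of_forall_notMem fun w hw =>
      hVP hw (hrange.subset ⟨w, rfl⟩))
    haveI : Subsingleton Γ(Spec (CommRingCat.of (Γ(X, W) ⧸ Ideal.span {b})), ι ⁻¹ᵁ V) := by
      rw [hbot]; infer_instance
    exact eq_top_iff.2 fun c _ => RingHom.mem_ker.2 (Subsingleton.elim _ _)

include k in
/-- The complement of a closed point of a proper curve is affine. -/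
theorem isAffineOpen_compl_point (hdim : topologicalKrullDim X = 1) {P : X} (hP : IsClosed ({P} : Set X)) :
    IsAffineOpen (⟨({P} : Set X)ᶜ, hP.isOpen_compl⟩ : X.Opens) := by
  haveI := isNoetherian_of_proper k (X := X)
  obtain ⟨I, hI, hsupp⟩ := exists_effCartier_point k hdim hP
  have hη : genericPoint X ∉ (I.support : Set X) := fun h => by
    rw [hsupp, Set.mem_singleton_iff] at h
    exact CurvesLib24.not_isClosed_genericPoint hdim (h ▸ hP)
  have hIi : PicF.IsInvertible (ClSub.idealMod I) := by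
    refine isInvertible_of_gens fun x => ?_
    obtain ⟨U, hxU, f, hf, hspan⟩ := hI x
    obtain ⟨c, hc⟩ := (mem_range_idealModι I U.1 f).2 (RingHom.mem_ker.1
      ((I.ker_subschemeι_app U).symm ▸ hspan.ge (Ideal.mem_span_singleton_self f)))
    have hreg : IsLeftRegular f := fun b c (h : f * b = f * c) => sub_eq_zero.1
      ((mem_nonZeroDivisors_iff.1 hf).2 _ (by rw [sub_mul, mul_comm b, mul_comm c, h, sub_self]))
    exact ⟨U.1, hxU, c, bijective_smul_of_affine_gen I U.2 hc hreg hspan⟩
  obtain ⟨L, hL⟩ := exists_isInverseOf hIi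
  obtain ⟨e⟩ := hL
  have hLinv : PicF.IsInvertible L := MorProj.isInvertible_of_tensor_iso (tensorComm L _ ≪≫ e)
  have hpos : (0 : ℤ) < Module.finrank k (Coh.HH X (ClSub.quotMod I) 0) := by
    haveI := finite_HH_of_isCoh k (isCoh_quotMod I) 0
    haveI : Nonempty I.subscheme := by
      obtain ⟨w, -⟩ := I.range_subschemeι.superset (hsupp.ge rfl : P ∈ (I.support : Set X))
      exact ⟨w⟩
    haveI : Nonempty (I.subschemeι ⁻¹ᵁ (⊤ : X.Opens)) := ⟨⟨Classical.arbitrary _, trivial⟩⟩
    haveI : Nontrivial (GA (baseHom k X) (ClSub.quotMod I)) :=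
      inferInstanceAs (Nontrivial Γ(I.subscheme, I.subschemeι ⁻¹ᵁ (⊤ : X.Opens)))
    haveI : Nontrivial (Coh.HH X (ClSub.quotMod I) 0) := (hhZero k _).toEquiv.nontrivial
    exact_mod_cast Module.finrank_pos
  have hchi := euler_idealTwist k hdim.le I hη (L := Coh.structureModule X) isInvertible_structureModule
  rw [euler_congr k X (tensorComm (ClSub.idealMod I) (Coh.structureModule X) ≪≫ unitTensorIso _)] at hchi
  have hdegI : Curv2.deg k X (ClSub.idealMod I) 1 < 0 := by
    simp only [Curv2.deg, Nat.cast_one, one_mul]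
    omega
  have hsum := deg_tensor k hdim.le hIi hLinv
  rw [deg_congr k e, deg_structure] at hsum
  have hamp : CohB1.IsAmple L := isAmple_of_deg_pos k hdim hLinv (by omega)
  obtain ⟨s, hs⟩ := AbCubeLib.exists_section_of_effCartier I hI hLinv ⟨tensorComm _ _ ≪≫ e⟩
  have := MorProj.isAffineOpen_glocus_of_universallyClosed (X ↘ Spec (CommRingCat.of k)) hamp s
  convert this using 1
  exact Opens.ext (by rw [hs, hsupp]; rfl)

include k in
/-- The complement of a nonempty finite set of closed points of a proper curve is affine. -/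
theorem isAffineOpen_compl_finite (hdim : topologicalKrullDim X = 1) {T : Set X} (hT : T.Finite)
    (hne : T.Nonempty) (hc : ∀ t ∈ T, IsClosed ({t} : Set X)) (V : X.Opens) (hV : (V : Set X) = Tᶜ) :
    IsAffineOpen V := by
  haveI : X.IsSeparated := Serre.isSeparated_of_isProper (X ↘ Spec (CommRingCat.of k))
  induction T, hT using Set.Finite.induction_on generalizing V with
  | empty => exact absurd hne Set.not_nonempty_empty
  | @insert a s has hs ih =>
    have ha := isAffineOpen_compl_point k hdim (hc a (Set.mem_insert _ _))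
    rcases s.eq_empty_or_nonempty with rfl | hsne
    · convert ha using 1
      exact Opens.ext (by rw [hV]; simp)
    · let V' : X.Opens := ⟨sᶜ, (Set.biUnion_of_singleton s ▸
        hs.isClosed_biUnion fun y hy => hc y (Set.mem_insert_of_mem _ hy)).isOpen_compl⟩
      convert ha.inf (ih hsne (fun t ht => hc t (Set.mem_insert_of_mem _ ht)) V' rfl) using 1
      exact Opens.ext (by rw [hV, Opens.coe_inf]; ext z; simp [V'])

end Groth.Agent.VarietyLib
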