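import Mathlib
import Groth.Agent.VarietyLib.GeomComponents
import Groth.Agent.DimLib.OverBridge

/-!
# Points whose fibre in the separable base change is a single point
-/

set_option autoImplicit false
set_option backward.isDefEq.respectTransparency.types false

universe u

open CategoryTheory Limits AlgebraicGeometry Set Topology Polynomial

namespace Groth.Agent.VarietyLib

/-- Minimal polynomials of separable elements stay irreducible when no new separable element occurs. -/
theorem irreducible_map_minpoly {k E L : Type u} [Field k] [Field E] [Algebra k E] [Field L] [Algebra k L]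
    [Algebra.IsSeparable k L] (hE : ∀ a : E, IsSeparable k a → a ∈ Set.range (algebraMap k E)) (α : L) :
    Irreducible ((minpoly k α).map (algebraMap k E)) := by
  have hint : IsIntegral k α := Algebra.IsSeparable.isIntegral k α
  have hm : (minpoly k α).Monic := minpoly.monic hint
  have hirr := minpoly.irreducible hint
  rw [Polynomial.Monic.irreducible_iff_natDegree' (hm.map _)]
  refine ⟨fun h => hirr.ne_one (Polynomial.map_injective _ (algebraMap k E).injective (by rw [h, Polynomial.map_one])), ?_⟩
  intro g h hg hh hgh hmem
  -- coefficients of a monic factor are separable over `k`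
  have hcoef : ∀ i, g.coeff i ∈ Set.range (algebraMap k E) := fun i => hE _ (by
    obtain ⟨T, _, _, hT⟩ : ∃ (T : Type u) (_ : Field T) (_ : Algebra E T), (g.map (algebraMap E T)).Splits :=
      ⟨AlgebraicClosure E, inferInstance, inferInstance, IsAlgClosed.splits _⟩
    let : Algebra k T := ((algebraMap E T).comp (algebraMap k E)).toAlgebra
    have : IsScalarTower k E T := .of_algebraMap_eq fun _ => rfl
    let S := separableClosure k T
    have hroots : ∀ r ∈ (g.map (algebraMap E T)).roots, r ∈ S := by
      intro r hr
      have hr' : aeval r (minpoly k α) = 0 := by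
        have h0 : (g * h).eval₂ (algebraMap E T) r = 0 := by
          rw [eval₂_mul, ← Polynomial.eval_map, (mem_roots'.1 hr).2, zero_mul]
        rw [hgh, eval₂_map, ← IsScalarTower.algebraMap_eq] at h0
        exact h0
      refine mem_separableClosure_iff.2 ?_
      exact (Algebra.IsSeparable.isSeparable k α).of_dvd (minpoly.dvd k r hr')
    have hc : algebraMap E T (g.coeff i) ∈ S := by
      rw [← coeff_map, hT.eq_prod_roots_of_monic (hg.map _)]
      have key : ∀ s : Multiset T, (∀ r ∈ s, r ∈ S) → ∀ i, ((s.map fun a => X - C a).prod).coeff i ∈ S := by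
        intro s
        induction s using Multiset.induction_on with
        | empty =>
          intro _ i
          simp only [Multiset.map_zero, Multiset.prod_zero, coeff_one]
          split <;> simp [one_mem, zero_mem]
        | cons a s ih =>
          intro hs i
          have ih' := ih fun r hr => hs r (Multiset.mem_cons_of_mem hr)
          simp only [Multiset.map_cons, Multiset.prod_cons, sub_mul, coeff_sub, coeff_C_mul]
          refine sub_mem ?_ (mul_mem (hs a (Multiset.mem_cons_self a s)) (ih' i))
          cases i with
          | zero => simp [zero_mem]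
          | succ i => rw [coeff_X_mul]; exact ih' i
      exact key _ hroots i
    have := (mem_separableClosure_iff.1 hc)
    rwa [IsSeparable, minpoly.algebraMap_eq (algebraMap E T).injective] at this)
  obtain ⟨g', hg', hdeg, hg'm⟩ := lifts_and_natDegree_eq_and_monic ((lifts_iff_coeff_lifts g).2 hcoef) hg
  have hdvd : g' ∣ minpoly k α := (Polynomial.map_dvd_map' (algebraMap k E)).1 (by rw [hg']; exact Dvd.intro h hgh)
  obtain ⟨h', he⟩ := hdvd
  rcases hirr.isUnit_or_isUnit he with hu | hu
  · have : g.natDegree = 0 := by rw [← hdeg]; exact natDegree_eq_zero_of_isUnit hu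
    have hd : h.natDegree = ((minpoly k α).map (algebraMap k E)).natDegree := by
      rw [← hgh, hg.natDegree_mul hh, this, zero_add]
    have := Finset.mem_Ioc.1 hmem
    have : 0 < (minpoly k α).natDegree := minpoly.natDegree_pos hint
    rw [natDegree_map] at hd
    simp only [natDegree_map] at hmem
    have := Finset.mem_Ioc.1 hmem
    omega
  · have hh' : h = h'.map (algebraMap k E) := by
      have := hgh
      rw [he, Polynomial.map_mul, hg'] at this
      exact mul_left_cancel₀ hg.ne_zero this
    have : h.natDegree = 0 := by rw [hh', natDegree_map]; exact natDegree_eq_zero_of_isUnit hu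
    have := Finset.mem_Ioc.1 hmem
    omega

variable (k : Type u) [Field k] {X : Scheme.{u}} (f : X ⟶ Spec (CommRingCat.of k))

/-- A point with no new separable elements in its residue field has one point above it at every
finite separable level. -/
theorem fst_injOn_fibre_finite (x : X) {ρ : k →+* X.residueField x}
    (hρ : Spec.map (CommRingCat.ofHom ρ) = X.fromSpecResidueField x ≫ f)
    (hsep : letI := ρ.toAlgebra; ∀ a : X.residueField x, IsSeparable k a → a ∈ Set.range (algebraMap k (X.residueField x)))
    (L : Type u) [Field L] [Algebra k L] [FiniteDimensional k L] [Algebra.IsSeparable k L]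
    {p q : ↥(pullback f (sK k L))} (hp : pullback.fst f (sK k L) p = x) (hq : pullback.fst f (sK k L) q = x) :
    p = q := by
  let : Algebra k (X.residueField x) := ρ.toAlgebra
  obtain ⟨α, hα⟩ := Field.exists_primitive_element k L
  let φ : Polynomial (X.residueField x) := (minpoly k α).map (algebraMap k (X.residueField x))
  have : Fact (Irreducible φ) := ⟨irreducible_map_minpoly hsep α⟩
  let F := AdjoinRoot φ
  let : Algebra k F := ((algebraMap (X.residueField x) F).comp (algebraMap k (X.residueField x))).toAlgebra
  -- the map `L → F`
  have hint : IsIntegral k α := Algebra.IsSeparable.isIntegral k α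
  let pb : PowerBasis k L := (IntermediateField.adjoin.powerBasis hint).map
    ((IntermediateField.equivOfEq hα).trans IntermediateField.topEquiv)
  have hpb : minpoly k pb.gen = minpoly k α := by
    simp [pb, IntermediateField.adjoin.powerBasis, IntermediateField.minpoly_gen]
  have hroot : aeval (AdjoinRoot.root φ) (minpoly k pb.gen) = 0 := by
    rw [hpb, aeval_def, RingHom.algebraMap_toAlgebra, ← eval₂_map]
    exact AdjoinRoot.eval₂_root φ
  let ψ : L →ₐ[k] F := pb.lift (AdjoinRoot.root φ) hroot
  let Fc := CommRingCat.of F
  have hcomm : (Spec.map (CommRingCat.ofHom (algebraMap (X.residueField x) F)) ≫ X.fromSpecResidueField x) ≫ f =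
      Spec.map (CommRingCat.ofHom ψ.toRingHom) ≫ sK k L := by
    rw [Category.assoc, ← hρ, ← Spec.map_comp, ← Spec.map_comp, ← CommRingCat.ofHom_comp, ← CommRingCat.ofHom_comp]
    congr 2
    exact ψ.comp_algebraMap.symm
  let pt : Spec Fc ⟶ pullback f (sK k L) := pullback.lift _ _ hcomm
  suffices H : ∀ p : ↥(pullback f (sK k L)), pullback.fst f (sK k L) p = x → p = pt (IsLocalRing.closedPoint F) by
    rw [H p hp, H q hq]
  intro p hp
  subst hp
  let P := pullback f (sK k L)
  let Ω := P.residueField p
  let ιE : X.residueField (pullback.fst f (sK k L) p) ⟶ Ω := (pullback.fst f (sK k L)).residueFieldMap p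
  obtain ⟨β, hβ⟩ := Spec.map_surjective (P.fromSpecResidueField p ≫ pullback.snd f (sK k L))
  have hfst : P.fromSpecResidueField p ≫ pullback.fst f (sK k L) =
      Spec.map ιE ≫ X.fromSpecResidueField _ :=
    (Scheme.Hom.SpecMap_residueFieldMap_fromSpecResidueField _ p).symm
  have hk : CommRingCat.ofHom ρ ≫ ιE = CommRingCat.ofHom (algebraMap k L) ≫ β := by
    apply Spec.map_injective
    rw [Spec.map_comp, Spec.map_comp, hρ, hβ, ← Category.assoc, ← hfst, Category.assoc, Category.assoc,
      pullback.condition]
  have hev : φ.eval₂ ιE.hom (β.hom pb.gen) = 0 := by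
    have e : ιE.hom.comp ρ = β.hom.comp (algebraMap k L) := congrArg CommRingCat.Hom.hom hk
    rw [eval₂_map, RingHom.algebraMap_toAlgebra, e, ← hom_eval₂]
    have : eval₂ (algebraMap k L) pb.gen (minpoly k α) = 0 := by rw [← hpb]; exact minpoly.aeval k pb.gen
    rw [this, map_zero]
  let θ : F →+* Ω := AdjoinRoot.lift ιE.hom (β.hom pb.gen) hev
  have hθ1 : CommRingCat.ofHom (algebraMap (X.residueField (pullback.fst f (sK k L) p)) F) ≫ CommRingCat.ofHom θ = ιE := by
    ext e
    exact AdjoinRoot.lift_of hev
  have hθ2 : CommRingCat.ofHom ψ.toRingHom ≫ CommRingCat.ofHom θ = β := by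
    ext l
    let A : Algebra k Ω := (β.hom.comp (algebraMap k L)).toAlgebra
    let θ' : F →ₐ[k] Ω :=
      { θ with commutes' := fun c => (AdjoinRoot.lift_of hev).trans (congr($(hk).hom c)) }
    let β' : L →ₐ[k] Ω := { β.hom with commutes' := fun c => rfl }
    have : θ'.comp ψ = β' := pb.algHom_ext ((congrArg θ' (pb.lift_gen _ hroot)).trans (AdjoinRoot.lift_root hev))
    exact AlgHom.congr_fun this l
  have : Spec.map (CommRingCat.ofHom θ) ≫ pt = P.fromSpecResidueField p := by
    apply pullback.hom_ext
    · rw [Category.assoc, pullback.lift_fst, ← Category.assoc, ← Spec.map_comp, hθ1, hfst]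
    · rw [Category.assoc, pullback.lift_snd, ← Spec.map_comp, hθ2, hβ]
  have h := congr(($this) (IsLocalRing.closedPoint Ω))
  rw [Scheme.Hom.comp_apply, P.fromSpecResidueField_apply] at h
  exact h.symm.trans (congrArg pt (Subsingleton.elim (α := PrimeSpectrum F) _ _))

/-- Two points of the separable base change are separated at a finite level. -/
theorem exists_level_ne {M : Type u} [Field M] [Algebra k M] [Algebra.IsSeparable k M]
    {p q : ↥(pullback f (sK k M))} (h : p ≠ q) :
    ∃ (L : IntermediateField k M), FiniteDimensional k L ∧ tr k f L M p ≠ tr k f L M q := by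
  wlog hs : ¬ q ⤳ p generalizing p q
  · push Not at hs
    obtain ⟨L, hL, hne⟩ := this h.symm fun h' => h (h'.antisymm hs).eq
    exact ⟨L, hL, hne.symm⟩
  obtain ⟨O, hO, hpO, hqO⟩ := not_specializes_iff_exists_open.1 hs
  obtain ⟨σ, hσ⟩ := H8Lim.exists_finset_nhd f M hO hpO
  let L : IntermediateField k M := IntermediateField.adjoin k (σ : Set M)
  obtain ⟨O', hO'⟩ := hσ L.toSubalgebra (IntermediateField.subset_adjoin k _)
  obtain ⟨hmem, hsub⟩ := hO' (tr k f L M) (tr_fst k f L _) (pullback.lift_snd _ _ _)
  refine ⟨L, IntermediateField.finiteDimensional_adjoin fun x _ => Algebra.IsIntegral.isIntegral x, fun e => hqO (hsub ?_)⟩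
  show tr k f L M q ∈ O'
  rw [← e]
  exact hmem

/-- A point with no new separable elements in its residue field has one point above it in the
separable base change. -/
theorem fst_injOn_fibre (x : X) {ρ : k →+* X.residueField x}
    (hρ : Spec.map (CommRingCat.ofHom ρ) = X.fromSpecResidueField x ≫ f)
    (hsep : letI := ρ.toAlgebra; ∀ a : X.residueField x, IsSeparable k a → a ∈ Set.range (algebraMap k (X.residueField x)))
    {p q : ↥(pullback f (sK k (SeparableClosure k)))} (hp : pullback.fst f (sK k (SeparableClosure k)) p = x)
    (hq : pullback.fst f (sK k (SeparableClosure k)) q = x) :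
    p = q := by
  by_contra hne
  obtain ⟨L, hL, h⟩ := exists_level_ne k f hne
  have : Algebra.IsSeparable k L := Algebra.isSeparable_tower_bot_of_isSeparable k L (SeparableClosure k)
  refine h (fst_injOn_fibre_finite k f x hρ hsep L ?_ ?_) <;> rw [tr_fst_apply]
  exacts [hp, hq]

variable {k f}

theorem connectedSpace_of_fibre_subsingleton [ConnectedSpace X] (x : X)
    (h : ∀ p q : ↥(pullback f (sK k (SeparableClosure k))), pullback.fst f _ p = x → pullback.fst f _ q = x → p = q) :
    ConnectedSpace ↥(pullback f (sK k (SeparableClosure k))) := by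
  obtain ⟨y, hy⟩ := surjective_fst k f (L := SeparableClosure k) x
  refine connectedSpace_iff_connectedComponent.2 ⟨y, eq_univ_of_forall fun z => ?_⟩
  have := image_connectedComponent_fst k f z
  rw [PreconnectedSpace.connectedComponent_eq_univ (pullback.fst f (sK k (SeparableClosure k)) z)] at this
  obtain ⟨w, hw, hwx⟩ := this.ge (mem_univ x)
  rw [h y w hy hwx, ← connectedComponent_eq hw]
  exact mem_connectedComponent

theorem irreducibleSpace_of_generic_fibre_subsingleton [IrreducibleSpace X]
    (h : ∀ p q : ↥(pullback f (sK k (SeparableClosure k))), pullback.fst f _ p = genericPoint X → pullback.fst f _ q = genericPoint X → p = q) :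
    IrreducibleSpace ↥(pullback f (sK k (SeparableClosure k))) := by
  obtain ⟨y, -⟩ := surjective_fst k f (L := SeparableClosure k) (genericPoint X)
  obtain ⟨ζ, hζ, -⟩ := exists_genericPoints_specializes y
  refine (irreducibleSpace_def _).2 ?_
  change IsIrreducible (univ : Set ↥(pullback f (sK k (SeparableClosure k))))
  have : (univ : Set ↥(pullback f (sK k (SeparableClosure k)))) = closure {ζ} := by
    refine (eq_univ_of_forall fun z => ?_).symm
    obtain ⟨η, hη, hηz⟩ := exists_genericPoints_specializes z
    rw [h ζ η (eq_genericPoint_of_mem_genericPoints (generalizing_genericPoints (generalizingMap_fst k f _) hζ))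
      (eq_genericPoint_of_mem_genericPoints (generalizing_genericPoints (generalizingMap_fst k f _) hη))]
    exact specializes_iff_mem_closure.1 hηz
  rw [this]
  exact isGenericPoint_closure.isIrreducible

end Groth.Agent.VarietyLib
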