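import Groth.Agent.AmpleLib.Twist
import Groth.Agent.AmpleLib.Power
import Groth.Agent.AmpleLib.Ample
import Groth.Agent.Coherent.TensorQcoh
import Groth.Agent.Props12.FinLocFree
import Groth.Agent.LocFreeLib.Semilocal
import Groth.Agent.Frob15.TopForm
import Groth.Agent.EGA43.QcohFP
import Groth.Prelude.Def_ExtPow2

/-!
# The determinant of a family of sections of a twisted locally free module

If `E` is locally free of rank `n`, `L` an `n`-th exterior power of `E` and `B` invertible, then `n` global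
sections of `E ⊗ B` have a determinant, a global section of `L ⊗ B^{⊗ n}`, whose germs are the determinants of
the germs.
-/

set_option autoImplicit false
set_option backward.isDefEq.respectTransparency.types false

universe u

open CategoryTheory CategoryTheory.Limits AlgebraicGeometry Opposite TopologicalSpace
open Groth.Agent.Coherent Groth.Agent.PicLib Groth.Agent.AmpleLib

namespace Groth.Agent.VarietyLib

variable {X : Scheme.{u}}

/-- A basis of the sections over an affine open gives a basis of each stalk, by germs. -/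
theorem exists_basis_stalk_of_basis (M : X.Modules) [Coh.IsQCoh M] {V : X.Opens} (hV : IsAffineOpen V)
    {ι : Type*} (b : Module.Basis ι Γ(X, V) Γ(M, V)) {x : X} (hx : x ∈ V) :
    ∃ b' : Module.Basis ι (X.presheaf.stalk x) (M.presheaf.stalk x),
      ∀ i, b' i = M.presheaf.germ V x hx (b i) := by
  let _ := (X.presheaf.germ V x hx).hom.toAlgebra
  let _ := Module.compHom (M.presheaf.stalk x) (X.presheaf.germ V x hx).hom
  have : IsScalarTower Γ(X, V) (X.presheaf.stalk x) (M.presheaf.stalk x) :=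
    IsScalarTower.of_algebraMap_smul fun _ _ => rfl
  let φ : Γ(M, V) →ₗ[Γ(X, V)] M.presheaf.stalk x :=
    { toFun := M.presheaf.germ V x hx
      map_add' := map_add _
      map_smul' := QCohLoc.germ_smul' (M := M) hx }
  have := EGA43.QcohFP.isLocalizedModule_germ M hV hx φ fun _ => rfl
  have := hV.isLocalization_stalk ⟨x, hx⟩
  exact ⟨b.ofIsLocalizedModule (X.presheaf.stalk x) (hV.primeIdealOf ⟨x, hx⟩).asIdeal.primeCompl φ,
    fun i => Module.Basis.ofIsLocalizedModule_apply _ _ φ b i⟩

/-- The wedge of a family is its determinant times the wedge of a basis. -/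
theorem ιMulti_eq_det_smul {A M : Type*} [CommRing A] [AddCommGroup M] [Module A M] {d : ℕ}
    (b : Module.Basis (Fin d) A M) (w : Fin d → M) :
    exteriorPower.ιMulti A d w = b.det w • exteriorPower.ιMulti A d b := by
  classical
  have h := Frob15.alternating_sum_smul (exteriorPower.ιMulti A d) (Matrix.of fun i j => b.repr (w i) j) b
  simp only [Matrix.of_apply, b.sum_repr] at h
  rw [h, b.det_apply, ← Matrix.det_transpose]
  rfl

variable {n : ℕ} {E L B : X.Modules}

/-- The determinant section. -/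
theorem exists_det_section [X.IsSeparated] (hE : FlatMod.IsFinLocFreeOfRank n E) (hL : ExtPow.IsExtPow n E L)
    (hLinv : PicF.IsInvertible L) (hB : PicF.IsInvertible B) (s : Fin n → Γ(CohB1.tensorMod E B, ⊤)) :
    ∃ w : Γ(CohB1.tensorMod L (CohB1.tensorPow B n), ⊤), ∀ x : X,
      ∃ (b : Module.Basis (Fin n) (X.presheaf.stalk x) ((CohB1.tensorMod E B).presheaf.stalk x))
        (c : Module.Basis (Fin 1) (X.presheaf.stalk x)
          ((CohB1.tensorMod L (CohB1.tensorPow B n)).presheaf.stalk x)),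
        c.repr ((CohB1.tensorMod L (CohB1.tensorPow B n)).presheaf.germ ⊤ x (Opens.mem_top x) w) 0 =
          b.det fun j => (CohB1.tensorMod E B).presheaf.germ ⊤ x (Opens.mem_top x) (s j) := by
  classical
  obtain ⟨φ, hφ⟩ := hL
  haveI := LocFreeLib.isQCoh_of_isFinLocFreeOfRank hE
  haveI := AmpleLib.isQCoh_of_isInvertible hB
  haveI := AmpleLib.isQCoh_of_isInvertible hLinv
  haveI := AmpleLib.isQCoh_of_isInvertible (isInvertible_tensorPow hB n)
  haveI : Coh.IsQCoh (CohB1.tensorMod E B) := isQCoh_tensorMod E B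
  haveI : Coh.IsQCoh (CohB1.tensorMod L (CohB1.tensorPow B n)) := isQCoh_tensorMod L _
  -- the wedge over an affine open with a generator of `B`
  let val : ∀ (V : X.affineOpens), (Fin n → E.val.obj (op V.1)) → Γ(B, V.1) →
      Γ(CohB1.tensorMod L (CohB1.tensorPow B n), V.1) :=
    fun V e g => tmul (show Γ(L, V.1) from (φ V).symm (exteriorPower.ιMulti _ n e)) (powSec g n)
  let Good : ∀ (V : X.affineOpens), (Fin n → E.val.obj (op V.1)) → Γ(B, V.1) → Prop :=
    fun V e g => IsGen B V.1 g ∧ ∀ j, tmul (show Γ(E, V.1) from e j) g = resM _ (le_top : V.1 ≤ ⊤) (s j)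
  have huniq : ∀ (V : X.affineOpens) e g e' g', Good V e g → Good V e' g' → val V e g = val V e' g' := by
    intro V e g e' g' h h'
    have hu : h.1.coef le_rfl g' • g = g' := by
      have h0 := h.1.coef_spec le_rfl g'
      rwa [resM_self] at h0
    generalize h.1.coef le_rfl g' = c at hu
    have he : ∀ j, e j = c • e' j := fun j => by
      refine (bijective_tmul_gen (M := E) h.1 V.1 le_rfl).1 ?_
      simp only [resM_self]
      rw [h.2 j, ← h'.2 j, ← hu, tmul_smul_right]
      exact (tmul_smul_left c (show Γ(E, V.1) from e' j) g).symm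
    have hw : exteriorPower.ιMulti Γ(X, V.1) n e = c ^ n • exteriorPower.ιMulti Γ(X, V.1) n e' := by
      rw [show e = fun j => c • e' j from funext he]
      refine ((exteriorPower.ιMulti Γ(X, V.1) n (M := E.val.obj (op V.1))).map_smul_univ (fun _ => c) e').trans ?_
      rw [Finset.prod_const, Finset.card_univ, Fintype.card_fin]
    simp only [val]
    rw [hw, ← hu, powSec_smul, tmul_smul_right, ← tmul_smul_left]
    exact congrArg (fun a => tmul a (powSec g n)) ((φ V).symm.map_smul _ _)
  have hgood : ∀ (V W : X.affineOpens) (h : W.1 ≤ V.1) e g, Good V e g →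
      Good W (fun j => E.val.map (homOfLE h).op (e j)) (resM B h g) := fun V W h e g hg =>
    ⟨hg.1.restrict h, fun j => by
      show tmul (resM E h (show Γ(E, V.1) from e j)) (resM B h g) = _
      rw [← resM_tmul, hg.2 j, resM_resM]⟩
  have hval : ∀ (V W : X.affineOpens) (h : W.1 ≤ V.1) e g,
      resM _ h (val V e g) = val W (fun j => E.val.map (homOfLE h).op (e j)) (resM B h g) := fun V W h e g => by
    simp only [val]
    rw [resM_tmul, resM_powSec]
    exact congrArg (fun a => tmul a (powSec (resM B h g) n)) (hφ V W h e)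
  have hex : ∀ (V : X.affineOpens) (g : Γ(B, V.1)), IsGen B V.1 g → ∃ e, Good V e g := fun V g hg => by
    have h : ∀ j, ∃ m : Γ(E, V.1), tmul m g = resM _ (le_top : V.1 ≤ ⊤) (s j) := fun j => by
      obtain ⟨m, hm⟩ := (bijective_tmul_gen (M := E) hg V.1 le_rfl).2 (resM _ le_top (s j))
      simp only [resM_self] at hm
      exact ⟨m, hm⟩
    choose m hm using h
    exact ⟨m, hg, hm⟩
  let ι := Σ' (V : X.affineOpens) (e : Fin n → E.val.obj (op V.1)) (g : Γ(B, V.1)), Good V e g
  have hcov : ∀ x : X, ∀ U : X.Opens, x ∈ U → ∃ i : ι, x ∈ i.1.1 ∧ i.1.1 ≤ U := fun x U hxU => by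
    obtain ⟨U₁, hxU₁, g, hg⟩ := exists_isGen hB x
    obtain ⟨V, hV, hxV, hVU⟩ := exists_isAffineOpen_mem_and_subset (x := x) (U := U₁ ⊓ U) ⟨hxU₁, hxU⟩
    obtain ⟨e, he⟩ := hex ⟨V, hV⟩ _ (hg.restrict fun z hz => (hVU hz).1)
    exact ⟨⟨⟨V, hV⟩, e, _, he⟩, hxV, fun z hz => (hVU hz).2⟩
  let M' := CohB1.tensorMod L (CohB1.tensorPow B n)
  obtain ⟨w, hw, -⟩ := TopCat.Sheaf.existsUnique_gluing' (⟨M'.presheaf, M'.isSheaf⟩ : TopCat.Sheaf Ab X)
    (fun i : ι => i.1.1) ⊤ (fun i => homOfLE le_top)
    (fun x _ => let ⟨i, hi, _⟩ := hcov x ⊤ trivial; Opens.mem_iSup.2 ⟨i, hi⟩)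
    (fun i => val i.1 i.2.1 i.2.2.1) (fun i j => by
      have hW : IsAffineOpen (i.1.1 ⊓ j.1.1) := i.1.2.inf j.1.2
      show resM M' inf_le_left (val i.1 i.2.1 i.2.2.1) = resM M' inf_le_right (val j.1 j.2.1 j.2.2.1)
      rw [hval i.1 ⟨_, hW⟩ inf_le_left, hval j.1 ⟨_, hW⟩ inf_le_right]
      exact huniq ⟨_, hW⟩ _ _ _ _ (hgood _ _ _ _ _ i.2.2.2) (hgood _ _ _ _ _ j.2.2.2))
  refine ⟨w, fun x => ?_⟩
  obtain ⟨U₀, hxU₀, ⟨ε⟩⟩ := hE x
  obtain ⟨⟨⟨V, hV⟩, e, g, hg, he⟩, hxV, hVU⟩ := hcov x U₀ hxU₀
  obtain ⟨β⟩ := Props12.exists_basis_sections ε hVU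
  let tw : Γ(E, V) ≃ₗ[Γ(X, V)] Γ(CohB1.tensorMod E B, V) :=
    LinearEquiv.ofBijective
      { toFun := fun m => tmul m g
        map_add' := fun a b => tmul_add_left a b g
        map_smul' := fun r a => tmul_smul_left r a g }
      (show Function.Bijective (fun m : Γ(E, V) => tmul m g) by
        have := bijective_tmul_gen (M := E) hg V le_rfl; simpa only [resM_self] using this)
  let gL : Γ(L, V) := (φ ⟨V, hV⟩).symm (exteriorPower.ιMulti _ n (fun i => (β i : E.val.obj (op V))))
  have hgL : Function.Bijective (fun r : Γ(X, V) => r • tmul gL (powSec g n)) := by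
    have h1 : Function.Bijective (fun r : Γ(X, V) => r • exteriorPower.ιMulti Γ(X, V) n
        (fun i => (β i : E.val.obj (op V)))) := Frob15.bijective_smul_ιMulti (M := E.val.obj (op V)) β
    have h2 := bijective_tmul_gen (M := L) (isGen_powSec hg n) V le_rfl
    simp only [resM_self] at h2
    have := h2.comp ((φ ⟨V, hV⟩).symm.bijective.comp h1)
    convert this using 1
    funext r
    rw [← tmul_smul_left]
    exact congrArg (fun a => tmul a (powSec g n)) ((φ ⟨V, hV⟩).symm.map_smul r _).symm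
  let cV : Module.Basis (Fin 1) Γ(X, V) Γ(M', V) :=
    (Module.Basis.singleton (Fin 1) Γ(X, V)).map
      (LinearEquiv.ofBijective (LinearMap.toSpanSingleton Γ(X, V) Γ(M', V) (tmul gL (powSec g n))) hgL)
  have hcV : cV 0 = tmul gL (powSec g n) := by simp [cV]
  obtain ⟨b, hb⟩ := exists_basis_stalk_of_basis (CohB1.tensorMod E B) hV (β.map tw) hxV
  obtain ⟨c, hc⟩ := exists_basis_stalk_of_basis M' hV cV hxV
  refine ⟨b, c, ?_⟩
  let D : Matrix (Fin n) (Fin n) Γ(X, V) := β.toMatrix fun j => (e j : Γ(E, V))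
  have hwV : resM M' (le_top : V ≤ ⊤) w = D.det • cV 0 := by
    refine (hw ⟨⟨V, hV⟩, e, g, hg, he⟩).trans ?_
    show val ⟨V, hV⟩ e g = _
    rw [hcV, ← tmul_smul_left]
    refine congrArg (fun a => tmul a (powSec g n)) ?_
    exact (congrArg (φ ⟨V, hV⟩).symm (ιMulti_eq_det_smul (M := E.val.obj (op V)) β e)).trans
      ((φ ⟨V, hV⟩).symm.map_smul _ _)
  have hmat : b.toMatrix (fun j => (CohB1.tensorMod E B).presheaf.germ ⊤ x (Opens.mem_top x) (s j)) =
      D.map (X.presheaf.germ V x hxV) := by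
    ext i j
    show b.repr ((CohB1.tensorMod E B).presheaf.germ ⊤ x (Opens.mem_top x) (s j)) i =
      X.presheaf.germ V x hxV (β.repr (e j : Γ(E, V)) i)
    have h0 : (CohB1.tensorMod E B).presheaf.germ ⊤ x (Opens.mem_top x) (s j) =
        ∑ i, X.presheaf.germ V x hxV (β.repr (e j) i) • b i := by
      rw [← TopCat.Presheaf.germ_res_apply _ (homOfLE (le_top : V ≤ ⊤)) x hxV (s j)]
      show (CohB1.tensorMod E B).presheaf.germ V x hxV (resM _ le_top (s j)) = _
      rw [← he j]
      conv_lhs => rw [show (show Γ(E, V) from e j) = ∑ i, β.repr (e j) i • β i from (β.sum_repr _).symm]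
      rw [show tmul (∑ i, β.repr (e j) i • β i) g = tw (∑ i, β.repr (e j) i • β i) from rfl, map_sum, map_sum]
      refine Finset.sum_congr rfl fun i _ => ?_
      rw [map_smul, QCohLoc.germ_smul', hb]
      rfl
    rw [h0, b.repr_sum_self]
  rw [Module.Basis.det_apply, hmat, ← RingHom.mapMatrix_apply, ← RingHom.map_det]
  rw [← TopCat.Presheaf.germ_res_apply _ (homOfLE (le_top : V ≤ ⊤)) x hxV w]
  change c.repr (M'.presheaf.germ V x hxV (resM M' le_top w)) 0 = _
  rw [hwV, QCohLoc.germ_smul', ← hc, map_smul, Module.Basis.repr_self, Finsupp.smul_single_one,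
    Finsupp.single_eq_same]

end Groth.Agent.VarietyLib
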