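import Groth.Agent.VarietyLib.LowDimNhd
import Mathlib

/-!
# Neighbourhoods of a point isolated in the complement of a retrocompact open
-/

set_option autoImplicit false

universe u

open CategoryTheory AlgebraicGeometry Opposite TopologicalSpace

namespace Groth.Agent.VarietyLib.IsolatedPoint

variable {X : Scheme.{u}} {W : X.Opens}

theorem fromSpec_mem (hW : IsAffineOpen W) (q : PrimeSpectrum Γ(X, W)) : hW.fromSpec q ∈ W := by
  have := hW.range_fromSpec.subset (Set.mem_range_self q)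
  exact this

theorem exists_fromSpec_eq (hW : IsAffineOpen W) {y : X} (hy : y ∈ W) :
    ∃ q : PrimeSpectrum Γ(X, W), hW.fromSpec q = y :=
  hW.range_fromSpec.superset hy

theorem fromSpec_mem_basicOpen (hW : IsAffineOpen W) (q : PrimeSpectrum Γ(X, W)) (r : Γ(X, W)) :
    hW.fromSpec q ∈ X.basicOpen r ↔ r ∉ q.asIdeal := by
  show q ∈ hW.fromSpec ⁻¹ᵁ X.basicOpen r ↔ _
  rw [hW.fromSpec_preimage_basicOpen]
  rfl

theorem eq_of_fromSpec_eq (hW : IsAffineOpen W) {q q' : PrimeSpectrum Γ(X, W)}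
    (h : hW.fromSpec q = hW.fromSpec q') : q = q' :=
  hW.fromSpec.isOpenEmbedding.injective h

/-- The points of an affine open strictly generalising a point of local dimension at most one are finite. -/
theorem finite_lt_point (hW : IsAffineOpen W) {x : X} (hx : x ∈ W)
    (hloc : IsNoetherianRing (X.presheaf.stalk x) ∧ ringKrullDim (X.presheaf.stalk x) ≤ 1) :
    {Q : Ideal Γ(X, W) | Q.IsPrime ∧ Q < (hW.primeIdealOf ⟨x, hx⟩).asIdeal}.Finite := by
  let := TopCat.Presheaf.algebra_section_stalk X.presheaf (⟨x, hx⟩ : W)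
  have := hW.isLocalization_stalk ⟨x, hx⟩
  have := hloc.1
  exact LowDim.finite_lt (A := X.presheaf.stalk x) _ hloc.2

theorem exists_nbhd (U : X.Opens) [QuasiCompact U.ι] {x : X} (hxU : x ∉ U) (W₀ : X.Opens) (hx : x ∈ W₀)
    (hiso : ∀ y ∈ W₀, y ∉ U → y = x)
    (hloc : IsNoetherianRing (X.presheaf.stalk x) ∧ ringKrullDim (X.presheaf.stalk x) ≤ 1) :
    ∃ (W : X.Opens) (_ : IsAffineOpen W) (f : Γ(X, W)), x ∈ W ∧ W ≤ W₀ ∧ W ⊓ U = X.basicOpen f := by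
  obtain ⟨W₁, hW₁, hxW₁, hle⟩ := exists_isAffineOpen_mem_and_subset hx
  let p := hW₁.primeIdealOf ⟨x, hxW₁⟩
  have hp : hW₁.fromSpec p = x := hW₁.fromSpec_primeIdealOf ⟨x, hxW₁⟩
  let S : Set (PrimeSpectrum Γ(X, W₁)) := hW₁.fromSpec ⁻¹' (U : Set X)
  have hS : IsCompact S ∧ IsOpen S := by
    refine ⟨?_, U.2.preimage hW₁.fromSpec.continuous⟩
    refine hW₁.fromSpec.isOpenEmbedding.isInducing.isCompact_iff.2 ?_
    have h1 : IsCompact (U.ι ⁻¹' (W₁ : Set X)) := U.ι.isCompact_preimage hW₁.isCompact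
    have h2 := h1.image U.ι.continuous
    rw [Set.image_preimage_eq_inter_range, Scheme.Opens.range_ι] at h2
    have e : hW₁.fromSpec '' (hW₁.fromSpec ⁻¹' (U : Set X)) = (W₁ : Set X) ∩ U := by
      rw [Set.image_preimage_eq_inter_range, hW₁.range_fromSpec, Set.inter_comm]
    exact (congrArg IsCompact e).mpr h2
  obtain ⟨I, hI, hIS⟩ := PrimeSpectrum.isCompact_isOpen_iff_ideal.1 hS
  have hmem : ∀ q : PrimeSpectrum Γ(X, W₁), hW₁.fromSpec q ∈ U ↔ ¬ I ≤ q.asIdeal := fun q => by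
    show q ∈ S ↔ _
    rw [← hIS]
    rfl
  have hIp : I ≤ p.asIdeal := not_not.1 fun h => hxU (hp ▸ (hmem p).2 h)
  obtain ⟨f, hfI, g, hgp, hfg⟩ := LowDim.exists_equation p.asIdeal (finite_lt_point hW₁ hxW₁ hloc) I hI hIp
    fun Q hQ hlt hIQ => by
      by_cases hU : hW₁.fromSpec ⟨Q, hQ⟩ ∈ U
      · exact (hmem ⟨Q, hQ⟩).1 hU hIQ
      · have := eq_of_fromSpec_eq hW₁ ((hiso _ (hle (fromSpec_mem hW₁ _)) hU).trans hp.symm)
        exact hlt.ne (congrArg PrimeSpectrum.asIdeal this)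
  refine ⟨X.basicOpen g, hW₁.basicOpen g, X.presheaf.map (homOfLE (X.basicOpen_le g)).op f, ?_,
    (X.basicOpen_le g).trans hle, ?_⟩
  · rw [← hp]
    exact (fromSpec_mem_basicOpen hW₁ p g).2 hgp
  ext y
  rw [Scheme.basicOpen_res]
  constructor
  · rintro ⟨hyg, hyU⟩
    obtain ⟨q, rfl⟩ := exists_fromSpec_eq hW₁ (X.basicOpen_le g hyg)
    exact ⟨hyg, (fromSpec_mem_basicOpen hW₁ q f).2 fun hf =>
      (hmem q).1 hyU (hfg q.asIdeal q.isPrime ((fromSpec_mem_basicOpen hW₁ q g).1 hyg) hf)⟩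
  · rintro ⟨hyg, hyf⟩
    obtain ⟨q, rfl⟩ := exists_fromSpec_eq hW₁ (X.basicOpen_le g hyg)
    exact ⟨hyg, (hmem q).2 fun hI' => (fromSpec_mem_basicOpen hW₁ q f).1 hyf (hI' hfI)⟩

/-- An open containing the generalisations of `x` inside `U` contains a punctured neighbourhood. -/
theorem exists_shrink (U : X.Opens) {x : X} (hW : IsAffineOpen W) (f : Γ(X, W)) (hx : x ∈ W)
    (hf : W ⊓ U = X.basicOpen f) (T : X.Opens) (hT : ∀ y ∈ W, y ∈ U → y ⤳ x → y ∈ T) :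
    ∃ g : Γ(X, W), x ∈ X.basicOpen g ∧ X.basicOpen g ⊓ U ≤ T := by
  let p := hW.primeIdealOf ⟨x, hx⟩
  have hp : hW.fromSpec p = x := hW.fromSpec_primeIdealOf ⟨x, hx⟩
  obtain ⟨J, hJ⟩ := (PrimeSpectrum.isClosed_iff_zeroLocus_ideal _).1
    (T.2.preimage hW.fromSpec.continuous).isClosed_compl
  have hmem : ∀ q : PrimeSpectrum Γ(X, W), hW.fromSpec q ∉ T ↔ J ≤ q.asIdeal := fun q => Set.ext_iff.1 hJ q
  obtain ⟨g, n, hg, hgn⟩ := LowDim.exists_mul_pow_mem p.asIdeal J f fun Q hQ hQp hJQ => by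
    by_contra hfQ
    have hf' := (fromSpec_mem_basicOpen hW ⟨Q, hQ⟩ f).2 hfQ
    rw [← hf] at hf'
    refine (hmem ⟨Q, hQ⟩).2 hJQ (hT _ hf'.1 hf'.2 ?_)
    rw [← hp]
    exact ((PrimeSpectrum.le_iff_specializes ⟨Q, hQ⟩ p).1 hQp).map hW.fromSpec.continuous
  refine ⟨g, hp ▸ (fromSpec_mem_basicOpen hW p g).2 hg, fun y hy => ?_⟩
  obtain ⟨q, rfl⟩ := exists_fromSpec_eq hW (X.basicOpen_le g hy.1)
  by_contra hqT
  have hyf : hW.fromSpec q ∈ X.basicOpen f := hf ▸ ⟨fromSpec_mem hW q, hy.2⟩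
  exact (q.isPrime.mem_or_mem ((hmem q).1 hqT hgn)).elim ((fromSpec_mem_basicOpen hW q g).1 hy.1)
    fun h => (fromSpec_mem_basicOpen hW q f).1 hyf (q.isPrime.mem_of_pow_mem _ h)

/-- The generalisations of `x` in `W ⊓ U` are finite. -/
theorem finite_gen (U : X.Opens) {x : X} (hxU : x ∉ U) (hW : IsAffineOpen W) (hx : x ∈ W)
    (hloc : IsNoetherianRing (X.presheaf.stalk x) ∧ ringKrullDim (X.presheaf.stalk x) ≤ 1) :
    {y : X | y ∈ W ∧ y ∈ U ∧ y ⤳ x}.Finite := by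
  let p := hW.primeIdealOf ⟨x, hx⟩
  have hp : hW.fromSpec p = x := hW.fromSpec_primeIdealOf ⟨x, hx⟩
  have h1 : {q : PrimeSpectrum Γ(X, W) | q.asIdeal < p.asIdeal}.Finite :=
    ((finite_lt_point hW hx hloc).preimage (f := PrimeSpectrum.asIdeal)
      (fun _ _ _ _ h => PrimeSpectrum.ext h)).subset fun q hq => ⟨q.isPrime, hq⟩
  refine (h1.image hW.fromSpec).subset ?_
  rintro y ⟨hyW, hyU, hyx⟩
  obtain ⟨q, rfl⟩ := exists_fromSpec_eq hW hyW
  refine ⟨q, lt_of_le_of_ne (a := q.asIdeal) (b := p.asIdeal) ?_ fun h => hxU ?_, rfl⟩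
  · rw [← hp] at hyx
    replace hyx := hW.fromSpec.isOpenEmbedding.isInducing.specializes_iff.1 hyx
    exact (PrimeSpectrum.le_iff_specializes q p).2 hyx
  · rw [← hp, ← show q = p from PrimeSpectrum.ext h]
    exact hyU

end Groth.Agent.VarietyLib.IsolatedPoint
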