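import Groth.Agent.S1455
import Groth.Agent.Coherent.CohBC.EulerLC
import Groth.Agent.Coherent.CohBC.EulerFamily
import Groth.Agent.Coherent.CohBC.FibreInvariance
import Groth.Agent.Coherent.FinitePres
import Groth.Agent.CohExch.TwistBase
import Groth.Agent.EGA43.FPKernel
import Groth.Agent.Desc19b.ModStFibGrpd
import Groth.Agent.FlatMorDim.LocalDim
import Groth.Agent.VarietyLib.LocalDimPt
import Groth.Agent.EulerLib.FieldExt
import Groth.Agent.EulerLib.InvClass
import Groth.Agent.AmpleLib.Twist2
import Groth.Prelude.Def_Curv2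
import Mathlib.Combinatorics.Nullstellensatz

/-!
# Hilbert and Snapper polynomials of the fibres of a family over an arbitrary base

* fibre dimensions are bounded when the source is quasi-compact, hence the Snapper polynomials of the fibres
  have bounded degree and are determined by finitely many values;
* over an arbitrary quasi-compact base only finitely many Euler characteristics occur on the fibres.
-/

set_option autoImplicit false
set_option linter.style.haveILetI false
set_option backward.isDefEq.respectTransparency.types false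

universe u

open CategoryTheory CategoryTheory.Limits AlgebraicGeometry TopologicalSpace Opposite
open Groth.Agent.Coherent Groth.Agent.PicLib Groth.Agent.AmpleLib Groth.Agent.EulerLib

namespace Groth.Agent.VarietyLib

variable {X S : Scheme.{u}}

theorem qcoh_of_isFP {M : X.Modules} (hM : CohB1.IsFP M) : Coh.IsQCoh M :=
  haveI : SheafOfModules.IsFinitePresentation.{u} (R := X.ringCatSheaf) M := hM
  inferInstanceAs (SheafOfModules.IsQuasicoherent.{u} (R := X.ringCatSheaf) M)

/-- Fibre dimensions at points are finite. -/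
theorem exists_fibreDimAt_nat (f : X ⟶ S) [LocallyOfFiniteType f] (x : X) :
    ∃ d : ℕ, FlatMor.fibreDimAt f x = d := by
  haveI : LocallyOfFiniteType (f.fiberToSpecResidueField (f x)) :=
    inferInstanceAs (LocallyOfFiniteType (pullback.snd f (S.fromSpecResidueField (f x))))
  haveI : IsLocallyNoetherian (f.fiber (f x)) :=
    LocallyOfFiniteType.isLocallyNoetherian (f.fiberToSpecResidueField (f x))
  obtain ⟨m, hm⟩ : ∃ m : ℕ, ringKrullDim ((f.fiber (f x)).presheaf.stalk (f.asFiber x)) = m := by
    have h1 := ringKrullDim_nonneg_of_nontrivial (R := (f.fiber (f x)).presheaf.stalk (f.asFiber x))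
    have h2 := ringKrullDim_ne_top (R := (f.fiber (f x)).presheaf.stalk (f.asFiber x))
    induction h : ringKrullDim ((f.fiber (f x)).presheaf.stalk (f.asFiber x)) using WithBot.recBotCoe with
    | bot => rw [h] at h1; exact absurd (le_bot_iff.1 h1) (by simp)
    | coe a =>
      induction a using ENat.recTopCoe with
      | top => exact absurd h h2
      | coe a => exact ⟨a, rfl⟩
  refine ⟨m + DimLib.ptDim (k := S.residueField (f x)) (f.fiberToSpecResidueField (f x)) (f.asFiber x), ?_⟩
  rw [FlatMor.fibreDimAt, VarietyLib.localDim_eq_stalk_add_ptDim (k := S.residueField (f x))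
    (f.fiberToSpecResidueField (f x)) (f.asFiber x), hm, Nat.cast_add]

/-- Sections of a twist over an open with a generator. -/
theorem finitePresentation_sections_twist {F L : X.Modules} {U : X.Opens} {g : Γ(L, U)} (hg : IsGen L U g)
    [h : Module.FinitePresentation Γ(X, U) Γ(F, U)] :
    Module.FinitePresentation Γ(X, U) Γ(CohB1.tensorMod F L, U) := by
  let l : Γ(F, U) →ₗ[Γ(X, U)] Γ(CohB1.tensorMod F L, U) :=
    { toFun := fun m => tmul m (resM L le_rfl g)
      map_add' := fun a b => tmul_add_left a b _
      map_smul' := fun r a => tmul_smul_left r a _ }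
  exact Module.FinitePresentation.of_equiv (LinearEquiv.ofBijective l (bijective_tmul_gen hg U le_rfl))

/-- A twist of a module of finite presentation by an invertible module is of finite presentation. -/
theorem isFP_twist {F L : X.Modules} (hL : PicF.IsInvertible L) (hF : CohB1.IsFP F) :
    CohB1.IsFP (CohB1.tensorMod F L) := by
  haveI : Coh.IsQCoh F := qcoh_of_isFP hF
  haveI : Coh.IsQCoh (CohB1.tensorMod F L) := isQCoh_tensor_invertible F hL
  refine EGA43.FPKernel.isFP_of_forall_exists_affine _ fun x => ?_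
  obtain ⟨W, s, hmem, hs⟩ := exists_cover hL
  obtain ⟨U, hU, hxU, hUW⟩ := exists_isAffineOpen_mem_and_subset (x := x) (U := W x) (hmem x)
  haveI := EGA43.QcohFP.finitePresentation_sections F hF hU
  exact ⟨U, hU, hxU, finitePresentation_sections_twist ((hs x).restrict hUW)⟩

/-- Iterated twists preserve finite presentation. -/
theorem isFP_tensorPows {F : X.Modules} (hF : CohB1.IsFP F) : ∀ (t : ℕ) (L : Fin t → X.Modules),
    (∀ i, PicF.IsInvertible (L i)) → ∀ n : Fin t → ℕ, CohB1.IsFP (Curv2.tensorPows F t L n) := by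
  intro t
  induction t with
  | zero => intro L _ n; exact hF
  | succ t ih =>
    intro L hL n
    exact isFP_twist (isInvertible_tensorPow (hL _) _) (ih _ (fun i => hL _) _)

/-- Iterated twists preserve flatness over the base. -/
theorem isFlatOver_tensorPows (f : X ⟶ S) {F : X.Modules} (hF : FlatMod.IsFlatOver f F) :
    ∀ (t : ℕ) (L : Fin t → X.Modules),
      (∀ i, PicF.IsInvertible (L i)) → ∀ n : Fin t → ℕ, FlatMod.IsFlatOver f (Curv2.tensorPows F t L n) := by
  intro t
  induction t with
  | zero => intro L _ n; exact hF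
  | succ t ih =>
    intro L hL n
    exact CohExch.isFlatOver_twist f (isInvertible_tensorPow (hL _) _) _ (ih _ (fun i => hL _) _)

/-- Iterated twists commute with pullback. -/
theorem nonempty_pullback_tensorPows {Z : Scheme.{u}} (g : Z ⟶ X) (F : X.Modules) :
    ∀ (t : ℕ) (L : Fin t → X.Modules), (∀ i, PicF.IsInvertible (L i)) → ∀ n : Fin t → ℕ,
      Nonempty ((Scheme.Modules.pullback g).obj (Curv2.tensorPows F t L n) ≅
        Curv2.tensorPows ((Scheme.Modules.pullback g).obj F) t
          (fun i => (Scheme.Modules.pullback g).obj (L i)) n) := by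
  intro t
  induction t with
  | zero => intro L _ n; exact ⟨Iso.refl _⟩
  | succ t ih =>
    intro L hL n
    obtain ⟨e⟩ := ih (fun i => L i.castSucc) (fun i => hL _) (fun i => n i.castSucc)
    obtain ⟨e', -⟩ := AmpleLib.exists_pullPowIso g (hL (Fin.last t)) (n (Fin.last t))
    exact ⟨DCat.PullTensor.pullTensorIso g _ _ ≪≫ AmpleLib.tensorIso e e'⟩

/-- The fibres of a morphism locally of finite type with quasi-compact source have bounded dimension. -/
theorem exists_fiber_dim_le (f : X ⟶ S) [LocallyOfFiniteType f] [CompactSpace X] :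
    ∃ d : ℕ, ∀ s : S, topologicalKrullDim ↥(f.fiber s) ≤ (d : WithBot ℕ∞) := by
  obtain ⟨t, ht⟩ := isCompact_univ.elim_finite_subcover
    (fun n : ℕ => {x : X | FlatMor.fibreDimAt f x ≤ (n : WithBot ℕ∞)})
    (fun n => FlatMorDim.isOpen_fibreDimAt_le f n) fun x _ => by
      obtain ⟨d, hd⟩ := exists_fibreDimAt_nat f x
      exact Set.mem_iUnion.2 ⟨d, hd.le⟩
  refine ⟨t.sup id, fun s => ?_⟩
  haveI : LocallyOfFiniteType (f.fiberToSpecResidueField s) :=
    inferInstanceAs (LocallyOfFiniteType (pullback.snd f (S.fromSpecResidueField s)))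
  rw [DimLib.topologicalKrullDim_eq_iSup (k := S.residueField s) (f.fiberToSpecResidueField s)]
  refine iSup_le fun z => ?_
  obtain ⟨n, hn, hx⟩ := Set.mem_iUnion₂.1 (ht (Set.mem_univ (f.fiberι s z)))
  have h1 := (FlatMorDim.fibreDimAt_le_iff f _ n).1 hx _ rfl (specializes_rfl)
  rw [EGA43.FibDepth.ptDim_fiber f]
  have h2 : n ≤ t.sup id := Finset.le_sup (f := id) hn
  exact_mod_cast h1.trans h2

/-- The Euler characteristic on a fibre is the Euler characteristic of the fibre. -/
theorem eulerChar_eq (f : X ⟶ S) (F : X.Modules) (s : S) :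
    PerfAux.eulerChar f F s = @Curv2.euler (S.residueField s) _ (f.fiber s) ⟨f.fiberToSpecResidueField s⟩
      ((Scheme.Modules.pullback (f.fiberι s)).obj F) := rfl

/-- The Snapper polynomials of the fibres have bounded degree. -/
theorem exists_poly_fibres (f : X ⟶ S) [IsProper f] [CompactSpace X] {F : X.Modules} (hF : CohB1.IsFP F)
    {t : ℕ} (L : Fin t → X.Modules) (hL : ∀ i, PicF.IsInvertible (L i)) :
    ∃ d : ℕ, ∀ s : S, ∃ P : MvPolynomial (Fin t) ℚ, P.totalDegree ≤ d ∧ ∀ n : Fin t → ℕ,
      (PerfAux.eulerChar f (Curv2.tensorPows F t L n) s : ℚ) =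
        MvPolynomial.eval (fun i => (n i : ℚ)) P := by
  obtain ⟨d, hd⟩ := exists_fiber_dim_le f
  refine ⟨d, fun s => ?_⟩
  letI : (f.fiber s).Over (Spec (CommRingCat.of (S.residueField s))) := ⟨f.fiberToSpecResidueField s⟩
  haveI : IsProper ((f.fiber s) ↘ Spec (CommRingCat.of (S.residueField s))) :=
    MorphismProperty.pullback_snd (P := @IsProper) _ _ inferInstance
  haveI := isNoetherian_of_proper (X := f.fiber s) (S.residueField s)
  let F' := (Scheme.Modules.pullback (f.fiberι s)).obj F
  let L' := fun i => (Scheme.Modules.pullback (f.fiberι s)).obj (L i)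
  have hL' : ∀ i, PicF.IsInvertible (L' i) := fun i => PicLoc.isInvertible_pullback _ (hL i)
  have hF' : Coh.IsCoh F' := (isCoh_iff_isFP F').2 (Desc19b.ModStFib.isFP_pullback _ F hF)
  have hr : topologicalKrullDim (CohB1.support F') ≤ (d : WithBot ℕ∞) :=
    (topologicalKrullDim_subspace_le _ _).trans (hd s)
  obtain ⟨P, hP, hP'⟩ := snapper (S.residueField s) hF' hr (fun i => InvCl.mk (L' i) (hL' i))
  refine ⟨P, hP, fun n => ?_⟩
  obtain ⟨e⟩ := nonempty_pullback_tensorPows (f.fiberι s) F t L hL n
  obtain ⟨N, hN, hc, ⟨e'⟩⟩ := exists_tensorPows_rep F' t L' hL' n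
  rw [eulerChar_eq, euler_congr _ _ (e ≪≫ e'), ← chiCl_mk (S.residueField s) F' hN, hc, hP']

/-- Finitely many exponents determine the Snapper polynomials of all fibres. -/
theorem exists_finset_determines (f : X ⟶ S) [IsProper f] [CompactSpace X] {F : X.Modules} (hF : CohB1.IsFP F)
    {t : ℕ} (L : Fin t → X.Modules) (hL : ∀ i, PicF.IsInvertible (L i)) :
    ∃ B : Finset (Fin t → ℕ), ∀ s s' : S,
      (∀ n ∈ B, PerfAux.eulerChar f (Curv2.tensorPows F t L n) s =
        PerfAux.eulerChar f (Curv2.tensorPows F t L n) s') →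
      ∀ n, PerfAux.eulerChar f (Curv2.tensorPows F t L n) s =
        PerfAux.eulerChar f (Curv2.tensorPows F t L n) s' := by
  classical
  obtain ⟨d, hd⟩ := exists_poly_fibres f hF L hL
  refine ⟨Fintype.piFinset fun _ => Finset.range (d + 1), fun s s' h n => ?_⟩
  obtain ⟨P, hP, hPe⟩ := hd s
  obtain ⟨Q, hQ, hQe⟩ := hd s'
  have h0 : P - Q = 0 := by
    refine MvPolynomial.eq_zero_of_eval_zero_at_prod_finset (P - Q)
      (fun _ => (Finset.range (d + 1)).image fun m : ℕ => (m : ℚ)) (fun i => ?_) fun x hx => ?_
    · rw [Finset.card_image_of_injective _ Nat.cast_injective, Finset.card_range, Nat.lt_succ_iff]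
      exact (MvPolynomial.degreeOf_le_totalDegree _ _).trans
        ((MvPolynomial.totalDegree_sub _ _).trans (max_le hP hQ))
    · choose m hm hmx using fun i => Finset.mem_image.1 (hx i)
      obtain rfl : x = fun i => (m i : ℚ) := funext fun i => (hmx i).symm
      rw [map_sub, ← hPe, ← hQe, h m (Fintype.mem_piFinset.2 hm), sub_self]
  exact_mod_cast ((hPe n).trans (by rw [sub_eq_zero.1 h0])).trans (hQe n).symm

/-- The pieces of a finite stratification over which a family of modules is flat. -/
theorem exists_flat_pieces (f : X ⟶ S) [IsProper f] [LocallyOfFinitePresentation f] [CompactSpace S]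
    [QuasiSeparatedSpace S] {F : X.Modules} (hF : CohB1.IsFP F) :
    ∃ (ι : Type) (_ : Finite ι) (Z : ι → Scheme.{u}) (j : ∀ i, Z i ⟶ S), (∀ i, CompactSpace (Z i)) ∧
      (∀ s : S, ∃ i, s ∈ Set.range (j i)) ∧ (∀ i, IsImmersion (j i)) ∧
      ∀ i, FlatMod.IsFlatOver (pullback.snd f (j i)) ((Scheme.Modules.pullback (pullback.fst f (j i))).obj F) := by
  haveI : Coh.IsQCoh F := qcoh_of_isFP hF
  haveI : QuasiSeparated f := inferInstance
  obtain ⟨t, I, -, hlast, h0, hfg, hflat⟩ := Groth.Agent.S1455.result f F inferInstance hF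
  refine ⟨Fin t, inferInstance, fun i => ((I i.castSucc).subschemeι ⁻¹ᵁ (I i.succ).support.compl).toScheme,
    fun i => ((I i.castSucc).subschemeι ⁻¹ᵁ (I i.succ).support.compl).ι ≫ (I i.castSucc).subschemeι,
    fun i => ?_, fun s => ?_, fun i => inferInstance, fun i => hflat i⟩
  · have hc : IsCompact (((I i.succ).support.compl : S.Opens) : Set S) := by
      obtain ⟨t', ht'⟩ := isCompact_univ.elim_finite_subcover (fun U : S.affineOpens => (U.1 : Set S))
        (fun U => U.1.2) fun x _ => by
          obtain ⟨U, hU, hxU, -⟩ := exists_isAffineOpen_mem_and_subset (x := x) (U := ⊤) trivial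
          exact Set.mem_iUnion.2 ⟨⟨U, hU⟩, hxU⟩
      have : (((I i.succ).support.compl : S.Opens) : Set S) =
          ⋃ U ∈ t', (U.1 : Set S) \ (I i.succ).support := by
        ext x
        refine ⟨fun hx => ?_, fun hx => ?_⟩
        · obtain ⟨U, hU, hxU⟩ := Set.mem_iUnion₂.1 (ht' (Set.mem_univ x))
          exact Set.mem_iUnion₂.2 ⟨U, hU, hxU, hx⟩
        · obtain ⟨U, -, -, hx⟩ := Set.mem_iUnion₂.1 hx
          exact hx
      rw [this]
      refine t'.finite_toSet.isCompact_biUnion fun U _ => ?_
      obtain ⟨J, hJ⟩ := hfg i.succ U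
      rw [show (U.1 : Set S) \ (I i.succ).support = ⋃ g ∈ J, (S.basicOpen g : Set S) by
        ext x
        constructor
        · rintro ⟨hxU, hx⟩
          by_contra hne
          refine hx ((Scheme.IdealSheafData.mem_support_iff_of_mem hxU).2 ?_)
          rw [← hJ, Scheme.zeroLocus_span, Scheme.mem_zeroLocus_iff]
          exact fun g hg hxg => hne (Set.mem_iUnion₂.2 ⟨g, hg, hxg⟩)
        · intro hx
          obtain ⟨g, hg, hxg⟩ := Set.mem_iUnion₂.1 hx
          have hxU : x ∈ U.1 := S.basicOpen_le g hxg
          refine ⟨hxU, fun hsupp => ?_⟩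
          have h1 := (Scheme.IdealSheafData.mem_support_iff_of_mem hxU).1 hsupp
          rw [← hJ, Scheme.zeroLocus_span, Scheme.mem_zeroLocus_iff] at h1
          exact h1 g hg hxg]
      exact J.finite_toSet.isCompact_biUnion fun g _ => (U.2.basicOpen g).isCompact
    exact isCompact_iff_compactSpace.mp
      ((I i.castSucc).subschemeι.isCompact_preimage hc)
  · by_contra hne
    have hall : ∀ i : Fin (t + 1), s ∈ ((I i).support : Set S) := by
      refine Fin.induction (by rw [h0]; trivial) fun i hi => ?_
      by_contra hc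
      obtain ⟨w, hw⟩ : s ∈ Set.range (I i.castSucc).subschemeι := by
        rw [Scheme.IdealSheafData.range_subschemeι]; exact hi
      refine hne ⟨i, ⟨w, ?_⟩, hw⟩
      show (I i.castSucc).subschemeι w ∈ ((I i.succ).support.compl : Set S)
      rw [hw]; exact hc
    have := hall (Fin.last t)
    rw [hlast, Scheme.IdealSheafData.support_top] at this
    exact this

/-- Over a quasi-compact base only finitely many Euler characteristics occur on the fibres. -/
theorem finite_range_eulerChar_of_isFP (f : X ⟶ S) [IsProper f] [LocallyOfFinitePresentation f]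
    [CompactSpace S] {G : X.Modules} (hG : CohB1.IsFP G) :
    (Set.range fun s : S => PerfAux.eulerChar f G s).Finite := by
  haveI : Coh.IsQCoh G := qcoh_of_isFP hG
  suffices h : ∀ U : S.Opens, IsAffineOpen U → (Set.range fun s : U => PerfAux.eulerChar f G s.1).Finite by
    obtain ⟨t, ht⟩ := isCompact_univ.elim_finite_subcover (fun U : S.affineOpens => (U.1 : Set S))
      (fun U => U.1.2) fun x _ => by
        obtain ⟨U, hU, hxU, -⟩ := exists_isAffineOpen_mem_and_subset (x := x) (U := ⊤) trivial
        exact Set.mem_iUnion.2 ⟨⟨U, hU⟩, hxU⟩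
    refine (t.finite_toSet.biUnion fun U _ => h U.1 U.2).subset ?_
    rintro _ ⟨s, rfl⟩
    obtain ⟨U, hU, hsU⟩ := Set.mem_iUnion₂.1 (ht (Set.mem_univ s))
    exact Set.mem_iUnion₂.2 ⟨U, hU, ⟨s, hsU⟩, rfl⟩
  intro U hU
  haveI : IsAffine U.toScheme := hU
  haveI : IsProper (pullback.snd f U.ι) := MorphismProperty.pullback_snd (P := @IsProper) _ _ inferInstance
  haveI : LocallyOfFinitePresentation (pullback.snd f U.ι) :=
    MorphismProperty.pullback_snd (P := @LocallyOfFinitePresentation) _ _ inferInstance
  let G' := (Scheme.Modules.pullback (pullback.fst f U.ι)).obj G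
  have hG' : CohB1.IsFP G' := Desc19b.ModStFib.isFP_pullback _ G hG
  haveI : Coh.IsQCoh G' := qcoh_of_isFP hG'
  obtain ⟨ι, hι, Z, j, hZ, hcov, -, hflat⟩ := exists_flat_pieces (pullback.snd f U.ι) hG'
  have hfin : ∀ i, (Set.range fun z => PerfAux.eulerChar (pullback.snd (pullback.snd f U.ι) (j i))
      ((Scheme.Modules.pullback (pullback.fst (pullback.snd f U.ι) (j i))).obj G') z).Finite := by
    intro i
    haveI := hZ i
    haveI : IsProper (pullback.snd (pullback.snd f U.ι) (j i)) :=
      MorphismProperty.pullback_snd (P := @IsProper) _ _ inferInstance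
    haveI : LocallyOfFinitePresentation (pullback.snd (pullback.snd f U.ι) (j i)) :=
      MorphismProperty.pullback_snd (P := @LocallyOfFinitePresentation) _ _ inferInstance
    have hp := Desc19b.ModStFib.isFP_pullback (pullback.fst (pullback.snd f U.ι) (j i)) G' hG'
    haveI := qcoh_of_isFP hp
    exact (Coherent.CohBC.isLocallyConstant_eulerChar_of_isFP _ hp (hflat i)).range_finite
  refine (Set.finite_iUnion hfin).subset ?_
  rintro _ ⟨s, rfl⟩
  obtain ⟨i, z, hz⟩ := hcov s
  refine Set.mem_iUnion.2 ⟨i, z, ?_⟩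
  show PerfAux.eulerChar (pullback.snd (pullback.snd f U.ι) (j i))
      ((Scheme.Modules.pullback (pullback.fst (pullback.snd f U.ι) (j i))).obj G') z =
    PerfAux.eulerChar f G (U.ι s)
  rw [Coherent.CohBC.eulerChar_pullback (IsPullback.of_hasPullback (pullback.snd f U.ι) (j i)) G' z, hz,
    Coherent.CohBC.eulerChar_pullback (IsPullback.of_hasPullback f U.ι) G s]

end Groth.Agent.VarietyLib
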