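import Mathlib.RingTheory.Length
import Mathlib.RingTheory.LocalRing.ResidueField.Basic
import Mathlib.RingTheory.Ideal.Quotient.Operations
import Mathlib.RingTheory.QuasiFinite.Basic
import Mathlib.RingTheory.Spectrum.Maximal.Basic
import Mathlib.RingTheory.Finiteness.Cardinality
import Mathlib.FieldTheory.SeparableDegree

/-! Residue fields of the maximal ideals of an integral algebra against the length of the cokernel. -/

set_option autoImplicit false

universe u

namespace Groth.Agent.VarietyLib

open IsLocalRing

variable {A B : Type u} [CommRing A] [IsLocalRing A] [CommRing B] [Algebra A B]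

/-- A finite algebra over a local ring has finitely many maximal ideals. -/
theorem finite_maximalSpectrum [Module.Finite A B] : Finite (MaximalSpectrum B) := by
  haveI : Finite ((IsLocalRing.maximalIdeal A).primesOver B) :=
    (Algebra.QuasiFinite.finite_primesOver (S := B) (IsLocalRing.maximalIdeal A)).to_subtype
  refine Finite.of_injective (fun m => (⟨m.asIdeal, m.isMaximal.isPrime, ⟨?_⟩⟩ :
    (IsLocalRing.maximalIdeal A).primesOver B)) fun a b h => MaximalSpectrum.ext (congrArg Subtype.val h)
  haveI := m.isMaximal
  exact (IsLocalRing.eq_maximalIdeal (Ideal.isMaximal_comap_of_isIntegral_of_isMaximal m.asIdeal)).symm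

/-- Reduction modulo all maximal ideals. -/
noncomputable def modMax : B →ₗ[A] ((m : MaximalSpectrum B) → B ⧸ m.asIdeal) :=
  LinearMap.pi fun m => (m.asIdeal.mkQ).restrictScalars A

theorem modMax_surjective [Finite (MaximalSpectrum B)] :
    Function.Surjective (modMax (A := A) (B := B)) := by
  intro x
  obtain ⟨r, hr⟩ := Ideal.pi_quotient_surjective (I := fun m : MaximalSpectrum B => m.asIdeal)
    (fun m n hmn => by
      haveI := m.isMaximal
      haveI := n.isMaximal
      exact Ideal.isCoprime_of_isMaximal fun e => hmn (MaximalSpectrum.ext e)) x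
  exact ⟨r, funext hr⟩

/-- The cokernel of `modMax` on the image of `A`. -/
noncomputable def cokMap :
    (B ⧸ LinearMap.range (Algebra.linearMap A B)) →ₗ[A]
      ((m : MaximalSpectrum B) → B ⧸ m.asIdeal) ⧸
        LinearMap.range ((modMax (A := A) (B := B)).comp (Algebra.linearMap A B)) :=
  Submodule.mapQ _ _ modMax (by rintro _ ⟨a, rfl⟩; exact ⟨a, rfl⟩)

theorem cokMap_surjective [Finite (MaximalSpectrum B)] : Function.Surjective (cokMap (A := A) (B := B)) := by
  intro q
  obtain ⟨y, rfl⟩ := Submodule.Quotient.mk_surjective _ q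
  obtain ⟨b, rfl⟩ := modMax_surjective (A := A) (B := B) y
  exact ⟨Submodule.Quotient.mk b, rfl⟩

theorem length_range_le_one [Algebra.IsIntegral A B] :
    Module.length A (LinearMap.range ((modMax (A := A) (B := B)).comp (Algebra.linearMap A B))) ≤ 1 := by
  let g := (modMax (A := A) (B := B)).comp (Algebra.linearMap A B)
  have hker : IsLocalRing.maximalIdeal A ≤ LinearMap.ker g := by
    intro a ha
    refine LinearMap.mem_ker.2 (funext fun m => ?_)
    haveI := m.isMaximal
    refine (Submodule.Quotient.mk_eq_zero _).2 ?_
    show a ∈ m.asIdeal.comap (algebraMap A B)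
    rwa [IsLocalRing.eq_maximalIdeal (Ideal.isMaximal_comap_of_isIntegral_of_isMaximal m.asIdeal)]
  let h : (A ⧸ IsLocalRing.maximalIdeal A) →ₗ[A] LinearMap.range g :=
    Submodule.liftQ _ g.rangeRestrict (by rw [LinearMap.ker_rangeRestrict]; exact hker)
  have hs : Function.Surjective h := fun y => by
    obtain ⟨a, ha⟩ := g.surjective_rangeRestrict y
    exact ⟨Submodule.Quotient.mk a, ha⟩
  refine (Module.length_le_of_surjective h hs).trans (le_of_eq ?_)
  rw [Module.length_eq_one_iff, isSimpleModule_iff_isCoatom]
  exact Ideal.isMaximal_def.1 inferInstance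

theorem length_pi_le [Algebra.IsIntegral A B] [Finite (MaximalSpectrum B)] :
    Module.length A ((m : MaximalSpectrum B) → B ⧸ m.asIdeal) ≤
      Module.length A (B ⧸ LinearMap.range (Algebra.linearMap A B)) + 1 := by
  let R := LinearMap.range ((modMax (A := A) (B := B)).comp (Algebra.linearMap A B))
  rw [Module.length_eq_add_of_exact R.subtype R.mkQ R.injective_subtype R.mkQ_surjective
    (LinearMap.exact_subtype_mkQ R), add_comm]
  exact add_le_add (Module.length_le_of_surjective _ cokMap_surjective) length_range_le_one

/-- The residue field of `A` inside `B / m`. -/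
noncomputable def resAlg [Algebra.IsIntegral A B] (m : MaximalSpectrum B) :
    ResidueField A →+* B ⧸ m.asIdeal :=
  Ideal.Quotient.lift _ ((Ideal.Quotient.mk m.asIdeal).comp (algebraMap A B)) fun a ha => by
    haveI := m.isMaximal
    refine Ideal.Quotient.eq_zero_iff_mem.2 ?_
    show a ∈ m.asIdeal.comap (algebraMap A B)
    rwa [IsLocalRing.eq_maximalIdeal (Ideal.isMaximal_comap_of_isIntegral_of_isMaximal m.asIdeal)]

/-- Embeddings of a residue field are bounded by its length. -/
theorem card_algHom_le [Module.Finite A B] (m : MaximalSpectrum B) :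
    letI := (resAlg (A := A) m).toAlgebra
    ENat.card ((B ⧸ m.asIdeal) →ₐ[ResidueField A] AlgebraicClosure (ResidueField A)) ≤
      Module.length A (B ⧸ m.asIdeal) := by
  letI := (resAlg (A := A) m).toAlgebra
  haveI := m.isMaximal
  letI := Ideal.Quotient.field m.asIdeal
  haveI : IsScalarTower A (ResidueField A) (B ⧸ m.asIdeal) := IsScalarTower.of_algebraMap_eq fun _ => rfl
  haveI : Module.Finite (ResidueField A) (B ⧸ m.asIdeal) := Module.Finite.of_restrictScalars_finite A _ _
  rw [Module.length_eq_of_surjective (R := ResidueField A) (IsLocalRing.residue_surjective),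
    Module.length_eq_finrank, ENat.card_eq_coe_natCard,
    ← Field.finSepDegree_eq_of_isAlgClosed (ResidueField A) (B ⧸ m.asIdeal) (AlgebraicClosure (ResidueField A))]
  exact_mod_cast Field.finSepDegree_le_finrank (ResidueField A) (B ⧸ m.asIdeal)

end Groth.Agent.VarietyLib
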