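import Groth.Agent.VarietyLib.DimOnePole
import Groth.Agent.VarietyLib.DivisorGlue
import Groth.Agent.VarietyLib.GeomComponents
import Groth.Agent.AmpleLib.Ample
import Groth.Agent.Desc19b.AffineOpenDimOne
import Groth.Agent.Rat20Lib.SchDense

/-!
# A Noetherian separated scheme of dimension at most one has an ample invertible module
-/

set_option autoImplicit false
set_option linter.style.haveILetI false
set_option backward.isDefEq.respectTransparency.types false
set_option maxHeartbeats 1000000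

universe u

open CategoryTheory CategoryTheory.Limits AlgebraicGeometry TopologicalSpace IsLocalRing
open Groth.Agent.Coherent Groth.Agent.PicLib Groth.Agent.AmpleLib

namespace Groth.Agent.VarietyLib

variable {X : Scheme.{u}}

/-- The composite from the local ring to the residue field of a generization. -/
noncomputable def genEval {η x : X} (h : η ⤳ x) : X.presheaf.stalk x →+* X.residueField η :=
  (X.presheaf.stalkSpecializes h ≫ X.residue η).hom

theorem genEval_germ {η x : X} (h : η ⤳ x) (V : X.Opens) (hx : x ∈ V) (r : Γ(X, V)) :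
    genEval h (X.presheaf.germ V x hx r) = X.evaluation V η (h.mem_open V.2 hx) r := by
  show X.residue η (X.presheaf.stalkSpecializes h (X.presheaf.germ V x hx r)) = _
  rw [TopCat.Presheaf.germ_stalkSpecializes_apply]
  rfl

theorem ker_genEval {η x : X} (h : η ⤳ x) :
    ∃ q : PrimeSpectrum (X.presheaf.stalk x), q.asIdeal = RingHom.ker (genEval h) ∧ X.fromSpecStalk x q = η := by
  let pt : Spec (X.residueField η) := IsLocalRing.closedPoint (X.residueField η)
  refine ⟨Spec.map (X.presheaf.stalkSpecializes h ≫ X.residue η) pt, ?_, ?_⟩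
  · show Ideal.comap _ (maximalIdeal (X.residueField η)) = _
    rw [(IsLocalRing.isField_iff_maximalIdeal_eq.1 (Field.toIsField (X.residueField η)))]
    rfl
  · show (Spec.map (X.presheaf.stalkSpecializes h ≫ X.residue η) ≫ X.fromSpecStalk x) pt = η
    rw [Spec.map_comp, Category.assoc, Scheme.SpecMap_stalkSpecializes_fromSpecStalk]
    exact X.fromSpecResidueField_apply η pt

theorem exists_frac_genEval {η x : X} (h : η ⤳ x) (z : X.residueField η) :
    ∃ a s : X.presheaf.stalk x, genEval h s ≠ 0 ∧ z = genEval h a / genEval h s := by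
  obtain ⟨V, hV, hxV, -⟩ := exists_isAffineOpen_mem_and_subset (x := x) (U := (⊤ : X.Opens)) trivial
  have hηV : η ∈ V := h.mem_open V.2 hxV
  letI := TopCat.Presheaf.algebra_section_stalk X.presheaf (⟨η, hηV⟩ : V)
  haveI := hV.isLocalization_stalk ⟨η, hηV⟩
  obtain ⟨w, rfl⟩ := IsLocalRing.residue_surjective (R := X.presheaf.stalk η) z
  obtain ⟨⟨a, s⟩, e⟩ := IsLocalization.surj (hV.primeIdealOf ⟨η, hηV⟩).asIdeal.primeCompl w
  refine ⟨X.presheaf.germ V x hxV a, X.presheaf.germ V x hxV s.1, ?_, ?_⟩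
  all_goals
    have hs : IsUnit (X.evaluation V η hηV s.1) :=
      (IsLocalization.map_units (X.presheaf.stalk η) s).map (X.residue η).hom
    simp only [genEval_germ]
  · exact hs.ne_zero
  · rw [eq_div_iff hs.ne_zero]
    exact ((map_mul (X.residue η).hom w _).symm.trans (congrArg (X.residue η).hom e))

/-- A valuation ring centred at a point outside an affine open has a pole of a function on it. -/
theorem exists_pole [X.IsSeparated] {U : X.Opens} (hU : IsAffineOpen U) {η x : X} (h : η ⤳ x) (hx : x ∉ U)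
    (hη : η ∈ U) (O : ValuationSubring (X.residueField η)) (hO : (genEval h).range ≤ O.toSubring)
    (hm : ∀ b ∈ maximalIdeal (X.presheaf.stalk x), genEval h b ∈ O.nonunits) :
    ∃ a : Γ(X, U), (X.evaluation U η hη).hom a ∉ O := by
  by_contra hc
  push Not at hc
  let φA : Γ(X, U) ⟶ CommRingCat.of O := CommRingCat.ofHom ((X.evaluation U η hη).hom.codRestrict O.toSubring hc)
  let φB : X.presheaf.stalk x ⟶ CommRingCat.of O :=
    CommRingCat.ofHom ((genEval h).codRestrict O.toSubring fun b => hO ⟨b, rfl⟩)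
  let incl : CommRingCat.of O ⟶ X.residueField η := CommRingCat.ofHom O.subtype
  haveI : IsDominant (Spec.map incl) := by
    refine ⟨(PrimeSpectrum.denseRange_comap_iff_ker_le_nilRadical incl.hom).2 ?_⟩
    intro b hb
    rw [RingHom.mem_ker] at hb
    rw [show b = 0 from Subtype.ext hb]
    exact zero_mem _
  haveI : IsReduced (Spec (CommRingCat.of O)) := inferInstance
  have e : Spec.map φA ≫ hU.fromSpec = Spec.map φB ≫ X.fromSpecStalk x := by
    refine ext_of_isDominant (Spec.map incl) ?_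
    rw [← Spec.map_comp_assoc, ← Spec.map_comp_assoc, show φA ≫ incl = X.evaluation U η hη from rfl,
      show φB ≫ incl = X.presheaf.stalkSpecializes h ≫ X.residue η from rfl, Spec.map_comp, Category.assoc,
      Scheme.SpecMap_stalkSpecializes_fromSpecStalk]
    show Spec.map (X.presheaf.germ U η hη ≫ X.residue η) ≫ _ = _
    rw [Spec.map_comp, Category.assoc]
    exact congrArg (Spec.map (X.residue η) ≫ ·) (hU.fromSpecStalk_eq_fromSpecStalk hη)
  have e2 := congrArg (fun ψ => ψ.base (IsLocalRing.closedPoint O)) e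
  have hl : Spec.map φB (IsLocalRing.closedPoint O) = IsLocalRing.closedPoint (X.presheaf.stalk x) := by
    refine PrimeSpectrum.ext (le_antisymm (IsLocalRing.le_maximalIdeal (Ideal.IsPrime.ne_top inferInstance)) ?_)
    intro b hb
    obtain ⟨hbO, hbm⟩ := ValuationSubring.mem_nonunits_iff_exists_mem_maximalIdeal.1 (hm b hb)
    exact hbm
  refine hx ?_
  rw [← Scheme.fromSpecStalk_closedPoint (x := x), ← hl]
  have := hU.range_fromSpec.le ⟨Spec.map φA (IsLocalRing.closedPoint O), rfl⟩
  exact e2 ▸ this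

/-- Near a point outside `U`, a high power of a function with poles there has a vanishing inverse. -/
theorem exists_chart [IsNoetherian X] [X.IsSeparated] (hdim : topologicalKrullDim X ≤ 1) {U : X.Opens}
    (hU : IsAffineOpen U) (hd : ∀ η : X, (∀ z, z ⤳ η → z = η) → η ∈ U) {x : X} (hx : x ∉ U) (f : Γ(X, U))
    (hf : ∀ (η : X) (h : η ⤳ x) (hne : η ≠ x) (hη : η ∈ U) (O : ValuationSubring (X.residueField η)),
      (genEval h).range ≤ O.toSubring → O ≠ ⊤ → (X.evaluation U η hη).hom f ∉ O) :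
    ∃ M : ℕ, 0 < M ∧ ∀ k : ℕ, 0 < k → ∃ (V : X.Opens) (b : Γ(X, V)), x ∈ V ∧ x ∉ X.basicOpen b ∧
      (∀ z ∈ V, z ∉ U → z = x) ∧
        res (inf_le_right : V ⊓ U ≤ U) f ^ (k * M) * res (inf_le_left : V ⊓ U ≤ V) b = 1 := by
  classical
  have hgenU : ∀ η z : X, η ⤳ z → η ≠ z → η ∈ U ∧ ∀ w, w ⤳ η → w = η := fun η z h hne => by
    have hmax : ∀ w, w ⤳ η → w = η := fun w hw => by
      by_contra hwne
      exact hne ((h.mem_closed (isClosed_of_specializes_ne hdim hw hwne) rfl)).symm
    exact ⟨hd η hmax, hmax⟩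
  let G : Set X := {η | η ⤳ x ∧ η ≠ x}
  have hGfin : G.Finite := by
    refine Set.Finite.subset (s := genericPoints X) ?_ fun η hη => ?_
    · exact genericPoints.finite NoetherianSpace.finite_irreducibleComponents
    · exact mem_genericPoints_iff.2 (hgenU η x hη.1 hη.2).2
  haveI := hGfin.fintype
  haveI : Nonempty G := by
    obtain ⟨η, hη, hηx⟩ := exists_genericPoints_specializes (α := X) x
    exact ⟨⟨η, hηx, fun e => hx (hd x fun z hz => mem_genericPoints_iff.1 (e ▸ hη) z hz)⟩⟩
  let φ := fun η : G => genEval η.2.1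
  choose q hq hqη using fun η : G => ker_genEval η.2.1
  have hspec : ∀ {P P' : PrimeSpectrum (X.presheaf.stalk x)}, P.asIdeal ≤ P'.asIdeal →
      X.fromSpecStalk x P ⤳ X.fromSpecStalk x P' := fun {P P'} hle =>
    Specializes.map ((PrimeSpectrum.le_iff_specializes _ _).1 hle) (X.fromSpecStalk x).continuous
  have hinj : Function.Injective (X.fromSpecStalk x) := (X.fromSpecStalk x).isEmbedding.injective
  have hprime : ∀ (η : G) (P : Ideal (X.presheaf.stalk x)) (hP : P.IsPrime), (q η).asIdeal ≤ P →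
      P = (q η).asIdeal ∨ P = maximalIdeal (X.presheaf.stalk x) := by
    intro η P hP hle
    have h1 : η.1 ⤳ X.fromSpecStalk x ⟨P, hP⟩ := hqη η ▸ hspec (P := q η) (P' := ⟨P, hP⟩) hle
    have h2 : X.fromSpecStalk x ⟨P, hP⟩ ⤳ x := X.range_fromSpecStalk.le ⟨_, rfl⟩
    by_cases he : η.1 = X.fromSpecStalk x ⟨P, hP⟩
    · left
      exact congrArg PrimeSpectrum.asIdeal (hinj (he.symm.trans (hqη η).symm))
    · right
      have hc := isClosed_of_specializes_ne hdim h1 he
      have hxe : x = X.fromSpecStalk x ⟨P, hP⟩ := h2.mem_closed hc rfl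
      exact congrArg PrimeSpectrum.asIdeal
        (hinj (hxe.symm.trans (Scheme.fromSpecStalk_closedPoint (x := x)).symm))
  have hqm : ∀ η : G, (q η).asIdeal ≠ maximalIdeal (X.presheaf.stalk x) := fun η he => η.2.2 (by
    rw [← hqη η, show q η = IsLocalRing.closedPoint _ from PrimeSpectrum.ext he]
    exact Scheme.fromSpecStalk_closedPoint)
  have halg : ∀ η : G, ∃ N : ℕ, 0 < N ∧ ∀ n, N ≤ n → ∃ g ∈ maximalIdeal (X.presheaf.stalk x),
      φ η g = ((X.evaluation U η.1 (hgenU η.1 x η.2.1 η.2.2).1).hom f)⁻¹ ^ n := fun η =>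
    (DimOnePole.exists_pow_lift (φ η) (exists_frac_genEval η.2.1)
      (fun P hP hle => by rw [← hq η] at hle ⊢; exact hprime η P hP hle) (by rw [← hq η]; exact hqm η)).2.2 _
        fun O hO ht => (ValuationSubring.inv_mem_nonunits_iff _).2 (Or.inr (hf η.1 η.2.1 η.2.2 _ O hO ht))
  choose N hNpos hN using halg
  let N₀ := (∑ η, N η) + 1
  choose g hg hgval using fun η : G => hN η N₀ (le_trans (Finset.single_le_sum (fun j _ => Nat.zero_le (N j))
    (Finset.mem_univ η)) (Nat.le_succ _))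
  obtain ⟨c, hc, y, hy, hyp⟩ := DimOnePole.exists_common_lift (fun η : G => (q η).asIdeal)
    (fun i j hij P hP hi hj => (hprime i P hP hi).resolve_left fun hi' => (hprime j P hP hj).elim
      (fun hj' => hij (Subtype.ext ((hqη i).symm.trans ((congrArg _ (PrimeSpectrum.ext (hi'.symm.trans hj'))).trans
        (hqη j)))))
      (fun hm => hqm i (hi'.symm.trans hm))) g hg
  let M := N₀ * c
  have hval : ∀ η : G, φ η y = ((X.evaluation U η.1 (hgenU η.1 x η.2.1 η.2.2).1).hom f)⁻¹ ^ M := fun η => by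
    have h1 := hyp η
    rw [hq η, RingHom.mem_ker, map_sub, sub_eq_zero, map_pow] at h1
    exact h1.trans (by rw [show genEval η.2.1 (g η) = _ from hgval η, ← pow_mul])
  obtain ⟨V₁, hxV₁, b₁, hb₁⟩ := X.presheaf.exists_germ_eq y
  let bad : Set X := (⋃ η ∈ {η ∈ genericPoints (X : Type u) | ¬ η ⤳ x}, closure {η}) ∪ ((U : Set X)ᶜ \ {x})
  have hbad : IsClosed bad := by
    refine IsClosed.union (((genericPoints.finite NoetherianSpace.finite_irreducibleComponents).subset fun η h => h.1).isClosed_biUnion fun η _ => isClosed_closure) ?_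
    have hTc : ∀ z, z ∉ U → IsClosed ({z} : Set X) := fun z hz => by
      obtain ⟨η, hη, hηz⟩ := exists_genericPoints_specializes (α := X) z
      exact isClosed_of_specializes_ne hdim hηz fun e => hz (hd z fun w hw => mem_genericPoints_iff.1 (e ▸ hη) w hw)
    rw [← Set.biUnion_of_singleton ((U : Set X)ᶜ \ {x})]
    exact ((finite_of_forall_isClosed U.2.isClosed_compl hTc).sdiff).isClosed_biUnion fun z hz => hTc z hz.1
  have hxbad : x ∉ bad := by
    rintro (h | h)
    · obtain ⟨η, hη, hxη⟩ := Set.mem_iUnion₂.1 h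
      exact hη.2 (specializes_iff_mem_closure.2 hxη)
    · exact h.2 rfl
  obtain ⟨V, hV, hxV, hVle⟩ := exists_isAffineOpen_mem_and_subset (x := x)
    (U := V₁ ⊓ ⟨badᶜ, hbad.isOpen_compl⟩) ⟨hxV₁, hxbad⟩
  have hVU : ∀ z ∈ V, z ∉ U → z = x := fun z hz hzU => by_contra fun hne =>
    (hVle hz).2 (Or.inr ⟨hzU, hne⟩)
  let b₀ : Γ(X, V) := res (fun z hz => (hVle hz).1) b₁
  have hb₀ : X.presheaf.germ V x hxV b₀ = y :=
    (TopCat.Presheaf.germ_res_apply X.presheaf (homOfLE fun z hz => (hVle hz).1) x hxV b₁).trans hb₁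
  have hW : IsAffineOpen (V ⊓ U) := hV.inf hU
  let u := res (inf_le_right : V ⊓ U ≤ U) f ^ M
  have hh : IsNilpotent (res (inf_le_left : V ⊓ U ≤ V) b₀ * u - 1) := by
    rw [Scheme.isNilpotent_iff_basicOpen_eq_bot_of_isCompact hW.isCompact, eq_bot_iff]
    intro z hz
    have hzW : z ∈ V ⊓ U := X.basicOpen_le _ hz
    obtain ⟨η, hη, hηz⟩ := exists_genericPoints_specializes (α := X) z
    have hηW : η ∈ X.basicOpen (res (inf_le_left : V ⊓ U ≤ V) b₀ * u - 1) := hηz.mem_open (X.basicOpen _).2 hz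
    have hηV : η ∈ V := (X.basicOpen_le _ hηW).1
    have hηx : η ⤳ x := by
      by_contra h
      exact (hVle hηV).2 (Or.inl (Set.mem_iUnion₂.2 ⟨η, ⟨hη, h⟩, subset_closure rfl⟩))
    have hne : η ≠ x := fun e => hx (e ▸ (X.basicOpen_le _ hηW).2)
    refine absurd hηW ((Scheme.evaluation_eq_zero_iff_notMem_basicOpen X η (X.basicOpen_le _ hηW) _).1 ?_)
    have h1 := hval ⟨η, hηx, hne⟩
    rw [← hb₀, show φ ⟨η, hηx, hne⟩ _ = _ from genEval_germ hηx V hxV b₀] at h1
    have hev : ∀ {A : X.Opens} (i : V ⊓ U ≤ A) (r : Γ(X, A)),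
        X.evaluation (V ⊓ U) η (X.basicOpen_le _ hηW) (res i r) = X.evaluation A η (i (X.basicOpen_le _ hηW)) r :=
      fun {A} i r => congrArg (X.residue η) (TopCat.Presheaf.germ_res_apply X.presheaf (homOfLE i) η _ r)
    rw [map_sub, map_mul, map_one, map_pow, hev, hev]
    change X.evaluation V η _ b₀ * (X.evaluation U η _).hom f ^ M - 1 = 0
    rw [show X.evaluation V η _ b₀ = _ from h1, ← mul_pow, inv_mul_cancel₀ ?_, one_pow, sub_self]
    intro h0
    obtain ⟨O, hO, hOt⟩ : ∃ O : ValuationSubring (X.residueField η), (genEval hηx).range ≤ O.toSubring ∧ O ≠ ⊤ := by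
      haveI : IsFractionRing (genEval hηx).range (X.residueField η) := by
        refine IsFractionRing.of_field _ _ fun z => ?_
        obtain ⟨a, s, hs, rfl⟩ := exists_frac_genEval hηx z
        exact ⟨⟨_, a, rfl⟩, ⟨_, s, rfl⟩, rfl⟩
      have htop : (genEval hηx).range ≠ ⊤ := fun ht => by
        obtain ⟨q', hq', hqη'⟩ := ker_genEval hηx
        have hm : q'.asIdeal.IsMaximal := by
          rw [hq']
          exact RingHom.ker_isMaximal_of_surjective _ (RingHom.range_eq_top.1 ht)
        exact hne (hqη'.symm.trans ((congrArg _ (PrimeSpectrum.ext (IsLocalRing.eq_maximalIdeal hm))).trans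
          (Scheme.fromSpecStalk_closedPoint (x := x))))
      obtain ⟨O, hO, hO'⟩ := DimOne.exists_valuationSubring_of_ne_top _ htop
      exact ⟨O, hO', hO⟩
    exact hf η hηx hne _ O hO hOt (h0 ▸ O.zero_mem)
  have hbasic : X.basicOpen b₀ = V ⊓ U := by
    refine le_antisymm ?_ ?_
    · intro z hz
      refine ⟨X.basicOpen_le _ hz, by_contra fun hzU => ?_⟩
      have hzx := hVU z (X.basicOpen_le _ hz) hzU
      subst hzx
      rw [Scheme.mem_basicOpen _ _ _ hxV, hb₀] at hz
      exact ((IsLocalRing.mem_maximalIdeal _).1 hy) hz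
    · intro z hz
      have hu : IsUnit (res (inf_le_left : V ⊓ U ≤ V) b₀ * u) := by
        have := hh.isUnit_one_add; rwa [add_sub_cancel] at this
      have hzb : z ∈ X.basicOpen (res (inf_le_left : V ⊓ U ≤ V) b₀) := by
        rw [X.basicOpen_of_isUnit (isUnit_of_mul_isUnit_left hu)]; exact hz
      rw [Scheme.basicOpen_res] at hzb
      exact hzb.2
  let rV := res (inf_le_left : V ⊓ U ≤ V)
  letI := rV.toAlgebra
  haveI : IsLocalization.Away b₀ Γ(X, V ⊓ U) := by
    have key : ∀ (W : X.Opens) (hW : X.basicOpen b₀ = W) (hWV : W ≤ V),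
        letI := (res hWV).toAlgebra; IsLocalization.Away b₀ Γ(X, W) := by
      rintro _ rfl hWV
      exact hV.isLocalization_basicOpen b₀
    exact key _ hbasic inf_le_left
  obtain ⟨n₀, hn₀, hn⟩ := DimOnePole.exists_inverse_away b₀ u hh
  refine ⟨M * n₀, Nat.mul_pos (Nat.mul_pos (Nat.succ_pos _) hc) hn₀, fun k hk => ?_⟩
  obtain ⟨e, he⟩ := hn (k * n₀) (Nat.le_mul_of_pos_left _ hk)
  refine ⟨V, b₀ * e, hxV, fun h => ?_, hVU, ?_⟩
  · rw [Scheme.basicOpen_mul] at h
    exact hx ((hbasic.le h.1).2)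
  · rw [mul_comm]
    refine Eq.trans ?_ he
    rw [← pow_mul, show k * (M * n₀) = M * (k * n₀) by ring]
    rfl

/-- An invertible module, generated by two sections, with a section generating exactly on a dense affine open. -/
theorem exists_pencil [IsNoetherian X] [X.IsSeparated] (hdim : topologicalKrullDim X ≤ 1) {U : X.Opens}
    (hU : IsAffineOpen U) (hdense : Dense (U : Set X)) :
    ∃ (L : X.Modules) (s t : Γ(L, ⊤)), PicF.IsInvertible L ∧ glocus L s = U ∧
      ∀ x, x ∈ glocus L s ∨ x ∈ glocus L t := by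
  classical
  have hd : ∀ η : X, (∀ z, z ⤳ η → z = η) → η ∈ U := fun η hη => by
    have hfin : ∀ y : X, ∃ V : Set X, IsOpen V ∧ y ∈ V ∧
        {Z ∈ irreducibleComponents X | (Z ∩ V).Nonempty}.Finite := fun y =>
      ⟨Set.univ, isOpen_univ, trivial, NoetherianSpace.finite_irreducibleComponents.subset fun Z hZ => hZ.1⟩
    refine Rat20Lib.mem_of_dense hfin U.2 hdense ?_
    exact mem_genericPoints_iff.2 hη
  have hT : ∀ x, x ∉ U → IsClosed ({x} : Set X) := fun x hx => by
    obtain ⟨η, hη, hηx⟩ := exists_genericPoints_specializes (α := X) x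
    exact isClosed_of_specializes_ne hdim hηx fun e => hx (hd x fun w hw => mem_genericPoints_iff.1 (e ▸ hη) w hw)
  have hTfin : ((U : Set X)ᶜ).Finite := finite_of_forall_isClosed U.2.isClosed_compl hT
  let T := ((U : Set X)ᶜ : Set X)
  have hgen : ∀ η x : X, η ⤳ x → η ≠ x → η ∈ U := fun η x h hne => hd η fun w hw => by
    by_contra hwne
    exact hne ((h.mem_closed (isClosed_of_specializes_ne hdim hw hwne) rfl)).symm
  have hfinO : ∀ (x : T) (η : X) (h : η ⤳ x.1), η ≠ x.1 →
      {O : ValuationSubring (X.residueField η) | (genEval h).range ≤ O.toSubring ∧ O ≠ ⊤}.Finite ∧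
        ∀ O : ValuationSubring (X.residueField η), (genEval h).range ≤ O.toSubring → O ≠ ⊤ →
          ∀ b ∈ maximalIdeal (X.presheaf.stalk x.1), genEval h b ∈ O.nonunits := by
    intro x η h hne
    obtain ⟨q, hq, hqη⟩ := ker_genEval h
    have hp : ∀ P : Ideal (X.presheaf.stalk x.1), P.IsPrime → RingHom.ker (genEval h) ≤ P →
        P = RingHom.ker (genEval h) ∨ P = maximalIdeal _ := fun P hP hle => by
      have h1 : η ⤳ X.fromSpecStalk x.1 ⟨P, hP⟩ := hqη ▸ Specializes.map
        ((PrimeSpectrum.le_iff_specializes q ⟨P, hP⟩).1 (show q.asIdeal ≤ P from hq ▸ hle)) (X.fromSpecStalk x.1).continuous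
      have h2 : X.fromSpecStalk x.1 ⟨P, hP⟩ ⤳ x.1 := X.range_fromSpecStalk.le ⟨_, rfl⟩
      have hinj : Function.Injective (X.fromSpecStalk x.1) := (X.fromSpecStalk x.1).isEmbedding.injective
      by_cases he : η = X.fromSpecStalk x.1 ⟨P, hP⟩
      · left; rw [← hq]; exact congrArg PrimeSpectrum.asIdeal (hinj (he.symm.trans hqη.symm))
      · right
        have hxe : x.1 = X.fromSpecStalk x.1 ⟨P, hP⟩ := h2.mem_closed (isClosed_of_specializes_ne hdim h1 he) rfl
        exact congrArg PrimeSpectrum.asIdeal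
          (hinj (hxe.symm.trans (Scheme.fromSpecStalk_closedPoint (x := x.1)).symm))
    have := DimOnePole.exists_pow_lift (genEval h) (exists_frac_genEval h) hp (fun he => hne (by
      rw [← hqη, show q = IsLocalRing.closedPoint _ from PrimeSpectrum.ext (hq.trans he)]
      exact Scheme.fromSpecStalk_closedPoint))
    exact ⟨this.1, this.2.1⟩
  haveI : Finite T := hTfin.to_subtype
  haveI : Finite (genericPoints (X : Type u)) := (genericPoints.finite NoetherianSpace.finite_irreducibleComponents).to_subtype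
  let G := Σ x : T, {η : genericPoints (X : Type u) // η.1 ⤳ x.1 ∧ η.1 ≠ x.1}
  haveI : Finite G := inferInstance
  haveI : ∀ g : G, Finite {O : ValuationSubring (X.residueField g.2.1.1) |
      (genEval g.2.2.1).range ≤ O.toSubring ∧ O ≠ ⊤} := fun g => (hfinO g.1 _ g.2.2.1 g.2.2.2).1.to_subtype
  let J := Σ g : G, {O : ValuationSubring (X.residueField g.2.1.1) |
      (genEval g.2.2.1).range ≤ O.toSubring ∧ O ≠ ⊤}
  haveI := Fintype.ofFinite J
  obtain ⟨f, hf⟩ := DimOnePole.exists_poles (A := Γ(X, U)) (K := fun j : J => X.residueField j.1.2.1.1)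
    (fun j => (X.evaluation U j.1.2.1.1 (hgen _ _ j.1.2.2.1 j.1.2.2.2)).hom) (fun j => j.2.1) Finset.univ
    (fun j _ => exists_pole hU j.1.2.2.1 j.1.1.2 _ j.2.1 j.2.2.1
      ((hfinO j.1.1 _ j.1.2.2.1 j.1.2.2.2).2 _ j.2.2.1 j.2.2.2))
  have hchart := fun x : T => exists_chart hdim hU hd x.2 f fun η h hne hη O hO ht => by
    have hη' : η ∈ genericPoints (X : Type u) := mem_genericPoints_iff.2 fun w hw => by
      by_contra hwne
      exact hne ((h.mem_closed (isClosed_of_specializes_ne hdim hw hwne) rfl)).symm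
    exact hf ⟨⟨x, ⟨η, hη'⟩, h, hne⟩, ⟨O, hO, ht⟩⟩ (Finset.mem_univ _)
  choose M hM hk using hchart
  haveI := Fintype.ofFinite T
  let M₀ := ∏ x, M x
  have hdiv : ∀ x, ∃ k, 0 < k ∧ k * M x = M₀ := fun x => by
    obtain ⟨k, hk⟩ : M x ∣ M₀ := Finset.dvd_prod_of_mem M (Finset.mem_univ x)
    refine ⟨k, Nat.pos_of_ne_zero fun h0 => ?_, by rw [hk, mul_comm]⟩
    rw [h0, mul_zero] at hk
    exact (Finset.prod_pos fun y _ => hM y).ne' hk
  choose k hkpos hkeq using hdiv
  choose V b hxV hxb hVU hfb using fun x => hk x (k x) (hkpos x)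
  simp only [hkeq] at hfb
  let F : Γ(X, U) := f ^ M₀
  have hFb : ∀ x, res (inf_le_right : V x ⊓ U ≤ U) F * res (inf_le_left : V x ⊓ U ≤ V x) (b x) = 1 := fun x => by
    rw [map_pow]; exact hfb x
  have hunit : ∀ x, IsUnit (res (inf_le_right : V x ⊓ U ≤ U) F) := fun x => IsUnit.of_mul_eq_one _ (hFb x)
  let 𝒟 : StarGlue.Data X :=
    { N := Coh.structureModule X
      D := U
      ι := T
      U := V
      e := fun x => ((hunit x).unit : Γ(X, V x ⊓ U)ˣ).1 • oneSec (V x ⊓ U)
      gen := fun x => (isGen_oneSec (V x ⊓ U)).smul_unit _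
      meet := fun a c hac z hz => by_contra fun hzU =>
        hac (Subtype.ext ((hVU a z hz.1 hzU).symm.trans (hVU c z hz.2 hzU)))
      cover := fun x => (em (x ∈ U)).imp_right fun h => ⟨⟨x, h⟩, hxV ⟨x, h⟩⟩ }
  have hL : PicF.IsInvertible (StarGlue.glue 𝒟) :=
    StarGlue.isInvertible_glue 𝒟 fun x hx => ⟨U, hx, oneSec U, isGen_oneSec U⟩
  -- sections from the centre and the charts
  have key : ∀ (aU : Γ(X, U)) (aV : ∀ x, Γ(X, V x)),
      (∀ x, res (inf_le_left : V x ⊓ U ≤ V x) (aV x) * res inf_le_right F = res (inf_le_right : V x ⊓ U ≤ U) aU) →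
      ∃ s : Γ(StarGlue.glue 𝒟, ⊤), resM _ le_top s = aU • StarGlue.secD 𝒟 (le_refl U) (oneSec U) ∧
        ∀ x, resM _ (le_top : V x ≤ ⊤) s = aV x • StarGlue.chart 𝒟 x := by
    intro aU aV hcomp
    let sD := aU • StarGlue.secD 𝒟 (le_refl U) (oneSec U)
    let sW := fun x => aV x • StarGlue.chart 𝒟 x
    have hagree : ∀ x, resM (StarGlue.glue 𝒟) (inf_le_left : V x ⊓ U ≤ V x) (sW x) =
        resM (StarGlue.glue 𝒟) (inf_le_right : V x ⊓ U ≤ U) sD := fun x => by
      refine (resM_smul _ _ _ _).trans ((congrArg _ (StarGlue.resM_chart 𝒟 x)).trans ?_)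
      refine Eq.trans ?_ (resM_smul _ _ _ _).symm
      rw [StarGlue.resM_secD, resM_oneSec]
      refine Eq.trans ?_ (congrArg (· • _) (hcomp x))
      refine Eq.trans ?_ (mul_smul _ _ _).symm
      refine congrArg (res (inf_le_left : V x ⊓ U ≤ V x) (aV x) • ·) ?_
      exact StarGlue.secD_smul 𝒟 _ _ _
    let cov : Option T → X.Opens := fun o => o.elim U V
    let loc : ∀ o, Γ(StarGlue.glue 𝒟, cov o) := fun o => match o with
      | none => sD
      | some z => sW z
    obtain ⟨s, hs, -⟩ := TopCat.Sheaf.existsUnique_gluing'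
      (⟨(StarGlue.glue 𝒟).presheaf, (StarGlue.glue 𝒟).isSheaf⟩ : TopCat.Sheaf Ab X)
      cov ⊤ (fun o => homOfLE le_top) (fun x _ => Opens.mem_iSup.2
        ((em (x ∈ U)).elim (fun h => ⟨none, h⟩) fun h => ⟨some ⟨x, h⟩, hxV ⟨x, h⟩⟩)) loc (fun p r => by
        match p, r with
        | none, none => rfl
        | none, some z =>
          show resM _ (inf_le_left : U ⊓ V z ≤ U) sD = resM _ (inf_le_right : U ⊓ V z ≤ V z) (sW z)
          have h := congrArg (resM (StarGlue.glue 𝒟) (le_inf inf_le_right inf_le_left : U ⊓ V z ≤ V z ⊓ U))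
            (hagree z)
          rw [resM_resM, resM_resM] at h
          exact h.symm
        | some z, none => exact hagree z
        | some a, some c =>
          show resM _ (inf_le_left : V a ⊓ V c ≤ V a) (sW a) = resM _ (inf_le_right : V a ⊓ V c ≤ V c) (sW c)
          by_cases hac : a = c
          · subst hac; rfl
          · have hD' : V a ⊓ V c ≤ U := 𝒟.meet a c hac
            have h1 := congrArg (resM (StarGlue.glue 𝒟) (le_inf inf_le_left hD' : V a ⊓ V c ≤ V a ⊓ U)) (hagree a)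
            have h2 := congrArg (resM (StarGlue.glue 𝒟) (le_inf inf_le_right hD' : V a ⊓ V c ≤ V c ⊓ U)) (hagree c)
            rw [resM_resM, resM_resM] at h1 h2
            exact h1.trans h2.symm)
    exact ⟨s, hs none, fun x => hs (some x)⟩
  obtain ⟨s, hsU, hsV⟩ := key 1 b (fun x => by rw [map_one, mul_comm]; exact hFb x)
  obtain ⟨t, -, htV⟩ := key F (fun x => 1) (fun x => by rw [map_one, one_mul])
  have hsle : U ≤ glocus (StarGlue.glue 𝒟) s := by
    rw [le_glocus_iff, hsU, one_smul]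
    exact StarGlue.isGen_secD 𝒟 le_rfl (isGen_oneSec U)
  refine ⟨StarGlue.glue 𝒟, s, t, hL, le_antisymm (fun x hx => by_contra fun hxU => ?_) hsle, fun x => ?_⟩
  · have hgz : IsGen (StarGlue.glue 𝒟) (V ⟨x, hxU⟩) (StarGlue.chart 𝒟 ⟨x, hxU⟩) := StarGlue.isGen_chart 𝒟 _
    have h := (glocus_inf s hgz).le ⟨hx, hxV ⟨x, hxU⟩⟩
    rw [show hgz.coef le_rfl (resM _ le_top s) = b ⟨x, hxU⟩ from hgz.coef_eq le_rfl (by
      rw [resM_self]; exact (hsV _).symm)] at h
    exact hxb ⟨x, hxU⟩ h
  · refine (em (x ∈ U)).imp (fun h => hsle h) fun hxU => ?_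
    have : V ⟨x, hxU⟩ ≤ glocus (StarGlue.glue 𝒟) t := by
      rw [le_glocus_iff, htV, one_smul]
      exact StarGlue.isGen_chart 𝒟 _
    exact this (hxV ⟨x, hxU⟩)

/-- A Noetherian separated scheme of dimension at most one has an ample invertible module. -/
theorem exists_ample_of_noetherian_dim_le_one [IsNoetherian X] [X.IsSeparated]
    (hdim : topologicalKrullDim X ≤ 1) : ∃ L : X.Modules, CohB1.IsAmple L := by
  classical
  have hdense : ∀ x : X, ∃ A : X.Opens, IsAffineOpen A ∧ x ∈ A ∧ Dense (A : Set X) := by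
    intro x
    obtain ⟨A, ⟨hA, hx⟩, hmax⟩ := (wellFounded_gt (α := X.Opens)).has_min
      {A : X.Opens | IsAffineOpen A ∧ x ∈ A} (by
        obtain ⟨A, hA, hxA, -⟩ := exists_isAffineOpen_mem_and_subset (x := x) (U := ⊤) trivial
        exact ⟨A, hA, hxA⟩)
    refine ⟨A, hA, hx, dense_iff_inter_open.2 fun G hG ⟨y, hy⟩ => ?_⟩
    by_contra hne
    obtain ⟨B, hB, hyB, hBG⟩ := exists_isAffineOpen_mem_and_subset (x := y) (U := ⟨G, hG⟩) hy
    have hd : Disjoint A B := by
      rw [disjoint_iff]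
      refine Opens.ext (Set.eq_empty_iff_forall_notMem.2 fun z hz => hne ⟨z, hBG hz.2, hz.1⟩)
    refine hmax (A ⊔ B) ⟨hA.sup_of_disjoint hB (by simpa using hd), Or.inl hx⟩ ?_
    refine lt_of_le_of_ne le_sup_left fun h => hne ⟨y, hy, ?_⟩
    rw [h]
    exact Or.inr hyB
  choose A hA hxA hAd using hdense
  obtain ⟨S, hS⟩ := isCompact_univ.elim_finite_subcover (fun x : X => (A x : Set X)) (fun x => (A x).2)
    fun x _ => Set.mem_iUnion.2 ⟨x, hxA x⟩
  choose L s t hL hs hst using fun x => exists_pencil hdim (hA x) (hAd x)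
  have key : ∀ R : Finset X, ∃ M : X.Modules, PicF.IsInvertible M ∧ (∀ y : X, ∃ r : Γ(M, ⊤), y ∈ glocus M r) ∧
      ∀ x ∈ R, ∀ y ∈ A x, ∃ r : Γ(M, ⊤), y ∈ glocus M r ∧ glocus M r ≤ A x := by
    intro R
    induction R using Finset.induction_on with
    | empty => exact ⟨Coh.structureModule X, AmpleLib.isInvertible_structureModule,
        fun y => ⟨oneSec ⊤, by rw [glocus_oneSec]; trivial⟩, by simp⟩
    | insert a R ha ih =>
      obtain ⟨M, hM, hgen, haff⟩ := ih
      refine ⟨CohB1.tensorMod M (L a), AmpleLib.isInvertible_tensorMod hM (hL a), fun y => ?_, fun x hx y hy => ?_⟩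
      · obtain ⟨r, hr⟩ := hgen y
        rcases hst a y with h | h
        · exact ⟨tmul r (s a), by rw [glocus_tmul hM (hL a)]; exact ⟨hr, h⟩⟩
        · exact ⟨tmul r (t a), by rw [glocus_tmul hM (hL a)]; exact ⟨hr, h⟩⟩
      · rcases Finset.mem_insert.1 hx with rfl | hx
        · obtain ⟨r, hr⟩ := hgen y
          refine ⟨tmul r (s x), ?_, ?_⟩
          · rw [glocus_tmul hM (hL x), hs x]; exact ⟨hr, hy⟩
          · rw [glocus_tmul hM (hL x), hs x]; exact inf_le_right
        · obtain ⟨r, hr, hle⟩ := haff x hx y hy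
          rcases hst a y with h | h
          · exact ⟨tmul r (s a), by rw [glocus_tmul hM (hL a)]; exact ⟨hr, h⟩,
              by rw [glocus_tmul hM (hL a)]; exact inf_le_left.trans hle⟩
          · exact ⟨tmul r (t a), by rw [glocus_tmul hM (hL a)]; exact ⟨hr, h⟩,
              by rw [glocus_tmul hM (hL a)]; exact inf_le_left.trans hle⟩
  obtain ⟨M, hM, -, haff⟩ := key S
  refine ⟨M, isAmple_iff_affGlocus.2 ⟨hM, inferInstance, fun y => ?_⟩⟩
  obtain ⟨x, hx, hyx⟩ := Set.mem_iUnion₂.1 (hS (Set.mem_univ y))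
  obtain ⟨r, hr, hle⟩ := haff x hx y hyx
  refine ⟨1, one_pos, powSec r 1, by rw [glocus_powSec hM r 0]; exact hr, le_top, ?_⟩
  rw [glocus_powSec hM r 0]
  haveI : IsAffine (A x).toScheme := hA x
  have hst' : ∀ z : (A x).toScheme, IsNoetherianRing ((A x).toScheme.presheaf.stalk z) ∧
      ringKrullDim ((A x).toScheme.presheaf.stalk z) ≤ 1 := fun z =>
    ⟨inferInstance, (CurvesLib24.stalk_dim_le_topologicalKrullDim z).trans
      (((A x).ι.isOpenEmbedding.isInducing.topologicalKrullDim_le).trans hdim)⟩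
  haveI : NoetherianSpace (A x).toScheme := (A x).ι.isOpenEmbedding.isInducing.noetherianSpace
  have := Desc19b.AffineOpenDimOne.isAffineOpen (A x).toScheme hst' ((A x).ι ⁻¹ᵁ glocus M r)
    (NoetherianSpace.isCompact _)
  have h2 := this.image_of_isOpenImmersion (A x).ι
  rwa [Scheme.Hom.image_preimage_eq_opensRange_inf, Scheme.Opens.opensRange_ι, inf_eq_right.2 hle] at h2

end Groth.Agent.VarietyLib
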