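import Groth.Agent.VarietyLib.ProperCurveAmple
import Groth.Agent.FlatMorAdm.Nagata
import Groth.Agent.DimLib.Morphism
import Groth.Agent.ModPairLib.MProd
import Groth.Agent.Rat20Lib.SchDense

/-!
# Projective completions in dimension at most one
-/

set_option autoImplicit false
set_option linter.style.haveILetI false
set_option backward.isDefEq.respectTransparency.types false

universe u

open CategoryTheory CategoryTheory.Limits AlgebraicGeometry TopologicalSpace

namespace Groth.Agent.VarietyLib

variable (k : Type u) [Field k]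

/-- A separated scheme of finite type and dimension at most one over a field is a dense open of a projective
one, with finitely many closed points outside. -/
theorem exists_projective_completion {X : Scheme.{u}} (f : X ⟶ Spec (CommRingCat.of k)) [IsSeparated f]
    [LocallyOfFiniteType f] [QuasiCompact f] (hdim : topologicalKrullDim X ≤ 1) :
    ∃ (d : ℕ) (Y : Scheme.{u}) (c : Y ⟶ CohB1.ProjSpace d k) (j : X ⟶ Y), IsClosedImmersion c ∧
      IsOpenImmersion j ∧ j ≫ c ≫ CohB1.ProjSpace.toSpec d k = f ∧ Dense (Set.range j) ∧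
      IsSchemeTheoreticallyDominant j ∧ (Set.range j)ᶜ.Finite ∧ topologicalKrullDim Y ≤ 1 ∧
      ∀ y ∈ (Set.range j)ᶜ, IsClosed ({y} : Set Y) := by
  obtain ⟨Y₀, j₀, p₀, hj, hjc, hp, hjp⟩ := FlatMorAdm.compactifiable f
  haveI := hj; haveI := hjc; haveI := hp
  let j := j₀.toImage
  let p := j₀.imageι ≫ p₀
  haveI : IsOpenImmersion j := inferInstanceAs (IsOpenImmersion j₀.toImage)
  haveI : IsProper p := inferInstanceAs (IsProper (j₀.imageι ≫ p₀))
  haveI : QuasiCompact p := inferInstance
  have hfac : j ≫ p = f := by
    show j₀.toImage ≫ j₀.imageι ≫ p₀ = f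
    rw [Scheme.Hom.toImage_imageι_assoc, hjp]
  letI : j₀.image.Over (Spec (CommRingCat.of k)) := ⟨p⟩
  haveI : IsProper (j₀.image ↘ Spec (CommRingCat.of k)) := inferInstanceAs (IsProper p)
  haveI := QuasiCompact.compactSpace_of_compactSpace p
  haveI : IsLocallyNoetherian j₀.image := LocallyOfFiniteType.isLocallyNoetherian p
  haveI : IsNoetherian j₀.image := {}
  have hdense : Dense (Set.range j) := j₀.toImage.denseRange
  have hopen : IsOpen (Set.range j) := j.isOpenEmbedding.isOpen_range
  have hmem : ∀ η : j₀.image, (∀ z, z ⤳ η → η = z) → η ∈ Set.range j := by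
    intro η hmax
    refine Rat20Lib.mem_of_dense (fun x => ⟨Set.univ, isOpen_univ, trivial,
      NoetherianSpace.finite_irreducibleComponents.subset fun Z hZ => hZ.1⟩) hopen hdense ?_
    obtain ⟨θ, hθ⟩ := QuasiSober.sober (S := irreducibleComponent η)
      isIrreducible_irreducibleComponent isClosed_irreducibleComponent
    have e : η = θ := hmax θ (hθ.specializes mem_irreducibleComponent)
    rw [e, hθ.def]
    exact irreducibleComponent_mem_irreducibleComponents η
  have hdimY : topologicalKrullDim j₀.image ≤ 1 := by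
    refine DimLib.topologicalKrullDim_le_of_forall_maximal p 1 fun η hmax => ?_
    obtain ⟨x, rfl⟩ := hmem η hmax
    rw [← DimLib.ptDim_comp_preimmersion p j x, hfac]
    exact (DimLib.ptDim_le_topologicalKrullDim f x).trans hdim
  have hcl : ∀ y ∈ (Set.range j)ᶜ, IsClosed ({y} : Set j₀.image) := by
    intro y hy
    obtain ⟨η, hη, hmax⟩ := DimLib.exists_maximal_specializes y
    exact isClosed_of_specializes_ne hdimY hη fun e => hy (e ▸ hmem η hmax)
  obtain ⟨d, c, hc, hcp⟩ := exists_closedImmersion_projSpace_dim_le_one k hdimY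
  refine ⟨d, j₀.image, c, j, hc, inferInstance, by rw [hcp]; exact hfac, hdense,
    ⟨ModPairLib.ker_toImage j₀⟩, finite_of_forall_isClosed hopen.isClosed_compl hcl, hdimY, hcl⟩

end Groth.Agent.VarietyLib
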