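import Groth.Agent.CommAlg6.NormalTensorField
import Groth.Agent.Desc19b.NormalSmooth

/-!
# Geometric normality is tested by finite purely inseparable extensions
-/

set_option autoImplicit false
set_option backward.isDefEq.respectTransparency.types false

universe u

open TensorProduct IntermediateField

namespace Groth.Agent.VarietyLib

theorem isPurelyInseparable_fixedField (k L : Type u) [Field k] [Field L] [Algebra k L] [Normal k L] :
    IsPurelyInseparable k (fixedField (⊤ : Subgroup Gal(L/k))) := by
  classical
  rw [isPurelyInseparable_iff_natSepDegree_eq_one]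
  intro x
  have hx : IsIntegral k (x : L) := Normal.isIntegral ‹_› _
  rw [IntermediateField.minpoly_eq, Polynomial.natSepDegree_eq_of_splits (minpoly k (x : L)) (E := L) (Normal.splits ‹_› _),
    Finset.card_eq_one]
  refine ⟨(x : L), Finset.ext fun y => ?_⟩
  rw [Multiset.mem_toFinset, Polynomial.mem_aroots, Finset.mem_singleton]
  refine ⟨fun hy => ?_, fun hy => ⟨minpoly.ne_zero hx, hy ▸ minpoly.aeval k (x : L)⟩⟩
  obtain ⟨σ, hσ⟩ := minpoly.exists_algEquiv_of_root' hx.isAlgebraic hy.2
  rw [← (mem_fixedField_iff _ _).1 x.2 σ (Subgroup.mem_top σ), ← hσ]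

theorem isGalois_fixedField (k L : Type u) [Field k] [Field L] [Algebra k L] [FiniteDimensional k L] :
    IsGalois (fixedField (⊤ : Subgroup Gal(L/k))) L :=
  IsGalois.of_fixed_field L (⊤ : Subgroup Gal(L/k))

/-- A finite separable extension field is geometrically normal. -/
theorem isGeomNormal_separable (k K : Type u) [Field k] [Field K] [Algebra k K] [FiniteDimensional k K]
    [Algebra.IsSeparable k K] : EGA4.IsGeomNormal k K := by
  intro M _ _ hM
  haveI : Algebra.FormallyUnramified k K :=
    (Algebra.FormallyUnramified.iff_isSeparable k K).2 inferInstance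
  haveI : _root_.IsReduced (M ⊗[k] K) := Algebra.FormallyUnramified.isReduced_of_field M (M ⊗[k] K)
  haveI : IsArtinianRing (M ⊗[k] K) := IsArtinianRing.of_finite M _
  intro p _
  haveI : IsArtinianRing (Localization.AtPrime p) := IsArtinianRing.localization_artinian p.primeCompl _
  haveI : _root_.IsReduced (Localization.AtPrime p) :=
    isReduced_localizationPreserves p.primeCompl _ inferInstance
  letI : Field (Localization.AtPrime p) := (IsArtinianRing.isField_of_isReduced_of_isLocalRing _).toField
  exact ⟨inferInstance, inferInstance⟩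

theorem isNormalRing_tensor_tower (k F L S : Type u) [Field k] [Field F] [Field L] [Algebra k F] [Algebra k L]
    [Algebra F L] [IsScalarTower k F L] [FiniteDimensional F L] [Algebra.IsSeparable F L] [CommRing S] [Algebra k S]
    (h : EGA4.IsNormalRing (F ⊗[k] S)) : EGA4.IsNormalRing (L ⊗[k] S) :=
  CommAlg6.isNormalRing_of_ringEquiv (Algebra.TensorProduct.cancelBaseChange k F L L S).toRingEquiv
    (CommAlg6.NormalTensor.isNormalRing_tensor_of_isGeomNormal F L (F ⊗[k] S) (isGeomNormal_separable F L) h)

theorem isNormalRing_tensor_of_normal (k S : Type u) [Field k] [CommRing S] [Algebra k S]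
    (h : ∀ (k' : Type u) [Field k'] [Algebra k k'], Module.Finite k k' → IsPurelyInseparable k k' →
      EGA4.IsNormalRing (k' ⊗[k] S)) (L : Type u) [Field L] [Algebra k L] [FiniteDimensional k L] [Normal k L] :
    EGA4.IsNormalRing (L ⊗[k] S) := by
  let F : IntermediateField k L := fixedField (⊤ : Subgroup Gal(L/k))
  haveI := isPurelyInseparable_fixedField k L
  haveI := isGalois_fixedField k L
  haveI : FiniteDimensional F L := FiniteDimensional.right k F L
  exact isNormalRing_tensor_tower k F L S (h F inferInstance inferInstance)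

/-- Geometric normality of an arbitrary algebra is tested by finite purely inseparable extensions. -/
theorem isGeomNormal_of_purelyInseparable (k S : Type u) [Field k] [CommRing S] [Algebra k S]
    (h : ∀ (k' : Type u) [Field k'] [Algebra k k'], Module.Finite k k' → IsPurelyInseparable k k' →
      EGA4.IsNormalRing (k' ⊗[k] S)) : EGA4.IsGeomNormal k S := by
  intro k' _ _ hk'
  haveI := hk'
  let Ω := AlgebraicClosure k'
  let L := normalClosure k k' Ω
  haveI : FiniteDimensional k L := normalClosure.is_finiteDimensional k k' Ω
  haveI : Normal k L := normalClosure.normal k k' Ω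
  have h2 : EGA4.IsNormalRing (L ⊗[k] S) := isNormalRing_tensor_of_normal k S h L
  let e : L ⊗[k] S ≃+* (k' ⊗[k] S) ⊗[k'] L :=
    ((Algebra.TensorProduct.cancelBaseChange k k' L L S).toRingEquiv.symm).trans
      (Algebra.TensorProduct.comm k' L (k' ⊗[k] S)).toRingEquiv
  exact Desc19b.isNormalRing_of_faithfullyFlat (k' ⊗[k] S) ((k' ⊗[k] S) ⊗[k'] L)
    (CommAlg6.isNormalRing_of_ringEquiv e h2)

end Groth.Agent.VarietyLib
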