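import Groth.Prelude.Def_Found
import Groth.Prelude.Def_Curv2
import Groth.Agent.VarietyLib.GeomReducedPt
import Groth.Agent.CAlgH.RegularFieldExt
import Groth.Agent.CAlgH.AdicSmoothField

/-!
# Geometric regularity at a point and geometric regularity of the local ring
-/

set_option autoImplicit false
set_option backward.isDefEq.respectTransparency.types false

universe u

open CategoryTheory CategoryTheory.Limits AlgebraicGeometry TensorProduct

namespace Groth.Agent.VarietyLib

attribute [local instance] Curv2.stalkAlgebra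

variable (k : Type u) [Field k] (X : Scheme.{u}) [X.Over (Spec (CommRingCat.of k))] [IsLocallyNoetherian X] (x : X)

theorem isGeometricallyRegular_stalk
    (h : ∀ (k' : Type u) [Field k'] [Algebra k k'] [FiniteDimensional k k'] [IsPurelyInseparable k k']
      (x' : Curv2.bc k X k'), Curv2.bcFst k X k' x' = x → IsRegularLocalRing ((Curv2.bc k X k').presheaf.stalk x')) :
    CAlg.IsGeometricallyRegular k (X.presheaf.stalk x) := by
  rw [CAlgH.isGeometricallyRegular_iff_purelyInseparable]
  intro k' _ _ hf hpi
  haveI : FiniteDimensional k k' := hf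
  haveI : IsNoetherianRing (X.presheaf.stalk x ⊗[k] k') :=
    Algebra.EssFiniteType.isNoetherianRing (X.presheaf.stalk x) _
  haveI : IsRegularRing (X.presheaf.stalk x ⊗[k] k') := by
    refine CAlgH.AdicSmooth.isRegularRing_of_maximals _ fun M hM => ?_
    let P : PrimeSpectrum (X.presheaf.stalk x ⊗[k] k') := ⟨M, hM.isPrime⟩
    haveI : Algebra.IsIntegral (X.presheaf.stalk x) (X.presheaf.stalk x ⊗[k] k') := inferInstance
    haveI : (M.comap (algebraMap (X.presheaf.stalk x) (X.presheaf.stalk x ⊗[k] k'))).IsMaximal :=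
      Ideal.isMaximal_comap_of_isIntegral_of_isMaximal M
    have hc := IsLocalRing.eq_maximalIdeal (show (P.asIdeal.comap
      (algebraMap (X.presheaf.stalk x) (X.presheaf.stalk x ⊗[k] k'))).IsMaximal from this)
    haveI := h k' _ (bcFst_bcLoc_eq k X k' x P hc)
    obtain ⟨e⟩ := nonempty_stalk_bcLoc_equiv k X k' x P
    exact IsRegularLocalRing.of_ringEquiv e
  exact IsRegularRing.of_ringEquiv (Algebra.TensorProduct.comm k (X.presheaf.stalk x) k').toRingEquiv

theorem isGeomRegularAt_of_isGeometricallyRegular (h : CAlg.IsGeometricallyRegular k (X.presheaf.stalk x)) :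
    Curv2.IsGeomRegularAt k X x := by
  intro K _ _ hK z hz
  haveI : Algebra.EssFiniteType k K := IntermediateField.fg_top_iff.mp hK
  haveI := CAlgH.isRegularRing_fg_ext k K (X.presheaf.stalk x) h
  haveI : IsRegularRing (X.presheaf.stalk x ⊗[k] K) :=
    IsRegularRing.of_ringEquiv (Algebra.TensorProduct.comm k K (X.presheaf.stalk x)).toRingEquiv
  obtain ⟨P, rfl⟩ := exists_bcLoc_eq k X K x z (hz ▸ specializes_rfl)
  obtain ⟨e⟩ := nonempty_stalk_bcLoc_equiv k X K x P
  exact IsRegularLocalRing.of_ringEquiv e.symm

end Groth.Agent.VarietyLib
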