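import Groth.Agent.VarietyLib.NefDescent
import Groth.Agent.H8Coh.FibreAmple

/-!
# Nefness on the fibres of a proper morphism over a local base
-/

set_option autoImplicit false
set_option linter.style.haveILetI false
set_option linter.unusedSectionVars false
set_option backward.isDefEq.respectTransparency.types false

universe u

open CategoryTheory CategoryTheory.Limits AlgebraicGeometry TopologicalSpace Opposite
open Groth.Agent.Coherent Groth.Agent.PicLib Groth.Agent.AmpleLib Groth.Agent.EulerLib
open Groth.Agent.H0Growth23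

noncomputable section

namespace Groth.Agent.VarietyLib

variable {S X : Scheme.{u}} (p : X ⟶ S) [IsProper p]

/-- A fibre over its residue field. -/
@[reducible] def overFibre (s : S) : (p.fiber s).Over (Spec (CommRingCat.of (S.residueField s))) :=
  ⟨p.fiberToSpecResidueField s⟩

attribute [local instance] overFibre

instance isProper_overFibre (s : S) :
    IsProper ((p.fiber s) ↘ Spec (CommRingCat.of (S.residueField s))) :=
  MorphismProperty.pullback_snd (P := @IsProper) p (S.fromSpecResidueField s) inferInstance

/-- The class of a module on a fibre is nef. -/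
def NefFibre {L : X.Modules} (hL : PicF.IsInvertible L) (s : S) : Prop :=
  NefCl (S.residueField s) (InvCl.mk _ (PicLoc.isInvertible_pullback (p.fiberι s) hL))

/-- Nefness passes from a point to all its generalisations. -/
theorem nefFibre_of_specializes [IsAffine S] [IsNoetherian S] {L : X.Modules} (hL : PicF.IsInvertible L)
    {t s : S} (hts : t ⤳ s) (hs : NefFibre p hL s) : NefFibre p hL t := by
  haveI : CompactSpace X := QuasiCompact.compactSpace_of_compactSpace p
  obtain ⟨N, Y, π, j, hj, hjq, hπ, hπs⟩ := H8Lim.ChowPn.exists_chow_pn_surjective (f := p)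
  haveI := hπ
  haveI := hπs
  let p' := π ≫ p
  haveI hY : IsProper p' := inferInstanceAs (IsProper (π ≫ p))
  obtain ⟨-, -, H, hH⟩ := RelVALib.isQuasiProjective_of_immersion_pn (f := p') j hjq
  have hHa : CohB1.IsAmple H := RelVALib.isAmple_of_isRelAmple_of_isAffine _ hH
  haveI : ∀ s, IsAffineHom (p'.fiberι s) := fun s =>
    MorphismProperty.pullback_fst (P := @IsAffineHom) _ _ inferInstance
  let μ : ∀ s, p'.fiber s ⟶ p.fiber s := fun s => pullback.lift (p'.fiberι s ≫ π) (p'.fiberToSpecResidueField s)
    (by rw [Category.assoc]; exact pullback.condition)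
  have hμ₁ : ∀ s, μ s ≫ p.fiberι s = p'.fiberι s ≫ π := fun s => pullback.lift_fst _ _ _
  have hμ₂ : ∀ s, μ s ≫ p.fiberToSpecResidueField s = p'.fiberToSpecResidueField s := fun s =>
    pullback.lift_snd _ _ _
  have hp : ∀ s, IsPullback (p.fiberι s) (p.fiberToSpecResidueField s) p (S.fromSpecResidueField s) := fun s =>
    IsPullback.of_hasPullback p (S.fromSpecResidueField s)
  have hp' : ∀ s, IsPullback (p'.fiberι s) (p'.fiberToSpecResidueField s) p' (S.fromSpecResidueField s) := fun s =>
    IsPullback.of_hasPullback p' (S.fromSpecResidueField s)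
  have hsurj : ∀ s, Surjective (μ s) := fun s =>
    MorphismProperty.of_isPullback (P := @Surjective)
      (IsPullback.of_bot (by rw [hμ₂]; exact hp' s) (hμ₁ s).symm (hp s)) inferInstance
  set a := InvCl.mk L hL
  set h := InvCl.mk H hHa.1
  let c : ∀ s : S, ℕ → InvCl (p'.fiber s) := fun s ν => pullHom (p'.fiberι s) (pullHom π a ^ ν * h)
  have hc : ∀ (s : S) (ν : ℕ), c s ν =
      pullHom (μ s) (InvCl.mk _ (PicLoc.isInvertible_pullback (p.fiberι s) hL)) ^ ν *
        InvCl.mk _ (isAmple_pullback_of_isAffineHom (p'.fiberι s) hHa).1 := fun s ν => by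
    have hcomp : pullHom (μ s) (pullHom (p.fiberι s) a) = pullHom (p'.fiberι s) (pullHom π a) := by
      obtain ⟨M, hM, hMe⟩ := InvCl.exists_rep a
      rw [← hMe]
      exact Quotient.sound ⟨(Scheme.Modules.pullbackComp (μ s) (p.fiberι s)).app M ≪≫
        (Scheme.Modules.pullbackCongr (hμ₁ s)).app M ≪≫
        ((Scheme.Modules.pullbackComp (p'.fiberι s) π).app M).symm⟩
    rw [show InvCl.mk _ (PicLoc.isInvertible_pullback (p.fiberι s) hL) = pullHom (p.fiberι s) a from
      (pullHom_mk _ hL).symm, hcomp]
    show pullHom (p'.fiberι s) (pullHom π a ^ ν * h) = _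
    rw [map_mul, map_pow, pullHom_mk _ hHa.1]
  have hlocus : ∀ ν, s ∈ H8Coh.FibreAmple.locus p' (repCl (pullHom π a ^ ν * h)) := by
    intro ν
    have hnef := NefCl.pullHom (S.residueField s) (μ s) (hμ₂ s) hs
    have hB := isAmple_twist_of_nef (S.residueField s) (isAmple_pullback_of_isAffineHom (p'.fiberι s) hHa) hnef ν
    rw [← hc] at hB
    obtain ⟨e⟩ := nonempty_iso_of_mk_eq (hL := isInvertible_repCl (c s ν))
      (hN := PicLoc.isInvertible_pullback (p'.fiberι s) (isInvertible_repCl (pullHom π a ^ ν * h)))
      (by rw [mk_repCl, ← pullHom_mk _ (isInvertible_repCl _), mk_repCl])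
    exact isAmple_of_iso e hB
  haveI := hsurj t
  refine nefCl_of_pullHom (S.residueField t) (μ t) (hμ₂ t)
    (nefCl_of_ample_twists (S.residueField t)
      (h := InvCl.mk _ (isAmple_pullback_of_isAffineHom (p'.fiberι t) hHa).1) fun ν _ => ?_)
  rw [← hc]
  obtain ⟨e⟩ := nonempty_iso_of_mk_eq (hN := isInvertible_repCl (c t ν))
    (hL := PicLoc.isInvertible_pullback (p'.fiberι t) (isInvertible_repCl (pullHom π a ^ ν * h)))
    (by rw [mk_repCl, ← pullHom_mk _ (isInvertible_repCl _), mk_repCl])
  exact isAmple_of_iso e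
    (hts.mem_open (H8Coh.FibreAmple.isOpen_locus_noetherian (isInvertible_repCl _)) (hlocus ν))

/-- Nefness in terms of Euler characteristics passes to generalisations. -/
theorem euler_nef_fibre_of_specializes [IsAffine S] [IsNoetherian S] {L : X.Modules} (hL : PicF.IsInvertible L)
    {t s : S} (hts : t ⤳ s)
    (h0 : ∀ C : (p.fiber s).IdealSheafData, IsIntegral C.subscheme →
        topologicalKrullDim (C.support : Set (p.fiber s)) = 1 →
      0 ≤ Curv2.euler (S.residueField s) (p.fiber s)
            (CohB1.tensorMod (ClSub.quotMod C) ((Scheme.Modules.pullback (p.fiberι s)).obj L)) -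
          Curv2.euler (S.residueField s) (p.fiber s) (ClSub.quotMod C)) :
    ∀ C : (p.fiber t).IdealSheafData, IsIntegral C.subscheme →
        topologicalKrullDim (C.support : Set (p.fiber t)) = 1 →
      0 ≤ Curv2.euler (S.residueField t) (p.fiber t)
            (CohB1.tensorMod (ClSub.quotMod C) ((Scheme.Modules.pullback (p.fiberι t)).obj L)) -
          Curv2.euler (S.residueField t) (p.fiber t) (ClSub.quotMod C) :=
  (nefCl_iff_euler (S.residueField t) (PicLoc.isInvertible_pullback (p.fiberι t) hL)).2
    (nefFibre_of_specializes p hL hts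
      ((nefCl_iff_euler (S.residueField s) (PicLoc.isInvertible_pullback (p.fiberι s) hL)).1 h0))

end Groth.Agent.VarietyLib

end
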