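import Groth.Agent.VarietyLib.SiuBound
import Groth.Agent.EulerLib.NumEquivDeg
import Groth.Agent.EulerLib.FGABridge
import Groth.Agent.Coherent.QcohOps

/-!
# Nef and big invertible modules in terms of curve degrees and `intNum`
-/

set_option autoImplicit false
set_option linter.style.haveILetI false
set_option linter.unusedSectionVars false
set_option backward.isDefEq.respectTransparency.types false

universe u

open CategoryTheory CategoryTheory.Limits AlgebraicGeometry TopologicalSpace Opposite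
open Groth.Agent.Coherent Groth.Agent.PicLib Groth.Agent.AmpleLib Groth.Agent.EulerLib
open Groth.Agent.H0Growth23 Groth.Agent.AssSch12

noncomputable section

namespace Groth.Agent.VarietyLib

variable (k : Type u) [Field k] {X : Scheme.{u}} [X.Over (Spec (CommRingCat.of k))]
  [IsProper (X ↘ Spec (CommRingCat.of k))]

/-- Nonnegative degrees on all integral curves give a nef class. -/
theorem nefCl_of_curveDeg {L : X.Modules} (hL : PicF.IsInvertible L)
    (h : ∀ (C : Scheme.{u}) (i : C ⟶ X) [IsClosedImmersion i], IsIntegral C → topologicalKrullDim C = 1 →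
      0 ≤ Pic13.curveDeg k (i ≫ (X ↘ Spec (CommRingCat.of k))) ((Scheme.Modules.pullback i).obj L)) :
    NefCl k (InvCl.mk L hL) := by
  intro z hz
  haveI := isNoetherian_of_proper (X := X) k
  let i := (clI z).subschemeι
  haveI : IsIntegral (clI z).subscheme := isIntegral_vanishingIdeal _ isIrreducible_singleton.closure
  letI : (clI z).subscheme.Over (Spec (CommRingCat.of k)) := ⟨i ≫ (X ↘ Spec (CommRingCat.of k))⟩
  haveI : IsProper ((clI z).subscheme ↘ Spec (CommRingCat.of k)) :=
    inferInstanceAs (IsProper (i ≫ (X ↘ Spec (CommRingCat.of k))))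
  have hdim : topologicalKrullDim (clI z).subscheme = 1 :=
    (topologicalKrullDim_vanishingIdeal _).trans (hz.trans (by norm_num))
  have h' := h _ i inferInstance hdim
  rw [show i ≫ (X ↘ Spec (CommRingCat.of k)) = (clI z).subscheme ↘ Spec (CommRingCat.of k) from rfl,
    curveDeg_pullback_eq k i rfl hdim.le hL] at h'
  exact h'

/-- The degree on a curve as an intersection number on the direct image of its structure sheaf. -/
theorem exists_curveDeg_eq {L : X.Modules} (hL : PicF.IsInvertible L) (C : Scheme.{u}) (i : C ⟶ X)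
    [IsClosedImmersion i] (hdim : topologicalKrullDim C = 1) :
    ∃ F : X.Modules, Coh.IsCoh F ∧ topologicalKrullDim (CohB1.support F) ≤ ((1 : ℕ) : WithBot ℕ∞) ∧
      Pic13.curveDeg k (i ≫ (X ↘ Spec (CommRingCat.of k))) ((Scheme.Modules.pullback i).obj L) =
        interDeg (fun _ : Fin 1 => InvCl.mk L hL) (chiCl k F) := by
  haveI := isNoetherian_of_proper (X := X) k
  letI : C.Over (Spec (CommRingCat.of k)) := ⟨i ≫ (X ↘ Spec (CommRingCat.of k))⟩
  haveI : IsProper (C ↘ Spec (CommRingCat.of k)) :=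
    inferInstanceAs (IsProper (i ≫ (X ↘ Spec (CommRingCat.of k))))
  haveI := isNoetherian_of_proper (X := C) k
  refine ⟨_, isCoh_push_finite i (isCoh_structureModule C), ?_, curveDeg_pullback_eq k i rfl hdim.le hL⟩
  refine (dim_mono (support_push_subset i _)).trans (le_of_eq ?_)
  rw [← i.isClosedEmbedding.isEmbedding.toHomeomorph.isHomeomorph.topologicalKrullDim_eq, hdim]
  norm_num

/-- Nef classes have nonnegative degrees on curves. -/
theorem curveDeg_nonneg_of_nefCl {L : X.Modules} (hL : PicF.IsInvertible L) (h : NefCl k (InvCl.mk L hL))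
    (C : Scheme.{u}) (i : C ⟶ X) [IsClosedImmersion i] (hdim : topologicalKrullDim C = 1) :
    0 ≤ Pic13.curveDeg k (i ≫ (X ↘ Spec (CommRingCat.of k))) ((Scheme.Modules.pullback i).obj L) := by
  obtain ⟨F, hF, hd, he⟩ := exists_curveDeg_eq k hL C i hdim
  rw [he]
  exact nef_interDeg_nonneg k h hF hd

/-- Self intersection numbers through an inverse module. -/
theorem intNum_inv_eq {L Linv : X.Modules} (hL : PicF.IsInvertible L) (hinv : ClSub.IsInverseOf Linv L) {n : ℕ}
    (hn : topologicalKrullDim X ≤ (n : WithBot ℕ∞)) {F : X.Modules} (hF : Coh.IsCoh F) :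
    FGA.intNum k X n (fun _ : Fin n => Linv) F = (dOp (InvCl.mk L hL) ^ n) (chiCl k F) 1 := by
  obtain ⟨e⟩ := hinv
  have hLi : PicF.IsInvertible Linv := PicM.isInvertible_of_tensor hL
    (glocus_isInvertible_of_iso (AmpleLib.tensorComm L Linv ≪≫ e).symm isInvertible_structureModule)
  rw [intNum_eq k _ (fun _ => hLi) hF hn, altSum_of_inverse (fun _ : Fin n => InvCl.mk L hL) _
    (fun _ => InvCl.mk_eq _ _ (AmpleLib.tensorComm L Linv ≪≫ e))
    (clDeg_chiCl k hF ((Topology.IsInducing.subtypeVal.topologicalKrullDim_le).trans hn)), interDeg_const]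

variable [IsIntegral X]

/-- A submodule `A → N` of invertible modules gives an effective class. -/
theorem effCl_of_mono {A N : X.Modules} (hA : PicF.IsInvertible A) (hN : PicF.IsInvertible N) (φ : A ⟶ N) [Mono φ]
    {a' : InvCl X} (ha' : InvCl.mk A hA * a' = 1) : EffCl (InvCl.mk N hN * a') := by
  have hP := isInvertible_repCl a'
  haveI : Mono (tensorMap φ (𝟙 (repCl a'))) := EulerLib.mono_tensorMap hP _
  obtain ⟨e⟩ := nonempty_iso_of_mk_eq (hL := isInvertible_structureModule (X := X))
    (hN := isInvertible_tensorMod hA hP)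
    (by rw [← InvCl.mk_mul hA hP, mk_repCl, ha']; rfl)
  have h := effCl_of_section (isInvertible_tensorMod hN hP)
    (s := (e.hom ≫ tensorMap φ (𝟙 (repCl a'))).app ⊤ (oneSec ⊤)) fun h0 => ?_
  · rwa [← InvCl.mk_mul hN hP, mk_repCl] at h
  · refine notMem_glocus_zero (Coh.structureModule X) (genericPoint X) ?_
    rw [← Coherent.app_injective_of_mono _ _ (h0.trans (map_zero _).symm)]
    exact glocus_oneSec.ge trivial

/-- An effective difference gives a submodule. -/
theorem exists_mono_of_effCl {A : X.Modules} (hA : PicF.IsInvertible A) {a' : InvCl X}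
    (ha' : InvCl.mk A hA * a' = 1) {N : X.Modules} (hN : PicF.IsInvertible N)
    (he : EffCl (InvCl.mk N hN * a')) : ∃ φ : A ⟶ N, Mono φ := by
  obtain ⟨s, hs⟩ := he
  have hr := isInvertible_repCl (InvCl.mk N hN * a')
  haveI := CurveRR24.mono_unitDesc hr hs
  haveI : Mono (tensorMap (unitDesc (repCl (InvCl.mk N hN * a')) s) (𝟙 A)) := EulerLib.mono_tensorMap hA _
  obtain ⟨e⟩ := nonempty_iso_of_mk_eq (hL := isInvertible_tensorMod hr hA) (hN := hN)
    (by rw [← InvCl.mk_mul hr hA, mk_repCl, mul_assoc, mul_comm a', ha', mul_one])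
  exact ⟨(unitTensorIso A).inv ≫ tensorMap (unitDesc (repCl (InvCl.mk N hN * a')) s) (𝟙 A) ≫ e.hom, inferInstance⟩

/-- A nef class with positive self intersection has sections growing like `m^d`. -/
theorem exists_growth_of_nef_pos {d : ℕ} (hd : topologicalKrullDim X = (d : WithBot ℕ∞))
    (hproj : ∃ H : X.Modules, CohB1.IsAmple H) {a : InvCl X} (ha : NefCl k a)
    (hpos : 0 < (dOp a ^ d) (chiCl k (Coh.structureModule X)) 1) :
    ∃ (c : ℚ) (N : ℕ), 0 < c ∧ ∀ m : ℕ, N ≤ m → c * (m : ℚ) ^ d ≤ (h0Cl k (a ^ m) : ℚ) := by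
  obtain ⟨H, hH, hH0⟩ := exists_ample_eff k hproj
  obtain ⟨h', hh'⟩ := exists_inv hH.1
  obtain ⟨m, hm, he⟩ := exists_effCl_of_nef_pos k hd hH hH0 hh' ha hpos
  exact exists_big_lower_of_eff k hd hH hH0 hh' hm he

/-- A nef class with sections growing like `m^d` has positive self intersection. -/
theorem pow_pos_of_growth {d : ℕ} (hd : topologicalKrullDim X = (d : WithBot ℕ∞))
    (hproj : ∃ H : X.Modules, CohB1.IsAmple H) {a : InvCl X} (ha : NefCl k a) {c : ℝ} (hc : 0 < c) {m₁ : ℕ}
    (hgr : ∀ m : ℕ, m₁ ≤ m → c * (m : ℝ) ^ d ≤ (h0Cl k (a ^ m) : ℝ)) :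
    0 < (dOp a ^ d) (chiCl k (Coh.structureModule X)) 1 := by
  obtain ⟨H, hH, hH0⟩ := exists_ample_eff k hproj
  obtain ⟨h', hh'⟩ := exists_inv hH.1
  obtain ⟨m, hm, he⟩ := exists_eff_sub_ample k hd hH hH0 hh' (ℓ := a) fun C => by
    obtain ⟨M, hM⟩ := exists_nat_gt ((C : ℝ) / c)
    refine ⟨max (max m₁ M) 1, le_max_right _ _, ?_⟩
    set m := max (max m₁ M) 1 with hmdef
    have h1 := hgr m (le_max_of_le_left (le_max_left _ _))
    have hm1 : (1 : ℝ) ≤ m := by exact_mod_cast le_max_right (max m₁ M) 1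
    have h2 : (C : ℝ) < c * m := by
      rw [div_lt_iff₀ hc] at hM
      have : (M : ℝ) ≤ m := by exact_mod_cast le_max_of_le_left (le_max_right m₁ M)
      nlinarith
    have h3 : (C : ℝ) * (m : ℝ) ^ d < (h0Cl k (a ^ m) : ℝ) * m :=
      lt_of_lt_of_le (mul_lt_mul_of_pos_right h2 (by positivity))
        ((le_of_eq (by ring)).trans (mul_le_mul_of_nonneg_right h1 (by positivity)))
    exact_mod_cast h3
  exact pow_pos_of_effCl k hd hH hh' ha he

end Groth.Agent.VarietyLib

end
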