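import Groth.Agent.VarietyLib.NefBig
import Groth.Agent.NumTriv23.Basic

/-!
# Growth of the sections of powers of a nef class with numerically trivial power
-/

set_option autoImplicit false
set_option linter.style.haveILetI false
set_option linter.unusedSectionVars false
set_option backward.isDefEq.respectTransparency.types false

universe u

open CategoryTheory CategoryTheory.Limits AlgebraicGeometry TopologicalSpace Opposite
open Groth.Agent.Coherent Groth.Agent.PicLib Groth.Agent.AmpleLib Groth.Agent.EulerLib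
open Groth.Agent.H0Growth23
open Groth.Agent.AssSch12 (clM clI)

noncomputable section

namespace Groth.Agent.VarietyLib

variable (k : Type u) [Field k] {X : Scheme.{u}} [X.Over (Spec (CommRingCat.of k))]
  [IsProper (X ↘ Spec (CommRingCat.of k))]

/-- Vanishing of `a^j` on `j`-dimensional points extends to modules. -/
theorem dOp_pow_eq_zero_of_points (a : InvCl X) (j : ℕ)
    (h : ∀ z : X, topologicalKrullDim (closure ({z} : Set X)) = (j : WithBot ℕ∞) →
      (dOp a ^ j) (chiCl k (clM z)) 1 = 0)
    {F : X.Modules} (hF : Coh.IsCoh F) (hd : topologicalKrullDim (CohB1.support F) ≤ (j : WithBot ℕ∞)) :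
    (dOp a ^ j) (chiCl k F) 1 = 0 := by
  classical
  haveI := isNoetherian_of_proper (X := X) k
  have hT := isClosed_support F (locallyFinGen_of_isFT F hF.2)
  let S := (finite_top_points hT hd).toFinset
  rw [eq_sum_mult (ψ := fun N => (dOp a ^ j) (chiCl k N) 1) (d := j)
    (fun {N N'} e => by rw [chiCl_congr k e])
    (fun T hT h₁ h₂ h₃ => by rw [chiCl_additive k T hT h₁ h₂ h₃, map_add, Pi.add_apply])
    (fun N hN hlt => by
      rw [← interDeg_const]
      exact interDeg_eq_zero _ (finDeg_chiCl k hN hlt))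
    hF hd S (fun z hz h => (Set.Finite.mem_toFinset _).2 ⟨hz, h⟩)
    (fun z hz => ((Set.Finite.mem_toFinset _).1 hz).2)]
  exact Finset.sum_eq_zero fun z hz => by rw [h z ((Set.Finite.mem_toFinset _).1 hz).2, smul_zero]

/-- Numerical triviality of a power propagates to all higher powers. -/
theorem dOp_pow_eq_zero_of_num {H : X.Modules} (hH : CohB1.IsAmple H) {a : InvCl X} (ha : NefCl k a) {m : ℕ}
    (hm : ∀ z : X, topologicalKrullDim (closure ({z} : Set X)) = (m : WithBot ℕ∞) →
      (dOp a ^ m) (chiCl k (clM z)) 1 = 0) :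
    ∀ j, m ≤ j → ∀ z : X, topologicalKrullDim (closure ({z} : Set X)) = (j : WithBot ℕ∞) →
      (dOp a ^ j) (chiCl k (clM z)) 1 = 0 := by
  haveI := isNoetherian_of_proper (X := X) k
  intro j hj
  induction j, hj using Nat.le_induction with
  | base => exact hm
  | succ j _ ih =>
    intro z hz
    have hcl : ClDeg (j + 2) (chiCl k (clM z)) :=
      clDeg_chiCl k (isCoh_clM z) (r := j + 1) ((dim_mono (support_clM_subset z)).trans hz.le)
    have cut : ∀ (B : X.Modules) (hB : CohB1.IsAmple B),
        (dOp a ^ j) (dOp (InvCl.mk B hB.1) (chiCl k (clM z))) 1 = 0 := by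
      intro B hB
      obtain ⟨hB1, -, hx⟩ := isAmple_iff_affGlocus.1 hB
      obtain ⟨e, he, b, hzb, -, -⟩ := hx z
      obtain ⟨Q, hQ, hQs, hfun⟩ := AbCubeLib.exists_cut k (y := z) (isInvertible_tensorPow hB1 e) b hzb
      have hlt : topologicalKrullDim (CohB1.support Q) < ((j + 1 : ℕ) : WithBot ℕ∞) :=
        dim_lt_of_notMem (isClosed_support Q (locallyFinGen_of_isFT Q hQ.2))
          (hQs.trans Set.inter_subset_left) isClosed_closure rfl (fun h => (hQs h).2 hzb) hz.le
      have h0 := dOp_pow_eq_zero_of_points k a j ih hQ (le_of_lt_natCast_succ hlt)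
      have hQe : dOp (InvCl.mk B hB.1 ^ e) (chiCl k (clM z)) = chiCl k Q := by
        rw [← hfun, dOp_apply, ← InvCl.mk_tensorPow hB1 e]
      have hpow := mono_dOp_pow a a (InvCl.mk B hB.1) 0 j (φ := chiCl k (clM z)) (by rwa [zero_add]) e
      rw [pow_zero, mul_one] at hpow
      rw [← hQe, hpow, Pi.smul_apply, smul_eq_mul] at h0
      exact (mul_eq_zero.1 h0).resolve_left (by exact_mod_cast he.ne')
    obtain ⟨B, hBi, hBe⟩ := InvCl.exists_rep (a ^ 1 * InvCl.mk H hH.1 ^ 1)
    have hB := isAmple_nef_mul_ample k hH ha 1 one_pos hBi hBe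
    have h1 := cut B hB
    rw [show InvCl.mk B hB.1 = a * InvCl.mk H hH.1 from hBe.trans (by rw [pow_one, pow_one])] at h1
    have hmul := mono_dOp_mul a a a (InvCl.mk H hH.1) 0 j (φ := chiCl k (clM z)) (by rwa [zero_add])
    rw [pow_zero, mul_one] at hmul
    rw [hmul, Pi.add_apply, cut H hH, add_zero, ← pow_apply_succ] at h1
    exact h1

/-- Sections of the twists of a module by powers of a nef class `a` with `a^m` numerically trivial grow at most
like `i^(m-1)`. -/
theorem exists_h0_bound_nef (hproj : ∃ A : X.Modules, CohB1.IsAmple A) {a : InvCl X} (ha : NefCl k a) {m : ℕ}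
    (hm : ∀ z : X, topologicalKrullDim (closure ({z} : Set X)) = ((m + 1 : ℕ) : WithBot ℕ∞) →
      (dOp a ^ (m + 1)) (chiCl k (clM z)) 1 = 0) {G : X.Modules} (hG : Coh.IsCoh G) :
    ∃ B : ℕ, ∀ i : ℕ, 1 ≤ i → hh k G 0 (a ^ i) ≤ B * i ^ m := by
  haveI := isNoetherian_of_proper (X := X) k
  haveI := isSeparated_of_proper (X := X) k
  let p := X ↘ Spec (CommRingCat.of k)
  obtain ⟨A, hA⟩ := hproj
  obtain ⟨N, -, hN⟩ := eventually_ample_and_generated hA (isInvertible_structureModule (X := X))
  set P := CohB1.tensorMod (CohB1.tensorPow A N) (Coh.structureModule X)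
  obtain ⟨hPa, hPgg⟩ := hN N le_rfl
  obtain ⟨b', hb'⟩ := exists_inv hPa.1
  suffices key : ∀ d : ℕ, ∀ G : X.Modules, Coh.IsCoh G →
      topologicalKrullDim (CohB1.support G) ≤ ((m + d : ℕ) : WithBot ℕ∞) →
        ∃ B : ℕ, ∀ i : ℕ, 1 ≤ i → hh k G 0 (a ^ i) ≤ B * i ^ m by
    obtain ⟨n, hn⟩ := EulerLib.exists_dim_le k (CohB1.support G)
    exact key n G hG (hn.trans (by exact_mod_cast Nat.le_add_left n m))
  intro d
  induction d with
  | zero =>
    intro G hG hdim
    obtain ⟨L, hL, rfl⟩ := InvCl.exists_rep a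
    obtain ⟨C, hC0, hC⟩ := exists_h0_bound k hA hL hG (d := m) hdim
    refine ⟨⌈C⌉₊, fun i hi => ?_⟩
    rw [← InvCl.mk_tensorPow hL, hh_mk]
    have h := (hC i hi).trans (mul_le_mul_of_nonneg_right (Nat.le_ceil C) (by positivity))
    exact_mod_cast h
  | succ d ih =>
    intro G hG hdim
    let K : X.Modules → Prop := fun M =>
      topologicalKrullDim (CohB1.support M) ≤ ((m + d + 1 : ℕ) : WithBot ℕ∞) →
        ∃ B : ℕ, ∀ i : ℕ, 1 ≤ i → hh k M 0 (a ^ i) ≤ B * i ^ m
    have hK : ExtClass K :=
      { iso := fun {M M'} e h hd => by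
          rw [support_eq_of_iso e.symm] at hd
          obtain ⟨B, hB⟩ := h hd
          exact ⟨B, fun c hc => le_of_eq_of_le
            (CurveRR24.finrank_HH_congr k (Coherent.tensorIso e.symm (Iso.refl _)) 0) (hB c hc)⟩
        zero := fun M hM _ => ⟨0, fun c _ => by
          haveI : Subsingleton (Coh.HH X (twCl M (a ^ c)) 0) := subsingleton_HH_of_isZero
            (isZero_of_support_eq_empty ((support_twist (isInvertible_repCl _) M).trans
              (Set.subset_empty_iff.1 (support_of_isZero hM ∅)))) 0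
          exact le_of_eq_of_le Module.finrank_zero_of_subsingleton (Nat.zero_le _)⟩
        ext := fun S hS h₁ h₂ h₃ u v hd => by
          haveI := hS.mono_f
          haveI := hS.epi_g
          obtain ⟨B₁, hB₁⟩ := u ((dim_mono (support_subset_of_mono S.f)).trans hd)
          obtain ⟨B₃, hB₃⟩ := v ((dim_mono (support_subset_of_epi S.g)).trans hd)
          exact ⟨B₁ + B₃, fun c hc => ((hh_triangle k hS h₁ h₂ h₃ 0 _).1).trans
            ((add_le_add (hB₁ c hc) (hB₃ c hc)).trans_eq (add_mul _ _ _).symm)⟩ }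
    refine mem_of_ideals hK Set.univ (fun y _ I ι hι hI hI0 => ?_) G hG (Set.subset_univ _) hdim
    intro hdM
    haveI := hι
    haveI := hI
    let i := (clI y).subschemeι
    haveI : (Coh.push i).IsRightAdjoint := (Scheme.Modules.pullbackPushforwardAdjunction i).isRightAdjoint
    let j : (Coh.push i).obj I ⟶ clM y := (Coh.push i).map ι
    haveI : Mono j := inferInstanceAs (Mono ((Coh.push i).map ι))
    haveI : Coh.IsQCoh ((Coh.push i).obj I) := isQCoh_push i I
    have hM : Coh.IsCoh ((Coh.push i).obj I) := isCoh_of_mono j (isCoh_clM y) inferInstance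
    have hyM : y ∈ CohB1.support ((Coh.push i).obj I) := by
      by_contra hy
      have h0 : (Coh.push i).map (𝟙 I) = (Coh.push i).map 0 := (isZero_of_mono_clM j hM hy).eq_of_src _ _
      exact hI0 ((IsZero.iff_id_eq_zero I).2 ((Coh.push i).map_injective h0))
    have hdy : topologicalKrullDim (closure {y} : Set X) ≤ ((m + d + 1 : ℕ) : WithBot ℕ∞) :=
      (dim_mono (closure_subset_support hM hyM)).trans hdM
    suffices hB : ∃ B : ℕ, ∀ c : ℕ, 1 ≤ c → hh k (clM y) 0 (a ^ c) ≤ B * c ^ m by
      obtain ⟨B, hB⟩ := hB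
      refine ⟨B, fun c hc => le_trans ?_ (hB c hc)⟩
      have h := (hh_triangle k (S := ShortComplex.mk j (cokernel.π j) (cokernel.condition j))
        { exact := ShortComplex.exact_cokernel j } hM (isCoh_clM y)
        (isCoh_cokernel j hM.1 (isCoh_clM y)) 0 (a ^ c)).2
      simpa using h
    have hG' := isCoh_clM y
    rcases hdy.lt_or_eq with hlt | heq
    · exact ih _ hG' ((dim_mono (support_clM_subset y)).trans (le_of_lt_natCast_succ hlt))
    obtain ⟨b, hyb⟩ := NumTriv23.exists_mem_glocus_of_gg hPa.1 hPgg y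
    let u := mulSec (clM y) b
    have hGP := isCoh_twist hPa.1 hG'
    haveI : Mono u := Preadditive.mono_of_isZero_kernel u
      (isZero_of_mono_clM (kernel.ι u) (isCoh_kernel u hG' hGP.1)
        fun h => (support_kernel_mulSec (clM y) b h).2 hyb)
    let Q := cokernel u
    have hQ : Coh.IsCoh Q := isCoh_cokernel u hG'.1 hGP
    have hQd : topologicalKrullDim (CohB1.support Q) ≤ ((m + d : ℕ) : WithBot ℕ∞) :=
      le_of_lt_natCast_succ ((dim_mono ((support_cokernel_mulSec hPa.1 (clM y) b).trans
          (Set.inter_subset_inter_left _ (support_clM_subset y)))).trans_lt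
        (dim_lt_of_notMem (isClosed_closure.inter (glocus P b).2.isClosed_compl) Set.inter_subset_left
          isClosed_closure rfl (fun h => h.2 hyb) heq.le))
    obtain ⟨B, hB⟩ := ih (twCl Q b') (isCoh_twCl k hQ b') (by
      show topologicalKrullDim (CohB1.support (CohB1.tensorMod Q (repCl b'))) ≤ _
      rwa [support_twist (isInvertible_repCl _)])
    refine ⟨B, fun c hc => ?_⟩
    have hS : (ShortComplex.mk u (cokernel.π u) (cokernel.condition u)).ShortExact :=
      { exact := ShortComplex.exact_cokernel u }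
    have h := (hh_triangle k hS hG' hGP hQ 0 (b' * a ^ c)).1
    dsimp only at h
    rw [hh_tensor k hPa.1, ← mul_assoc, hb', one_mul] at h
    have h2 := hB c hc
    rw [hh_tensor k (isInvertible_repCl b'), mk_repCl] at h2
    suffices h0 : hh k (clM y) 0 (b' * a ^ c) = 0 by
      simp only [Q] at h2
      omega
    -- the twisted structure module of the subvariety has no sections
    letI : (clI y).subscheme.Over (Spec (CommRingCat.of k)) := ⟨i ≫ p⟩
    haveI : IsProper ((clI y).subscheme ↘ Spec (CommRingCat.of k)) := inferInstanceAs (IsProper (i ≫ p))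
    haveI := isNoetherian_of_proper (X := (clI y).subscheme) k
    haveI := isSeparated_of_proper (X := (clI y).subscheme) k
    haveI : IsIntegral (clI y).subscheme := isIntegral_clI y
    let R := repCl (b' * a ^ c)
    have hR : PicF.IsInvertible R := isInvertible_repCl _
    have hRZ := PicLoc.isInvertible_pullback i hR
    have hAZ : CohB1.IsAmple ((Scheme.Modules.pullback i).obj P) := isAmple_pullback_of_isAffineHom i hPa
    have hdZ : topologicalKrullDim (clI y).subscheme = ((m + d + 1 : ℕ) : WithBot ℕ∞) := by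
      rw [i.isClosedEmbedding.isEmbedding.toHomeomorph.isHomeomorph.topologicalKrullDim_eq, ← heq]
      exact congrArg (fun S : Set X => topologicalKrullDim S) (range_clι y)
    have hzero : (dOp (pullHom i a) ^ (m + d + 1)) (chiCl k (Coh.structureModule (clI y).subscheme)) 1 = 0 := by
      rw [← interDeg_const, interDeg_pull k i rfl hdZ (fun _ : Fin (m + d + 1) => a), interDeg_const,
        clI_genericPoint y, dOp_pow_eq_zero_of_num k hA ha hm _ (by omega) y heq, mul_zero]
    have hsec : Module.finrank k (Coh.HH (clI y).subscheme ((Scheme.Modules.pullback i).obj R) 0) = 0 := by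
      rw [← h0Cl_mk k _ hRZ, ← pullHom_mk i hR]
      by_contra hne
      have he := effCl_of_h0_pos k hne
      rw [show InvCl.mk R hR = b' * a ^ c from mk_repCl _, map_mul, map_pow, mul_comm] at he
      have hpos := pow_pos_of_effCl k hdZ hAZ (h' := pullHom i b')
        (by rw [← pullHom_mk i hPa.1, ← map_mul, hb', map_one]) (ha.pullHom k i rfl) he
      omega
    haveI : Coh.IsQCoh ((Scheme.Modules.pullback i).obj R) :=
      (isCoh_iso (unitTensorIso _) (isCoh_twist hRZ (isCoh_structureModule _))).1
    have hLF : FlatMod.IsFinLocFree R := fun x =>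
      let ⟨U, hx, e'⟩ := isFinLocFreeOfRank_one hR x; ⟨U, 1, hx, e'⟩
    refine Eq.trans ?_ hsec
    rw [(SerreDual.hpush i k rfl ((Scheme.Modules.pullback i).obj R) 0).finrank_eq]
    exact CurveRR24.finrank_HH_congr k (AmpleLib.tensorComm _ _ ≪≫
      (projIso (f := i) hLF).app (Coh.structureModule _) ≪≫
      (Coh.push i).mapIso (AmpleLib.tensorComm _ _ ≪≫ AmpleLib.unitTensorIso _)) 0

end Groth.Agent.VarietyLib

end
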