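import Groth.Agent.VarietyLib.NefBig
import Groth.Agent.Surf15.Cones
import Groth.Agent.CurveRR24.Vanish

/-!
# The big cone
-/

set_option autoImplicit false
set_option linter.style.haveILetI false
set_option linter.unusedSectionVars false
set_option backward.isDefEq.respectTransparency.types false

universe u

open CategoryTheory CategoryTheory.Limits AlgebraicGeometry TopologicalSpace Opposite
open Groth.Agent.Coherent Groth.Agent.PicLib Groth.Agent.AmpleLib Groth.Agent.EulerLib
open Groth.Agent.H0Growth23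
open Groth.Agent.Surf15 (cR cR_mk cR_mul cR_one cR_pow cR_inv isOpen_ampleCone ample_mem)

noncomputable section

namespace Groth.Agent.VarietyLib

variable (k : Type u) [Field k] {X : Scheme.{u}} [X.Over (Spec (CommRingCat.of k))]
  [IsProper (X ↘ Spec (CommRingCat.of k))] [IsIntegral X]

theorem hasSection_iff_effCl {L : X.Modules} (hL : PicF.IsInvertible L) :
    NumR.HasSection L ↔ EffCl (InvCl.mk L hL) := by
  constructor
  · rintro ⟨φ, hφ⟩
    refine effCl_of_section hL (s := φ.app ⊤ (oneSec ⊤)) fun h => hφ ?_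
    refine CurveRR24.hom_ext_one _ _ fun V => ?_
    rw [app_unit, app_unit, one_smul, one_smul, ← resM_unitVal φ (le_top : V ≤ ⊤),
      ← resM_unitVal (0 : Coh.structureModule X ⟶ L) (le_top : V ≤ ⊤)]
    exact congrArg (resM L le_top) (h.trans (by rfl))
  · rintro ⟨s, hs⟩
    obtain ⟨e⟩ := nonempty_iso_repCl L hL
    haveI := CurveRR24.mono_unitDesc (isInvertible_repCl (InvCl.mk L hL)) hs
    refine ⟨unitDesc _ s ≫ e.hom, fun h => hs ?_⟩
    have h1 : unitDesc (repCl (InvCl.mk L hL)) s = 0 := by rw [← cancel_mono e.hom, h, zero_comp]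
    have h2 := CurveRR24.unitDesc_app (repCl (InvCl.mk L hL)) s ⊤ 1
    rw [h1, one_smul, resM_self] at h2
    exact h2.symm

/-- Bigness: every ample module maps into a positive power. -/
abbrev IsBigMod (L : X.Modules) : Prop :=
  ∀ A : X.Modules, CohB1.IsAmple A → ∃ (m : ℕ) (φ : A ⟶ CohB1.tensorPow L m), 0 < m ∧ Mono φ

theorem isBigMod_iff {L : X.Modules} (hL : PicF.IsInvertible L) :
    IsBigMod L ↔ ∀ (A : X.Modules) (hA : CohB1.IsAmple A) (a' : InvCl X), InvCl.mk A hA.1 * a' = 1 →
      ∃ m : ℕ, 0 < m ∧ EffCl (InvCl.mk L hL ^ m * a') := by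
  constructor
  · intro h A hA a' ha'
    obtain ⟨m, φ, hm, hφ⟩ := h A hA
    refine ⟨m, hm, ?_⟩
    rw [← InvCl.mk_tensorPow hL]
    exact effCl_of_mono hA.1 (isInvertible_tensorPow hL m) φ ha'
  · intro h A hA
    obtain ⟨a', ha'⟩ := exists_inv hA.1
    obtain ⟨m, hm, he⟩ := h A hA a' ha'
    rw [← InvCl.mk_tensorPow hL] at he
    obtain ⟨φ, hφ⟩ := exists_mono_of_effCl hA.1 ha' (isInvertible_tensorPow hL m) he
    exact ⟨m, φ, hm, hφ⟩

include k in
/-- Large powers of an ample class absorb any class. -/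
theorem exists_effCl_pow_mul {A : X.Modules} (hA : CohB1.IsAmple A) (c : InvCl X) :
    ∃ N : ℕ, 0 < N ∧ ∀ n, N ≤ n → EffCl (InvCl.mk A hA.1 ^ n * c) := by
  haveI := isNoetherian_of_proper (X := X) k
  haveI := isSeparated_of_proper (X := X) k
  obtain ⟨N, hN0, hN⟩ := eventually_ample_and_generated hA (isInvertible_repCl c)
  refine ⟨N, hN0, fun n hn => ?_⟩
  have h := effCl_of_gg (isInvertible_tensorMod (isInvertible_tensorPow hA.1 n) (isInvertible_repCl c)) (hN n hn).2
  rwa [← InvCl.mk_mul (isInvertible_tensorPow hA.1 n) (isInvertible_repCl c), InvCl.mk_tensorPow hA.1,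
    mk_repCl] at h

include k in
/-- An ample class plus an effective one is big. -/
theorem isBigMod_of_ample_mul_eff {A : X.Modules} (hA : CohB1.IsAmple A) {e : InvCl X} (he : EffCl e) {L : X.Modules}
    (hL : PicF.IsInvertible L) (h : InvCl.mk L hL = InvCl.mk A hA.1 * e) : IsBigMod L := by
  rw [isBigMod_iff hL]
  intro A' hA' a' _
  obtain ⟨N, hN0, hN⟩ := exists_effCl_pow_mul k hA a'
  refine ⟨N, hN0, ?_⟩
  rw [h, mul_pow, mul_right_comm]
  exact (hN N le_rfl).mul (he.pow N)

variable [PicGrp.Law X]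

/-- The big cone. -/
abbrev bigCone : ConvexCone ℝ (NumR.N1R k X) :=
  NumR.coneOf k X (fun L : X.Modules =>
    ∀ A : X.Modules, CohB1.IsAmple A → ∃ (m : ℕ) (φ : A ⟶ CohB1.tensorPow L m), 0 < m ∧ Mono φ)

theorem mem_effCone {e : InvCl X} (he : EffCl e) : cR k e ∈ NumR.effCone k X := by
  obtain ⟨L, hL, rfl⟩ := InvCl.exists_rep e
  exact ConvexCone.subset_hull ⟨L, hL, (hasSection_iff_effCl hL).2 he, cR_mk k hL⟩

theorem zero_mem_effCone : (0 : NumR.N1R k X) ∈ NumR.effCone k X := by
  rw [← cR_one k (X := X)]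
  exact mem_effCone k effCl_one

theorem ampleCone_le_effCone : (NumR.ampleCone k X : Set (NumR.N1R k X)) ⊆ NumR.effCone k X := by
  intro x hx
  refine ConvexCone.hull_min ?_ hx
  rintro _ ⟨A, hA', hA, rfl⟩
  obtain ⟨N, hN0, hN⟩ := exists_effCl_pow_mul k hA (1 : InvCl X)
  have h := mem_effCone k (hN N le_rfl)
  rw [mul_one, cR_pow, cR_mk] at h
  have h' := (NumR.effCone k X).smul_mem (inv_pos.2 (Nat.cast_pos.2 hN0 : (0 : ℝ) < N)) h
  rwa [smul_smul, inv_mul_cancel₀ (by exact_mod_cast hN0.ne' : (N : ℝ) ≠ 0), one_smul] at h'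

theorem mem_big_of_ample_mul_eff {A : X.Modules} (hA : CohB1.IsAmple A) {e : InvCl X} (he : EffCl e) :
    NumR.clR k X A hA.1 + cR k e ∈ (bigCone k (X := X)) := by
  obtain ⟨L, hL, hLe⟩ := InvCl.exists_rep (InvCl.mk A hA.1 * e)
  rw [← cR_mk k hA.1, ← cR_mul, ← hLe, cR_mk]
  exact ConvexCone.subset_hull ⟨L, hL, isBigMod_of_ample_mul_eff k hA he hL hLe, rfl⟩

/-- The classes `e` with `c [A] + e` big for all ample `A` and all `c > 0`. -/
theorem ample_smul_add_mem_big {e : NumR.N1R k X} (he : e ∈ NumR.effCone k X) :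
    ∀ (A : X.Modules) (hA : CohB1.IsAmple A) (c : ℝ), 0 < c → c • NumR.clR k X A hA.1 + e ∈ (bigCone k (X := X)) := by
  let S : ConvexCone ℝ (NumR.N1R k X) :=
    { carrier := {e | ∀ (A : X.Modules) (hA : CohB1.IsAmple A) (c : ℝ), 0 < c → c • NumR.clR k X A hA.1 + e ∈ (bigCone k (X := X))}
      smul_mem' := fun r hr y hy A hA c hc => by
        have h := ((bigCone k (X := X))).smul_mem hr (hy A hA (c / r) (div_pos hc hr))
        rwa [smul_add, smul_smul, mul_div_cancel₀ _ hr.ne'] at h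
      add_mem' := fun y hy z hz A hA c hc => by
        have h := ((bigCone k (X := X))).add_mem (hy A hA (c / 2) (half_pos hc)) (hz A hA (c / 2) (half_pos hc))
        rwa [add_add_add_comm, ← add_smul, add_halves] at h }
  refine ConvexCone.hull_min (C := S) ?_ he
  rintro _ ⟨E, hE, hsec, rfl⟩ A hA c hc
  obtain ⟨N, hN⟩ := exists_nat_gt (1 / c)
  have hN0 : (0 : ℝ) < N := (one_div_pos.2 hc).trans hN
  have hA1 := mem_big_of_ample_mul_eff k hA ((hasSection_iff_effCl hE).1 hsec |>.pow N)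
  have hA2 := mem_big_of_ample_mul_eff k hA effCl_one
  rw [cR_pow, cR_mk] at hA1
  rw [cR_one, add_zero] at hA2
  have hpos : 0 < c - 1 / N := by
    have := (one_div_lt hc hN0).1 hN
    linarith
  have h := ((bigCone k (X := X))).add_mem (((bigCone k (X := X))).smul_mem (one_div_pos.2 hN0) hA1) (((bigCone k (X := X))).smul_mem hpos hA2)
  convert h using 1
  rw [smul_add, smul_smul, one_div_mul_cancel hN0.ne', one_smul, add_right_comm, ← add_smul, add_sub_cancel]

theorem add_mem_big {a e : NumR.N1R k X} (ha : a ∈ NumR.ampleCone k X) (he : e ∈ NumR.effCone k X) :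
    a + e ∈ (bigCone k (X := X)) := by
  let T : ConvexCone ℝ (NumR.N1R k X) :=
    { carrier := {a | ∀ e ∈ NumR.effCone k X, a + e ∈ (bigCone k (X := X))}
      smul_mem' := fun r hr y hy e he => by
        have h := ((bigCone k (X := X))).smul_mem hr (hy _ ((NumR.effCone k X).smul_mem (inv_pos.2 hr) he))
        rwa [smul_add, smul_smul, mul_inv_cancel₀ hr.ne', one_smul] at h
      add_mem' := fun y hy z hz e he => by
        have h := ((bigCone k (X := X))).add_mem (hy e he) (hz 0 (zero_mem_effCone k))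
        rwa [add_zero, add_right_comm] at h }
  refine ConvexCone.hull_min (C := T) ?_ ha e he
  rintro _ ⟨A, hA', hA, rfl⟩ e he
  have h := ample_smul_add_mem_big k he A hA 1 one_pos
  rwa [one_smul] at h

/-- The big cone is the sum of the ample and the effective cone. -/
theorem mem_big_iff (hproj : ∃ H : X.Modules, CohB1.IsAmple H) (x : NumR.N1R k X) :
    x ∈ (bigCone k (X := X)) ↔ ∃ a ∈ NumR.ampleCone k X, x - a ∈ NumR.effCone k X := by
  obtain ⟨H, hH⟩ := hproj
  refine ⟨fun hx => ?_, fun ⟨a, ha, he⟩ => by simpa using add_mem_big k ha he⟩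
  let U : ConvexCone ℝ (NumR.N1R k X) :=
    { carrier := {x | ∃ a ∈ NumR.ampleCone k X, x - a ∈ NumR.effCone k X}
      smul_mem' := fun r hr y ⟨a, ha, he⟩ => ⟨r • a, (NumR.ampleCone k X).smul_mem hr ha, by
        rw [← smul_sub]; exact (NumR.effCone k X).smul_mem hr he⟩
      add_mem' := fun y ⟨a, ha, he⟩ z ⟨b, hb, hf⟩ => ⟨a + b, (NumR.ampleCone k X).add_mem ha hb, by
        rw [add_sub_add_comm]; exact (NumR.effCone k X).add_mem he hf⟩ }
  refine ConvexCone.hull_min (C := U) ?_ hx
  rintro _ ⟨L, hL, hbig, rfl⟩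
  obtain ⟨a', ha'⟩ := exists_inv hH.1
  obtain ⟨m, hm, he⟩ := (isBigMod_iff hL).1 hbig H hH a' ha'
  have hm' : (0 : ℝ) < (m : ℝ)⁻¹ := inv_pos.2 (Nat.cast_pos.2 hm)
  refine ⟨(m : ℝ)⁻¹ • NumR.clR k X H hH.1, (NumR.ampleCone k X).smul_mem hm' (ConvexCone.subset_hull ⟨H, hH.1, hH, rfl⟩), ?_⟩
  have h := (NumR.effCone k X).smul_mem hm' (mem_effCone k he)
  rwa [cR_mul, cR_pow, cR_inv k ha', cR_mk, cR_mk, ← sub_eq_add_neg, smul_sub, smul_smul,
    inv_mul_cancel₀ (Nat.cast_ne_zero.2 hm.ne'), one_smul] at h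

/-- The big cone is the interior of the pseudo-effective cone, which is its closure. -/
theorem big_eq_interior_and_psef_eq_closure [Module.Finite ℝ (NumR.N1R k X)]
    (hproj : ∃ H : X.Modules, CohB1.IsAmple H) :
    (((bigCone k (X := X))) : Set (NumR.N1R k X)) = interior (NumR.psefCone k X) ∧
      NumR.psefCone k X = closure (((bigCone k (X := X))) : Set (NumR.N1R k X)) := by
  obtain ⟨H, hH⟩ := hproj
  set p := NumR.clR k X H hH.1
  have hp : p ∈ NumR.ampleCone k X := ample_mem k hH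
  have hopen : IsOpen (((bigCone k (X := X))) : Set (NumR.N1R k X)) := by
    have : (((bigCone k (X := X))) : Set (NumR.N1R k X)) = ⋃ e ∈ (NumR.effCone k X : Set (NumR.N1R k X)),
        (fun x : NumR.N1R k X => x + -e) ⁻¹' (NumR.ampleCone k X : Set (NumR.N1R k X)) := by
      ext x
      simp only [Set.mem_iUnion, Set.mem_preimage, SetLike.mem_coe, exists_prop]
      rw [mem_big_iff k ⟨H, hH⟩]
      exact ⟨fun ⟨a, ha, he⟩ => ⟨x - a, he, by simpa using ha⟩,
        fun ⟨e, he, ha⟩ => ⟨x + -e, ha, by simpa using he⟩⟩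
    rw [this]
    exact isOpen_biUnion fun e _ => (isOpen_ampleCone k).preimage (continuous_id.add continuous_const)
  have hsub : (((bigCone k (X := X))) : Set (NumR.N1R k X)) ⊆ NumR.psefCone k X := fun x hx => by
    obtain ⟨a, ha, he⟩ := (mem_big_iff k ⟨H, hH⟩ x).1 hx
    refine subset_closure ?_
    have h := (NumR.effCone k X).add_mem (ampleCone_le_effCone k ha) he
    rwa [add_sub_cancel] at h
  have hline : ∀ x : NumR.N1R k X, Continuous fun t : ℝ => x + t • p := fun x =>
    by fun_prop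
  refine ⟨Set.Subset.antisymm (interior_maximal hsub hopen) fun x hx => ?_,
    Set.Subset.antisymm ?_ (closure_minimal hsub isClosed_closure)⟩
  · -- an interior point leaves room for an ample class
    have hev : ∀ᶠ t in nhds (0 : ℝ), x + t • p ∈ interior (NumR.psefCone k X) :=
      (hline x).continuousAt.eventually (isOpen_interior.mem_nhds (by simpa using hx))
    obtain ⟨ε, hε, hball⟩ := Metric.eventually_nhds_iff.1 hev
    have hε2 : (0 : ℝ) < ε / 2 := half_pos hε
    have hy : x + (-(ε / 2)) • p ∈ NumR.psefCone k X :=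
      interior_subset (hball (by rw [Real.dist_eq, sub_zero, abs_neg, abs_of_pos hε2]; linarith))
    obtain ⟨y, hy', he⟩ := mem_closure_iff.1 hy
      ((fun y : NumR.N1R k X => x + (-1 : ℝ) • y) ⁻¹' (NumR.ampleCone k X : Set (NumR.N1R k X)))
      ((isOpen_ampleCone k).preimage (continuous_const.add (continuous_const_smul _))) (by
        show x + (-1 : ℝ) • (x + (-(ε / 2)) • p) ∈ NumR.ampleCone k X
        rw [show x + (-1 : ℝ) • (x + (-(ε / 2)) • p) = (ε / 2) • p by module]
        exact (NumR.ampleCone k X).smul_mem hε2 hp)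
    exact (mem_big_iff k ⟨H, hH⟩ x).2 ⟨x + (-1 : ℝ) • y, hy', by
      rw [show x - (x + (-1 : ℝ) • y) = y by module]; exact he⟩
  · refine closure_minimal (fun e he => ?_) isClosed_closure
    refine mem_closure_of_tendsto (f := fun t : ℝ => e + t • p) (b := nhdsWithin (0 : ℝ) (Set.Ioi 0)) ?_
      (eventually_nhdsWithin_of_forall fun t ht => ?_)
    · have h := ((hline e).tendsto 0).mono_left (nhdsWithin_le_nhds (s := Set.Ioi (0 : ℝ)))
      rwa [zero_smul, add_zero] at h
    · rw [add_comm]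
      exact add_mem_big k ((NumR.ampleCone k X).smul_mem ht hp) he

end Groth.Agent.VarietyLib

end
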