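import Groth.Agent.VarietyLib.CompletionDimOne
import Groth.Agent.CurveLib.ProjLine
import Groth.Agent.MorProj.QuasiAff

/-!
# One-dimensional schemes without proper components are affine
-/

set_option autoImplicit false
set_option linter.style.haveILetI false
set_option backward.isDefEq.respectTransparency.types false

universe u

open CategoryTheory CategoryTheory.Limits AlgebraicGeometry TopologicalSpace
open Groth.Agent.PicLib Groth.Agent.AmpleLib

namespace Groth.Agent.VarietyLib

variable (k : Type u) [Field k]

/-- A separated scheme of finite type and dimension at most one with no complete curve component is affine. -/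
theorem isAffine_of_no_proper_component {X : Scheme.{u}} (f : X ⟶ Spec (CommRingCat.of k)) [IsSeparated f]
    [LocallyOfFiniteType f] [QuasiCompact f] (hdim : topologicalKrullDim X ≤ 1)
    (h : ∀ C : Closeds X, (C : Set X) ∈ irreducibleComponents X → topologicalKrullDim (C : Set X) = 1 →
      ¬ IsProper ((Scheme.IdealSheafData.vanishingIdeal C).subschemeι ≫ f)) :
    IsAffine X := by
  obtain ⟨d, Y, c, j, hc, hj, hjc, hd, -, -, hdimY, -⟩ := exists_projective_completion k f hdim
  haveI := hc; haveI := hj
  haveI : IsProper (CohB1.ProjSpace.toSpec d k) := CurveLib.isProper_projSpace k d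
  let p := c ≫ CohB1.ProjSpace.toSpec d k
  haveI : IsProper p := inferInstanceAs (IsProper (c ≫ CohB1.ProjSpace.toSpec d k))
  letI : Y.Over (Spec (CommRingCat.of k)) := ⟨p⟩
  haveI : IsProper (Y ↘ Spec (CommRingCat.of k)) := inferInstanceAs (IsProper p)
  haveI := QuasiCompact.compactSpace_of_compactSpace p
  haveI : IsLocallyNoetherian Y := LocallyOfFiniteType.isLocallyNoetherian p
  haveI : IsNoetherian Y := {}
  have hmem : ∀ η : Y, (∀ z, z ⤳ η → η = z) → η ∈ Set.range j := by
    intro η hmax
    refine Rat20Lib.mem_of_dense (fun x => ⟨Set.univ, isOpen_univ, trivial,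
      NoetherianSpace.finite_irreducibleComponents.subset fun Z hZ => hZ.1⟩) j.isOpenEmbedding.isOpen_range hd ?_
    obtain ⟨θ, hθ⟩ := QuasiSober.sober (S := irreducibleComponent η)
      isIrreducible_irreducibleComponent isClosed_irreducibleComponent
    have e : η = θ := hmax θ (hθ.specializes mem_irreducibleComponent)
    rw [e, hθ.def]
    exact irreducibleComponent_mem_irreducibleComponents η
  have hgen : ∀ y : Y, y ∉ j.opensRange → ∃ z, z ⤳ y ∧ z ≠ y := fun y hy => by
    obtain ⟨η, hη, hmax⟩ := DimLib.exists_maximal_specializes y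
    exact ⟨η, hη, fun e => hy (e ▸ hmem η hmax)⟩
  obtain ⟨L, s, hL, hs⟩ := exists_section_glocus_eq hdimY j.opensRange hgen
  have hamp : CohB1.IsAmple L := by
    refine (isAmple_iff_deg_pos_components k hdimY hL).2 fun Z hZ h1 => ?_
    let I := Scheme.IdealSheafData.vanishingIdeal Z
    letI : I.subscheme.Over (Spec (CommRingCat.of k)) := ⟨I.subschemeι ≫ p⟩
    haveI : IsProper (I.subscheme ↘ Spec (CommRingCat.of k)) :=
      inferInstanceAs (IsProper (I.subschemeι ≫ p))
    haveI : IsIntegral I.subscheme := isIntegral_vanishingIdeal Z hZ.1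
    have hrg : Set.range I.subschemeι = (Z : Set Y) := by
      rw [Scheme.IdealSheafData.range_subschemeι, Scheme.IdealSheafData.coe_support_vanishingIdeal]
    have hη := hZ.1.isGenericPoint_genericPoint Z.2
    have hηj : hZ.1.genericPoint ∈ Set.range j := hmem _ fun z hz => by
      have hsub : (Z : Set Y) ⊆ closure {z} := by
        rw [← hη.def]; exact specializes_iff_closure_subset.1 hz
      have heq : (Z : Set Y) = closure {z} := le_antisymm hsub (hZ.2 isIrreducible_singleton.closure hsub)
      exact hη.eq (isGenericPoint_def.2 heq.symm)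
    obtain ⟨z, hzZ, hzj⟩ : ∃ z ∈ (Z : Set Y), z ∉ Set.range j := by
      by_contra hno
      push Not at hno
      have hC : j ⁻¹' (Z : Set Y) ∈ irreducibleComponents X :=
        preimage_mem_irreducibleComponents hZ j.isOpenEmbedding ⟨_, hη.mem, hηj⟩
      let C : Closeds X := ⟨j ⁻¹' (Z : Set Y), Z.2.preimage j.continuous⟩
      let J := Scheme.IdealSheafData.vanishingIdeal C
      have hrgC : Set.range J.subschemeι = j ⁻¹' (Z : Set Y) := by
        rw [Scheme.IdealSheafData.range_subschemeι, Scheme.IdealSheafData.coe_support_vanishingIdeal]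
        rfl
      have himg : j '' (j ⁻¹' (Z : Set Y)) = (Z : Set Y) := Set.image_preimage_eq_of_subset fun y hy => hno y hy
      have hdimC : topologicalKrullDim (C : Set X) = 1 := by
        rw [← h1]
        show topologicalKrullDim (j ⁻¹' (Z : Set Y)) = _
        conv_rhs => rw [← himg]
        exact (j.isOpenEmbedding.isEmbedding.homeomorphImage _).isHomeomorph.topologicalKrullDim_eq
      refine h C hC hdimC ?_
      haveI : IsClosedImmersion (J.subschemeι ≫ j) := by
        refine .of_isPreimmersion _ ?_
        have e : Set.range (J.subschemeι ≫ j) = (Z : Set Y) := by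
          show Set.range (⇑j ∘ ⇑J.subschemeι) = _
          rw [Set.range_comp, hrgC, himg]
        exact e ▸ Z.2
      rw [show f = j ≫ p from hjc.symm, ← Category.assoc]
      infer_instance
    obtain ⟨a, ha⟩ := hrg.superset hη.mem
    obtain ⟨b, hb⟩ := hrg.superset hzZ
    have hloc := glocus_pullSec (σ := I.subschemeι) hL s
    refine deg_pos_of_section k ((topologicalKrullDim_vanishingIdeal Z).trans h1).le
      (PicLoc.isInvertible_pullback _ hL) (pullSec I.subschemeι s) (a := a) (b := b) ?_ ?_
    · rw [hloc]
      show I.subschemeι a ∈ glocus L s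
      rw [hs, ha]
      exact hηj
    · rw [hloc]
      show ¬ I.subschemeι b ∈ glocus L s
      rw [hs, hb]
      exact hzj
  haveI : IsAffine j.opensRange := hs ▸ MorProj.isAffineOpen_glocus_of_universallyClosed p hamp s
  exact .of_isIso j.isoOpensRange.hom

end Groth.Agent.VarietyLib
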