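import Groth.Agent.VarietyLib.DimOne

/-! Gluing one-dimensional semilocal subrings of a field with pairwise generating property. -/

set_option autoImplicit false
universe u

noncomputable section

namespace Groth.Agent.VarietyLib.DimOne

open IsLocalRing CategoryTheory AlgebraicGeometry

variable {K : Type u} [Field K]

/-- An element invertible in `A i` and in the Jacobson radicals of finitely many rings generating
the field together with `A`. -/
theorem exists_unit_jacobson (A : Subring K) [IsFractionRing A K] [IsNoetherianRing A]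
    (hdimA : ringKrullDim A = 1) (hslA : Finite (MaximalSpectrum A)) {ι : Type*} [Finite ι]
    (B : ι → Subring K) [∀ i, IsNoetherianRing (B i)] [∀ i, IsFractionRing (B i) K]
    (hdim : ∀ i, ringKrullDim (B i) = 1) (hsl : ∀ i, Finite (MaximalSpectrum (B i)))
    (hgen : ∀ i, A ⊔ B i = ⊤) :
    ∃ t : K, (∃ h : t ∈ A, IsUnit (⟨t, h⟩ : A)) ∧
      ∀ i, ∃ h : t ∈ B i, (⟨t, h⟩ : B i) ∈ (⊥ : Ideal (B i)).jacobson := by
  obtain ⟨a, haA, ha0, ha⟩ := exists_inv_mem_jacobson A B hdim hsl hgen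
  obtain ⟨d, hd0, hd⟩ := exists_ne_zero_inJac A hdimA hslA
  have hd0 : (d : K) ≠ 0 := fun h => hd0 (Subtype.ext h)
  choose hai haj using ha
  have hJ : ∀ i, InJac (B i) a⁻¹ := fun i => inJac_of_mem_jacobson (B i) (hdim i) ⟨_, hai i⟩ (haj i)
  choose N hN using fun i => exists_pow_mem (B i) (hdim i) (hJ i) (d : K)⁻¹
  have : Fintype ι := Fintype.ofFinite _
  let n := (∑ i, N i) + 1
  let w : A := 1 + ⟨a, haA⟩ ^ n * d
  have hw : IsUnit w := by
    have := Ideal.mem_jacobson_bot.1 hd (⟨a, haA⟩ ^ n)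
    convert this using 1
    simp only [w]; ring
  obtain ⟨v, hv⟩ := isUnit_iff_exists_inv.1 hw
  have hvK : (1 + a ^ n * (d : K)) * (v : K) = 1 := congrArg Subtype.val hv
  refine ⟨v, ⟨v.2, isUnit_iff_exists_inv.2 ⟨w, by rw [mul_comm]; exact hv⟩⟩, fun i => ?_⟩
  have hle : N i ≤ ∑ j, N j := Finset.single_le_sum (fun j _ => Nat.zero_le (N j)) (Finset.mem_univ i)
  have he : a⁻¹ ^ n * (d : K)⁻¹ = a⁻¹ * (a⁻¹ ^ (∑ j, N j) * (d : K)⁻¹) := by
    simp only [n]; ring
  let e : B i := ⟨a⁻¹, hai i⟩ * ⟨_, hN i _ hle⟩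
  have he1 : (e : K) = a⁻¹ ^ n * (d : K)⁻¹ := he.symm
  have hej : e ∈ (⊥ : Ideal (B i)).jacobson := Ideal.mul_mem_right _ _ (haj i)
  have hu : IsUnit (1 + e) := by
    have := Ideal.mem_jacobson_bot.1 hej 1
    rwa [mul_one, add_comm] at this
  obtain ⟨q, hq⟩ := isUnit_iff_exists_inv.1 hu
  have hqK : (1 + (e : K)) * (q : K) = 1 := congrArg Subtype.val hq
  have hx : a ^ n * (d : K) ≠ 0 := mul_ne_zero (pow_ne_zero _ ha0) hd0
  have hxe : a ^ n * (d : K) * (e : K) = 1 := by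
    rw [he1, inv_pow]; field_simp
  have hveq : (v : K) = ((e * q : B i) : K) := by
    rw [Subring.coe_mul]
    linear_combination (e : K) * (q : K) * hvK - (v : K) * hqK - (v : K) * (q : K) * hxe
  refine ⟨hveq ▸ (e * q).2, ?_⟩
  have : (⟨(v : K), hveq ▸ (e * q).2⟩ : B i) = e * q := Subtype.ext hveq
  rw [this]
  exact Ideal.mul_mem_right _ _ hej

theorem isLocalizationAway_of_exists_pow (R A : Subring K) (hRA : R ≤ A) (t : R)
    (hu : IsUnit (Subring.inclusion hRA t)) (h : ∀ a : A, ∃ n : ℕ, (t : K) ^ n * (a : K) ∈ R) :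
    letI := (Subring.inclusion hRA).toAlgebra
    IsLocalization.Away t A := by
  letI := (Subring.inclusion hRA).toAlgebra
  refine IsLocalization.Away.mk t hu (fun a => ?_) fun a b hab => ⟨0, ?_⟩
  · obtain ⟨n, hn⟩ := h a
    exact ⟨n, ⟨_, hn⟩, Subtype.ext (mul_comm _ _)⟩
  · have hab : (a : K) = b := congrArg (Subtype.val (p := (· ∈ A))) hab
    simp only [pow_zero, one_mul]
    exact Subtype.ext hab

theorem spec_inclusion_openImmersion (R A : Subring K) (hRA : R ≤ A) (t : R)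
    (hu : IsUnit (Subring.inclusion hRA t)) (h : ∀ a : A, ∃ n : ℕ, (t : K) ^ n * (a : K) ∈ R) :
    IsOpenImmersion (Spec.map (CommRingCat.ofHom (Subring.inclusion hRA))) ∧
      Set.range (Spec.map (CommRingCat.ofHom (Subring.inclusion hRA))).base =
        {p : PrimeSpectrum R | t ∉ p.asIdeal} := by
  letI := (Subring.inclusion hRA).toAlgebra
  have := isLocalizationAway_of_exists_pow R A hRA t hu h
  refine ⟨IsOpenImmersion.of_isLocalization (S := A) t, ?_⟩
  exact PrimeSpectrum.localization_away_comap_range A t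

variable (ι : Type*) [Finite ι] (A : ι → Subring K) [∀ i, IsNoetherianRing (A i)]
  [∀ i, IsFractionRing (A i) K]

structure GlueData where
  t : ι → K
  mem : ∀ i j, t i ∈ A j
  unit : ∀ i, IsUnit (⟨t i, mem i i⟩ : A i)
  jac : ∀ i j, i ≠ j → (⟨t i, mem i j⟩ : A j) ∈ (⊥ : Ideal (A j)).jacobson

theorem exists_glueData (hdim : ∀ i, ringKrullDim (A i) = 1)
    (hsl : ∀ i, Finite (MaximalSpectrum (A i))) (hgen : ∀ i j, i ≠ j → A i ⊔ A j = ⊤) :
    Nonempty (GlueData ι A) := by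
  classical
  have := fun i => exists_unit_jacobson (A i) (hdim i) (hsl i)
    (fun j : {j // j ≠ i} => A j.1) (fun j => hdim j.1) (fun j => hsl j.1)
    (fun j => hgen i j.1 j.2.symm)
  choose t h1 h2 using this
  choose hm hu using h1
  choose hm2 hj using h2
  refine ⟨⟨t, fun i j => ?_, fun i => hu i, fun i j h => hj i ⟨j, h.symm⟩⟩⟩
  by_cases h : j = i
  · exact h ▸ hm i
  · exact hm2 i ⟨j, h⟩

variable {ι A}

namespace GlueData

variable (g : GlueData ι A) {R : Subring K} (hle : ∀ i, R ≤ A i)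
  (hmem : ∀ z : K, (∀ i, z ∈ A i) → z ∈ R)
include g hle hmem

omit [Finite ι] [∀ i, IsNoetherianRing (A i)] [∀ i, IsFractionRing (A i) K] hle in
theorem t_mem (i : ι) : g.t i ∈ R := hmem _ fun j => g.mem i j

theorem exists_pow (hdim : ∀ i, ringKrullDim (A i) = 1) (i : ι) (a : A i) :
    ∃ n : ℕ, g.t i ^ n * (a : K) ∈ R := by
  have : ∀ j, ∃ N : ℕ, ∀ n ≥ N, g.t i ^ n * (a : K) ∈ A j := by
    intro j
    by_cases h : i = j
    · subst h
      exact ⟨0, fun n _ => (A i).mul_mem ((A i).pow_mem (g.mem i i) n) a.2⟩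
    · exact exists_pow_mem (A j) (hdim j) (inJac_of_mem_jacobson (A j) (hdim j) _ (g.jac i j h)) a
  choose N hN using this
  have : Fintype ι := Fintype.ofFinite _
  exact ⟨∑ j, N j, hmem _ fun j =>
    hN j _ (Finset.single_le_sum (fun l _ => Nat.zero_le (N l)) (Finset.mem_univ j))⟩

theorem openImmersion (hdim : ∀ i, ringKrullDim (A i) = 1) (i : ι) :
    IsOpenImmersion (Spec.map (CommRingCat.ofHom (Subring.inclusion (hle i)))) ∧
      Set.range (Spec.map (CommRingCat.ofHom (Subring.inclusion (hle i)))).base =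
        {p : PrimeSpectrum R | (⟨g.t i, g.t_mem hmem i⟩ : R) ∉ p.asIdeal} :=
  spec_inclusion_openImmersion R (A i) (hle i) ⟨g.t i, g.t_mem hmem i⟩ (g.unit i)
    (g.exists_pow hle hmem hdim i)

theorem span_eq_top [Nonempty ι] : Ideal.span (Set.range fun i => (⟨g.t i, g.t_mem hmem i⟩ : R)) = ⊤ := by
  classical
  have : Fintype ι := Fintype.ofFinite _
  have hs : ∀ i, ∑ j, (⟨g.t j, g.mem j i⟩ : A i) ∈ {x : A i | IsUnit x} := by
    intro i
    obtain ⟨v, hv⟩ := isUnit_iff_exists_inv.1 (g.unit i)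
    change IsUnit _
    rw [← Finset.add_sum_erase _ _ (Finset.mem_univ i)]
    have hJ : ∑ j ∈ Finset.univ.erase i, (⟨g.t j, g.mem j i⟩ : A i) ∈ (⊥ : Ideal (A i)).jacobson :=
      Ideal.sum_mem _ fun j hj => g.jac j i (Finset.ne_of_mem_erase hj)
    set J := ∑ j ∈ Finset.univ.erase i, (⟨g.t j, g.mem j i⟩ : A i)
    have h1 := Ideal.mem_jacobson_bot.1 hJ v
    have : (⟨g.t i, g.mem i i⟩ : A i) + J = ⟨g.t i, g.mem i i⟩ * (J * v + 1) := by
      linear_combination (-J) * hv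
    rw [this]
    exact (g.unit i).mul h1
  choose u hu using fun i => isUnit_iff_exists_inv.1 (hs i)
  obtain ⟨i₀⟩ := ‹Nonempty ι›
  have hmul : ∀ i, (∑ j, g.t j) * (u i : K) = 1 := fun i => by
    simpa using congrArg (Subring.subtype (A i)) (hu i)
  have hne : (∑ j, g.t j) ≠ 0 := fun h0 => by
    simpa [h0] using hmul i₀
  have hR : (∑ j, g.t j)⁻¹ ∈ R := hmem _ fun i => by
    rw [inv_eq_of_mul_eq_one_right (hmul i)]; exact (u i).2
  refine Ideal.eq_top_of_isUnit_mem _ (Ideal.sum_mem _ (t := Finset.univ)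
    (f := fun j => (⟨g.t j, g.t_mem hmem j⟩ : R)) fun j _ => Ideal.subset_span ⟨j, rfl⟩) ?_
  refine isUnit_iff_exists_inv.2 ⟨⟨_, hR⟩, Subtype.ext ?_⟩
  simp only [Subring.coe_mul, Subring.coe_one, AddSubmonoidClass.coe_finset_sum]
  exact mul_inv_cancel₀ hne

theorem range_union [Nonempty ι] (hdim : ∀ i, ringKrullDim (A i) = 1) :
    (⋃ i, Set.range (Spec.map (CommRingCat.ofHom (Subring.inclusion (hle i)))).base) = Set.univ := by
  refine Set.eq_univ_of_forall fun p => Set.mem_iUnion.2 ?_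
  by_contra h
  push Not at h
  apply (p : PrimeSpectrum R).isPrime.ne_top
  rw [eq_top_iff, ← g.span_eq_top hle hmem, Ideal.span_le]
  rintro _ ⟨i, rfl⟩
  have hi := h i
  rw [(g.openImmersion hle hmem hdim i).2] at hi
  exact not_not.1 hi

theorem isFractionRing [Nonempty ι] (hdim : ∀ i, ringKrullDim (A i) = 1) :
    IsFractionRing R K := by
  obtain ⟨i⟩ := ‹Nonempty ι›
  refine IsFractionRing.of_field R K fun z => ?_
  obtain ⟨a, b, hb, hz⟩ := exists_div (A i) z
  obtain ⟨m, hm⟩ := g.exists_pow hle hmem hdim i a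
  obtain ⟨n, hn⟩ := g.exists_pow hle hmem hdim i b
  have ht : g.t i ≠ 0 := fun h0 => (g.unit i).ne_zero (Subtype.ext h0)
  have hti := R.pow_mem (g.t_mem hmem i)
  refine ⟨⟨_, R.mul_mem (hti n) hm⟩, ⟨_, R.mul_mem (hti m) hn⟩, ?_⟩
  change z = g.t i ^ n * (g.t i ^ m * (a : K)) / (g.t i ^ m * (g.t i ^ n * (b : K)))
  have hb : (b : K) ≠ 0 := fun h => hb (Subtype.ext h)
  rw [hz]; field_simp

theorem isNoetherianRing [Nonempty ι] (hdim : ∀ i, ringKrullDim (A i) = 1) : IsNoetherianRing R := by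
  classical
  refine (isNoetherianRing_iff_ideal_fg _).2 fun I => ?_
  have : Fintype ι := Fintype.ofFinite _
  have hfg : ∀ i, ∃ s : Finset R, (s : Set R) ⊆ I ∧
      I.map (Subring.inclusion (hle i)) = (Ideal.span (s : Set R)).map (Subring.inclusion (hle i)) := by
    intro i
    obtain ⟨s, hs, he⟩ := (Submodule.fg_span_iff_fg_span_finset_subset
      ((Subring.inclusion (hle i)) '' (I : Set R))).1 ((isNoetherianRing_iff_ideal_fg (A i)).1 inferInstance _)
    obtain ⟨s', hs', rfl⟩ := Finset.subset_set_image_iff.1 hs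
    refine ⟨s', hs', ?_⟩
    rw [Ideal.map_span, Ideal.map]
    rw [Finset.coe_image] at he
    exact he
  choose s hs he using hfg
  refine ⟨Finset.univ.biUnion s, le_antisymm (Submodule.span_le.2 ?_) fun x hx => ?_⟩
  · intro v hv
    obtain ⟨i, -, hi⟩ := Finset.mem_biUnion.1 hv
    exact hs i hi
  refine Submodule.mem_of_span_eq_top_of_smul_pow_mem _ _ (g.span_eq_top hle hmem) x ?_
  rintro ⟨_, i, rfl⟩
  letI := (Subring.inclusion (hle i)).toAlgebra
  have := isLocalizationAway_of_exists_pow R (A i) (hle i) ⟨g.t i, g.t_mem hmem i⟩ (g.unit i)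
    (g.exists_pow hle hmem hdim i)
  have hxm : algebraMap R (A i) x ∈ I.map (algebraMap R (A i)) := Ideal.mem_map_of_mem _ hx
  rw [show I.map (algebraMap R (A i)) = _ from he i] at hxm
  obtain ⟨m, ⟨n, hn⟩, hm⟩ := (IsLocalization.algebraMap_mem_map_algebraMap_iff
    (Submonoid.powers (⟨g.t i, g.t_mem hmem i⟩ : R)) (A i) _ x).1 hxm
  refine ⟨n, ?_⟩
  rw [smul_eq_mul]
  replace hn : (⟨g.t i, g.t_mem hmem i⟩ : R) ^ n = m := hn
  change (⟨g.t i, g.t_mem hmem i⟩ : R) ^ n * x ∈ _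
  rw [hn]
  exact Ideal.span_mono (fun v hv => Finset.mem_biUnion.2 ⟨i, Finset.mem_univ _, hv⟩) hm

theorem ringKrullDim_eq [Nonempty ι] (hdim : ∀ i, ringKrullDim (A i) = 1) : ringKrullDim R = 1 := by
  have hmax : ∀ p : PrimeSpectrum R, p.asIdeal ≠ ⊥ → p.asIdeal.IsMaximal := by
    intro p hp
    by_contra hm
    obtain ⟨M, hM, hpM⟩ := p.asIdeal.exists_le_maximal p.isPrime.ne_top
    have : ∃ i, (⟨g.t i, g.t_mem hmem i⟩ : R) ∉ M := by
      by_contra h
      push Not at h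
      apply hM.ne_top
      rw [eq_top_iff, ← g.span_eq_top hle hmem, Ideal.span_le]
      rintro _ ⟨i, rfl⟩; exact h i
    obtain ⟨i, hi⟩ := this
    letI := (Subring.inclusion (hle i)).toAlgebra
    have := isLocalizationAway_of_exists_pow R (A i) (hle i) ⟨g.t i, g.t_mem hmem i⟩ (g.unit i)
      (g.exists_pow hle hmem hdim i)
    have hdis : ∀ q : Ideal R, q.IsPrime → q ≤ M →
        Disjoint (Submonoid.powers (⟨g.t i, g.t_mem hmem i⟩ : R) : Set R) q := by
      intro q hq hqM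
      rw [Ideal.disjoint_powers_iff_notMem _ hq.isRadical]
      exact fun h => hi (hqM h)
    have hne : (p.asIdeal.map (algebraMap R (A i))) ≠ ⊥ := by
      have hinj : Function.Injective (algebraMap R (A i)) := Subring.inclusion_injective (hle i)
      rw [Ne, Ideal.map_eq_bot_iff_of_injective hinj]
      exact hp
    have := dimLEOne (A i) (hdim i)
    have hP := IsLocalization.isPrime_of_isPrime_disjoint (Submonoid.powers
      (⟨g.t i, g.t_mem hmem i⟩ : R)) (A i) p.asIdeal p.isPrime (hdis _ p.isPrime hpM)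
    have hPmax := Ring.DimensionLEOne.maximalOfPrime hne hP
    have hQ := IsLocalization.isPrime_of_isPrime_disjoint (Submonoid.powers
      (⟨g.t i, g.t_mem hmem i⟩ : R)) (A i) M hM.isPrime (hdis _ hM.isPrime le_rfl)
    have he := hPmax.eq_of_le hQ.ne_top (Ideal.map_mono hpM)
    have := congrArg (Ideal.under R) he
    rw [IsLocalization.under_map_of_isPrime_disjoint (Submonoid.powers
      (⟨g.t i, g.t_mem hmem i⟩ : R)) (A i) p.isPrime (hdis _ p.isPrime hpM),
      IsLocalization.under_map_of_isPrime_disjoint (Submonoid.powers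
      (⟨g.t i, g.t_mem hmem i⟩ : R)) (A i) hM.isPrime (hdis _ hM.isPrime le_rfl)] at this
    exact hm (this ▸ hM)
  have := g.isFractionRing hle hmem hdim
  have hle1 : ringKrullDim R ≤ 1 := by
    have : Ring.KrullDimLE 1 R := Ring.KrullDimLE.mk₁' fun P h hP => hmax ⟨P, hP⟩ h
    exact Ring.krullDimLE_iff.1 this
  refine le_antisymm hle1 ?_
  have hnf : ¬ IsField R := fun h => by
    obtain ⟨i⟩ := ‹Nonempty ι›
    have hR := eq_top_of_isField R R le_rfl h
    refine not_isField (A i) (hdim i) ?_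
    have : A i = ⊤ := top_le_iff.1 (hR.ge.trans (hle i))
    refine ⟨⟨0, 1, zero_ne_one⟩, mul_comm, fun {a} ha => ?_⟩
    exact ⟨⟨(a : K)⁻¹, (SetLike.ext_iff.1 this _).2 (Subring.mem_top _)⟩,
      Subtype.ext (mul_inv_cancel₀ fun h => ha (Subtype.ext h))⟩
  obtain ⟨M, hM⟩ := Ideal.exists_maximal R
  have hM0 : M ≠ ⊥ := fun h => hnf (Ring.isField_iff_maximal_bot.2 (h ▸ hM))
  exact Order.one_le_krullDim_iff.2 ⟨⊥, ⟨M, hM.isPrime⟩, bot_lt_iff_ne_bot.2
    fun h => hM0 (congrArg PrimeSpectrum.asIdeal h)⟩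

theorem mem_closed_point (hdim : ∀ i, ringKrullDim (A i) = 1) (m : PrimeSpectrum R)
    (hm : m.asIdeal.IsMaximal) (i j : ι) (hij : i ≠ j)
    (hi : (⟨g.t i, g.t_mem hmem i⟩ : R) ∉ m.asIdeal) :
    (⟨g.t j, g.t_mem hmem j⟩ : R) ∈ m.asIdeal := by
  letI := (Subring.inclusion (hle i)).toAlgebra
  have := isLocalizationAway_of_exists_pow R (A i) (hle i) ⟨g.t i, g.t_mem hmem i⟩ (g.unit i)
    (g.exists_pow hle hmem hdim i)
  have hdis : Disjoint (Submonoid.powers (⟨g.t i, g.t_mem hmem i⟩ : R) : Set R) m.asIdeal := by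
    rw [Ideal.disjoint_powers_iff_notMem _ m.isPrime.isRadical]; exact hi
  have hne : m.asIdeal.map (algebraMap R (A i)) ≠ ⊤ :=
    (IsLocalization.isPrime_of_isPrime_disjoint (Submonoid.powers
      (⟨g.t i, g.t_mem hmem i⟩ : R)) (A i) m.asIdeal m.isPrime hdis).ne_top
  obtain ⟨P, hP, hmP⟩ := Ideal.exists_le_maximal _ hne
  have hc : P.comap (algebraMap R (A i)) = m.asIdeal :=
    (hm.eq_of_le (Ideal.comap_ne_top _ hP.ne_top) (Ideal.le_comap_of_map_le hmP)).symm
  rw [← hc]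
  exact (Ideal.mem_sInf.1 (g.jac j i hij.symm)) ⟨bot_le, hP⟩

theorem finite_maximalSpectrum (hdim : ∀ i, ringKrullDim (A i) = 1)
    (hsl : ∀ i, Finite (MaximalSpectrum (A i))) [Nonempty ι] : Finite (MaximalSpectrum R) := by
  have hex : ∀ m : MaximalSpectrum R, ∃ x : Σ i, MaximalSpectrum (A i),
      x.2.asIdeal.comap (Subring.inclusion (hle x.1)) = m.asIdeal := by
    intro m
    have hm := (g.range_union hle hmem hdim).ge (Set.mem_univ (m.toPrimeSpectrum))
    obtain ⟨i, P, hP⟩ := Set.mem_iUnion.1 hm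
    obtain ⟨M, hM, hPM⟩ := (P : PrimeSpectrum (A i)).asIdeal.exists_le_maximal P.isPrime.ne_top
    refine ⟨⟨i, M, hM⟩, (m.isMaximal.eq_of_le (Ideal.comap_ne_top _ hM.ne_top) ?_).symm⟩
    exact (congrArg PrimeSpectrum.asIdeal hP).ge.trans (Ideal.comap_mono hPM)
  choose x hx using hex
  exact Finite.of_injective x fun m n h => MaximalSpectrum.ext (by rw [← hx m, ← hx n, h])

end GlueData

end Groth.Agent.VarietyLib.DimOne
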