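import Groth.Agent.VarietyLib.HilbStratumLocal
import Groth.Agent.H8Lim.IdealDescent

/-!
# Gluing the strata of a Hilbert polynomial; arbitrary bases
-/

set_option autoImplicit false
set_option maxHeartbeats 2000000
set_option linter.style.haveILetI false
set_option backward.isDefEq.respectTransparency.types false

universe u

open CategoryTheory CategoryTheory.Limits AlgebraicGeometry Opposite
open Groth.Agent Groth.Agent.Coherent Groth.Agent.EulerLib Groth.Agent.AmpleLib

namespace Groth.Agent.VarietyLib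

variable {X S : Scheme.{u}}

/-- Over every affine piece of the base the stratum exists. -/
def LocalStrata (f : X ⟶ S) (L F : X.Modules) (Φ : Polynomial ℚ) : Prop :=
  ∀ (R : CommRingCat.{u}) (j : Spec R ⟶ S), IsOpenImmersion j →
    ∃ (W : Scheme.{u}) (e : W ⟶ Spec R), IsImmersion e ∧ LocallyOfFinitePresentation e ∧ CompactSpace W ∧
      Set.range e = j ⁻¹' hilbLocus f L F Φ ∧
      ∀ (T : Scheme.{u}) (g : T ⟶ Spec R), HilbFlat f L F Φ (g ≫ j) ↔ ∃ h : T ⟶ W, h ≫ e = g

theorem exists_ideal_of_closed {f : X ⟶ S} {L F : X.Modules} {Φ : Polynomial ℚ}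
    (hloc : LocalStrata f L F Φ) (hcl : IsClosed (hilbLocus f L F Φ)) (U : S.affineOpens) :
    ∃ I : Ideal Γ(S, U.1), I.FG ∧ ∀ (B : CommRingCat.{u}) (φ : Γ(S, U.1) ⟶ B),
      HilbFlat f L F Φ (Spec.map φ ≫ U.2.fromSpec) ↔ I ≤ RingHom.ker φ.hom := by
  obtain ⟨W, e, he, hfp, -, hrange, huniv⟩ := hloc _ U.2.fromSpec inferInstance
  haveI := he; haveI := hfp
  haveI : IsClosedImmersion e :=
    IsClosedImmersion.of_isPreimmersion e (hrange ▸ hcl.preimage U.2.fromSpec.continuous)
  obtain ⟨I, ε, rfl⟩ := IsClosedImmersion.Spec_iff.1 ‹IsClosedImmersion e›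
  refine ⟨I, ?_, fun B φ => ?_⟩
  · haveI : LocallyOfFinitePresentation (Spec.map (CommRingCat.ofHom (Ideal.Quotient.mk I))) :=
      (MorphismProperty.cancel_left_of_respectsIso @LocallyOfFinitePresentation ε.hom _).1 hfp
    have h : (Ideal.Quotient.mk I).FinitePresentation :=
      (HasRingHomProperty.Spec_iff (P := @LocallyOfFinitePresentation)).1 ‹_›
    letI := (Ideal.Quotient.mk I).toAlgebra
    haveI : Algebra.FinitePresentation Γ(S, U.1) (Γ(S, U.1) ⧸ I) := h
    have h2 := Algebra.FinitePresentation.ker_fG_of_surjective (Algebra.ofId Γ(S, U.1) (Γ(S, U.1) ⧸ I))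
      Ideal.Quotient.mk_surjective
    convert h2
    exact Ideal.mk_ker.symm
  · rw [huniv _ (Spec.map φ)]
    constructor
    · rintro ⟨h, hh⟩ a ha
      have h1 : φ = CommRingCat.ofHom (Ideal.Quotient.mk I) ≫ Spec.preimage (h ≫ ε.hom) :=
        Spec.map_injective (by rw [Spec.map_comp, Spec.map_preimage, Category.assoc]; exact hh.symm)
      rw [RingHom.mem_ker, h1]
      show (Spec.preimage (h ≫ ε.hom)).hom (Ideal.Quotient.mk I a) = 0
      rw [Ideal.Quotient.eq_zero_iff_mem.2 ha, map_zero]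
    · intro hI
      refine ⟨Spec.map (CommRingCat.ofHom (Ideal.Quotient.lift I φ.hom fun a ha => hI ha)) ≫ ε.inv, ?_⟩
      rw [Category.assoc, Iso.inv_hom_id_assoc, ← Spec.map_comp]
      rfl

/-- The stratum when the locus is closed. -/
theorem exists_stratum_of_closed (f : X ⟶ S) {L F : X.Modules} [Coh.IsQCoh F] {Φ : Polynomial ℚ}
    (hloc : LocalStrata f L F Φ) (hcl : IsClosed (hilbLocus f L F Φ)) :
    ∃ (W : Scheme.{u}) (e : W ⟶ S), IsClosedImmersion e ∧ LocallyOfFinitePresentation e ∧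
      Set.range e = hilbLocus f L F Φ ∧
      ∀ (T : Scheme.{u}) (g : T ⟶ S), HilbFlat f L F Φ g ↔ ∃ h : T ⟶ W, h ≫ e = g := by
  classical
  choose I hfg hI using exists_ideal_of_closed hloc hcl
  let J : S.IdealSheafData :=
    { ideal := I
      map_ideal_basicOpen := fun U a => by
        let ρ : Γ(S, U.1) ⟶ Γ(S, (S.affineBasicOpen a).1) :=
          S.presheaf.map (homOfLE (show (S.affineBasicOpen a).1 ≤ U.1 from S.basicOpen_le a)).op
        have hρ : Spec.map ρ ≫ U.2.fromSpec = (S.affineBasicOpen a).2.fromSpec :=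
          U.2.map_fromSpec (S.affineBasicOpen a).2 _
        have key : ∀ (B : CommRingCat.{u}) (φ : Γ(S, (S.affineBasicOpen a).1) ⟶ B),
            (I U).map ρ.hom ≤ RingHom.ker φ.hom ↔ I (S.affineBasicOpen a) ≤ RingHom.ker φ.hom := by
          intro B φ
          rw [← hI (S.affineBasicOpen a) B φ, Ideal.map_le_iff_le_comap, RingHom.comap_ker,
            ← CommRingCat.hom_comp, ← hI U B (ρ ≫ φ), Spec.map_comp, Category.assoc, hρ]
        have h1 := (key (CommRingCat.of (_ ⧸ I (S.affineBasicOpen a)))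
          (CommRingCat.ofHom (Ideal.Quotient.mk _))).2 (by rw [CommRingCat.hom_ofHom, Ideal.mk_ker])
        have h2 := (key (CommRingCat.of (_ ⧸ (I U).map ρ.hom))
          (CommRingCat.ofHom (Ideal.Quotient.mk _))).1 (by rw [CommRingCat.hom_ofHom, Ideal.mk_ker])
        rw [CommRingCat.hom_ofHom, Ideal.mk_ker] at h1 h2
        exact le_antisymm h1 h2 }
  have hfac : ∀ (T : Scheme.{u}) (g : T ⟶ S), HilbFlat f L F Φ g → ∃ h, h ≫ J.subschemeι = g := by
    intro T g hg
    have hle : J ≤ g.ker := by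
      rw [Scheme.Hom.ker, Scheme.IdealSheafData.le_ofIdeals_iff]
      intro U a ha
      rw [RingHom.mem_ker]
      refine TopCat.Presheaf.section_ext (T.sheaf) (g ⁻¹ᵁ U.1) _ _ fun t ht => ?_
      obtain ⟨T', hT', htT', hle'⟩ := exists_isAffineOpen_mem_and_subset (x := t) (U := g ⁻¹ᵁ U.1) ht
      have h0 : (g.appLE U.1 T' hle').hom a = 0 := by
        refine (hI U Γ(T, T') (g.appLE U.1 T' hle')).1 ?_ ha
        rw [IsAffineOpen.SpecMap_appLE_fromSpec g U.2 hT' hle']
        exact hg.comp hT'.fromSpec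
      refine Eq.trans ?_ (map_zero _).symm
      show T.presheaf.germ (g ⁻¹ᵁ U.1) t ht (g.app U.1 a) = 0
      rw [← T.presheaf.germ_res_apply (homOfLE hle') t htT' (g.app U.1 a)]
      have : T.presheaf.map (homOfLE hle').op (g.app U.1 a) = 0 := h0
      exact (congrArg (T.presheaf.germ T' t htT').hom this).trans (map_zero _)
    exact ⟨IsClosedImmersion.lift J.subschemeι g (by rwa [Scheme.IdealSheafData.ker_subschemeι]),
      IsClosedImmersion.lift_fac _ _ _⟩
  have hι : HilbFlat f L F Φ J.subschemeι := by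
    have key : ∀ w : J.subscheme, ∃ (R : CommRingCat.{u}) (o : Spec R ⟶ J.subscheme), IsOpenImmersion o ∧
        w ∈ Set.range o ∧ HilbFlat f L F Φ (o ≫ J.subschemeι) := by
      intro w
      obtain ⟨U, hU, hwU, -⟩ := exists_isAffineOpen_mem_and_subset (x := J.subschemeι w) (U := ⊤) trivial
      obtain ⟨T', hT', hwT', hle'⟩ :=
        exists_isAffineOpen_mem_and_subset (x := w) (U := J.subschemeι ⁻¹ᵁ U) hwU
      refine ⟨Γ(J.subscheme, T'), hT'.fromSpec, inferInstance, by rw [hT'.range_fromSpec]; exact hwT', ?_⟩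
      rw [← IsAffineOpen.SpecMap_appLE_fromSpec J.subschemeι hU hT' hle']
      refine (hI ⟨U, hU⟩ _ _).2 fun a ha => ?_
      have h1 : a ∈ RingHom.ker (J.subschemeι.app U).hom := by
        rw [J.ker_subschemeι_app ⟨U, hU⟩]; exact ha
      rw [RingHom.mem_ker] at h1 ⊢
      show (J.subscheme.presheaf.map (homOfLE hle').op) (J.subschemeι.app U a) = 0
      rw [h1, map_zero]
    choose R o ho hwo hflat using key
    exact hilbFlat_of_openCover
      (Scheme.Cover.mkOfCovers J.subscheme (fun w => Spec (R w)) o (fun w => ⟨w, hwo w⟩) ho) fun w => hflat w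
  refine ⟨J.subscheme, J.subschemeι, inferInstance,
    H8Lim.locallyOfFinitePresentation_of_ker_fg _ fun U => by
      rw [Scheme.IdealSheafData.ker_subschemeι]; exact hfg U, ?_, fun T g => ⟨hfac T g, ?_⟩⟩
  · refine Set.Subset.antisymm (Set.range_subset_iff.2 hι.2) fun s hs => ?_
    obtain ⟨h, hh⟩ := hfac _ (S.fromSpecResidueField s) ⟨Coherent.CohBC.isFlatOver_field (S.residueField s) _ _,
      fun t => by rw [Scheme.fromSpecResidueField_apply]; exact hs⟩
    exact ⟨h (IsLocalRing.closedPoint _), by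
      rw [← Scheme.Hom.comp_apply, hh, Scheme.fromSpecResidueField_apply]⟩
  · rintro ⟨h, rfl⟩
    exact hι.comp h

/-- The stratum from the local strata. -/
theorem exists_stratum_of_local (f : X ⟶ S) [IsProper f] [LocallyOfFinitePresentation f] {L F : X.Modules}
    (hL : RelAmple.IsRelAmple f L) (hF : CohB1.IsFP F) {Φ : Polynomial ℚ} (hloc : LocalStrata f L F Φ) :
    ∃ (W : Scheme.{u}) (e : W ⟶ S), IsImmersion e ∧ QuasiCompact e ∧ LocallyOfFinitePresentation e ∧
      Set.range e = hilbLocus f L F Φ ∧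
      ∀ (T : Scheme.{u}) (g : T ⟶ S), HilbFlat f L F Φ g ↔ ∃ h : T ⟶ W, h ≫ e = g := by
  have hLi := isInvertible_of_isRelAmple _ hL
  have hlc := isLocallyClosed_hilbLocus f hL hF Φ
  let V : S.Opens := ⟨coborder (hilbLocus f L F Φ), hlc.isOpen_coborder⟩
  let u := pullback.snd f V.ι
  let q := pullback.fst f V.ι
  have H : IsPullback q u f V.ι := IsPullback.of_hasPullback f V.ι
  let L' := (Scheme.Modules.pullback q).obj L
  let F' := (Scheme.Modules.pullback q).obj F
  haveI : Coh.IsQCoh F := qcoh_of_isFP hF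
  haveI : Coh.IsQCoh F' := EGA43.InjFibre.isQCoh_pullback q F
  have hiff := fun {T : Scheme.{u}} (g : T ⟶ V.toScheme) =>
    hilbFlat_iff_of_isPullback hLi hF Φ H (Iso.refl L') (Iso.refl F') g
  have hlocus : hilbLocus u L' F' Φ = V.ι ⁻¹' hilbLocus f L F Φ :=
    hilbLocus_of_isPullback hLi hF Φ H (Iso.refl _) (Iso.refl _)
  have hloc' : LocalStrata u L' F' Φ := by
    intro R j hj
    obtain ⟨W, e, h1, h2, h3, h4, h5⟩ := hloc R (j ≫ V.ι) inferInstance
    refine ⟨W, e, h1, h2, h3, by rw [h4, hlocus]; rfl, fun T g => ?_⟩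
    rw [hiff (g ≫ j), Category.assoc]
    exact h5 T g
  have hcl : IsClosed (hilbLocus u L' F' Φ) := by
    rw [hlocus]; exact isClosed_preimage_val_coborder
  obtain ⟨W, e, _, _, hrange, huniv⟩ := exists_stratum_of_closed u hloc' hcl
  have her : Set.range (e ≫ V.ι) = hilbLocus f L F Φ := by
    rw [Scheme.Hom.comp_base, TopCat.coe_comp, Set.range_comp, hrange, hlocus]
    refine Set.image_preimage_eq_of_subset ?_
    rw [Scheme.Opens.range_ι]
    exact subset_coborder
  refine ⟨W, e ≫ V.ι, inferInstance, ?_, inferInstance, her, fun T g => ⟨fun hg => ?_, ?_⟩⟩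
  · rw [quasiCompact_iff_forall_isAffineOpen]
    intro U hU
    obtain ⟨W₁, e₁, -, -, _, h4, -⟩ := hloc _ hU.fromSpec inferInstance
    refine ((e ≫ V.ι).isEmbedding.isInducing.isCompact_iff).2 ?_
    have himg : (e ≫ V.ι) '' ((e ≫ V.ι) ⁻¹ᵁ U : Set W) = hU.fromSpec '' Set.range e₁ := by
      rw [h4, Set.image_preimage_eq_inter_range, hU.range_fromSpec]
      show (e ≫ V.ι) '' ((e ≫ V.ι) ⁻¹' (U : Set S)) = _
      rw [Set.image_preimage_eq_inter_range, her, Set.inter_comm]
    rw [himg]
    exact (isCompact_range e₁.continuous).image hU.fromSpec.continuous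
  · have hr : Set.range g ⊆ Set.range V.ι := by
      rw [Scheme.Opens.range_ι]
      rintro _ ⟨t, rfl⟩
      exact subset_coborder (hg.2 t)
    obtain ⟨h, hh⟩ := (huniv T (IsOpenImmersion.lift V.ι g hr)).1 (by
      rw [hiff, IsOpenImmersion.lift_fac]; exact hg)
    exact ⟨h, by rw [← Category.assoc, hh, IsOpenImmersion.lift_fac]⟩
  · rintro ⟨h, rfl⟩
    rw [← Category.assoc, ← hiff]
    exact (huniv T (h ≫ e)).2 ⟨h, rfl⟩

/-- Local strata over a locally Noetherian base. -/
theorem localStrata_noetherian (f : X ⟶ S) [IsProper f] [IsLocallyNoetherian S] {L F : X.Modules}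
    (hL : RelAmple.IsRelAmple f L) (hF : Coh.IsCoh F) (Φ : Polynomial ℚ) : LocalStrata f L F Φ := by
  haveI : LocallyOfFinitePresentation f :=
    LocallyOfFinitePresentation.iff_locallyOfFiniteType.2 inferInstance
  haveI : IsLocallyNoetherian X := LocallyOfFiniteType.isLocallyNoetherian f
  intro R j hj
  haveI := hj
  haveI : IsLocallyNoetherian (Spec R) := isLocallyNoetherian_of_isOpenImmersion j
  haveI : IsNoetherian (Spec R) := ⟨⟩
  haveI : IsProper (pullback.snd f j) := MorphismProperty.pullback_snd (P := @IsProper) _ _ inferInstance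
  haveI : IsLocallyNoetherian (pullback f j : Scheme.{u}) :=
    LocallyOfFiniteType.isLocallyNoetherian (pullback.snd f j)
  have hLi := isInvertible_of_isRelAmple _ hL
  have hFP : CohB1.IsFP F := (isCoh_iff_isFP F).1 hF
  obtain ⟨W, e, he, hrange, huniv⟩ := exists_stratum_affine (pullback.snd f j) (isRelAmple_baseChange f j hL)
    ((isCoh_iff_isFP _).2 (Desc19b.ModStFib.isFP_pullback (pullback.fst f j) F hFP)) Φ
  haveI := he
  haveI : LocallyOfFinitePresentation e :=
    LocallyOfFinitePresentation.iff_locallyOfFiniteType.2 inferInstance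
  haveI : TopologicalSpace.NoetherianSpace W := e.isEmbedding.isInducing.noetherianSpace
  refine ⟨W, e, he, inferInstance, inferInstance, ?_, fun T g => ?_⟩
  · rw [hrange]
    exact hilbLocus_of_isPullback hLi hFP Φ (IsPullback.of_hasPullback f j) (Iso.refl _) (Iso.refl _)
  · rw [← huniv]
    exact (hilbFlat_iff_of_isPullback hLi hFP Φ (IsPullback.of_hasPullback f j) (Iso.refl _) (Iso.refl _) g).symm

/-- Local strata over any base, by Noetherian models. -/
theorem localStrata_of_isFP (f : X ⟶ S) [IsProper f] [LocallyOfFinitePresentation f] {L F : X.Modules}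
    (hL : RelAmple.IsRelAmple f L) (hF : CohB1.IsFP F) (Φ : Polynomial ℚ) : LocalStrata f L F Φ := by
  have hLi := isInvertible_of_isRelAmple _ hL
  intro R j hj
  let u := pullback.snd f j
  let p := pullback.fst f j
  haveI : IsProper u := MorphismProperty.pullback_snd (P := @IsProper) _ _ inferInstance
  haveI : LocallyOfFinitePresentation u :=
    MorphismProperty.pullback_snd (P := @LocallyOfFinitePresentation) _ _ inferInstance
  obtain ⟨U₀, X₀, r, u₀, q, L₀, F₀, _, _, sq, hL₀, hL₀', hF₀, ⟨eL⟩, ⟨eF⟩⟩ :=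
    exists_noetherian_family u ((Scheme.Modules.pullback p).obj L) (isRelAmple_baseChange f j hL)
      ((Scheme.Modules.pullback p).obj F) (Desc19b.ModStFib.isFP_pullback _ F hF)
  haveI : IsLocallyNoetherian X₀ := LocallyOfFiniteType.isLocallyNoetherian u₀
  haveI : LocallyOfFinitePresentation u₀ :=
    LocallyOfFinitePresentation.iff_locallyOfFiniteType.2 inferInstance
  have hF₀P : CohB1.IsFP F₀ := (isCoh_iff_isFP F₀).1 hF₀
  obtain ⟨W₀, e₀, he₀, hqc, hfp, hrange, huniv⟩ :=
    exists_stratum_of_local u₀ hL₀' hF₀P (localStrata_noetherian u₀ hL₀' hF₀ Φ)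
  haveI := he₀; haveI := hqc; haveI := hfp
  haveI : QuasiCompact (pullback.fst r e₀) := MorphismProperty.pullback_fst (P := @QuasiCompact) _ _ hqc
  refine ⟨pullback r e₀, pullback.fst r e₀, inferInstance,
    MorphismProperty.pullback_fst (P := @LocallyOfFinitePresentation) _ _ hfp,
    QuasiCompact.compactSpace_of_compactSpace (pullback.fst r e₀), ?_, fun T g => ?_⟩
  · rw [Scheme.Pullback.range_fst, hrange,
      ← hilbLocus_of_isPullback hL₀ hF₀P Φ sq eL eF]
    exact hilbLocus_of_isPullback hLi hF Φ (IsPullback.of_hasPullback f j) (Iso.refl _) (Iso.refl _)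
  · rw [← hilbFlat_iff_of_isPullback hLi hF Φ (IsPullback.of_hasPullback f j) (Iso.refl _) (Iso.refl _) g,
      hilbFlat_iff_of_isPullback hL₀ hF₀P Φ sq eL eF g, huniv]
    constructor
    · rintro ⟨h, hh⟩
      exact ⟨pullback.lift g h hh.symm, pullback.lift_fst _ _ _⟩
    · rintro ⟨h, rfl⟩
      exact ⟨h ≫ pullback.snd r e₀, by rw [Category.assoc, Category.assoc, pullback.condition]⟩

end Groth.Agent.VarietyLib
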