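import Mathlib

/-!
# Lifting functions across a closed subscheme killed by an affine closed subscheme

Let `i : Z → X` be a closed immersion with `Z` affine and let `K` be the sections killed by two
affine morphisms `j`, `j'`. If `ker i · ker j = 0`, local functions agreeing modulo `K` come from a
global function modulo `K`.
-/

set_option autoImplicit false
set_option backward.isDefEq.respectTransparency.types false

universe u

open CategoryTheory Limits AlgebraicGeometry TopologicalSpace Opposite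

namespace Groth.Agent.VarietyLib.CCLift

variable {X Y Z Z' Z'' : Scheme.{u}}

/-- Restriction of functions. -/
noncomputable abbrev rs {U V : X.Opens} (h : V ≤ U) (a : Γ(X, U)) : Γ(X, V) :=
  X.presheaf.map (homOfLE h).op a

theorem rs_rs {U V W : X.Opens} (h : V ≤ U) (h' : W ≤ V) (a : Γ(X, U)) :
    rs h' (rs h a) = rs (h'.trans h) a := by
  simp only [rs, ← CommRingCat.comp_apply, ← Functor.map_comp, ← op_comp, homOfLE_comp]

theorem rs_self {U : X.Opens} (h : U ≤ U) (a : Γ(X, U)) : rs h a = a := by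
  simp [rs]

theorem app_rs (f : Y ⟶ X) {U V : X.Opens} (h : V ≤ U) (a : Γ(X, U)) :
    f.app V (rs h a) = rs (f.preimage_mono h) (f.app U a) := by
  exact congr($(f.naturality (homOfLE h).op) a)

theorem subsingleton_sections {W : X.Opens} (h : ∀ x, x ∉ W) : Subsingleton Γ(X, W) := by
  rw [show W = ⊥ from eq_bot_iff.2 fun x hx => absurd hx (h x)]
  exact inferInstance

theorem eq_of_locally {W : X.Opens} {a b : Γ(X, W)}
    (h : ∀ x ∈ W, ∃ (V : X.Opens) (hV : V ≤ W), x ∈ V ∧ rs hV a = rs hV b) : a = b := by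
  choose V hVle hxV hV using h
  exact TopCat.Sheaf.eq_of_locally_eq' X.sheaf (fun p : W => V p.1 p.2) W
    (fun p => homOfLE (hVle p.1 p.2)) (fun x hx => Opens.mem_iSup.2 ⟨⟨x, hx⟩, hxV x hx⟩) a b
    fun p => hV p.1 p.2

theorem exists_glue {ι : Type*} (V : ι → X.Opens) {W : X.Opens} (hVW : ∀ k, V k ≤ W)
    (hW : ∀ x ∈ W, ∃ k, x ∈ V k) (a : ∀ k, Γ(X, V k))
    (h : ∀ k l, rs (inf_le_left : V k ⊓ V l ≤ V k) (a k) = rs inf_le_right (a l)) :
    ∃ g : Γ(X, W), ∀ k, rs (hVW k) g = a k := by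
  obtain ⟨g, hg, -⟩ := X.sheaf.existsUnique_gluing' V W (fun k => homOfLE (hVW k))
    (fun x hx => Opens.mem_iSup.2 (hW x hx)) a h
  exact ⟨g, hg⟩

/-- Killed by `j` and `j'`. -/
def Killed (j : Z' ⟶ X) (j' : Z'' ⟶ X) {W : X.Opens} (d : Γ(X, W)) : Prop :=
  j.app W d = 0 ∧ j'.app W d = 0

variable {i : Z ⟶ X} {j : Z' ⟶ X} {j' : Z'' ⟶ X}

namespace Killed

variable {W V : X.Opens} {a b : Γ(X, W)}

protected theorem zero : Killed j j' (0 : Γ(X, W)) := ⟨map_zero _, map_zero _⟩

protected theorem sub (ha : Killed j j' a) (hb : Killed j j' b) : Killed j j' (a - b) :=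
  ⟨by rw [map_sub, ha.1, hb.1, sub_zero], by rw [map_sub, ha.2, hb.2, sub_zero]⟩

protected theorem add (ha : Killed j j' a) (hb : Killed j j' b) : Killed j j' (a + b) :=
  ⟨by rw [map_add, ha.1, hb.1, add_zero], by rw [map_add, ha.2, hb.2, add_zero]⟩

protected theorem neg (ha : Killed j j' a) : Killed j j' (-a) :=
  ⟨by rw [map_neg, ha.1, neg_zero], by rw [map_neg, ha.2, neg_zero]⟩

protected theorem mul_left (c : Γ(X, W)) (ha : Killed j j' a) : Killed j j' (c * a) :=
  ⟨by rw [map_mul, ha.1, mul_zero], by rw [map_mul, ha.2, mul_zero]⟩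

protected theorem sum {κ : Type*} (s : Finset κ) {f : κ → Γ(X, W)}
    (h : ∀ k ∈ s, Killed j j' (f k)) : Killed j j' (∑ k ∈ s, f k) :=
  ⟨by rw [map_sum]; exact Finset.sum_eq_zero fun k hk => (h k hk).1,
    by rw [map_sum]; exact Finset.sum_eq_zero fun k hk => (h k hk).2⟩

protected theorem res (h : V ≤ W) (ha : Killed j j' a) : Killed j j' (rs h a) :=
  ⟨by rw [app_rs, ha.1, rs, map_zero], by rw [app_rs, ha.2, rs, map_zero]⟩

theorem of_locally (h : ∀ x ∈ W, ∃ (V : X.Opens) (hV : V ≤ W), x ∈ V ∧ Killed j j' (rs hV a)) :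
    Killed j j' a := by
  constructor
  · refine eq_of_locally fun y hy => ?_
    obtain ⟨V, hV, hxV, hk⟩ := h (j y) hy
    exact ⟨j ⁻¹ᵁ V, j.preimage_mono hV, hxV, by rw [← app_rs j hV, hk.1, rs, map_zero]⟩
  · refine eq_of_locally fun y hy => ?_
    obtain ⟨V, hV, hxV, hk⟩ := h (j' y) hy
    exact ⟨j' ⁻¹ᵁ V, j'.preimage_mono hV, hxV, by rw [← app_rs j' hV, hk.2, rs, map_zero]⟩

end Killed

/-- The product of the two kernels vanishes. -/
def MulZero (i : Z ⟶ X) (j : Z' ⟶ X) : Prop :=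
  ∀ (W : X.Opens) (a b : Γ(X, W)), i.app W a = 0 → j.app W b = 0 → a * b = 0

theorem MulZero.symm (h : MulZero i j) : MulZero j i :=
  fun W a b ha hb => by rw [mul_comm, h W b a hb ha]

/-- The two closed subschemes cover. -/
theorem MulZero.cover [IsClosedImmersion i] [IsClosedImmersion j] (h : MulZero i j) (x : X) :
    x ∈ Set.range i ∨ x ∈ Set.range j := by
  by_contra hx
  push Not at hx
  let W : X.Opens := ⟨(Set.range i)ᶜ ∩ (Set.range j)ᶜ,
    i.isClosedEmbedding.isClosed_range.isOpen_compl.inter j.isClosedEmbedding.isClosed_range.isOpen_compl⟩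
  have hxW : x ∈ W := hx
  have : Subsingleton Γ(Z, i ⁻¹ᵁ W) := subsingleton_sections fun y hy => hy.1 ⟨y, rfl⟩
  have : Subsingleton Γ(Z', j ⁻¹ᵁ W) := subsingleton_sections fun y hy => hy.2 ⟨y, rfl⟩
  have h1 := h W 1 1 (Subsingleton.elim _ _) (Subsingleton.elim _ _)
  rw [mul_one] at h1
  have h2 := congrArg (fun a => X.basicOpen a) h1
  simp only [Scheme.basicOpen_of_isUnit X isUnit_one, Scheme.basicOpen_zero] at h2
  exact (h2.le hxW : x ∈ (⊥ : X.Opens)).elim

theorem mul_congr {W : X.Opens} (hmul : MulZero i j) {c c' : Γ(X, W)}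
    (hc : i.app W c = i.app W c') {d : Γ(X, W)} (hd : Killed j j' d) : c * d = c' * d := by
  rw [← sub_eq_zero, ← sub_mul]
  exact hmul W _ _ (by rw [map_sub, hc, sub_self]) hd.1

theorem eq_zero_of_disjoint {W : X.Opens} (hmul : MulZero i j) {d : Γ(X, W)}
    (hd : Killed j j' d) (h : ∀ z : Z, i z ∉ W) : d = 0 := by
  have : Subsingleton Γ(Z, i ⁻¹ᵁ W) := subsingleton_sections fun z hz => h z hz
  simpa using hmul W 1 d (Subsingleton.elim _ _) hd.1

/-- An element on a basic open killed by `j`, `j'` extends after multiplication by a power. -/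
theorem exists_extend [IsAffineHom j] [IsAffineHom j'] {V : X.Opens} (hV : IsAffineOpen V)
    (c : Γ(X, V)) {d : Γ(X, X.basicOpen c)} (hd : Killed j j' d) :
    ∃ n : ℕ, ∀ m ≥ n, ∃ e : Γ(X, V), Killed j j' e ∧
      rs (X.basicOpen_le c) e = rs (X.basicOpen_le c) c ^ m * d := by
  have := hV.isLocalization_basicOpen c
  obtain ⟨N, e₀, he⟩ := IsLocalization.Away.surj c d
  have he' : d * rs (X.basicOpen_le c) c ^ N = rs (X.basicOpen_le c) e₀ := he
  have key : ∀ {T : Scheme.{u}} (q : T ⟶ X) [IsAffineHom q], q.app _ d = 0 →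
      ∃ M : ℕ, q.app V (c ^ M * e₀) = 0 := by
    intro T q _ hq
    have hA := hV.preimage q
    have := hA.isLocalization_basicOpen (q.app V c)
    have h0 : rs (T.basicOpen_le (q.app V c)) (q.app V e₀) = 0 := by
      have h1 : q.app _ (rs (X.basicOpen_le c) e₀) = 0 := by rw [← he', map_mul, hq, zero_mul]
      rw [app_rs] at h1
      have h2 := congrArg (rs (Scheme.preimage_basicOpen q c).ge) h1
      rw [rs_rs] at h2
      exact h2.trans (map_zero _)
    obtain ⟨⟨_, M, rfl⟩, hM⟩ := (IsLocalization.map_eq_zero_iff (Submonoid.powers (q.app V c))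
      Γ(T, T.basicOpen (q.app V c)) _).1 h0
    exact ⟨M, by rw [map_mul, map_pow]; exact hM⟩
  obtain ⟨M, hM⟩ := key j hd.1
  obtain ⟨M', hM'⟩ := key j' hd.2
  refine ⟨N + M + M', fun m hm => ?_⟩
  obtain ⟨k, rfl⟩ := Nat.exists_eq_add_of_le hm
  refine ⟨c ^ (k + M' + M) * e₀, ⟨?_, ?_⟩, ?_⟩
  · rw [pow_add, mul_assoc, map_mul, hM, mul_zero]
  · rw [show k + M' + M = (k + M) + M' by ring, pow_add, mul_assoc, map_mul, hM', mul_zero]
  · simp only [rs] at he' ⊢
    rw [map_mul, map_pow, ← he']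
    ring

/-- Local functions agreeing modulo the sections killed by `j` and `j'` come from a global one. -/
theorem exists_global [IsAffine Z] [IsClosedImmersion i] [IsAffineHom j] [IsAffineHom j']
    [X.IsSeparated] (hmul : MulZero i j) {κ : Type u} (W : κ → X.Opens) (hW : ∀ x, ∃ a, x ∈ W a)
    (g : ∀ a, Γ(X, W a))
    (hg : ∀ a b, Killed j j' (rs (inf_le_left : W a ⊓ W b ≤ W a) (g a) - rs inf_le_right (g b))) :
    ∃ G : Γ(X, ⊤), ∀ a, Killed j j' (rs le_top G - g a) := by
  classical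
  let off : X.Opens := ⟨(Set.range i)ᶜ, i.isClosedEmbedding.isClosed_range.isOpen_compl⟩
  have hoff : ∀ {V : X.Opens}, V ≤ off → ∀ z : Z, i z ∉ V := fun hV z hz => hV hz ⟨z, rfl⟩
  -- adapted affine charts
  have hpt : ∀ z : Z, ∃ (a : κ) (U : X.Opens) (h : Γ(Z, ⊤)), IsAffineOpen U ∧ U ≤ W a ∧
      i ⁻¹ᵁ U = Z.basicOpen h ∧ z ∈ Z.basicOpen h := by
    intro z
    obtain ⟨a, ha⟩ := hW (i z)
    obtain ⟨_, ⟨U₀, hU₀, rfl⟩, hzU, hU₀W⟩ :=
      X.isBasis_affineOpens.exists_subset_of_mem_open ha (W a).2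
    obtain ⟨h, hh, hzh⟩ := (isAffineOpen_top Z).exists_basicOpen_le (V := i ⁻¹ᵁ U₀) ⟨z, hzU⟩ trivial
    obtain ⟨c, hc⟩ := i.app_surjective U₀ hU₀ (rs le_top h)
    refine ⟨a, X.basicOpen c, h, hU₀.basicOpen c, (X.basicOpen_le c).trans hU₀W, ?_, hzh⟩
    rw [Scheme.preimage_basicOpen, hc, Scheme.basicOpen_res]
    exact inf_eq_right.2 hh
  choose α U h hUa hUW hiU hzh using hpt
  obtain ⟨t, ht⟩ := isCompact_univ.elim_finite_subcover (fun z : Z => (Z.basicOpen (h z) : Set Z))
    (fun z => (Z.basicOpen (h z)).2) fun z _ => Set.mem_iUnion.2 ⟨z, hzh z⟩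
  let F := {z // z ∈ t}
  have hcover : ∀ z : Z, ∃ k : F, i z ∈ U k := fun z => by
    obtain ⟨k, hk, hz⟩ := Set.mem_iUnion₂.1 (ht (Set.mem_univ z))
    exact ⟨⟨k, hk⟩, (hiU k).ge hz⟩
  have hspan : Ideal.span (Set.range fun k : F => h k) = ⊤ := by
    rw [← (isAffineOpen_top Z).iSup_basicOpen_eq_self_iff]
    refine top_unique fun z _ => ?_
    obtain ⟨k, hk, hz⟩ := Set.mem_iUnion₂.1 (ht (Set.mem_univ z))
    exact Opens.mem_iSup.2 ⟨⟨h k, ⟨k, hk⟩, rfl⟩, hz⟩
  have hlf : ∀ (k : F) (a : Γ(Z, ⊤)), ∃ c : Γ(X, U k), i.app (U k) c = rs le_top a :=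
    fun k a => i.app_surjective (U k) (hUa k) _
  choose lf hlf using hlf
  -- the functions and the cocycle
  let gk : ∀ k : F, Γ(X, U k) := fun k => rs (hUW k) (g (α k))
  let d : ∀ k l : F, Γ(X, U k.1 ⊓ U l.1) := fun k l => rs inf_le_left (gk k) - rs inf_le_right (gk l)
  have hd : ∀ k l, Killed j j' (d k l) := fun k l => by
    have := (hg (α k) (α l)).res (V := U k.1 ⊓ U l.1) (inf_le_inf (hUW k) (hUW l))
    simp only [rs, map_sub] at this
    simp only [d, gk, rs_rs]
    simp only [← CommRingCat.comp_apply, ← Functor.map_comp, ← op_comp, homOfLE_comp] at this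
    exact this
  -- extensions
  have hext : ∀ k l : F, ∃ n : ℕ, ∀ m ≥ n, ∃ e : Γ(X, U k), Killed j j' e ∧
      rs inf_le_left e = rs (inf_le_left : U k.1 ⊓ U l.1 ≤ U k) (lf k (h l)) ^ m * d k l := by
    intro k l
    let c := lf k (h l)
    have hD : ∀ z : Z, i z ∈ U k → (i z ∈ X.basicOpen c ↔ i z ∈ U l) := fun z hz => by
      show z ∈ i ⁻¹ᵁ X.basicOpen c ↔ z ∈ i ⁻¹ᵁ U l
      rw [Scheme.preimage_basicOpen, hlf, Scheme.basicOpen_res, hiU l]
      exact ⟨fun hz' => hz'.2, fun hz' => ⟨hz, hz'⟩⟩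
    have hDle : ∀ b : Bool, (bif b then X.basicOpen c ⊓ U l else X.basicOpen c ⊓ off) ≤ X.basicOpen c :=
      fun b => by cases b <;> exact inf_le_left
    obtain ⟨d', hd'⟩ := exists_glue (fun b : Bool => bif b then X.basicOpen c ⊓ U l else X.basicOpen c ⊓ off)
      hDle (fun x hx => by
        by_cases hxi : x ∈ Set.range i
        · obtain ⟨z, rfl⟩ := hxi
          exact ⟨true, hx, (hD z (X.basicOpen_le c hx)).1 hx⟩
        · exact ⟨false, hx, hxi⟩)
      (fun b => match b with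
        | true => rs (inf_le_inf (X.basicOpen_le c) le_rfl) (d k l)
        | false => 0)
      (by
        intro b b'
        cases b <;> cases b' <;> simp only [rs_rs, rs, map_zero]
        · exact (eq_zero_of_disjoint hmul (W := (X.basicOpen c ⊓ off) ⊓ (X.basicOpen c ⊓ U l)) (j' := j') ((hd k l).res _) (fun z hz => hz.1.2 ⟨z, rfl⟩)).symm
        · exact eq_zero_of_disjoint hmul (W := (X.basicOpen c ⊓ U l) ⊓ (X.basicOpen c ⊓ off)) (j' := j') ((hd k l).res _) (fun z hz => hz.2.2 ⟨z, rfl⟩))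
    have hd'k : Killed j j' d' := Killed.of_locally fun x hx => by
      by_cases hxi : x ∈ Set.range i
      · obtain ⟨z, rfl⟩ := hxi
        exact ⟨_, hDle true, ⟨hx, (hD z (X.basicOpen_le c hx)).1 hx⟩, by rw [hd' true]; exact (hd k l).res _⟩
      · exact ⟨_, hDle false, ⟨hx, hxi⟩, by rw [hd' false]; exact Killed.zero⟩
    obtain ⟨n, hn⟩ := exists_extend (hUa k) c hd'k
    refine ⟨n, fun m hm => ?_⟩
    obtain ⟨e, hek, he⟩ := hn m hm
    refine ⟨e, hek, eq_of_locally fun x hx => ?_⟩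
    by_cases hxi : x ∈ Set.range i
    · obtain ⟨z, rfl⟩ := hxi
      refine ⟨X.basicOpen c ⊓ U l, inf_le_inf (X.basicOpen_le c) le_rfl,
        ⟨(hD z hx.1).2 hx.2, hx.2⟩, ?_⟩
      have h1 := congrArg (rs (hDle true)) he
      simp only [rs, map_mul, map_pow] at h1
      have h2 := hd' true
      simp only [rs] at h2
      rw [h2] at h1
      simp only [rs, map_mul, map_pow, ← CommRingCat.comp_apply, ← Functor.map_comp, ← op_comp,
        homOfLE_comp] at h1 ⊢
      exact h1
    · refine ⟨(U k.1 ⊓ U l.1) ⊓ off, inf_le_left, ⟨hx, hxi⟩, ?_⟩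
      rw [← sub_eq_zero]
      simp only [rs, ← map_sub]
      exact eq_zero_of_disjoint hmul (((hek.res _).sub ((hd k l).mul_left _)).res _)
        (fun z hz => hz.2 ⟨z, rfl⟩)
  choose n hn using hext
  let N := Finset.univ.sup fun p : F × F => n p.1 p.2
  choose e hek he using fun k l => hn k l N (Finset.le_sup (f := fun p : F × F => n p.1 p.2) (Finset.mem_univ (k, l)))
  -- the errors are torsion
  have hlfres : ∀ (k m : F) (a : Γ(Z, ⊤)) {V : X.Opens} (h₁ : V ≤ U k) (h₂ : V ≤ U m),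
      i.app V (rs h₁ (lf k a)) = i.app V (rs h₂ (lf m a)) := fun k m a V h₁ h₂ => by
    rw [app_rs, app_rs, hlf, hlf, rs_rs, rs_rs]
  have htor : ∀ k m l : F, ∃ M : ℕ, ∀ M' ≥ M,
      rs (inf_le_left : U k.1 ⊓ U m.1 ≤ U k) (lf k (h l)) ^ M' *
        (rs inf_le_left (e k l) - rs inf_le_right (e m l)) =
      rs (inf_le_left : U k.1 ⊓ U m.1 ≤ U k) (lf k (h l)) ^ (M' + N) * d k m := by
    intro k m l
    let V := U k.1 ⊓ U m.1
    have hV : IsAffineOpen V := (hUa k).inf (hUa m)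
    let c : Γ(X, V) := rs inf_le_left (lf k (h l))
    let δ := rs inf_le_left (e k l) - rs inf_le_right (e m l) - c ^ N * d k m
    have hδk : Killed j j' δ := ((((hek k l).res _).sub ((hek m l).res _))).sub ((hd k m).mul_left _)
    have hδ : rs (X.basicOpen_le c) δ = 0 := by
      refine eq_of_locally fun x hx => ?_
      by_cases hxi : x ∈ Set.range i
      · obtain ⟨z, rfl⟩ := hxi
        have hzl : i z ∈ U l := by
          have : z ∈ i ⁻¹ᵁ X.basicOpen c := hx
          rw [Scheme.preimage_basicOpen, app_rs, hlf, rs_rs, Scheme.basicOpen_res] at this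
          exact (hiU l).ge this.2
        refine ⟨X.basicOpen c ⊓ U l, inf_le_left, ⟨hx, hzl⟩, ?_⟩
        let T := X.basicOpen c ⊓ U l
        have h₁ : T ≤ U k := inf_le_left.trans ((X.basicOpen_le c).trans inf_le_left)
        have h₂ : T ≤ U m := inf_le_left.trans ((X.basicOpen_le c).trans inf_le_right)
        have h₃ : T ≤ U l := inf_le_right
        have e₁ := congrArg (rs (le_inf h₁ h₃)) (he k l)
        have e₂ := congrArg (rs (le_inf h₂ h₃)) (he m l)
        have e₃ : rs h₂ (lf m (h l)) ^ N * rs (le_inf h₂ h₃) (d m l) =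
            rs h₁ (lf k (h l)) ^ N * rs (le_inf h₂ h₃) (d m l) :=
          mul_congr hmul (by rw [map_pow, map_pow, hlfres m k]) ((hd m l).res _)
        simp only [δ, c, d, rs, map_sub, map_mul, map_pow, ← CommRingCat.comp_apply,
          ← Functor.map_comp, ← op_comp, homOfLE_comp] at e₁ e₂ e₃ ⊢
        rw [e₁, e₂, e₃, map_zero]
        ring
      · refine ⟨X.basicOpen c ⊓ off, inf_le_left, ⟨hx, hxi⟩, ?_⟩
        exact (eq_zero_of_disjoint hmul (W := X.basicOpen c ⊓ off) ((hδk.res _).res _) (fun z hz => hz.2 ⟨z, rfl⟩)).trans (map_zero _).symm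
    have := hV.isLocalization_basicOpen c
    obtain ⟨⟨_, M, rfl⟩, hM⟩ := (IsLocalization.map_eq_zero_iff (Submonoid.powers c)
      Γ(X, X.basicOpen c) _).1 hδ
    refine ⟨M, fun M' hM' => ?_⟩
    obtain ⟨q, rfl⟩ := Nat.exists_eq_add_of_le hM'
    have hM'' : c ^ M * δ = 0 := hM
    rw [← sub_eq_zero]
    calc _ = c ^ q * (c ^ M * δ) := by simp only [δ, c, V]; ring
      _ = 0 := by rw [hM'', mul_zero]
  choose M hM using htor
  let P := Finset.univ.sup fun p : F × F × F => M p.1 p.2.1 p.2.2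
  obtain ⟨r, hr⟩ : ∃ r : F → Γ(Z, ⊤), ∑ l, r l * h l ^ (P + N) = 1 := by
    have : Ideal.span (Set.range fun l : F => h l ^ (P + N)) = ⊤ := by
      have := Ideal.span_pow_eq_top _ hspan (P + N)
      rwa [← Set.range_comp] at this
    exact Ideal.mem_span_range_iff_exists_fun.1 (this ▸ Submodule.mem_top)
  let q : ∀ k : F, Γ(X, U k) := fun k => ∑ l, lf k (r l) * (lf k (h l) ^ P * e k l)
  have hqk : ∀ k, Killed j j' (q k) := fun k => Killed.sum _ fun l _ =>
    ((hek k l).mul_left _).mul_left _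
  have hq : ∀ k m : F, rs inf_le_left (gk k - q k) = rs (inf_le_right : U k.1 ⊓ U m.1 ≤ U m) (gk m - q m) := by
    intro k m
    have hsum : rs (inf_le_left : U k.1 ⊓ U m.1 ≤ U k) (q k) - rs inf_le_right (q m) = d k m := by
      have h1 : ∀ l, rs (inf_le_right : U k.1 ⊓ U m.1 ≤ U m) (lf m (r l) * (lf m (h l) ^ P * e m l)) =
          rs (inf_le_left : U k.1 ⊓ U m.1 ≤ U k) (lf k (r l) * lf k (h l) ^ P) * rs inf_le_right (e m l) := by
        intro l
        rw [← mul_assoc]
        simp only [rs, map_mul, map_pow]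
        refine mul_congr hmul ?_ ((hek m l).res _)
        simp only [map_mul, map_pow]
        rw [hlfres m k, hlfres m k]
      simp only [q, rs, map_sum]
      rw [← Finset.sum_sub_distrib]
      refine Eq.trans (Finset.sum_congr rfl fun l _ => ?_) (Eq.trans (Finset.sum_mul Finset.univ
        (fun l => rs inf_le_left (lf k (r l)) * rs (inf_le_left : U k.1 ⊓ U m.1 ≤ U k) (lf k (h l)) ^ (P + N))
        (d k m)).symm ?_)
      · have := h1 l
        simp only [rs] at this ⊢
        rw [this, map_mul, map_mul, map_mul, map_pow, mul_assoc, mul_assoc, ← mul_sub, ← mul_sub]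
        congr 1
        exact hM k m l P (Finset.le_sup (f := fun p : F × F × F => M p.1 p.2.1 p.2.2) (Finset.mem_univ (k, m, l)))
      · refine (mul_congr hmul ?_ (hd k m)).trans (one_mul _)
        simp only [map_sum, map_mul, map_pow, map_one, app_rs, hlf, rs_rs]
        simp only [rs, ← map_pow, ← map_mul, ← map_sum, hr, map_one]
    simp only [d, rs, map_sub] at hsum ⊢
    linear_combination (norm := ring_nf) -hsum
  -- glue
  let V : F ⊕ κ → X.Opens := Sum.elim (fun k => U k.1) fun a => W a ⊓ off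
  have hV : ∀ (k : F) (a : κ),
      rs (inf_le_left : U k.1 ⊓ (W a ⊓ off) ≤ U k) (gk k - q k) = rs inf_le_right (rs (inf_le_left : W a ⊓ off ≤ W a) (g a)) := by
    intro k a
    rw [← sub_eq_zero]
    refine eq_zero_of_disjoint hmul (j := j) (j' := j') ?_ (fun z hz => hz.2.2 ⟨z, rfl⟩)
    have h1 := ((hg (α k) a).res (V := U k.1 ⊓ (W a ⊓ off))
      (le_inf (inf_le_left.trans (hUW k)) (inf_le_right.trans inf_le_left))).sub
      ((hqk k).res (inf_le_left : U k.1 ⊓ (W a ⊓ off) ≤ U k))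
    simp only [gk, rs, map_sub, ← CommRingCat.comp_apply, ← Functor.map_comp, ← op_comp,
      homOfLE_comp] at h1 ⊢
    rwa [sub_right_comm]
  obtain ⟨G, hG⟩ := exists_glue V (W := ⊤) (fun _ => le_top) (fun x _ => by
    by_cases hxi : x ∈ Set.range i
    · obtain ⟨z, rfl⟩ := hxi
      exact ⟨Sum.inl (hcover z).choose, (hcover z).choose_spec⟩
    · obtain ⟨a, ha⟩ := hW x
      exact ⟨Sum.inr a, ha, hxi⟩)
    (fun p => match p with
      | .inl k => gk k - q k
      | .inr a => rs inf_le_left (g a))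
    (by
      rintro (k | a) (m | b)
      · exact hq k m
      · exact hV k b
      · have := congrArg (rs (inf_comm (V (Sum.inr a)) (V (Sum.inl m))).le) (hV m a)
        exact ((rs_rs _ _ _).symm.trans this.symm).trans (rs_rs _ _ _)
      · rw [← sub_eq_zero]
        refine eq_zero_of_disjoint hmul (j := j) (j' := j') ?_ (fun z hz => hz.1.2 ⟨z, rfl⟩)
        have h1 := (hg a b).res (V := (W a ⊓ off) ⊓ (W b ⊓ off))
          (inf_le_inf inf_le_left inf_le_left)
        simp only [rs, map_sub, ← CommRingCat.comp_apply, ← Functor.map_comp, ← op_comp,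
          homOfLE_comp] at h1 ⊢
        exact h1)
  refine ⟨G, fun a => Killed.of_locally fun x hx => ?_⟩
  by_cases hxi : x ∈ Set.range i
  · obtain ⟨z, rfl⟩ := hxi
    obtain ⟨k, hk⟩ := hcover z
    refine ⟨U k.1 ⊓ W a, inf_le_right, ⟨hk, hx⟩, ?_⟩
    have h1 := (rs_rs _ _ G).symm.trans (congrArg (rs (inf_le_left : U k.1 ⊓ W a ≤ U k)) (hG (Sum.inl k)))
    have h2 := ((hg (α k) a).res (V := U k.1 ⊓ W a) (inf_le_inf (hUW k) le_rfl)).sub
      ((hqk k).res (inf_le_left : U k.1 ⊓ W a ≤ U k))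
    simp only [gk, rs, map_sub, ← CommRingCat.comp_apply, ← Functor.map_comp, ← op_comp,
      homOfLE_comp] at h1 h2 ⊢
    rw [h1]
    rwa [sub_right_comm]
  · refine ⟨W a ⊓ off, inf_le_left, ⟨hx, hxi⟩, ?_⟩
    have h1 := hG (Sum.inr a)
    simp only [rs, map_sub, ← CommRingCat.comp_apply, ← Functor.map_comp, ← op_comp,
      homOfLE_comp] at h1 ⊢
    refine (congrArg (Killed j j') (sub_eq_zero.2 h1)).mpr ?_
    exact Killed.zero

end Groth.Agent.VarietyLib.CCLift
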