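import Groth.Agent.VarietyLib.DetWedge
import Groth.Agent.OmegaLib.StalkCompat
import Groth.Agent.S0612
import Groth.Agent.AssSch12.Primary

/-!
# The cokernel of a family of sections with regular determinant
-/

set_option autoImplicit false
set_option backward.isDefEq.respectTransparency.types false

universe u

open CategoryTheory CategoryTheory.Limits AlgebraicGeometry Opposite TopologicalSpace
open Groth.Agent.Coherent Groth.Agent.PicLib Groth.Agent.AmpleLib

namespace Groth.Agent.VarietyLib

variable {X : Scheme.{u}}

local notation "St" => DerSch.stalkFunctor X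

/-- A map between stalks with bases, given by a matrix with regular determinant. -/
theorem coker_of_bases {R : Type u} [CommRing R] [IsNoetherianRing R] {M N : Type u} [AddCommGroup M] [Module R M]
    [AddCommGroup N] [Module R N] {m : ℕ} (bM : Module.Basis (Fin m) R M) (bN : Module.Basis (Fin m) R N)
    (f : M →ₗ[R] N) (hd : bN.det (fun j => f (bM j)) ∈ nonZeroDivisors R) :
    Function.Injective f ∧ Module.length R (N ⧸ LinearMap.range f) = Ring.ord R (bN.det fun j => f (bM j)) := by
  classical
  let φ : (Fin m → R) →ₗ[R] (Fin m → R) := bN.equivFun.toLinearMap ∘ₗ f ∘ₗ bM.equivFun.symm.toLinearMap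
  have hmat : LinearMap.toMatrix' φ = bN.toMatrix fun j => f (bM j) := by
    ext i j
    simp [φ, LinearMap.toMatrix'_apply, Module.Basis.toMatrix_apply, Module.Basis.equivFun_symm_apply,
      Pi.single_apply, ite_smul]
  have hdet : LinearMap.det φ = bN.det fun j => f (bM j) := by
    rw [← LinearMap.det_toMatrix', hmat, Module.Basis.det_apply]
  refine ⟨fun a a' h => ?_, ?_⟩
  · have hinj : Function.Injective φ := by
      have h0 := S0612.mulVec_injective (LinearMap.toMatrix' φ) (by rw [LinearMap.det_toMatrix', hdet]; exact hd)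
      intro v w hvw
      refine h0 ?_
      rw [← Matrix.toLin'_apply, ← Matrix.toLin'_apply, Matrix.toLin'_toMatrix', hvw]
    refine bM.equivFun.injective (hinj ?_)
    simp [φ, h]
  · rw [← hdet, ← S0612.result φ (by rw [hdet]; exact hd)]
    refine (Submodule.Quotient.equiv _ _ bN.equivFun ?_).length_eq
    rw [← LinearMap.range_comp]
    exact (LinearMap.range_comp_of_range_eq_top _ (LinearEquiv.range _)).symm.trans (by rfl)

/-- The length of the cokernel on stalks. -/
theorem length_cokernel_stalk {M N : X.Modules} (σ : M ⟶ N) (x : X) :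
    Module.length (X.presheaf.stalk x) ((cokernel σ).presheaf.stalk x) =
      Module.length (X.presheaf.stalk x) (N.presheaf.stalk x ⧸ LinearMap.range ((St x).map σ).hom) :=
  ((PreservesCokernel.iso (St x) σ) ≪≫ ModuleCat.cokernelIsoRangeQuotient _).toLinearEquiv.length_eq

/-- Global sections with regular determinant at every point give an injection of a free module, whose cokernel
has the order of the determinant as local length. -/
theorem exists_hom_of_sections [IsLocallyNoetherian X] (M : X.Modules) {m : ℕ} (t : Fin m → Γ(M, ⊤))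
    (b : ∀ x : X, Module.Basis (Fin m) (X.presheaf.stalk x) (M.presheaf.stalk x))
    (hd : ∀ x, (b x).det (fun j => M.presheaf.germ ⊤ x (Opens.mem_top x) (t j)) ∈
      nonZeroDivisors (X.presheaf.stalk x)) :
    ∃ σ : FlatMod.freeMod X m ⟶ M, Mono σ ∧ ∀ x : X,
      Module.length (X.presheaf.stalk x) ((cokernel σ).presheaf.stalk x) =
        Ring.ord (X.presheaf.stalk x) ((b x).det fun j => M.presheaf.germ ⊤ x (Opens.mem_top x) (t j)) := by
  classical
  let σ₀ : Coherent.freeMod X (ULift.{u} (Fin m)) ⟶ M := freeDesc fun i => unitDesc M (t i.down)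
  haveI := isQCoh_freeMod (X := X) (I := ULift.{u} (Fin m))
  have key : ∀ x : X, Function.Injective ((St x).map σ₀) ∧
      Module.length (X.presheaf.stalk x) (M.presheaf.stalk x ⧸ LinearMap.range ((St x).map σ₀).hom) =
        Ring.ord (X.presheaf.stalk x) ((b x).det fun j => M.presheaf.germ ⊤ x (Opens.mem_top x) (t j)) := by
    intro x
    obtain ⟨V, hV, hxV, -⟩ := Opens.isBasis_iff_nbhd.mp X.isBasis_affineOpens (Opens.mem_top x)
    let bV : Module.Basis (Fin m) Γ(X, V) Γ(Coherent.freeMod X (ULift.{u} (Fin m)), V) :=
      ((Pi.basisFun Γ(X, V) (ULift.{u} (Fin m))).map (freeSectionsEquiv V).symm).reindex Equiv.ulift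
    obtain ⟨bf, hbf⟩ := exists_basis_stalk_of_basis (Coherent.freeMod X (ULift.{u} (Fin m))) hV bV hxV
    have hσ : ∀ j, (St x).map σ₀ (bf j) = M.presheaf.germ ⊤ x (Opens.mem_top x) (t j) := fun j => by
      rw [hbf, AssSch12.stalkFunctor_map_germ, ← TopCat.Presheaf.germ_res_apply _ (homOfLE (le_top : V ≤ ⊤)) x hxV (t j)]
      refine congrArg (M.presheaf.germ V x hxV) ?_
      rw [freeMod_app, Finset.sum_eq_single (ULift.up j)]
      · rw [freeInj_freeDesc, unitVal_unitDesc]
        show freeSectionsEquiv V (bV j) (ULift.up j) • _ = _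
        simp [bV]
      · intro i _ hi
        show freeSectionsEquiv V (bV j) i • _ = 0
        simp [bV, hi]
      · exact fun h => absurd (Finset.mem_univ _) h
    let f : (Coherent.freeMod X (ULift.{u} (Fin m))).presheaf.stalk x →ₗ[X.presheaf.stalk x] M.presheaf.stalk x :=
      ((St x).map σ₀).hom
    have hf : (fun j => f (bf j)) = fun j => M.presheaf.germ ⊤ x (Opens.mem_top x) (t j) := funext hσ
    have h := coker_of_bases bf (b x) f
      (by rw [hf]; exact hd x)
    rw [hf] at h
    exact h
  haveI : Mono σ₀ := OmegaLib.mono_of_stalks_injective σ₀ fun x => (key x).1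
  refine ⟨(Props12.freeModIso X m).inv ≫ σ₀, inferInstance, fun x => ?_⟩
  exact ((St x).mapIso (cokernelEpiComp (Props12.freeModIso X m).inv σ₀)).toLinearEquiv.length_eq.trans
    ((length_cokernel_stalk σ₀ x).trans (key x).2)

end Groth.Agent.VarietyLib
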