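import Groth.Agent.VarietyLib.DimOne
import Mathlib

/-!
# Elements with poles at finitely many valuations, and their inverses in one-dimensional local rings
-/

set_option autoImplicit false

universe u

namespace Groth.Agent.VarietyLib.DimOnePole

open IsLocalRing

/-- An element with poles at finitely many valuations, each of which admits some pole. -/
theorem exists_poles {A : Type*} [CommRing A] {J : Type*} {K : J → Type*} [∀ j, Field (K j)]
    (φ : ∀ j, A →+* K j) (O : ∀ j, ValuationSubring (K j)) (s : Finset J)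
    (h : ∀ j ∈ s, ∃ a, φ j a ∉ O j) : ∃ f : A, ∀ j ∈ s, φ j f ∉ O j := by
  classical
  induction s using Finset.induction_on with
  | empty => exact ⟨1, by simp⟩
  | insert P S hPS ih =>
    obtain ⟨x, hx⟩ := ih fun j hj => h j (Finset.mem_insert_of_mem hj)
    by_cases hxP : φ P x ∈ O P
    · obtain ⟨y, hyP⟩ := h P (Finset.mem_insert_self _ _)
      have hsub : ∀ j ∈ S, {n : ℕ | φ j (x ^ n + y) ∈ O j}.Subsingleton := by
        intro j hj
        suffices ∀ m n : ℕ, m < n → φ j (x ^ m + y) ∈ O j → φ j (x ^ n + y) ∈ O j → False by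
          intro m hm n hn
          by_contra hne
          rcases lt_or_gt_of_ne hne with hlt | hlt
          exacts [this m n hlt hm hn, this n m hlt hn hm]
        intro m n hmn hm hn
        set z := φ j x with hz
        have hzO : z ∉ O j := hx j hj
        have hz0 : z ≠ 0 := fun h0 => hzO (h0 ▸ (O j).zero_mem)
        rw [map_add, map_pow] at hm hn
        have hd : z ^ n - z ^ m ∈ O j := by simpa using (O j).toSubring.sub_mem hn hm
        have hi : z⁻¹ ∈ O j := ((O j).mem_or_inv_mem z).resolve_left hzO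
        have hnu : ¬ IsUnit (⟨z⁻¹, hi⟩ : O j) := fun hu => by
          obtain ⟨v, hv⟩ := isUnit_iff_exists_inv.1 hu
          have hv' : z⁻¹ * (v : K j) = 1 := congrArg Subtype.val hv
          exact hzO ((inv_mul_eq_one₀ hz0).1 hv' ▸ v.2)
        have hu : IsUnit (1 - (⟨z⁻¹, hi⟩ : O j) ^ (n - m)) := by
          refine isUnit_one_sub_self_of_mem_nonunits _ ?_
          intro hu
          exact hnu ((isUnit_pow_iff (by omega)).1 hu)
        obtain ⟨v, hv⟩ := isUnit_iff_exists_inv.1 hu
        have hv : (1 - z⁻¹ ^ (n - m)) * (v : K j) = 1 := congrArg Subtype.val hv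
        have hn' : z ^ n ∈ O j := by
          have : z ^ n = (z ^ n - z ^ m) * v := by
            have e : z ^ n - z ^ m = z ^ n * (1 - z⁻¹ ^ (n - m)) := by
              rw [mul_sub, mul_one, inv_pow, ← pow_sub₀ z hz0 (by omega), Nat.sub_sub_self hmn.le]
            rw [e, mul_assoc, hv, mul_one]
          rw [this]; exact (O j).mul_mem _ _ hd v.2
        refine hzO ?_
        have : z = z ^ n * z⁻¹ ^ (n - 1) := by
          rw [inv_pow, ← pow_sub₀ z hz0 (by omega), Nat.sub_sub_self (by omega), pow_one]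
        rw [this]; exact (O j).mul_mem _ _ hn' ((O j).toSubring.pow_mem hi _)
      obtain ⟨n, hn⟩ := Set.Finite.exists_notMem (α := ℕ)
        (s := ⋃ j ∈ S, {n : ℕ | φ j (x ^ n + y) ∈ O j})
        (S.finite_toSet.biUnion fun j hj => (hsub j hj).finite)
      refine ⟨x ^ n + y, fun j hj => ?_⟩
      rcases Finset.mem_insert.1 hj with rfl | hj
      · intro hc
        rw [map_add, map_pow] at hc
        exact hyP (by simpa using (O j).toSubring.sub_mem hc ((O j).toSubring.pow_mem hxP n))
      · exact fun hc => hn (Set.mem_iUnion₂.2 ⟨j, hj, hc⟩)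
    · exact ⟨x, fun j hj => by
        rcases Finset.mem_insert.1 hj with rfl | hj
        exacts [hxP, hx j hj]⟩

/-- Prescribing powers modulo finitely many primes meeting only in the maximal ideal. -/
theorem exists_common_lift {B : Type*} [CommRing B] [IsLocalRing B] {J : Type*} [Fintype J] [Nonempty J]
    (p : J → Ideal B) [∀ j, (p j).IsPrime]
    (h : ∀ i j, i ≠ j → ∀ P : Ideal B, P.IsPrime → p i ≤ P → p j ≤ P → P = maximalIdeal B)
    (g : J → B) (hg : ∀ j, g j ∈ maximalIdeal B) :
    ∃ c : ℕ, 0 < c ∧ ∃ y ∈ maximalIdeal B, ∀ j, y - g j ^ c ∈ p j := by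
  classical
  have key : ∀ i, ∃ c : ℕ, g i ^ c ∈ p i ⊔ (Finset.univ.erase i).inf p := fun i => by
    have : g i ∈ (p i ⊔ (Finset.univ.erase i).inf p).radical := by
      rw [Ideal.radical_eq_sInf, Ideal.mem_sInf]
      rintro P ⟨hle, hP⟩
      obtain ⟨j, hj, hjP⟩ := (Ideal.IsPrime.inf_le' hP).1 (le_sup_right.trans hle)
      rw [h i j (Finset.ne_of_mem_erase hj).symm P hP (le_sup_left.trans hle) hjP]
      exact hg i
    exact this
  choose c hc using key
  let C := (∑ i, c i) + 1
  have hmem : ∀ i, g i ^ C ∈ p i ⊔ (Finset.univ.erase i).inf p := fun i => by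
    have hle : c i ≤ C := le_trans (Finset.single_le_sum (fun j _ => Nat.zero_le (c j)) (Finset.mem_univ i))
      (Nat.le_succ _)
    rw [← Nat.sub_add_cancel hle, pow_add]
    exact Ideal.mul_mem_left _ _ (hc i)
  have hq : ∀ i, ∃ a, (∀ j, j ≠ i → a ∈ p j) ∧ a - g i ^ C ∈ p i := fun i => by
    obtain ⟨a, ha, b, hb, e⟩ := Submodule.mem_sup.1 (hmem i)
    refine ⟨b, fun j hj => (Finset.inf_le (f := p) (Finset.mem_erase.2 ⟨hj, Finset.mem_univ j⟩) : (Finset.univ.erase i).inf p ≤ p j) hb, ?_⟩
    rw [← e, show b - (a + b) = -a by ring]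
    exact (p i).neg_mem ha
  choose a ha ha' using hq
  have hy : ∀ j, (∑ i, a i) - g j ^ C ∈ p j := fun j => by
    rw [← Finset.add_sum_erase _ _ (Finset.mem_univ j), add_sub_right_comm]
    exact (p j).add_mem (ha' j) ((p j).sum_mem fun i hi => ha i j (Finset.ne_of_mem_erase hi).symm)
  refine ⟨C, Nat.succ_pos _, ∑ i, a i, ?_, hy⟩
  let j := Classical.arbitrary J
  have h1 := IsLocalRing.le_maximalIdeal (Ideal.IsPrime.ne_top (inferInstance : (p j).IsPrime)) (hy j)
  simpa using (maximalIdeal B).add_mem h1 (Ideal.pow_mem_of_mem _ (hg j) C (Nat.succ_pos _))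

/-- If `b u` is unipotent in `R_b`, then a high power of `u` has its inverse in `b R`. -/
theorem exists_inverse_away {R S : Type*} [CommRing R] [CommRing S] [Algebra R S] (b : R)
    [IsLocalization.Away b S] (u : S) (hu : IsNilpotent (algebraMap R S b * u - 1)) :
    ∃ n₀ : ℕ, 0 < n₀ ∧ ∀ n, n₀ ≤ n → ∃ c : R, algebraMap R S (b * c) * u ^ n = 1 := by
  classical
  obtain ⟨w, hw⟩ : ∃ w : S, (algebraMap R S b * u) * w = 1 := by
    have := hu.isUnit_one_add
    rw [add_sub_cancel] at this
    exact isUnit_iff_exists_inv.1 this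
  have hμ : IsNilpotent (w - 1) := by
    have : w - 1 = -w * (algebraMap R S b * u - 1) := by linear_combination hw
    rw [this]
    exact Commute.isNilpotent_mul_left (Commute.all _ _) hu
  obtain ⟨d, hd⟩ := hμ
  choose e he using fun i : ℕ => IsLocalization.Away.surj b ((w - 1) ^ i)
  choose a ha using he
  refine ⟨(∑ i ∈ Finset.range d, e i) + 1, Nat.succ_pos _, fun n hn => ?_⟩
  obtain ⟨c, hc⟩ : algebraMap R S b ^ n * w ^ n ∈ (Ideal.span {b}).toAddSubgroup.map (algebraMap R S).toAddMonoidHom := by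
    conv => enter [2, 2, 1]; rw [← sub_add_cancel w 1]
    rw [add_pow, Finset.mul_sum]
    refine AddSubgroup.sum_mem _ fun i _ => ?_
    rcases lt_or_ge i d with hi | hi
    · refine ⟨b ^ (n - e i) * a i * (n.choose i), ?_, ?_⟩
      · have : 0 < n - e i := by
          have := Finset.single_le_sum (f := e) (fun j _ => Nat.zero_le _) (Finset.mem_range.2 hi)
          omega
        exact Ideal.mul_mem_right _ _ (Ideal.mul_mem_right _ _ (Ideal.pow_mem_of_mem _ (Ideal.mem_span_singleton_self b) _ this))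
      · have hle : e i ≤ n := by
          have := Finset.single_le_sum (f := e) (fun j _ => Nat.zero_le _) (Finset.mem_range.2 hi)
          omega
        show algebraMap R S _ = _
        rw [map_mul, map_mul, map_pow, map_natCast, ← ha i, one_pow, mul_one, show algebraMap R S b ^ n =
          algebraMap R S b ^ (n - e i) * algebraMap R S b ^ e i by rw [← pow_add, Nat.sub_add_cancel hle]]
        ring
    · rw [pow_eq_zero_of_le hi hd]
      simp
  obtain ⟨c', hc'⟩ := Ideal.mem_span_singleton.1 hc.1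
  refine ⟨c', ?_⟩
  rw [← hc', show algebraMap R S c = algebraMap R S b ^ n * w ^ n from hc.2, ← mul_pow, ← mul_pow,
    show algebraMap R S b * w * u = 1 by linear_combination hw, one_pow]

/-- In a one-dimensional local domain inside its fraction field, an element which is a nonunit at every
valuation ring has a high power in the maximal ideal. -/
theorem exists_pow_lift {B : Type u} [CommRing B] [IsLocalRing B] [IsNoetherianRing B] {K : Type u} [Field K]
    (φ : B →+* K) (hfrac : ∀ z : K, ∃ a s : B, φ s ≠ 0 ∧ z = φ a / φ s)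
    (hP : ∀ P : Ideal B, P.IsPrime → RingHom.ker φ ≤ P → P = RingHom.ker φ ∨ P = maximalIdeal B)
    (hne : RingHom.ker φ ≠ maximalIdeal B) :
    {O : ValuationSubring K | φ.range ≤ O.toSubring ∧ O ≠ ⊤}.Finite ∧
      (∀ O : ValuationSubring K, φ.range ≤ O.toSubring → O ≠ ⊤ → ∀ b ∈ maximalIdeal B, φ b ∈ O.nonunits) ∧
      ∀ z : K, (∀ O : ValuationSubring K, φ.range ≤ O.toSubring → O ≠ ⊤ → z ∈ O.nonunits) →
        ∃ N : ℕ, 0 < N ∧ ∀ n, N ≤ n → ∃ g ∈ maximalIdeal B, φ g = z ^ n := by
  let R := φ.range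
  haveI : IsNoetherianRing R := isNoetherianRing_of_surjective B R φ.rangeRestrict φ.rangeRestrict_surjective
  haveI : IsLocalRing R := IsLocalRing.of_surjective' φ.rangeRestrict φ.rangeRestrict_surjective
  haveI : IsLocalHom φ.rangeRestrict := φ.rangeRestrict_surjective.isLocalHom
  haveI hF : IsFractionRing R K := by
    refine IsFractionRing.of_field R K fun z => ?_
    obtain ⟨a, s, hs, rfl⟩ := hfrac z
    exact ⟨⟨φ a, a, rfl⟩, ⟨φ s, s, rfl⟩, rfl⟩
  have hmax : ∀ b, φ.rangeRestrict b ∈ maximalIdeal R ↔ b ∈ maximalIdeal B := fun b => by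
    rw [mem_maximalIdeal, mem_maximalIdeal, mem_nonunits_iff, mem_nonunits_iff, isUnit_map_iff]
  have hdim : ringKrullDim R = 1 := by
    refine ringKrullDim_eq_one_iff_of_isLocalRing_isDomain.2 ⟨?_, ?_⟩
    · intro hf
      refine hne (le_antisymm (le_maximalIdeal (RingHom.ker_ne_top φ)) fun b hb => ?_)
      rw [RingHom.mem_ker]
      have := (hmax b).2 hb
      rw [(isField_iff_maximalIdeal_eq.1 hf), Submodule.mem_bot] at this
      exact congrArg Subtype.val this
    · intro x hx
      rw [← SetLike.coe_subset_coe]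
      intro y hy
      rw [SetLike.mem_coe, Ideal.radical_eq_sInf, Ideal.mem_sInf]
      rintro P ⟨hle, hP'⟩
      have hP'' := Ideal.IsPrime.comap φ.rangeRestrict (K := P)
      rcases hP (P.comap φ.rangeRestrict) hP'' (fun b hb => by
        show φ.rangeRestrict b ∈ P
        rw [show φ.rangeRestrict b = 0 from Subtype.ext hb]
        exact P.zero_mem) with h | h
      · exfalso
        obtain ⟨b, rfl⟩ := φ.rangeRestrict_surjective x
        have hb : b ∈ P.comap φ.rangeRestrict := hle (Ideal.mem_span_singleton_self _)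
        rw [h] at hb
        exact hx (Subtype.ext hb)
      · obtain ⟨b, rfl⟩ := φ.rangeRestrict_surjective y
        have hb : b ∈ maximalIdeal B := (hmax b).1 hy
        rw [← h] at hb
        exact hb
  haveI : Finite (MaximalSpectrum R) := by
    haveI : Subsingleton (MaximalSpectrum R) :=
      ⟨fun a b => MaximalSpectrum.ext ((eq_maximalIdeal a.2).trans (eq_maximalIdeal b.2).symm)⟩
    infer_instance
  have hjac : (⊥ : Ideal R).jacobson = maximalIdeal R := IsLocalRing.jacobson_eq_maximalIdeal ⊥ bot_ne_top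
  refine ⟨DimOne.finite_valuationSubrings R hdim inferInstance, fun O hO ht b hb => ?_, fun z hz => ?_⟩
  · exact DimOne.inJac_of_mem_jacobson R hdim (φ.rangeRestrict b) (by rw [hjac]; exact (hmax b).2 hb) O hO ht
  · obtain ⟨N, hN⟩ := DimOne.exists_pow_inJac R hdim (x := z) hz
    refine ⟨N + 1, N.succ_pos, fun n hn => ?_⟩
    obtain ⟨hN', hj⟩ := hN n (by omega)
    obtain ⟨g, hg⟩ := hN'
    refine ⟨g, (hmax g).1 ?_, hg⟩
    rw [hjac] at hj
    rw [show φ.rangeRestrict g = ⟨z ^ n, ⟨g, hg⟩⟩ from Subtype.ext hg]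
    exact hj

end Groth.Agent.VarietyLib.DimOnePole
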