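import Groth.Agent.EulerLib.DegClass
import Mathlib.RingTheory.Nilpotent.Defs
import Mathlib.Data.Nat.Choose.Sum

/-!
# Difference operators on functions of classes and the binomial expansion of intersection degrees
-/

set_option autoImplicit false

universe u

open CategoryTheory AlgebraicGeometry
open Groth.Agent.EulerLib

noncomputable section

namespace Groth.Agent.VarietyLib

variable {X : Scheme.{u}}

/-- The difference operator of a class. -/
def dOp (a : InvCl X) : Module.End ℤ (InvCl X → ℤ) where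
  toFun φ := fun x => φ (a * x) - φ x
  map_add' φ ψ := funext fun x => by simp only [Pi.add_apply]; ring
  map_smul' r φ := funext fun x => by simp only [Pi.smul_apply, smul_eq_mul, RingHom.id_apply]; ring

theorem dOp_apply (a : InvCl X) (φ : InvCl X → ℤ) : dOp a φ = fun x => φ (a * x) - φ x := rfl

theorem dOp_commute (a b : InvCl X) : Commute (dOp a) (dOp b) :=
  LinearMap.ext fun φ => funext fun x => by
    show φ (b * (a * x)) - φ (a * x) - (φ (b * x) - φ x) = φ (a * (b * x)) - φ (b * x) - (φ (a * x) - φ x)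
    rw [mul_left_comm a b x]
    ring

theorem ClDeg.dOp {r : ℕ} {φ : InvCl X → ℤ} (h : ClDeg (r + 1) φ) (a : InvCl X) : ClDeg r (dOp a φ) :=
  ClDeg.diff h a

theorem eq_zero_of_clDeg_zero {φ : InvCl X → ℤ} (h : ClDeg 0 φ) : φ = 0 :=
  funext fun x => congrFun (show φ ∘ Additive.toMul = 0 from h) (Additive.ofMul x)

theorem pow_apply_succ (T : Module.End ℤ (InvCl X → ℤ)) (n : ℕ) (φ : InvCl X → ℤ) :
    (T ^ (n + 1)) φ = (T ^ n) (T φ) := by rw [pow_succ, Module.End.mul_apply]

/-- The two-variable monomials kill functions of low degree. -/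
theorem mono_eq_zero (a b : InvCl X) : ∀ (i j : ℕ) {φ : InvCl X → ℤ}, ClDeg (i + j) φ →
    (dOp a ^ j * dOp b ^ i) φ = 0 := by
  intro i
  induction i with
  | zero =>
    intro j
    induction j with
    | zero => intro φ h; rw [eq_zero_of_clDeg_zero h, map_zero]
    | succ j ih =>
      intro φ h
      have h1 : ClDeg (0 + j) (VarietyLib.dOp a φ) := ClDeg.dOp (r := 0 + j) h a
      have := ih h1
      rw [pow_zero, mul_one] at this ⊢
      rw [pow_apply_succ]
      exact this
  | succ i ih =>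
    intro j φ h
    have h1 : ClDeg (i + j) (VarietyLib.dOp b φ) := ClDeg.dOp (r := i + j) (by rwa [Nat.add_right_comm] at h) b
    rw [Module.End.mul_apply, pow_apply_succ, ← Module.End.mul_apply]
    exact ih j h1

/-- Below a monomial the operator of a product is additive. -/
theorem mono_dOp_mul (a b x y : InvCl X) (i j : ℕ) {φ : InvCl X → ℤ} (h : ClDeg (i + j + 2) φ) :
    (dOp a ^ j * dOp b ^ i) (dOp (x * y) φ) =
      (dOp a ^ j * dOp b ^ i) (dOp x φ) + (dOp a ^ j * dOp b ^ i) (dOp y φ) := by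
  have e : dOp (x * y) φ = dOp x φ + dOp y φ + dOp x (dOp y φ) := funext fun z => by
    show φ (x * y * z) - φ z = φ (x * z) - φ z + (φ (y * z) - φ z) + (φ (y * (x * z)) - φ (x * z) - (φ (y * z) - φ z))
    rw [show x * y * z = y * (x * z) by ac_rfl]
    ring
  rw [e, map_add, map_add,
    mono_eq_zero a b i j (ClDeg.dOp (r := i + j) (ClDeg.dOp (r := i + j + 1) h y) x), add_zero]

theorem mono_dOp_pow (a b x : InvCl X) (i j : ℕ) {φ : InvCl X → ℤ} (h : ClDeg (i + j + 2) φ) :
    ∀ m : ℕ, (dOp a ^ j * dOp b ^ i) (dOp (x ^ m) φ) = (m : ℤ) • (dOp a ^ j * dOp b ^ i) (dOp x φ)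
  | 0 => by
    have e : dOp ((x : InvCl X) ^ 0) φ = 0 := funext fun z => by
      show φ (x ^ 0 * z) - φ z = 0
      rw [pow_zero, one_mul, sub_self]
    rw [e, map_zero, Nat.cast_zero, zero_smul]
  | m + 1 => by
    rw [pow_succ x, mono_dOp_mul a b _ _ i j h, mono_dOp_pow a b x i j h m, Nat.cast_succ, add_smul, one_smul]

/-- Constant intersection degrees are powers of the difference operator. -/
theorem interDeg_const (a : InvCl X) : ∀ (r : ℕ) (φ : InvCl X → ℤ),
    interDeg (fun _ : Fin r => a) φ = (dOp a ^ r) φ 1 := by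
  intro r
  induction r with
  | zero => intro φ; rw [interDeg_zero, pow_zero, Module.End.one_apply]
  | succ r ih =>
    intro φ
    have hc : (fun _ : Fin (r + 1) => a) = Fin.cons a (fun _ : Fin r => a) := funext fun i => by
      induction i using Fin.cases <;> rfl
    rw [hc, interDeg_cons, ih, pow_apply_succ]
    rfl

/-- The linearised operator of `a^q * b^p`. -/
def linOp (a b : InvCl X) (q p : ℕ) : Module.End ℤ (InvCl X → ℤ) := (q : ℤ) • dOp a + (p : ℤ) • dOp b

theorem linOp_apply (a b : InvCl X) (q p : ℕ) (φ : InvCl X → ℤ) :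
    linOp a b q p φ = (q : ℤ) • dOp a φ + (p : ℤ) • dOp b φ := by
  simp [linOp]

theorem dOp_pow_eq_linOp (a b : InvCl X) (q p : ℕ) : ∀ (r : ℕ) {φ : InvCl X → ℤ}, ClDeg (r + 1) φ →
    (dOp (a ^ q * b ^ p) ^ r) φ = (linOp a b q p ^ r) φ := by
  intro r
  induction r with
  | zero => intro φ _; rw [pow_zero, pow_zero]
  | succ r ih =>
    intro φ h
    set c := a ^ q * b ^ p with hc
    have e1 : (dOp c ^ r) (dOp c φ) = (dOp c ^ r) (dOp (a ^ q) φ) + (dOp c ^ r) (dOp (b ^ p) φ) := by
      have := mono_dOp_mul c c (a ^ q) (b ^ p) 0 r (φ := φ) (by rwa [zero_add])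
      rwa [pow_zero, mul_one] at this
    have ea : (dOp c ^ r) (dOp (a ^ q) φ) = (q : ℤ) • (dOp c ^ r) (dOp a φ) := by
      have := mono_dOp_pow c c a 0 r (φ := φ) (by rwa [zero_add]) q
      rwa [pow_zero, mul_one] at this
    have eb : (dOp c ^ r) (dOp (b ^ p) φ) = (p : ℤ) • (dOp c ^ r) (dOp b φ) := by
      have := mono_dOp_pow c c b 0 r (φ := φ) (by rwa [zero_add]) p
      rwa [pow_zero, mul_one] at this
    rw [pow_apply_succ, pow_apply_succ, e1, ea, eb, ih (ClDeg.dOp h a), ih (ClDeg.dOp h b), linOp_apply,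
      map_add, map_smul, map_smul]

/-- Binomial expansion. -/
theorem linOp_pow_apply_one (a b : InvCl X) (q p r : ℕ) (φ : InvCl X → ℤ) :
    (linOp a b q p ^ r) φ 1 = ∑ i ∈ Finset.range (r + 1),
      (r.choose i : ℤ) * (p : ℤ) ^ i * (q : ℤ) ^ (r - i) * (dOp a ^ (r - i) * dOp b ^ i) φ 1 := by
  have hcomm : Commute ((p : ℤ) • dOp b) ((q : ℤ) • dOp a) := ((dOp_commute b a).smul_left _).smul_right _
  rw [linOp, add_comm, hcomm.add_pow, LinearMap.sum_apply, Finset.sum_apply]
  refine Finset.sum_congr rfl fun i _ => ?_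
  rw [smul_pow, smul_pow, smul_mul_smul_comm, ← (Nat.cast_commute (r.choose i) _).eq, ← nsmul_eq_mul,
    ((dOp_commute b a).pow_pow i (r - i)).eq, LinearMap.smul_apply, LinearMap.smul_apply, Pi.smul_apply,
    Pi.smul_apply, nsmul_eq_mul, smul_eq_mul, ← mul_assoc, ← mul_assoc]

end Groth.Agent.VarietyLib

end
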