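import Mathlib.AlgebraicGeometry.Morphisms.QuasiCompact
import Mathlib.AlgebraicGeometry.AffineScheme
import Mathlib.RingTheory.Spectrum.Prime.Topology
import Mathlib.RingTheory.Localization.AtPrime.Basic
import Mathlib.RingTheory.Ideal.MinimalPrime.Noetherian
import Mathlib.RingTheory.KrullDimension.Basic

/-!
# Equations for an open set near an isolated point of its complement, of local dimension at most one
-/

set_option autoImplicit false

universe u

open CategoryTheory AlgebraicGeometry Opposite TopologicalSpace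

namespace Groth.Agent.VarietyLib.LowDim

theorem finite_lt {R A : Type u} [CommRing R] [CommRing A] [Algebra R A] (p : Ideal R) [p.IsPrime]
    [IsLocalization.AtPrime A p] [IsNoetherianRing A] (hdim : ringKrullDim A ≤ 1) :
    {Q : Ideal R | Q.IsPrime ∧ Q < p}.Finite := by
  have : IsLocalRing A := IsLocalization.AtPrime.isLocalRing A p
  have : Ring.KrullDimLE 1 A := Ring.krullDimLE_iff.2 hdim
  refine ((minimalPrimes.finite_of_isNoetherianRing A).image (Ideal.comap (algebraMap R A))).subset ?_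
  rintro Q ⟨hQ, hlt⟩
  have hdis : Disjoint (p.primeCompl : Set R) (Q : Set R) := Set.disjoint_left.2 fun a ha haQ => ha (hlt.le haQ)
  have hP := IsLocalization.isPrime_of_isPrime_disjoint p.primeCompl A Q hQ hdis
  have hc := IsLocalization.comap_map_of_isPrime_disjoint p.primeCompl A hQ hdis
  refine ⟨Q.map (algebraMap R A), (Ring.krullDimLE_one_iff.1 inferInstance _ hP).resolve_right fun hm => ?_, hc⟩
  have := IsLocalRing.eq_maximalIdeal hm
  exact hlt.ne (hc.symm.trans ((congrArg (Ideal.comap (algebraMap R A)) this).trans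
    (IsLocalization.AtPrime.comap_maximalIdeal A p)))

variable {R : Type u} [CommRing R] (p : Ideal R) [p.IsPrime]

theorem exists_mul_pow_mem (J : Ideal R) (f : R) (h : ∀ Q : Ideal R, Q.IsPrime → Q ≤ p → J ≤ Q → f ∈ Q) :
    ∃ (g : R) (n : ℕ), g ∉ p ∧ g * f ^ n ∈ J := by
  by_contra hc
  push Not at hc
  obtain ⟨Q, hQ, hJQ, hdis⟩ := Ideal.exists_le_prime_disjoint J (p.primeCompl ⊔ Submonoid.powers f)
    (Set.disjoint_left.2 fun a haJ ha => by
      obtain ⟨g, hg, b, ⟨n, rfl⟩, rfl⟩ := Submonoid.mem_sup.1 ha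
      exact hc g n hg haJ)
  refine Set.disjoint_left.1 hdis (h Q hQ (fun a ha => by_contra fun hap => ?_) hJQ)
    (Submonoid.mem_sup_right (Submonoid.mem_powers f))
  exact Set.disjoint_left.1 hdis ha (Submonoid.mem_sup_left hap)

theorem exists_equation (hfin : {Q : Ideal R | Q.IsPrime ∧ Q < p}.Finite) (I : Ideal R) (hI : I.FG)
    (hIp : I ≤ p) (h : ∀ Q : Ideal R, Q.IsPrime → Q < p → ¬ I ≤ Q) :
    ∃ f ∈ I, ∃ g ∉ p, ∀ Q : Ideal R, Q.IsPrime → g ∉ Q → f ∈ Q → I ≤ Q := by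
  classical
  obtain ⟨f, hfI, hf⟩ : ∃ f ∈ I, ∀ Q : Ideal R, Q.IsPrime → Q < p → f ∉ Q := by
    by_contra hc
    push Not at hc
    have hsub : (I : Set R) ⊆ ⋃ Q ∈ (hfin.toFinset : Set (Ideal R)), (Q : Set R) := fun a ha => by
      obtain ⟨Q, hQ, hlt, haQ⟩ := hc a ha
      exact Set.mem_iUnion₂.2 ⟨Q, hfin.mem_toFinset.2 ⟨hQ, hlt⟩, haQ⟩
    obtain ⟨Q, hQ, hle⟩ := (Ideal.subset_union_prime ⊥ ⊥ fun Q hQ _ _ => (hfin.mem_toFinset.1 hQ).1).1 hsub
    exact h Q (hfin.mem_toFinset.1 hQ).1 (hfin.mem_toFinset.1 hQ).2 hle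
  obtain ⟨S, rfl⟩ := hI
  have hj : ∀ a ∈ S, ∃ (g : R) (n : ℕ), g ∉ p ∧ g * a ^ n ∈ Ideal.span {f} := fun a ha =>
    exists_mul_pow_mem p _ a fun Q hQ hQp hfQ => by
      rcases hQp.lt_or_eq with hlt | rfl
      · exact absurd (hfQ (Ideal.mem_span_singleton_self f)) (hf Q hQ hlt)
      · exact hIp (Ideal.subset_span ha)
  choose g n hg hmem using hj
  refine ⟨f, hfI, ∏ a ∈ S.attach, g a.1 a.2, fun hp => ?_, fun Q hQ hgQ hfQ => Ideal.span_le.2 fun a ha => ?_⟩
  · obtain ⟨a, -, ha⟩ := (Ideal.IsPrime.prod_mem_iff.1 hp)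
    exact hg _ _ ha
  · have h1 : g a ha * a ^ n a ha ∈ Q := Ideal.span_le.2 (Set.singleton_subset_iff.2 hfQ) (hmem a ha)
    refine hQ.mem_of_pow_mem _ ((hQ.mem_or_mem h1).resolve_left fun hga => hgQ ?_)
    exact Ideal.mem_of_dvd Q (Finset.dvd_prod_of_mem (fun b : S => g b.1 b.2) (Finset.mem_attach S ⟨a, ha⟩)) hga

end Groth.Agent.VarietyLib.LowDim
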