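import Groth.Agent.VarietyLib.Nakai
import Groth.Agent.AbCubeLib.FiniteDegree
import Groth.Agent.DimLib.Maximal
import Groth.Agent.DimLib.Cut
import Groth.Agent.DimLib.Sub

/-!
# Strictly nef modules with effective powers on every subvariety
-/

set_option autoImplicit false
set_option linter.style.haveILetI false
set_option backward.isDefEq.respectTransparency.types false

universe u

open CategoryTheory CategoryTheory.Limits AlgebraicGeometry Opposite TopologicalSpace
open Groth.Agent.Coherent Groth.Agent.PicLib Groth.Agent.AmpleLib Groth.Agent.AssSch12 Groth.Agent.DimLib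
open Groth.Agent.EulerLib Groth.Agent.ModStalk Groth.Agent.AbCubeLib

namespace Groth.Agent.VarietyLib

variable (k : Type u) [Field k] {X : Scheme.{u}} [X.Over (Spec (CommRingCat.of k))]
  [IsProper (X ↘ Spec (CommRingCat.of k))]

/-- Positivity in one dimension passes to coherent modules on closed subschemes. -/
theorem interDeg_pos_push {a : InvCl X} {r : ℕ}
    (hP : ∀ z : X, topologicalKrullDim (closure ({z} : Set X)) = (r : WithBot ℕ∞) →
      0 < interDeg (fun _ : Fin r => a) (chiCl k (clM z)))
    {Y : Scheme.{u}} [Y.Over (Spec (CommRingCat.of k))] [IsProper (Y ↘ Spec (CommRingCat.of k))]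
    (g : Y ⟶ X) [IsClosedImmersion g] (hg : g ≫ (X ↘ Spec (CommRingCat.of k)) = Y ↘ Spec (CommRingCat.of k))
    {M : Y.Modules} (hM : Coh.IsCoh M)
    (hd : topologicalKrullDim (CohB1.support M) ≤ (r : WithBot ℕ∞)) {ξ : Y}
    (hξ : ξ ∈ CohB1.support M) (hr : topologicalKrullDim (closure ({ξ} : Set Y)) = (r : WithBot ℕ∞)) :
    0 < interDeg (fun _ : Fin r => VarietyLib.pullHom g a) (chiCl k M) := by
  classical
  haveI := isNoetherian_of_proper (X := X) k
  haveI := isNoetherian_of_proper (X := Y) k
  let c := fun _ : Fin r => VarietyLib.pullHom g a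
  have hT := isClosed_support M (locallyFinGen_of_isFT M hM.2)
  let S := (finite_top_points hT hd).toFinset
  have hone : ∀ z : Y, topologicalKrullDim (closure ({z} : Set Y)) = (r : WithBot ℕ∞) →
      0 < interDeg c (chiCl k (clM z)) := by
    intro z hz
    have hc := isCoh_clM z
    have e : interDeg c (chiCl k (clM z)) = interDeg (fun _ : Fin r => a) (chiCl k ((Coh.push g).obj (clM z))) := by
      rw [show c = fun i : Fin r => VarietyLib.pullHom g ((fun _ : Fin r => a) i) from rfl,
        interDeg_monoidHom (VarietyLib.pullHom g) (fun _ : Fin r => a)]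
      exact congrArg (interDeg _) (funext fun x => (chiCl_push k g hg hc x).symm)
    rw [e]
    have himg : closure ({g z} : Set X) = g '' closure ({z} : Set Y) := by
      rw [← g.isClosedEmbedding.closure_image_eq, Set.image_singleton]
    have hdim : topologicalKrullDim (closure ({g z} : Set X)) = (r : WithBot ℕ∞) := by
      rw [himg, ← hz]
      exact ((g.isClosedEmbedding.isEmbedding.homeomorphImage (closure ({z} : Set Y))).isHomeomorph.topologicalKrullDim_eq).symm
    have hM : Coh.IsCoh ((Coh.push g).obj (clM z)) := isCoh_push_finite g hc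
    have hsup : CohB1.support ((Coh.push g).obj (clM z)) ⊆ closure ({g z} : Set X) := by
      refine (support_push_subset ((clI z).subschemeι ≫ g) (Coh.structureModule _)).trans ?_
      rw [himg, ← range_clι z]
      rintro _ ⟨w, rfl⟩
      exact ⟨_, ⟨w, rfl⟩, rfl⟩
    have hmem := mem_support_push_clM g z
    have hTX := isClosed_support _ (locallyFinGen_of_isFT _ hM.2)
    have hdX := (dim_mono hsup).trans hdim.le
    let SX := (finite_top_points hTX hdX).toFinset
    rw [eq_sum_mult (ψ := fun N => interDeg (fun _ : Fin r => a) (chiCl k N)) (d := r)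
      (fun {N N'} e => by rw [chiCl_congr k e])
      (fun T hT h₁ h₂ h₃ => by rw [chiCl_additive k T hT h₁ h₂ h₃, interDeg_add_fun])
      (fun N hN hlt => interDeg_eq_zero _ (finDeg_chiCl k hN hlt))
      hM hdX SX (fun z hz h => (Set.Finite.mem_toFinset _).2 ⟨hz, h⟩)
      (fun z hz => ((Set.Finite.mem_toFinset _).1 hz).2)]
    refine Finset.sum_pos' (fun w hw => nsmul_nonneg
      (hP w ((Set.Finite.mem_toFinset _).1 hw).2).le _) ⟨g z, (Set.Finite.mem_toFinset _).2 ⟨hmem, hdim⟩, ?_⟩
    rw [nsmul_eq_mul]
    exact mul_pos (by exact_mod_cast mult_pos_of_mem hM hdX hmem hdim) (hP _ hdim)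
  rw [eq_sum_mult (ψ := fun N => interDeg c (chiCl k N)) (d := r)
    (fun {N N'} e => by rw [chiCl_congr k e])
    (fun T hT h₁ h₂ h₃ => by rw [chiCl_additive k T hT h₁ h₂ h₃, interDeg_add_fun])
    (fun N hN hlt => interDeg_eq_zero c (finDeg_chiCl k hN hlt))
    hM hd S (fun z hz h => (Set.Finite.mem_toFinset _).2 ⟨hz, h⟩)
    (fun z hz => ((Set.Finite.mem_toFinset _).1 hz).2)]
  refine Finset.sum_pos' (fun z hz => nsmul_nonneg
    (hone z ((Set.Finite.mem_toFinset _).1 hz).2).le _) ⟨ξ, (Set.Finite.mem_toFinset _).2 ⟨hξ, hr⟩, ?_⟩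
  rw [nsmul_eq_mul]
  exact mul_pos (by exact_mod_cast mult_pos_of_mem hM hd hξ hr) (hone ξ hr)

/-- Cutting an intersection number by a section. -/
theorem interDeg_cut {L : X.Modules} (hL : PicF.IsInvertible L) {m r : ℕ}
    (b : Γ(CohB1.tensorPow L m, ⊤)) {y : X} (hyb : y ∈ glocus (CohB1.tensorPow L m) b)
    (hy : topologicalKrullDim (closure ({y} : Set X)) = ((r + 1 : ℕ) : WithBot ℕ∞)) :
    ∃ Q : X.Modules, Coh.IsCoh Q ∧
      CohB1.support Q = closure {y} ∩ (glocus (CohB1.tensorPow L m) b : Set X)ᶜ ∧
      (m : ℤ) * interDeg (fun _ : Fin (r + 1) => InvCl.mk L hL) (chiCl k (clM y)) =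
        interDeg (fun _ : Fin r => InvCl.mk L hL) (chiCl k Q) := by
  haveI := isNoetherian_of_proper (X := X) k
  let P := CohB1.tensorPow L m
  have hP : PicF.IsInvertible P := isInvertible_tensorPow hL m
  let G := clM y
  have hG : Coh.IsCoh G := isCoh_clM y
  have hGP := isCoh_twist hP hG
  let u := mulSec G b
  haveI := hG.1
  haveI := hGP.1
  have hker : IsZero (kernel u) := isZero_of_mono_clM (kernel.ι u) (isCoh_kernel u hG hGP.1) fun h =>
    h (subsingleton_of_forall_eq 0 fun a => by
      have h1 : (DerSch.stalkFunctor X y).map u ((DerSch.stalkFunctor X y).map (kernel.ι u) a) = 0 := by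
        refine (stalk_comp_apply _ _ _).trans ?_
        rw [kernel.condition]
        exact stalk_zero_apply _
      exact (ModuleCat.mono_iff_injective ((DerSch.stalkFunctor X y).map (kernel.ι u))).1 inferInstance
        (((bijective_stalk_mulSec G b hyb).1 (h1.trans (map_zero _).symm)).trans (map_zero _).symm))
  haveI : Mono u := Preadditive.mono_of_isZero_kernel u hker
  have hQ : Coh.IsCoh (cokernel u) := isCoh_cokernel u hG.1 hGP
  have hGPsupp : CohB1.support (CohB1.tensorMod G P) = closure {y} :=
    (support_twist hP G).trans (support_clM y)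
  refine ⟨cokernel u, hQ, Set.Subset.antisymm (fun z hz => ⟨hGPsupp.le (support_subset_of_epi (cokernel.π u) hz),
      fun hzU => hz (subsingleton_of_forall_eq 0 fun a => ?_)⟩) (fun z hz hsub => ?_), ?_⟩
  · obtain ⟨w, rfl⟩ := (ModuleCat.epi_iff_surjective ((DerSch.stalkFunctor X z).map (cokernel.π u))).1 inferInstance a
    obtain ⟨v, rfl⟩ := (bijective_stalk_mulSec G b hzU).2 w
    refine (stalk_comp_apply _ _ _).trans ?_
    rw [cokernel.condition]
    exact stalk_zero_apply _
  · refine not_surjective_stalk_mulSec G b hP hG hz.2 ((support_clM y).ge hz.1) fun w => ?_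
    exact ((ShortComplex.ShortExact.moduleCat_exact_iff_function_exact _).1
      ((ShortComplex.exact_cokernel u).map (DerSch.stalkFunctor X z)) w).1 (hsub.elim _ _)
  have hadd := chiCl_additive k (ShortComplex.mk u (cokernel.π u) (cokernel.condition u))
    { exact := ShortComplex.exact_cokernel u } hG hGP hQ
  let a := InvCl.mk L hL
  have hcons : (fun _ : Fin (r + 1) => a) = Fin.cons a (fun _ : Fin r => a) := by
    funext i
    induction i using Fin.cases with
    | zero => rfl
    | succ i => rfl
  have hdeg : ClDeg (r + 2) (chiCl k G) := clDeg_chiCl k hG (r := r + 1) ((dim_mono (support_clM_subset y)).trans hy.le)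
  have hfun : (fun x => chiCl k G (a ^ m * x) - chiCl k G x) = chiCl k (cokernel u) := by
    funext x
    have h1 : a ^ m = InvCl.mk P hP := (InvCl.mk_tensorPow hL m).symm
    rw [h1, chiCl_mul k G hP x]
    have h2 := congrFun hadd x
    replace h2 : chiCl k (CohB1.tensorMod G P) x = chiCl k G x + chiCl k (cokernel u) x := h2
    omega
  rw [hcons, ← interDeg_pow a _ hdeg m, interDeg_cons, hfun]

/-- Positivity from curves and effective powers. -/
theorem posInt_of_effective {L : X.Modules} (hL : PicF.IsInvertible L)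
    (hcurve : ∀ z : X, topologicalKrullDim (closure ({z} : Set X)) = ((1 : ℕ) : WithBot ℕ∞) →
      0 < interDeg (fun _ : Fin 1 => InvCl.mk L hL) (chiCl k (clM z)))
    (heff : ∀ z : X, ∃ (m : ℕ) (s : Γ(CohB1.tensorPow
      ((Scheme.Modules.pullback (clI z).subschemeι).obj L) (m + 1), ⊤)), s ≠ 0) :
    PosInt k (InvCl.mk L hL) := by
  suffices h : ∀ r : ℕ, ∀ z : X, topologicalKrullDim (closure ({z} : Set X)) = ((r + 1 : ℕ) : WithBot ℕ∞) →
      0 < interDeg (fun _ : Fin (r + 1) => InvCl.mk L hL) (chiCl k (clM z)) by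
    intro z r hr0 hr
    obtain ⟨r, rfl⟩ : ∃ s, r = s + 1 := ⟨r - 1, by omega⟩
    exact h r z hr
  intro r
  induction r with
  | zero => exact hcurve
  | succ r ih =>
    intro z hz
    haveI := isNoetherian_of_proper (X := X) k
    let g := (clI z).subschemeι
    let Y := (clI z).subscheme
    letI : Y.Over (Spec (CommRingCat.of k)) := ⟨g ≫ (X ↘ Spec (CommRingCat.of k))⟩
    haveI : IsProper (Y ↘ Spec (CommRingCat.of k)) :=
      inferInstanceAs (IsProper (g ≫ (X ↘ Spec (CommRingCat.of k))))
    haveI := isNoetherian_of_proper (X := Y) k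
    haveI : IsIntegral Y := isIntegral_vanishingIdeal _ isIrreducible_singleton.closure
    let p := Y ↘ Spec (CommRingCat.of k)
    let η := genericPoint Y
    have hdimY : topologicalKrullDim Y = ((r + 2 : ℕ) : WithBot ℕ∞) :=
      (topologicalKrullDim_vanishingIdeal _).trans hz
    have hη : topologicalKrullDim (closure ({η} : Set Y)) = ((r + 2 : ℕ) : WithBot ℕ∞) := by
      rw [genericPoint_closure, (Homeomorph.Set.univ (Y : Type u)).isHomeomorph.topologicalKrullDim_eq, hdimY]
    let M := (Scheme.Modules.pullback g).obj L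
    have hM : PicF.IsInvertible M := PicLoc.isInvertible_pullback g hL
    have hpη : ptDim p η = r + 2 := by
      have := topologicalKrullDim_eq_ptDim_of_isGenericPoint p (isGenericPoint_closure (x := η))
      rw [hη] at this
      exact_mod_cast this.symm
    have hpos : ∀ {Q : Y.Modules}, Coh.IsCoh Q →
        topologicalKrullDim (CohB1.support Q) ≤ ((r + 1 : ℕ) : WithBot ℕ∞) → ∀ ξ ∈ CohB1.support Q,
        topologicalKrullDim (closure ({ξ} : Set Y)) = ((r + 1 : ℕ) : WithBot ℕ∞) →
        0 < interDeg (fun _ : Fin (r + 1) => InvCl.mk M hM) (chiCl k Q) :=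
      fun hQ hd ξ hξ hr => interDeg_pos_push k ih g rfl hQ hd hξ hr
    have hstruct : interDeg (fun _ : Fin (r + 2) => InvCl.mk L hL) (chiCl k (clM z)) =
        interDeg (fun _ : Fin (r + 2) => InvCl.mk M hM) (chiCl k (Coh.structureModule Y)) := by
      rw [show (fun _ : Fin (r + 2) => InvCl.mk M hM) =
        fun i : Fin (r + 2) => VarietyLib.pullHom g ((fun _ : Fin (r + 2) => InvCl.mk L hL) i) from rfl,
        interDeg_monoidHom (VarietyLib.pullHom g) (fun _ : Fin (r + 2) => InvCl.mk L hL)]
      exact congrArg (interDeg _) (funext fun x => chiCl_push k g rfl (isCoh_structureModule Y) x)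
    have hstruct' : interDeg (fun _ : Fin (r + 2) => InvCl.mk M hM) (chiCl k (Coh.structureModule Y)) =
        interDeg (fun _ : Fin (r + 2) => InvCl.mk M hM) (chiCl k (clM η)) := by
      rw [interDeg_eq_genRank k hdimY.le _ _ (isCoh_structureModule Y), genRank_structureModule, Nat.cast_one, one_mul]
    rw [hstruct, hstruct']
    obtain ⟨m, s, hs⟩ := heff z
    have hsη : η ∈ glocus (CohB1.tensorPow M (m + 1)) s :=
      CurveRR24.genericPoint_mem_glocus (isInvertible_tensorPow hM _) hs
    obtain ⟨Q, hQ, hQsupp, key⟩ := interDeg_cut k hM s hsη hη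
    have hclη : closure ({η} : Set Y) = Set.univ := genericPoint_closure _
    have hlt := dim_lt_of_notMem (isClosed_support Q (locallyFinGen_of_isFT Q hQ.2)) (Set.subset_univ _)
      isClosed_univ hclη (fun h => (hQsupp.le h).2 hsη)
      ((Homeomorph.Set.univ (Y : Type u)).isHomeomorph.topologicalKrullDim_eq.trans hdimY).le
    have hQle : topologicalKrullDim (CohB1.support Q) ≤ ((r + 1 : ℕ) : WithBot ℕ∞) := by
      revert hlt
      generalize topologicalKrullDim (CohB1.support Q) = t
      intro hlt
      match t with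
      | ⊥ => exact bot_le
      | (t : ℕ∞) =>
        refine WithBot.coe_le_coe.2 (ENat.lt_natCast_add_one_iff.1 ?_)
        exact WithBot.coe_lt_coe.1 hlt
    suffices hpts : ∃ ξ ∈ CohB1.support Q, ptDim p ξ = r + 1 by
      obtain ⟨ξ, hξ, hξd⟩ := hpts
      have hcl : topologicalKrullDim (closure ({ξ} : Set Y)) = ((r + 1 : ℕ) : WithBot ℕ∞) := by
        rw [topologicalKrullDim_eq_ptDim_of_isGenericPoint p (isGenericPoint_closure (x := ξ)), hξd]
      have := hpos hQ hQle ξ hξ hcl
      rw [← key] at this
      exact pos_of_mul_pos_right this (Int.natCast_nonneg _)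
    by_cases hT : (CohB1.support Q).Nonempty
    · obtain ⟨z₀, hz₀⟩ := hT
      obtain ⟨w, hw, -, hmax⟩ := exists_maximal_mem p hz₀ (η := η)
        fun v _ _ => genericPoint_specializes v
      have hw' := hQsupp.le hw
      let P := CohB1.tensorPow M (m + 1)
      obtain ⟨V₀, hwV₀, g₀, hg₀⟩ := exists_isGen (isInvertible_tensorPow hM (m + 1)) w
      obtain ⟨V, hV, hwV, hVV₀⟩ := exists_isAffineOpen_mem_and_subset (x := w) (U := V₀) hwV₀
      have hgV := hg₀.restrict (show V ≤ V₀ from hVV₀)
      let f := hgV.coef le_rfl (resM P le_top s)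
      have hbo : glocus P s ⊓ V = Y.basicOpen f := glocus_inf s hgV
      have h1 := ptDim_le_add_of_minimal_zero p hV {f} (genericPoint_specializes w) hwV
        (fun r' hr' => by
          rw [Finset.mem_singleton.1 hr']
          intro h
          rw [← hbo] at h
          exact hw'.2 h.1)
        (fun v _ hvw hvV hvf => (hmax v (hQsupp.ge ⟨hclη.ge trivial, fun hvU =>
          hvf f (Finset.mem_singleton_self f) (hbo ▸ ⟨hvU, hvV⟩)⟩) hvw).symm)
      rw [Finset.card_singleton, hpη] at h1
      refine ⟨w, hw, le_antisymm ?_ (by omega)⟩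
      have h3 := ptDim_lt_of_specializes p (genericPoint_specializes w) (fun e => hw'.2 (e ▸ hsη))
      have h4 : ptDim p (genericPoint Y) = r + 2 := hpη
      omega
    · exfalso
      obtain ⟨c, -, hc⟩ := (isClosed_univ (X := Y)).exists_closed_singleton ⟨η, trivial⟩
      obtain ⟨y', hy'r⟩ : ∃ y' : Y, ptDim p y' = r + 1 := by
        suffices ∀ j, j ≤ r + 1 → ∃ y' : Y, ptDim p y' = j from this _ le_rfl
        intro j
        induction j with
        | zero => exact fun _ => ⟨c, (ptDim_eq_zero_iff p c).2 hc⟩
        | succ j ihj =>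
          intro hj
          obtain ⟨v, hv⟩ := ihj (by omega)
          have hne : η ≠ v := fun e => by
            have : ptDim p η = j := e ▸ hv
            omega
          obtain ⟨y', -, -, hy'⟩ := exists_specializes_ptDim_succ p (genericPoint_specializes v) hne
          exact ⟨y', by omega⟩
      have hcl : topologicalKrullDim (closure ({y'} : Set Y)) = ((r + 1 : ℕ) : WithBot ℕ∞) := by
        rw [topologicalKrullDim_eq_ptDim_of_isGenericPoint p (isGenericPoint_closure (x := y')), hy'r]
      have hy'U : y' ∈ glocus (CohB1.tensorPow M (m + 1)) s := by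
        by_contra h
        exact hT ⟨y', hQsupp.ge ⟨hclη.ge trivial, h⟩⟩
      obtain ⟨Q', hQ', hQ'supp, key'⟩ := interDeg_cut k hM s hy'U hcl
      have he : CohB1.support Q' = ∅ := Set.eq_empty_of_forall_notMem fun v hv =>
        hT ⟨v, hQsupp.ge ⟨hclη.ge trivial, (hQ'supp.le hv).2⟩⟩
      have h0 : interDeg (fun _ : Fin r => InvCl.mk M hM) (chiCl k Q') = 0 :=
        interDeg_eq_zero _ (finDeg_chiCl k hQ' (by rw [he]; exact dim_empty_lt' r))
      have hp := hpos (isCoh_clM y') ((dim_mono (support_clM_subset y')).trans hcl.le) y'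
        ((support_clM y').ge (subset_closure rfl)) hcl
      rw [h0] at key'
      exact absurd key' (mul_pos (by exact_mod_cast m.succ_pos) hp).ne'

end Groth.Agent.VarietyLib
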