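import Groth.Agent.VarietyLib.Kleiman
import Groth.Agent.H0Growth23.Big

/-!
# Siu's inequality and bigness of nef classes with positive self intersection
-/

set_option autoImplicit false
set_option linter.style.haveILetI false
set_option linter.unusedSectionVars false
set_option backward.isDefEq.respectTransparency.types false

universe u

open CategoryTheory CategoryTheory.Limits AlgebraicGeometry TopologicalSpace Opposite
open Groth.Agent.Coherent Groth.Agent.PicLib Groth.Agent.AmpleLib Groth.Agent.EulerLib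
open Groth.Agent.H0Growth23

noncomputable section

namespace Groth.Agent.VarietyLib

/-- A polynomial is eventually close to its top term. -/
theorem eventually_near_top (P : Polynomial ℚ) {d : ℕ} (hP : P.natDegree ≤ d) {δ : ℚ} (hδ : 0 < δ) :
    ∃ N : ℕ, ∀ m : ℕ, N ≤ m → |P.eval (m : ℚ) - P.coeff d * (m : ℚ) ^ d| ≤ δ * (m : ℚ) ^ d := by
  obtain ⟨N, hN⟩ := exists_nat_gt ((∑ j ∈ Finset.range d, |P.coeff j|) / δ)
  refine ⟨N + 1, fun m hm => ?_⟩
  rw [Polynomial.eval_eq_sum_range' (Nat.lt_succ_of_le hP), Finset.sum_range_succ, add_sub_cancel_right]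
  refine (Finset.abs_sum_le_sum_abs _ _).trans ?_
  have hS : (∑ j ∈ Finset.range d, |P.coeff j|) ≤ δ * m := by
    have h1 := (div_lt_iff₀ hδ).1 hN
    have : (N : ℚ) ≤ m := by exact_mod_cast (show N ≤ m by omega)
    nlinarith
  rcases d with _ | d
  · simp [hδ.le]
  · calc ∑ j ∈ Finset.range (d + 1), |P.coeff j * (m : ℚ) ^ j|
        ≤ ∑ j ∈ Finset.range (d + 1), |P.coeff j| * (m : ℚ) ^ d := Finset.sum_le_sum fun j hj => by
          rw [abs_mul, abs_of_nonneg (show (0 : ℚ) ≤ (m : ℚ) ^ j by positivity)]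
          exact mul_le_mul_of_nonneg_left (pow_le_pow_right₀ (by exact_mod_cast (show 1 ≤ m by omega))
            (Nat.lt_succ_iff.1 (Finset.mem_range.1 hj))) (abs_nonneg _)
      _ = (∑ j ∈ Finset.range (d + 1), |P.coeff j|) * (m : ℚ) ^ d := (Finset.sum_mul ..).symm
      _ ≤ δ * m * (m : ℚ) ^ d := mul_le_mul_of_nonneg_right hS (by positivity)
      _ = _ := by rw [pow_succ']; ring

variable (k : Type u) [Field k] {X : Scheme.{u}} [X.Over (Spec (CommRingCat.of k))]
  [IsProper (X ↘ Spec (CommRingCat.of k))]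

/-- Asymptotics of the sections of ample twists. -/
theorem eventually_h0_near {A : X.Modules} (hA : CohB1.IsAmple A) {F : X.Modules} (hF : Coh.IsCoh F) {d : ℕ}
    (hd : topologicalKrullDim (CohB1.support F) ≤ (d : WithBot ℕ∞)) {δ : ℚ} (hδ : 0 < δ) :
    ∃ N : ℕ, ∀ m : ℕ, N ≤ m →
      |(Module.finrank k (Coh.HH X (CohB1.tensorMod F (CohB1.tensorPow A m)) 0) : ℚ) -
        (((dOp (InvCl.mk A hA.1) ^ d) (chiCl k F) 1 : ℤ) : ℚ) / (d.factorial : ℚ) * (m : ℚ) ^ d| ≤ δ * (m : ℚ) ^ d := by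
  haveI := isNoetherian_of_proper (X := X) k
  obtain ⟨P, hP⟩ := exists_isHilbPoly k hA.1 hF hd
  obtain ⟨hdeg, halpha⟩ := alpha_eq_interDeg k hA.1 hF hP hd
  obtain ⟨N, hN⟩ := eventually_near_top P hdeg hδ
  obtain ⟨n₀, hn₀⟩ := Coherent.Serre.exists_subsingleton_HH_twist k hA F hF
  refine ⟨max N n₀, fun m hm => ?_⟩
  have he := hP m
  rw [ShStab.twist, euler_eq_sum k X _ 0 fun q hq => hn₀ m (le_of_max_le_right hm) q hq] at he
  simp only [zero_add, Finset.range_one, Finset.sum_singleton, pow_zero, one_mul, Int.cast_natCast] at he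
  rw [he, ← interDeg_const, ← halpha, StabCat.alpha,
    mul_div_cancel_left₀ _ (by exact_mod_cast d.factorial_ne_zero)]
  exact hN m (le_of_max_le_left hm)

/-- Mixed numbers of a nef and an ample class. -/
theorem nef_mixed_nonneg {H : X.Modules} (hH : CohB1.IsAmple H) {a : InvCl X} (ha : NefCl k a) (i j : ℕ)
    {F : X.Modules} (hF : Coh.IsCoh F) (hd : topologicalKrullDim (CohB1.support F) ≤ ((i + j : ℕ) : WithBot ℕ∞)) :
    0 ≤ (dOp a ^ j * dOp (InvCl.mk H hH.1) ^ i) (chiCl k F) 1 :=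
  mixed_nonneg k hH a j (fun z hz => by
    rw [← interDeg_const]; exact nef_interDeg_nonneg_point k j X a ha z hz) i F hF hd

/-- Nef plus ample is ample. -/
theorem isAmple_nef_mul_ample {H : X.Modules} (hH : CohB1.IsAmple H) {a : InvCl X} (ha : NefCl k a) (q : ℕ) {p : ℕ}
    (hp : 0 < p) {B : X.Modules} (hB : PicF.IsInvertible B)
    (he : InvCl.mk B hB = a ^ q * InvCl.mk H hH.1 ^ p) : CohB1.IsAmple B := by
  haveI := isNoetherian_of_proper (X := X) k
  refine isAmple_of_posInt k hB fun z d _ hzd => ?_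
  have hG := isCoh_clM z
  have hGd : topologicalKrullDim (CohB1.support (AssSch12.clM z)) = (d : WithBot ℕ∞) := by rw [support_clM, hzd]
  rw [he, interDeg_const, dOp_pow_eq_linOp _ _ q p d (clDeg_chiCl k hG hGd.le), linOp_pow_apply_one]
  refine Finset.sum_pos' (fun i hi => mul_nonneg (by positivity) (nef_mixed_nonneg k hH ha i (d - i) hG
    (by rw [Nat.add_sub_cancel' (Nat.lt_succ_iff.1 (Finset.mem_range.1 hi))]; exact hGd.le)))
    ⟨d, Finset.mem_range.2 (Nat.lt_succ_self d), ?_⟩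
  rw [Nat.choose_self, Nat.sub_self, pow_zero, pow_zero, one_mul]
  refine mul_pos (by positivity) ?_
  have h := EulerLib.interDeg_pos k d (fun _ => H) (fun _ => hH) _ hG hGd
  rwa [interDeg_const] at h

variable [IsIntegral X]

/-- The difference of a class with a section is carried by the cokernel. -/
theorem exists_cokernel_dOp {r : ℕ} (hd : topologicalKrullDim X = ((r + 1 : ℕ) : WithBot ℕ∞)) {c : InvCl X}
    (hc : EffCl c) : ∃ Q : X.Modules, Coh.IsCoh Q ∧ topologicalKrullDim (CohB1.support Q) ≤ (r : WithBot ℕ∞) ∧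
      dOp c (chiCl k (Coh.structureModule X)) = chiCl k Q ∧
      ∀ (P : X.Modules) (hP : PicF.IsInvertible P), h0Cl k (c * InvCl.mk P hP) ≤
        h0Cl k (InvCl.mk P hP) + Module.finrank k (Coh.HH X (CohB1.tensorMod Q P) 0) := by
  haveI := isNoetherian_of_proper (X := X) k
  haveI := isSeparated_of_proper (X := X) k
  obtain ⟨s, hs⟩ := hc
  have hi := isInvertible_repCl c
  haveI := CurveRR24.mono_unitDesc hi hs
  have hC : Coh.IsCoh (repCl c) := CurveRR24.isCoh_of_isInvertible k hi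
  have hO : Coh.IsCoh (Coh.structureModule X) := Coherent.isCoh_structureModule X
  have hQ : Coh.IsCoh (cokernel (unitDesc (repCl c) s)) := isCoh_cokernel _ hO.1 hC
  have hS : (ShortComplex.mk (unitDesc (repCl c) s) (cokernel.π _) (cokernel.condition _)).ShortExact :=
    { exact := ShortComplex.exact_cokernel _ }
  refine ⟨cokernel (unitDesc (repCl c) s), hQ, ?_, funext fun x => ?_, fun P hP => ?_⟩
  · refine H0Growth23.le_of_lt_natCast_succ ((dim_mono (CurveRR24.support_cokernel_unitDesc s)).trans_lt ?_)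
    exact dim_lt_of_notMem (glocus _ s).2.isClosed_compl (Set.subset_univ _) isClosed_univ (genericPoint_closure X)
      (fun h => h (CurveRR24.genericPoint_mem_glocus hi hs))
      ((Homeomorph.Set.univ (X : Type u)).isHomeomorph.topologicalKrullDim_eq.le.trans hd.le)
  · have h1 : chiCl k (Coh.structureModule X) (c * x) = chiCl k (repCl c) x := by
      have h := chiCl_mul k (Coh.structureModule X) hi x
      rw [mk_repCl] at h
      rw [h, chiCl_congr k (unitTensorIso (repCl c))]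
    have h2 := congrFun (chiCl_additive k _ hS hO hC hQ) x
    simp only [Pi.add_apply] at h2
    show chiCl k (Coh.structureModule X) (c * x) - chiCl k (Coh.structureModule X) x = _
    omega
  · have hmid := LESBound.hdim_mid k _ (twistSeq_shortExact hP hS) (isCoh_twist hP hO) (isCoh_twist hP hC)
      (isCoh_twist hP hQ) 0
    have h0 : h0Cl k (InvCl.mk P hP) =
        Module.finrank k (Coh.HH X (CohB1.tensorMod (Coh.structureModule X) P) 0) := by
      rw [h0Cl_mk, Mumford23.finrank_HH_congr k (unitTensorIso P) 0]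
    have h1 : h0Cl k (c * InvCl.mk P hP) = Module.finrank k (Coh.HH X (CohB1.tensorMod (repCl c) P) 0) := by
      rw [← h0Cl_mk k _ (isInvertible_tensorMod hi hP), ← InvCl.mk_mul hi hP, mk_repCl]
    rw [h0, h1]
    exact hmid

/-- Periodicity bound for sections on a module through a section avoiding its associated points. -/
theorem finrank_twist_le {F : X.Modules} (hF : Coh.IsCoh F) {B : X.Modules} (hB : PicF.IsInvertible B)
    {t : Γ(B, (⊤ : X.Opens))} (ht : AssSch.Ass F ⊆ (glocus B t : Set X)) (c : InvCl X) :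
    Module.finrank k (Coh.HH X (CohB1.tensorMod F (repCl c)) 0) ≤
      Module.finrank k (Coh.HH X (CohB1.tensorMod F (repCl (InvCl.mk B hB * c))) 0) := by
  haveI := isNoetherian_of_proper (X := X) k
  haveI : Mono (mulSec F t) := Mumford23.mono_mulSec hF.1 _ ht
  haveI : Mono (tensorMap (mulSec F t) (𝟙 (repCl c))) := EulerLib.mono_tensorMap (isInvertible_repCl c) _
  obtain ⟨e₁⟩ := exists_assocIso' F hB (isInvertible_repCl c)
  obtain ⟨e₂⟩ := nonempty_iso_of_mk_eq (hL := isInvertible_tensorMod hB (isInvertible_repCl c))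
    (hN := isInvertible_repCl (InvCl.mk B hB * c))
    (by rw [mk_repCl, ← InvCl.mk_mul hB (isInvertible_repCl c), mk_repCl])
  exact Mumford23.finrank_H0_le k (isCoh_twist (isInvertible_repCl _) hF)
    (tensorMap (mulSec F t) (𝟙 _) ≫ (e₁ ≪≫ AmpleLib.tensorIso (Iso.refl F) e₂).hom)

/-- Siu's inequality. -/
theorem effCl_of_siu {r : ℕ} (hd : topologicalKrullDim X = ((r + 1 : ℕ) : WithBot ℕ∞))
    {A : X.Modules} (hA : CohB1.IsAmple A) {B : X.Modules} (hB : CohB1.IsAmple B) (hB0 : EffCl (InvCl.mk B hB.1))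
    {b' : InvCl X} (hb' : InvCl.mk B hB.1 * b' = 1)
    (hlt : ((r + 1 : ℕ) : ℤ) * (dOp (InvCl.mk A hA.1) ^ r) (dOp (InvCl.mk B hB.1) (chiCl k (Coh.structureModule X))) 1 <
      (dOp (InvCl.mk A hA.1) ^ (r + 1)) (chiCl k (Coh.structureModule X)) 1) :
    ∃ m : ℕ, 0 < m ∧ EffCl (InvCl.mk A hA.1 ^ m * b' ^ m) := by
  haveI := isNoetherian_of_proper (X := X) k
  haveI := isSeparated_of_proper (X := X) k
  by_contra hcon
  push Not at hcon
  set α := InvCl.mk A hA.1
  set β := InvCl.mk B hB.1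
  obtain ⟨Q, hQ, hQd, hQe, hQseq⟩ := exists_cokernel_dOp k hd hB0
  rw [hQe] at hlt
  have hO : Coh.IsCoh (Coh.structureModule X) := Coherent.isCoh_structureModule X
  set φ := chiCl k (Coh.structureModule X)
  obtain ⟨e, he, t, ht, -, -⟩ := exists_affine_glocus_finite (U := (⊤ : X.Opens)) hB (AssSch.Ass Q)
    (AssSch12.finite_ass Q hQ) (Set.subset_univ _)
  let g : ℕ → ℕ → ℕ := fun m j => Module.finrank k (Coh.HH X (CohB1.tensorMod Q (repCl (α ^ m * b' ^ j))) 0)
  have hper : ∀ m j, g m j ≤ g m (j % e) := by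
    intro m j
    induction j using Nat.strong_induction_on with
    | _ j ih =>
      rcases Nat.lt_or_ge j e with hje | hje
      · rw [Nat.mod_eq_of_lt hje]
      · refine (le_trans ?_ (ih (j - e) (by omega))).trans_eq (by rw [← Nat.mod_eq_sub_mod hje])
        refine (finrank_twist_le k hQ (isInvertible_tensorPow hB.1 e) ht (α ^ m * b' ^ j)).trans_eq
          (congrArg (fun c => Module.finrank k (Coh.HH X (CohB1.tensorMod Q (repCl c)) 0)) ?_)
        obtain ⟨i, rfl⟩ := Nat.exists_eq_add_of_le hje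
        rw [InvCl.mk_tensorPow hB.1, Nat.add_sub_cancel_left, mul_left_comm, pow_add, ← mul_assoc (_ ^ e),
          ← mul_pow, hb', one_pow, one_mul]
  have hstep : ∀ m j, h0Cl k (α ^ m * b' ^ j) ≤ h0Cl k (α ^ m * b' ^ (j + 1)) + g m (j + 1) := fun m j => by
    have h := hQseq _ (isInvertible_repCl (α ^ m * b' ^ (j + 1)))
    rw [mk_repCl, show β * (α ^ m * b' ^ (j + 1)) = α ^ m * b' ^ j by
      rw [pow_succ' b', mul_left_comm, ← mul_assoc β, hb', one_mul]] at h
    exact h
  have hchain : ∀ m i, h0Cl k (α ^ m) ≤ h0Cl k (α ^ m * b' ^ i) + ∑ j ∈ Finset.range i, g m (j + 1) := by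
    intro m i
    induction i with
    | zero => simp
    | succ i ih =>
      rw [Finset.sum_range_succ]
      have := hstep m i
      omega
  -- asymptotics
  set D : ℚ := (((dOp α ^ (r + 1)) φ 1 : ℤ) : ℚ) with hD
  set G : ℚ := (((dOp α ^ r) (chiCl k Q) 1 : ℤ) : ℚ) with hG
  have hgap : G / (r.factorial : ℚ) < D / ((r + 1).factorial : ℚ) := by
    have h : ((r + 1 : ℕ) : ℚ) * G < D := by rw [hD, hG]; exact_mod_cast hlt
    rw [Nat.factorial_succ, Nat.cast_mul, ← div_div, div_lt_div_iff_of_pos_right (by positivity),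
      lt_div_iff₀ (by positivity), mul_comm]
    exact h
  set δ : ℚ := (D / ((r + 1).factorial : ℚ) - G / (r.factorial : ℚ)) / 3
  have hδ : 0 < δ := by simp only [δ]; linarith
  have hper' : ∀ i : Fin e, ∃ N, ∀ m, N ≤ m → (g m i : ℚ) ≤ (G / (r.factorial : ℚ) + δ) * (m : ℚ) ^ r := by
    intro i
    have hi := isInvertible_repCl (b' ^ (i : ℕ))
    have hF := isCoh_twist hi hQ
    have hFd : topologicalKrullDim (CohB1.support (CohB1.tensorMod Q (repCl (b' ^ (i : ℕ))))) ≤ (r : WithBot ℕ∞) := by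
      rw [support_twist hi]; exact hQd
    obtain ⟨N, hN⟩ := eventually_h0_near k hA hF hFd hδ
    refine ⟨N, fun m hm => ?_⟩
    have h := (abs_le.1 (hN m hm)).2
    have hval : (dOp α ^ r) (chiCl k (CohB1.tensorMod Q (repCl (b' ^ (i : ℕ))))) 1 = (dOp α ^ r) (chiCl k Q) 1 := by
      have e0 : chiCl k (CohB1.tensorMod Q (repCl (b' ^ (i : ℕ)))) = chiCl k Q + dOp (b' ^ (i : ℕ)) (chiCl k Q) :=
        funext fun x => by
          show _ = chiCl k Q x + (chiCl k Q (b' ^ (i : ℕ) * x) - chiCl k Q x)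
          rw [← chiCl_mul k Q hi x, mk_repCl]
          omega
      have e1 := mono_eq_zero α α 0 r (φ := dOp (b' ^ (i : ℕ)) (chiCl k Q))
        (by rw [Nat.zero_add]; exact ClDeg.dOp (clDeg_chiCl k hQ hQd) _)
      rw [pow_zero, mul_one] at e1
      rw [e0, map_add, e1, add_zero]
    rw [hval, ← hG] at h
    have hcongr : g m i = Module.finrank k
        (Coh.HH X (CohB1.tensorMod (CohB1.tensorMod Q (repCl (b' ^ (i : ℕ)))) (CohB1.tensorPow A m)) 0) := by
      have hm' := isInvertible_tensorPow hA.1 m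
      obtain ⟨e₁⟩ := exists_assocIso' Q hi hm'
      obtain ⟨e₂⟩ := nonempty_iso_of_mk_eq (hL := isInvertible_tensorMod hi hm')
        (hN := isInvertible_repCl (α ^ m * b' ^ (i : ℕ)))
        (by rw [mk_repCl, ← InvCl.mk_mul hi hm', mk_repCl, InvCl.mk_tensorPow hA.1, mul_comm])
      exact (Mumford23.finrank_HH_congr k (e₁ ≪≫ AmpleLib.tensorIso (Iso.refl Q) e₂) 0).symm
    rw [hcongr]
    linarith
  choose N hN using hper'
  have hOd : topologicalKrullDim (CohB1.support (Coh.structureModule X)) ≤ ((r + 1 : ℕ) : WithBot ℕ∞) := by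
    rw [AbCubeLib.support_structureModule_eq_univ]
    exact (Homeomorph.Set.univ (X : Type u)).isHomeomorph.topologicalKrullDim_eq.le.trans hd.le
  obtain ⟨N₀, hN₀⟩ := eventually_h0_near k hA hO hOd hδ
  let m := max (max N₀ 1) (∑ i, N i)
  have h1 := (abs_le.1 (hN₀ m (le_max_of_le_left (le_max_left _ _)))).1
  rw [← hD, Mumford23.finrank_HH_congr k (unitTensorIso _) 0, ← h0Cl_pow k A hA.1] at h1
  have hm1 : 1 ≤ m := le_max_of_le_left (le_max_right _ _)
  have h2 : h0Cl k (α ^ m * b' ^ m) = 0 := by_contra fun h => hcon m hm1 (effCl_of_h0_pos k h)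
  have h3 := hchain m m
  rw [h2, zero_add] at h3
  have h4 : (h0Cl k (α ^ m) : ℚ) ≤ (m : ℚ) * ((G / (r.factorial : ℚ) + δ) * (m : ℚ) ^ r) := by
    refine le_trans (by exact_mod_cast h3 : (h0Cl k (α ^ m) : ℚ) ≤ ((∑ j ∈ Finset.range m, g m (j + 1) : ℕ) : ℚ)) ?_
    push_cast
    refine (Finset.sum_le_card_nsmul _ _ ((G / (r.factorial : ℚ) + δ) * (m : ℚ) ^ r) fun j _ => ?_).trans_eq
      (by rw [Finset.card_range, nsmul_eq_mul])
    refine le_trans (by exact_mod_cast hper m (j + 1))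
      (hN ⟨(j + 1) % e, Nat.mod_lt _ he⟩ m ?_)
    exact le_max_of_le_right (Finset.single_le_sum (fun _ _ => Nat.zero_le _) (Finset.mem_univ _))
  have hmp : (0 : ℚ) < (m : ℚ) ^ (r + 1) := pow_pos (by exact_mod_cast hm1) _
  have h5 : (m : ℚ) * ((G / (r.factorial : ℚ) + δ) * (m : ℚ) ^ r) = (G / (r.factorial : ℚ) + δ) * (m : ℚ) ^ (r + 1) := by
    ring
  simp only [δ] at h1 h4 h5
  nlinarith

theorem effCl_pow_mul_inv {h h' c : InvCl X} (hh : h * h' = 1) (h0 : EffCl h) {m : ℕ} (hm : 0 < m)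
    (hc : EffCl (c * h' ^ m)) : EffCl (c * h') := by
  obtain ⟨m, rfl⟩ : ∃ i, m = i + 1 := ⟨m - 1, by omega⟩
  have := hc.mul (h0.pow m)
  rwa [pow_succ, ← mul_assoc, mul_right_comm (c * h' ^ m), mul_assoc c, ← mul_pow, mul_comm h', hh, one_pow,
    mul_one] at this

/-- A nef class with positive self intersection is big. -/
theorem exists_effCl_of_nef_pos {d : ℕ} (hd : topologicalKrullDim X = (d : WithBot ℕ∞)) {H : X.Modules}
    (hH : CohB1.IsAmple H) (hH0 : EffCl (InvCl.mk H hH.1)) {h' : InvCl X} (hh' : InvCl.mk H hH.1 * h' = 1)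
    {a : InvCl X} (ha : NefCl k a) (hpos : 0 < (dOp a ^ d) (chiCl k (Coh.structureModule X)) 1) :
    ∃ m : ℕ, 0 < m ∧ EffCl (a ^ m * h') := by
  haveI := isNoetherian_of_proper (X := X) k
  haveI := isSeparated_of_proper (X := X) k
  set φ := chiCl k (Coh.structureModule X)
  have hO : Coh.IsCoh (Coh.structureModule X) := Coherent.isCoh_structureModule X
  have hOd : topologicalKrullDim (CohB1.support (Coh.structureModule X)) ≤ (d : WithBot ℕ∞) := by
    rw [AbCubeLib.support_structureModule_eq_univ]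
    exact (Homeomorph.Set.univ (X : Type u)).isHomeomorph.topologicalKrullDim_eq.le.trans hd.le
  rcases d with _ | r
  · refine ⟨1, one_pos, effCl_of_h0_pos k fun h => ?_⟩
    have hdeg : ClDeg 1 φ := clDeg_chiCl k hO hOd
    have hz := congrFun (eq_zero_of_clDeg_zero (ClDeg.dOp (r := 0) hdeg (a ^ 1 * h'))) 1
    simp only [dOp_apply, Pi.zero_apply, mul_one] at hz
    have he : φ (a ^ 1 * h') = 0 := by
      have hr := isInvertible_repCl (a ^ 1 * h')
      haveI := (CurveRR24.isCoh_of_isInvertible k hr).1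
      have h1 : φ (a ^ 1 * h') = Curv2.euler k X (repCl (a ^ 1 * h')) := by
        simp only [φ]
        conv_lhs => rw [← mk_repCl (a ^ 1 * h'), ← mul_one (InvCl.mk _ _), chiCl_mul k _ hr, chiCl_one]
        exact euler_congr k X (unitTensorIso _)
      rw [h1, euler_eq_sum k X _ 0 fun q hq => subsingleton_HH_of_dim _ hd.le hq]
      simpa [h0Cl] using h
    rw [pow_zero, Module.End.one_apply] at hpos
    omega
  set h := InvCl.mk H hH.1 with hh
  let S : ℤ := ∑ i ∈ Finset.range (r + 1), (r.choose i : ℤ) * (dOp a ^ (r - i) * dOp h ^ i) (dOp h φ) 1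
  let q : ℕ := (2 * (r + 1 : ℕ) * S).toNat + 1
  obtain ⟨A, hAi, hAe⟩ := InvCl.exists_rep (a ^ q * h ^ 1)
  have hA := isAmple_nef_mul_ample k hH ha q one_pos hAi hAe
  have hB : CohB1.IsAmple (CohB1.tensorPow H 2) := (isAmple_pow_iff hH.1 2 two_pos).2 hH
  have hBe : InvCl.mk _ hB.1 = h ^ 2 := InvCl.mk_tensorPow hH.1 2
  have hAe' : InvCl.mk A hA.1 = a ^ q * h ^ 1 := hAe
  have hcl : ClDeg (r + 2) φ := clDeg_chiCl k hO hOd
  have hN : ∀ i ≤ r, 0 ≤ (dOp a ^ (r - i) * dOp h ^ i) (dOp h φ) 1 := fun i hi => by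
    have := nef_mixed_nonneg k hH ha (i + 1) (r - i) hO
      (by rw [show i + 1 + (r - i) = r + 1 by omega]; exact hOd)
    rwa [pow_succ, ← mul_assoc, Module.End.mul_apply] at this
  have hq1 : (1 : ℤ) ≤ (q : ℤ) := by exact_mod_cast Nat.le_add_left 1 _
  obtain ⟨m, hm, he⟩ := effCl_of_siu k hd hA hB (hBe ▸ hH0.pow 2) (b' := h' ^ 2)
    (by rw [hBe, ← mul_pow, hh', one_pow]) (by
      rw [hBe, hAe', dOp_pow_eq_linOp a h q 1 r (ClDeg.dOp (r := r + 1) hcl _),
        dOp_pow_eq_linOp a h q 1 (r + 1) hcl]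
      have hlow : (q : ℤ) ^ (r + 1) * (dOp a ^ (r + 1)) φ 1 ≤ (linOp a h q 1 ^ (r + 1)) φ 1 := by
        rw [linOp_pow_apply_one]
        refine le_trans (le_of_eq ?_) (Finset.single_le_sum (fun i hi => mul_nonneg (by positivity)
          (nef_mixed_nonneg k hH ha i (r + 1 - i) hO
            (by rw [Nat.add_sub_cancel' (Nat.lt_succ_iff.1 (Finset.mem_range.1 hi))]; exact hOd)))
          (Finset.mem_range.2 (Nat.succ_pos _)))
        simp [φ]
      have hupp : (linOp a h q 1 ^ r) (dOp h φ) 1 ≤ (q : ℤ) ^ r * S := by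
        rw [linOp_pow_apply_one, Finset.mul_sum]
        refine Finset.sum_le_sum fun i hi => ?_
        rw [Nat.cast_one, one_pow, mul_one, mul_left_comm, mul_assoc]
        exact mul_le_mul_of_nonneg_left (mul_le_mul_of_nonneg_right (pow_le_pow_right₀ hq1 (Nat.sub_le r i))
          (hN i (Nat.lt_succ_iff.1 (Finset.mem_range.1 hi)))) (by positivity)
      have h2 : (linOp a h q 1 ^ r) (dOp (h ^ 2) φ) 1 = 2 * (linOp a h q 1 ^ r) (dOp h φ) 1 := by
        rw [← dOp_pow_eq_linOp a h q 1 r (ClDeg.dOp (r := r + 1) hcl _),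
          ← dOp_pow_eq_linOp a h q 1 r (ClDeg.dOp (r := r + 1) hcl _)]
        have := mono_dOp_pow (a ^ q * h ^ 1) (a ^ q * h ^ 1) h 0 r (φ := φ) (by rw [Nat.zero_add]; exact hcl) 2
        rw [pow_zero, mul_one] at this
        rw [this, Pi.smul_apply, smul_eq_mul]
        rfl
      rw [h2]
      have hqS : 2 * ((r + 1 : ℕ) : ℤ) * S < (q : ℤ) * (dOp a ^ (r + 1)) φ 1 := by
        have h4 := Int.self_le_toNat (2 * ((r + 1 : ℕ) : ℤ) * S)
        have h6 : 2 * ((r + 1 : ℕ) : ℤ) * S < (q : ℤ) := by simp only [q, Nat.cast_add, Nat.cast_one] at h4 ⊢; omega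
        exact h6.trans_le (le_mul_of_one_le_right (by omega) hpos)
      have hqr : (0 : ℤ) < (q : ℤ) ^ r := by positivity
      calc ((r + 1 : ℕ) : ℤ) * (2 * (linOp a h q 1 ^ r) (dOp h φ) 1)
          ≤ ((r + 1 : ℕ) : ℤ) * (2 * ((q : ℤ) ^ r * S)) := by gcongr
        _ = (q : ℤ) ^ r * (2 * ((r + 1 : ℕ) : ℤ) * S) := by ring
        _ < (q : ℤ) ^ r * ((q : ℤ) * (dOp a ^ (r + 1)) φ 1) := mul_lt_mul_of_pos_left hqS hqr
        _ = (q : ℤ) ^ (r + 1) * (dOp a ^ (r + 1)) φ 1 := by ring
        _ ≤ _ := hlow)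
  refine ⟨q * m, Nat.mul_pos (Nat.succ_pos _) hm, effCl_pow_mul_inv hh' hH0 hm ?_⟩
  rwa [hAe', mul_pow, ← pow_mul, pow_one, mul_assoc, ← mul_pow, pow_two, ← mul_assoc h, hh', one_mul] at he

/-- A nef class with an effective ample difference has positive self intersection. -/
theorem pow_pos_of_effCl {d : ℕ} (hd : topologicalKrullDim X = (d : WithBot ℕ∞)) {H : X.Modules}
    (hH : CohB1.IsAmple H) {h' : InvCl X} (hh' : InvCl.mk H hH.1 * h' = 1) {a : InvCl X} (ha : NefCl k a)
    {q : ℕ} (he : EffCl (a ^ q * h')) : 0 < (dOp a ^ d) (chiCl k (Coh.structureModule X)) 1 := by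
  haveI := isNoetherian_of_proper (X := X) k
  haveI := isSeparated_of_proper (X := X) k
  set φ := chiCl k (Coh.structureModule X)
  have hO : Coh.IsCoh (Coh.structureModule X) := Coherent.isCoh_structureModule X
  have hOd : topologicalKrullDim (CohB1.support (Coh.structureModule X)) = (d : WithBot ℕ∞) := by
    rw [AbCubeLib.support_structureModule_eq_univ]
    exact (Homeomorph.Set.univ (X : Type u)).isHomeomorph.topologicalKrullDim_eq.trans hd
  set h := InvCl.mk H hH.1
  have hh0 : 0 < (dOp h ^ d) φ 1 := by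
    have := EulerLib.interDeg_pos k d (fun _ => H) (fun _ => hH) _ hO hOd
    rwa [interDeg_const] at this
  rcases d with _ | r
  · rw [pow_zero] at hh0 ⊢; exact hh0
  obtain ⟨Q, hQ, hQd, hQe, -⟩ := exists_cokernel_dOp k hd he
  have key : ∀ i, i ≤ r + 1 → 0 < (dOp a ^ i * dOp h ^ (r + 1 - i)) φ 1 := by
    intro i
    induction i with
    | zero => intro _; rw [pow_zero, one_mul]; exact hh0
    | succ i ih =>
      intro hi
      have hcl : ClDeg (r - i + i + 2) φ := by rw [Nat.sub_add_cancel (by omega)]; exact clDeg_chiCl k hO hOd.le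
      have e1 := mono_dOp_mul a h (a ^ q * h') h (r - i) i hcl
      rw [mul_assoc, mul_comm h', hh', mul_one, mono_dOp_pow a h a (r - i) i hcl q] at e1
      have e2 := congrFun e1 1
      rw [Pi.smul_apply, smul_eq_mul, Pi.add_apply] at e2
      have h1 : 0 ≤ (dOp a ^ i * dOp h ^ (r - i)) (dOp (a ^ q * h') φ) 1 := by
        rw [hQe]
        exact nef_mixed_nonneg k hH ha (r - i) i hQ (by rw [Nat.sub_add_cancel (by omega)]; exact hQd)
      have h2 := ih (by omega)
      rw [show r + 1 - i = r - i + 1 by omega, pow_succ, ← mul_assoc, Module.End.mul_apply] at h2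
      have h3 : (dOp a ^ i * dOp h ^ (r - i)) (dOp a φ) 1 = (dOp a ^ (i + 1) * dOp h ^ (r + 1 - (i + 1))) φ 1 := by
        rw [pow_succ, show r + 1 - (i + 1) = r - i by omega, mul_assoc (dOp a ^ i),
          ((dOp_commute a h).pow_right (r - i)).eq, ← mul_assoc (dOp a ^ i)]
        rfl
      rw [h3] at e2
      refine pos_of_mul_pos_right (a := (q : ℤ)) ?_ (Int.natCast_nonneg q)
      omega
  have := key (r + 1) le_rfl
  rwa [Nat.sub_self, pow_zero, mul_one] at this

end Groth.Agent.VarietyLib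

end
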